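import Cfsg.Agent.H2.AX1

/-! Certificates for `F4(2)`. -/

set_option autoImplicit false
set_option linter.unusedSectionVars false

namespace Cfsg.Agent.H2.AX

open Matrix Finset Cfsg.Agent.H7 Cfsg.Agent.H8 Cfsg.Agent.H9.AH

/-- The data of a cell. -/
structure Dt where
  l : List ℕ
  lJ : List ℕ
  R : List ℕ
  n : List ℕ
  S : List (List ℕ × Bool × ℕ)
  g : List ℕ
  rep : List ℕ

def fsC (b : Bool) : List (Fin 27 × ℕ) := cond b [] [(0, Nat.pow 2 (26 : Fin 27))]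

def fsS (_ : Bool) : List (Fin 27 × ℕ) := [(0, Nat.pow 2 (25 : Fin 27)), (1, Nat.pow 2 (26 : Fin 27))]

/-- Equality of the matrices of `g w g⁻¹` and `w'`. -/
noncomputable def ceq (g w w' : List ℕ) : Bool :=
  allTo 27 fun j => Nat.beq (cw g (cw w (cwr g (Nat.pow 2 j)))) (cw w' (Nat.pow 2 j))

noncomputable def Dt.ok (fs : Bool → List (Fin 27 × ℕ)) (d : Dt) : Bool := band (elim fs d.n d.S d.R) (ceq d.g d.n d.rep)

/-- The certificate for the domestic elements. -/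
def dC : Dt := ⟨[3, 2, 1, 0, 2, 1, 2, 3, 2, 1, 0, 2, 1, 2, 3], [0, 1, 0, 2, 1, 0, 2, 1, 2], [24, 26, 29, 31, 32, 36, 38, 39, 40, 42, 43, 44, 45, 46, 47],
  [24, 23, 24, 25, 22, 25, 27, 20, 27, 33, 14, 33, 25, 22, 25, 27, 20, 27, 25, 22, 25, 24, 23, 24, 25, 22, 25, 27, 20, 27, 33, 14, 33, 25, 22, 25, 27, 20, 27, 25, 22, 25, 24, 23, 24],
  [([1], false, 32), ([2], false, 31), ([4], false, 26), ([5], false, 24), ([1, 33, 14, 33], false, 43), ([2, 33, 14, 33], false, 42), ([1, 27, 20, 27, 33, 14, 33], false, 45), ([2, 25, 22, 25, 27, 20, 27, 33, 14, 33], false, 46), ([0], false, 29), ([0, 33, 14, 33], false, 36), ([0, 27, 20, 27, 33, 14, 33], false, 38), ([0, 25, 22, 25, 27, 20, 27, 33, 14, 33], false, 39), ([3], false, 47), ([0, 27, 20, 27, 25, 22, 25, 27, 20, 27, 33, 14, 33], false, 40), ([0, 33, 14, 33, 27, 20, 27, 25, 22, 25, 27, 20, 27, 33, 14, 33], false, 44)],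
  [0], [47]⟩

/-- The certificate number `0`. -/
def d0 : Dt := ⟨[0, 1, 2, 1, 0, 3, 2, 1, 0, 2, 1, 3, 2, 1, 0], [1, 2, 1, 2, 3, 2, 1, 2, 3], [33, 34, 35, 36, 37, 38, 39, 40, 41, 42, 43, 44, 45, 46, 47],
  [33, 14, 33, 27, 20, 27, 25, 22, 25, 27, 20, 27, 33, 14, 33, 24, 23, 24, 25, 22, 25, 27, 20, 27, 33, 14, 33, 25, 22, 25, 27, 20, 27, 24, 23, 24, 25, 22, 25, 27, 20, 27, 33, 14, 33],
  [([], false, 33), ([27, 20, 27], false, 34), ([25, 22, 25, 27, 20, 27], false, 35), ([27, 20, 27, 25, 22, 25, 27, 20, 27], false, 37), ([24, 23, 24, 25, 22, 25, 27, 20, 27], false, 36), ([27, 20, 27, 24, 23, 24, 25, 22, 25, 27, 20, 27], false, 38), ([25, 22, 25, 27, 20, 27, 24, 23, 24, 25, 22, 25, 27, 20, 27], false, 39), ([27, 20, 27, 25, 22, 25, 27, 20, 27, 24, 23, 24, 25, 22, 25, 27, 20, 27], false, 40), ([8], false, 43), ([9], false, 42), ([10], false, 41), ([7, 27, 20, 27], false,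 45), ([7, 25, 22, 25, 27, 20, 27], false, 46), ([7, 24, 23, 24, 25, 22, 25, 27, 20, 27], false, 47), ([7], false, 44)],
  [3], [44]⟩

/-- The certificate number `1`. -/
def d1 : Dt := ⟨[3, 2, 1, 0, 2, 1, 2, 3, 2, 1, 0, 2, 1, 2, 3], [0, 1, 0, 2, 1, 0, 2, 1, 2], [24, 26, 29, 31, 32, 36, 38, 39, 40, 42, 43, 44, 45, 46, 47],
  [24, 23, 24, 25, 22, 25, 27, 20, 27, 33, 14, 33, 25, 22, 25, 27, 20, 27, 25, 22, 25, 24, 23, 24, 25, 22, 25, 27, 20, 27, 33, 14, 33, 25, 22, 25, 27, 20, 27, 25, 22, 25, 24, 23, 24],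
  [([], true, 24), ([27, 20, 27], true, 26), ([25, 22, 25, 27, 20, 27], true, 31), ([27, 20, 27, 25, 22, 25, 27, 20, 27], true, 32), ([24, 23, 24, 25, 22, 25, 27, 20, 27], true, 42), ([27, 20, 27, 24, 23, 24, 25, 22, 25, 27, 20, 27], true, 43), ([25, 22, 25, 27, 20, 27, 24, 23, 24, 25, 22, 25, 27, 20, 27], true, 45), ([27, 20, 27, 25, 22, 25, 27, 20, 27, 24, 23, 24, 25, 22, 25, 27, 20, 27], true, 46), ([8], true, 38), ([9], true, 36), ([10], true, 29), ([7, 27, 20, 27], true, 39), ([7, 25, 22, 25, 27, 20, 27], true, 40), ([7, 24, 23, 24, 25, 22, 25, 27, 20, 27], true, 44), ([7], true, 47)],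
  [0], [47]⟩

/-- The certificate number `2`. -/
def d2 : Dt := ⟨[0, 1, 2, 1, 0, 3, 2, 1, 0, 2, 1, 2, 3, 2, 1, 0, 2, 1, 2, 3], [1, 2, 1, 2], [24, 26, 29, 31, 32, 33, 34, 35, 36, 37, 38, 39, 40, 41, 42, 43, 44, 45, 46, 47],
  [33, 14, 33, 27, 20, 27, 25, 22, 25, 27, 20, 27, 33, 14, 33, 24, 23, 24, 25, 22, 25, 27, 20, 27, 33, 14, 33, 25, 22, 25, 27, 20, 27, 25, 22, 25, 24, 23, 24, 25, 22, 25, 27, 20, 27, 33, 14, 33, 25, 22, 25, 27, 20, 27, 25, 22, 25, 24, 23, 24],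
  [([], false, 33), ([], true, 24), ([27, 20, 27], false, 34), ([27, 20, 27], true, 26), ([25, 22, 25, 27, 20, 27], false, 35), ([25, 22, 25, 27, 20, 27], true, 31), ([27, 20, 27, 25, 22, 25, 27, 20, 27], false, 37), ([27, 20, 27, 25, 22, 25, 27, 20, 27], true, 32), ([24, 23, 24, 25, 22, 25, 27, 20, 27], false, 36), ([24, 23, 24, 25, 22, 25, 27, 20, 27], true, 42), ([27, 20, 27, 24, 23, 24, 25, 22, 25, 27, 20, 27], false, 38), ([27, 20, 27, 24, 23, 24, 25, 22, 25, 27, 20, 27], true, 43), ([25, 22, 25, 27, 20, 27, 24, 23, 24, 25, 22, 25, 27, 20, 27], false, 39), ([25, 22, 25, 27, 20, 27, 24, 23, 24, 25, 22, 25, 27, 20, 27], true, 45), ([27, 20, 27, 25, 22, 25, 27, 20, 27, 24, 23, 24, 25, 22, 25, 27, 20, 27], false, 40), ([27, 20, 27, 25, 22, 25, 27, 20, 27, 24, 23, 24, 25, 22, 25, 27, 20, 27], true, 46), ([10], false, 41), ([10], true, 29), ([7, 24, 23, 24, 25, 22, 25,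 27, 20, 27], false, 47), ([7, 24, 23, 24, 25, 22, 25, 27, 20, 27], true, 44)],
  [18, 6, 0], [44, 47]⟩

/-- The certificate number `3`. -/
def d3 : Dt := ⟨[0, 1, 2, 1, 0, 2, 1, 2, 3, 2, 1, 0, 2, 1, 2, 3, 2, 1, 0, 2, 1, 2], [1, 3], [25, 26, 28, 29, 30, 31, 32, 33, 34, 35, 36, 37, 38, 39, 40, 41, 42, 43, 44, 45, 46, 47],
  [33, 14, 33, 27, 20, 27, 25, 22, 25, 27, 20, 27, 33, 14, 33, 25, 22, 25, 27, 20, 27, 25, 22, 25, 24, 23, 24, 25, 22, 25, 27, 20, 27, 33, 14, 33, 25, 22, 25, 27, 20, 27, 25, 22, 25, 24, 23, 24, 25, 22, 25, 27, 20, 27, 33, 14, 33, 25, 22, 25, 27, 20, 27, 25, 22, 25],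
  [([], false, 33), ([27, 20, 27], false, 34), ([27, 20, 27], true, 25), ([33, 14, 33, 27, 20, 27], true, 26), ([25, 22, 25, 27, 20, 27], true, 30), ([25, 22, 25, 27, 20, 27], false, 35), ([33, 14, 33, 25, 22, 25, 27, 20, 27], true, 31), ([27, 20, 27, 25, 22, 25, 27, 20, 27], false, 37), ([24, 23, 24, 25, 22, 25, 27, 20, 27], false, 36), ([27, 20, 27, 25, 22, 25, 27, 20, 27], true, 28), ([27, 20, 27, 24, 23, 24, 25, 22, 25, 27, 20, 27], false, 38), ([24, 23, 24, 25, 22, 25, 27, 20, 27], true, 41), ([33, 14, 33, 27, 20, 27, 25, 22, 25, 27, 20, 27], true, 29), ([33, 14, 33, 24, 23, 24, 25, 22, 25, 27, 20, 27], true, 42), ([25, 22, 25, 27, 20, 27, 24, 23, 24, 25, 22, 25, 27, 20, 27], false, 39), ([27, 20, 27, 25, 22, 25, 27, 20, 27, 24, 23, 24, 25, 22, 25, 27, 20, 27], false, 40), ([33, 14, 33, 27, 20, 27, 25, 22, 25, 27, 20, 27, 24, 23, 24, 25, 22, 25, 27, 20, 27], false,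 43), ([33, 14, 33, 27, 20, 27, 33, 14, 33, 25, 22, 25, 27, 20, 27, 24, 23, 24, 25, 22, 25, 27, 20, 27], false, 45), ([27, 20, 27, 33, 14, 33, 25, 22, 25, 27, 20, 27, 33, 14, 33, 25, 22, 25, 27, 20, 27, 24, 23, 24, 25, 22, 25, 27, 20, 27], true, 46), ([33, 14, 33, 27, 20, 27, 33, 14, 33, 25, 22, 25, 27, 20, 27, 33, 14, 33, 25, 22, 25, 27, 20, 27, 24, 23, 24, 25, 22, 25, 27, 20, 27], true, 47), ([12, 27, 20, 27], true, 32), ([11, 33, 14, 33, 27, 20, 27, 33, 14, 33, 25, 22, 25, 27, 20, 27], false, 44)],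
  [25, 22, 25, 33, 14, 33, 27, 20, 27, 25, 22, 25, 24, 23, 24, 25, 22, 25, 33, 14, 33, 27, 20, 27, 25, 22, 25, 33, 14, 33, 15, 3], [24, 27]⟩

/-- The certificate number `4`. -/
def d4 : Dt := ⟨[1, 0, 2, 1, 0, 2, 1, 2, 3, 2, 1, 0, 2, 1, 2, 3, 2, 1, 0, 2, 1, 2], [0, 3], [25, 26, 27, 28, 29, 30, 31, 32, 34, 35, 36, 37, 38, 39, 40, 41, 42, 43, 44, 45, 46, 47],
  [27, 20, 27, 33, 14, 33, 25, 22, 25, 27, 20, 27, 33, 14, 33, 25, 22, 25, 27, 20, 27, 25, 22, 25, 24, 23, 24, 25, 22, 25, 27, 20, 27, 33, 14, 33, 25, 22, 25, 27, 20, 27, 25, 22, 25, 24, 23, 24, 25, 22, 25, 27, 20, 27, 33, 14, 33, 25, 22, 25, 27, 20, 27, 25, 22, 25],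
  [([27, 20, 27], false, 27), ([27, 20, 27], true, 25), ([33, 14, 33, 27, 20, 27], false, 34), ([33, 14, 33, 27, 20, 27], true, 26), ([25, 22, 25, 27, 20, 27], false, 28), ([25, 22, 25, 27, 20, 27], true, 30), ([33, 14, 33, 25, 22, 25, 27, 20, 27], false, 35), ([24, 23, 24, 25, 22, 25, 27, 20, 27], false, 29), ([33, 14, 33, 25, 22, 25, 27, 20, 27], true, 31), ([24, 23, 24, 25, 22, 25, 27, 20, 27], true, 41), ([33, 14, 33, 24, 23, 24, 25, 22, 25, 27, 20, 27], false, 36), ([33, 14, 33, 24, 23, 24, 25, 22, 25, 27, 20, 27], true, 42), ([25, 22, 25, 27, 20, 27, 24, 23, 24, 25, 22, 25, 27, 20, 27], false, 32), ([33, 14, 33, 25, 22, 25, 27, 20, 27, 24, 23, 24, 25, 22, 25, 27, 20, 27], false, 43), ([25, 22, 25, 27, 20, 27, 24, 23, 24, 25, 22, 25, 27, 20, 27], true, 37), ([33, 14, 33, 25, 22, 25, 27, 20, 27, 24, 23, 24, 25, 22, 25, 27, 20, 27], true, 38), ([27, 20, 27, 33, 14,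 33, 25, 22, 25, 27, 20, 27, 24, 23, 24, 25, 22, 25, 27, 20, 27], true, 46), ([33, 14, 33, 27, 20, 27, 33, 14, 33, 25, 22, 25, 27, 20, 27, 24, 23, 24, 25, 22, 25, 27, 20, 27], true, 47), ([27, 20, 27, 33, 14, 33, 25, 22, 25, 27, 20, 27, 24, 23, 24, 25, 22, 25, 27, 20, 27], false, 40), ([33, 14, 33, 27, 20, 27, 33, 14, 33, 25, 22, 25, 27, 20, 27, 24, 23, 24, 25, 22, 25, 27, 20, 27], false, 44), ([11, 25, 22, 25, 27, 20, 27], false, 39), ([11, 25, 22, 25, 27, 20, 27], true, 45)],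
  [25, 22, 25, 33, 14, 33, 27, 20, 27, 25, 22, 25, 24, 23, 24, 25, 22, 25, 33, 14, 33, 27, 20, 27, 25, 22, 25, 27, 20, 27, 2, 8], [24, 27]⟩

/-- The certificate number `5`. -/
def d5 : Dt := ⟨[1, 0, 2, 1, 0, 2, 1, 3, 2, 1, 0, 2, 1, 2, 3, 2, 1, 0, 2, 1, 2, 3], [0, 2], [24, 26, 27, 28, 29, 30, 31, 32, 34, 35, 36, 37, 38, 39, 40, 41, 42, 43, 44, 45, 46, 47],
  [27, 20, 27, 33, 14, 33, 25, 22, 25, 27, 20, 27, 33, 14, 33, 25, 22, 25, 27, 20, 27, 24, 23, 24, 25, 22, 25, 27, 20, 27, 33, 14, 33, 25, 22, 25, 27, 20, 27, 25, 22, 25, 24, 23, 24, 25, 22, 25, 27, 20, 27, 33, 14, 33, 25, 22, 25, 27, 20, 27, 25, 22, 25, 24, 23, 24],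
  [([], true, 24), ([27, 20, 27], true, 26), ([27, 20, 27], false, 27), ([33, 14, 33, 27, 20, 27], false, 34), ([25, 22, 25, 27, 20, 27], false, 28), ([25, 22, 25, 27, 20, 27], true, 31), ([33, 14, 33, 25, 22, 25, 27, 20, 27], false, 35), ([24, 23, 24, 25, 22, 25, 27, 20, 27], false, 29), ([27, 20, 27, 25, 22, 25, 27, 20, 27], false, 30), ([27, 20, 27, 25, 22, 25, 27, 20, 27], true, 32), ([24, 23, 24, 25, 22, 25, 27, 20, 27], true, 42), ([33, 14, 33, 24, 23, 24, 25, 22, 25, 27, 20, 27], false, 36), ([27, 20, 27, 24, 23, 24, 25, 22, 25, 27, 20, 27], true, 43), ([33, 14, 33, 27, 20, 27, 25, 22, 25, 27, 20, 27], false, 41), ([25, 22, 25, 27, 20, 27, 24, 23, 24, 25, 22, 25, 27, 20, 27], true, 45), ([27, 20, 27, 25, 22, 25, 27, 20, 27, 24, 23, 24, 25, 22, 25, 27, 20, 27], true, 46), ([33, 14, 33, 27, 20, 27, 25, 22, 25, 27, 20, 27, 24, 23, 24, 25, 22, 25, 27, 20, 27], true,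 38), ([33, 14, 33, 27, 20, 27, 33, 14, 33, 25, 22, 25, 27, 20, 27, 24, 23, 24, 25, 22, 25, 27, 20, 27], true, 39), ([24, 23, 24, 25, 22, 25, 27, 20, 27, 33, 14, 33, 25, 22, 25, 27, 20, 27, 24, 23, 24, 25, 22, 25, 27, 20, 27], false, 40), ([33, 14, 33, 24, 23, 24, 25, 22, 25, 27, 20, 27, 33, 14, 33, 25, 22, 25, 27, 20, 27, 24, 23, 24, 25, 22, 25, 27, 20, 27], false, 44), ([12, 27, 20, 27], false, 37), ([9, 33, 14, 33, 27, 20, 27, 25, 22, 25, 27, 20, 27], true, 47)],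
  [25, 22, 25, 27, 20, 27, 25, 22, 25, 33, 14, 33, 27, 20, 27, 25, 22, 25, 24, 23, 24, 27, 20, 27, 25, 22, 25, 27, 20, 27, 0, 10], [24, 27]⟩

/-- The certificate number `6`. -/
def d6 : Dt := ⟨[0, 1, 0, 2, 1, 0, 2, 1, 2, 3, 2, 1, 0, 2, 1, 2, 3, 2, 1, 0, 2, 1, 2], [3], [25, 26, 27, 28, 29, 30, 31, 32, 33, 34, 35, 36, 37, 38, 39, 40, 41, 42, 43, 44, 45, 46, 47],
  [33, 14, 33, 27, 20, 27, 33, 14, 33, 25, 22, 25, 27, 20, 27, 33, 14, 33, 25, 22, 25, 27, 20, 27, 25, 22, 25, 24, 23, 24, 25, 22, 25, 27, 20, 27, 33, 14, 33, 25, 22, 25, 27, 20, 27, 25, 22, 25, 24, 23, 24, 25, 22, 25, 27, 20, 27, 33, 14, 33, 25, 22, 25, 27, 20, 27, 25, 22, 25],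
  [([], false, 33), ([27, 20, 27], false, 34), ([27, 20, 27], true, 25), ([33, 14, 33, 27, 20, 27], true, 26), ([33, 14, 33, 27, 20, 27], false, 27), ([25, 22, 25, 27, 20, 27], false, 35), ([25, 22, 25, 27, 20, 27], true, 30), ([24, 23, 24, 25, 22, 25, 27, 20, 27], false, 36), ([33, 14, 33, 25, 22, 25, 27, 20, 27], false, 28), ([33, 14, 33, 25, 22, 25, 27, 20, 27], true, 31), ([27, 20, 27, 25, 22, 25, 27, 20, 27], false, 37), ([33, 14, 33, 24, 23, 24, 25, 22, 25, 27, 20, 27], false, 29), ([27, 20, 27, 24, 23, 24, 25, 22, 25, 27, 20, 27], false, 38), ([24, 23, 24, 25, 22, 25, 27, 20, 27], true, 41), ([33, 14, 33, 24, 23, 24, 25, 22, 25, 27, 20, 27], true, 42), ([25, 22, 25, 27, 20, 27, 24, 23, 24, 25, 22, 25, 27, 20, 27], false, 39), ([27, 20, 27, 25, 22, 25, 27, 20, 27, 24, 23, 24, 25, 22, 25, 27, 20, 27], false, 40), ([27, 20, 27, 33, 14, 33, 25, 22, 25, 27, 20, 27,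 24, 23, 24, 25, 22, 25, 27, 20, 27], true, 46), ([33, 14, 33, 27, 20, 27, 33, 14, 33, 25, 22, 25, 27, 20, 27, 24, 23, 24, 25, 22, 25, 27, 20, 27], true, 47), ([33, 14, 33, 27, 20, 27, 25, 22, 25, 27, 20, 27, 24, 23, 24, 25, 22, 25, 27, 20, 27], false, 44), ([12, 27, 20, 27], true, 32), ([11, 27, 20, 27], true, 43), ([11, 25, 22, 25, 27, 20, 27], true, 45)],
  [27, 20, 27, 25, 22, 25, 15, 39, 34, 3, 2, 6, 45, 2, 15, 1, 20, 21, 26, 18, 1, 17, 46, 1, 21, 15, 12, 16, 31, 7, 16, 32, 4, 2], [24, 27]⟩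

/-- The certificate number `7`. -/
def d7 : Dt := ⟨[0, 1, 0, 2, 1, 0, 2, 1, 3, 2, 1, 0, 2, 1, 2, 3, 2, 1, 0, 2, 1, 2, 3], [2], [24, 26, 27, 28, 29, 30, 31, 32, 33, 34, 35, 36, 37, 38, 39, 40, 41, 42, 43, 44, 45, 46, 47],
  [33, 14, 33, 27, 20, 27, 33, 14, 33, 25, 22, 25, 27, 20, 27, 33, 14, 33, 25, 22, 25, 27, 20, 27, 24, 23, 24, 25, 22, 25, 27, 20, 27, 33, 14, 33, 25, 22, 25, 27, 20, 27, 25, 22, 25, 24, 23, 24, 25, 22, 25, 27, 20, 27, 33, 14, 33, 25, 22, 25, 27, 20, 27, 25, 22, 25, 24, 23, 24],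
  [([], false, 33), ([], true, 24), ([27, 20, 27], true, 26), ([27, 20, 27], false, 34), ([25, 22, 25, 27, 20, 27], false, 35), ([33, 14, 33, 27, 20, 27], false, 27), ([25, 22, 25, 27, 20, 27], true, 31), ([33, 14, 33, 25, 22, 25, 27, 20, 27], false, 28), ([24, 23, 24, 25, 22, 25, 27, 20, 27], false, 36), ([27, 20, 27, 25, 22, 25, 27, 20, 27], false, 37), ([27, 20, 27, 25, 22, 25, 27, 20, 27], true, 32), ([33, 14, 33, 24, 23, 24, 25, 22, 25, 27, 20, 27], false, 29), ([24, 23, 24, 25, 22, 25, 27, 20, 27], true, 42), ([27, 20, 27, 24, 23, 24, 25, 22, 25, 27, 20, 27], false, 38), ([27, 20, 27, 24, 23, 24, 25, 22, 25, 27, 20, 27], true, 43), ([25, 22, 25, 27, 20, 27, 24, 23, 24, 25, 22, 25, 27, 20, 27], false, 39), ([25, 22, 25, 27, 20, 27, 24, 23, 24, 25, 22, 25, 27, 20, 27], true, 45), ([27, 20, 27, 25, 22, 25, 27, 20, 27, 24, 23, 24, 25, 22, 25, 27, 20, 27], true, 46),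 ([27, 20, 27, 25, 22, 25, 27, 20, 27, 24, 23, 24, 25, 22, 25, 27, 20, 27], false, 40), ([33, 14, 33, 27, 20, 27, 25, 22, 25, 27, 20, 27, 24, 23, 24, 25, 22, 25, 27, 20, 27], false, 44), ([10], true, 30), ([10], false, 41), ([9, 33, 14, 33, 27, 20, 27, 25, 22, 25, 27, 20, 27], true, 47)],
  [24, 23, 24, 27, 20, 27, 17, 37, 36, 3, 0, 5, 47, 0, 17, 2, 18, 24, 23, 19, 2, 16, 45, 2, 24, 17, 13, 15, 32, 7, 15, 30, 6, 0], [24, 27]⟩

/-- The certificate number `8`. -/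
def d8 : Dt := ⟨[0, 1, 2, 1, 0, 2, 1, 2, 3, 2, 1, 0, 2, 1, 2, 3, 2, 1, 0, 2, 1, 2, 3], [1], [24, 25, 26, 28, 29, 30, 31, 32, 33, 34, 35, 36, 37, 38, 39, 40, 41, 42, 43, 44, 45, 46, 47],
  [33, 14, 33, 27, 20, 27, 25, 22, 25, 27, 20, 27, 33, 14, 33, 25, 22, 25, 27, 20, 27, 25, 22, 25, 24, 23, 24, 25, 22, 25, 27, 20, 27, 33, 14, 33, 25, 22, 25, 27, 20, 27, 25, 22, 25, 24, 23, 24, 25, 22, 25, 27, 20, 27, 33, 14, 33, 25, 22, 25, 27, 20, 27, 25, 22, 25, 24, 23, 24],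
  [([], false, 33), ([], true, 24), ([27, 20, 27], false, 34), ([27, 20, 27], true, 26), ([25, 22, 25, 27, 20, 27], false, 35), ([25, 22, 25, 27, 20, 27], true, 31), ([33, 14, 33, 27, 20, 27], true, 25), ([27, 20, 27, 25, 22, 25, 27, 20, 27], false, 37), ([33, 14, 33, 25, 22, 25, 27, 20, 27], true, 30), ([24, 23, 24, 25, 22, 25, 27, 20, 27], false, 36), ([27, 20, 27, 24, 23, 24, 25, 22, 25, 27, 20, 27], false, 38), ([27, 20, 27, 25, 22, 25, 27, 20, 27], true, 32), ([24, 23, 24, 25, 22, 25, 27, 20, 27], true, 42), ([33, 14, 33, 24, 23, 24, 25, 22, 25, 27, 20, 27], true, 41), ([25, 22, 25, 27, 20, 27, 24, 23, 24, 25, 22, 25, 27, 20, 27], false, 39), ([27, 20, 27, 24, 23, 24, 25, 22, 25, 27, 20, 27], true, 43), ([27, 20, 27, 25, 22, 25, 27, 20, 27, 24, 23, 24, 25, 22, 25, 27, 20, 27], false, 40), ([25, 22, 25, 27, 20, 27, 24, 23, 24, 25, 22, 25, 27, 20, 27], true, 45), ([27,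 20, 27, 25, 22, 25, 27, 20, 27, 24, 23, 24, 25, 22, 25, 27, 20, 27], true, 46), ([33, 14, 33, 27, 20, 27, 25, 22, 25, 27, 20, 27, 24, 23, 24, 25, 22, 25, 27, 20, 27], true, 47), ([10], false, 28), ([10], true, 29), ([11, 33, 14, 33, 27, 20, 27, 33, 14, 33, 25, 22, 25, 27, 20, 27], false, 44)],
  [33, 14, 33, 27, 20, 27, 25, 22, 25, 24, 23, 24, 27, 20, 27, 25, 22, 25, 33, 14, 33, 6, 19, 46, 24, 0], [24, 27]⟩

/-- The certificate number `9`. -/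
def d9 : Dt := ⟨[1, 0, 2, 1, 0, 2, 1, 2, 3, 2, 1, 0, 2, 1, 2, 3, 2, 1, 0, 2, 1, 2, 3], [0], [24, 25, 26, 27, 28, 29, 30, 31, 32, 34, 35, 36, 37, 38, 39, 40, 41, 42, 43, 44, 45, 46, 47],
  [27, 20, 27, 33, 14, 33, 25, 22, 25, 27, 20, 27, 33, 14, 33, 25, 22, 25, 27, 20, 27, 25, 22, 25, 24, 23, 24, 25, 22, 25, 27, 20, 27, 33, 14, 33, 25, 22, 25, 27, 20, 27, 25, 22, 25, 24, 23, 24, 25, 22, 25, 27, 20, 27, 33, 14, 33, 25, 22, 25, 27, 20, 27, 25, 22, 25, 24, 23, 24],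
  [([], true, 24), ([27, 20, 27], false, 27), ([27, 20, 27], true, 26), ([33, 14, 33, 27, 20, 27], false, 34), ([25, 22, 25, 27, 20, 27], false, 28), ([33, 14, 33, 27, 20, 27], true, 25), ([33, 14, 33, 25, 22, 25, 27, 20, 27], false, 35), ([25, 22, 25, 27, 20, 27], true, 31), ([24, 23, 24, 25, 22, 25, 27, 20, 27], false, 29), ([27, 20, 27, 25, 22, 25, 27, 20, 27], false, 30), ([24, 23, 24, 25, 22, 25, 27, 20, 27], true, 42), ([33, 14, 33, 24, 23, 24, 25, 22, 25, 27, 20, 27], false, 36), ([27, 20, 27, 25, 22, 25, 27, 20, 27], true, 32), ([33, 14, 33, 27, 20, 27, 25, 22, 25, 27, 20, 27], false, 41), ([27, 20, 27, 24, 23, 24, 25, 22, 25, 27, 20, 27], true, 43), ([25, 22, 25, 27, 20, 27, 24, 23, 24, 25, 22, 25, 27, 20, 27], true, 45), ([27, 20, 27, 25, 22, 25, 27, 20, 27, 24, 23, 24, 25, 22, 25, 27, 20, 27], true, 46), ([33, 14, 33, 27, 20, 27, 25, 22, 25, 27, 20, 27, 24,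 23, 24, 25, 22, 25, 27, 20, 27], true, 47), ([27, 20, 27, 33, 14, 33, 25, 22, 25, 27, 20, 27, 24, 23, 24, 25, 22, 25, 27, 20, 27], false, 40), ([33, 14, 33, 27, 20, 27, 33, 14, 33, 25, 22, 25, 27, 20, 27, 24, 23, 24, 25, 22, 25, 27, 20, 27], false, 44), ([12, 27, 20, 27], false, 37), ([11, 27, 20, 27], false, 38), ([11, 25, 22, 25, 27, 20, 27], false, 39)],
  [33, 14, 33, 27, 20, 27, 25, 22, 25, 24, 23, 24, 27, 20, 27, 25, 22, 25, 27, 20, 27, 22, 10, 46, 24, 0], [24, 27]⟩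

/-- The certificate number `10`. -/
def d10 : Dt := ⟨[0, 1, 0, 2, 1, 0, 2, 1, 2, 3, 2, 1, 0, 2, 1, 2, 3, 2, 1, 0, 2, 1, 2, 3], [], [24, 25, 26, 27, 28, 29, 30, 31, 32, 33, 34, 35, 36, 37, 38, 39, 40, 41, 42, 43, 44, 45, 46, 47],
  [33, 14, 33, 27, 20, 27, 33, 14, 33, 25, 22, 25, 27, 20, 27, 33, 14, 33, 25, 22, 25, 27, 20, 27, 25, 22, 25, 24, 23, 24, 25, 22, 25, 27, 20, 27, 33, 14, 33, 25, 22, 25, 27, 20, 27, 25, 22, 25, 24, 23, 24, 25, 22, 25, 27, 20, 27, 33, 14, 33, 25, 22, 25, 27, 20, 27, 25, 22, 25, 24, 23, 24],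
  [([], false, 33), ([], true, 24), ([27, 20, 27], false, 34), ([27, 20, 27], true, 26), ([33, 14, 33, 27, 20, 27], false, 27), ([25, 22, 25, 27, 20, 27], false, 35), ([33, 14, 33, 27, 20, 27], true, 25), ([25, 22, 25, 27, 20, 27], true, 31), ([33, 14, 33, 25, 22, 25, 27, 20, 27], false, 28), ([24, 23, 24, 25, 22, 25, 27, 20, 27], false, 36), ([27, 20, 27, 25, 22, 25, 27, 20, 27], false, 37), ([33, 14, 33, 25, 22, 25, 27, 20, 27], true, 30), ([27, 20, 27, 25, 22, 25, 27, 20, 27], true, 32), ([33, 14, 33, 24, 23, 24, 25, 22, 25, 27, 20, 27], false, 29), ([27, 20, 27, 24, 23, 24, 25, 22, 25, 27, 20, 27], false, 38), ([24, 23, 24, 25, 22, 25, 27, 20, 27], true, 42), ([25, 22, 25, 27, 20, 27, 24, 23, 24, 25, 22, 25, 27, 20, 27], false, 39), ([33, 14, 33, 24, 23, 24, 25, 22, 25, 27, 20, 27], true, 41), ([27, 20, 27, 24, 23, 24, 25, 22, 25, 27, 20, 27], true, 43), ([25, 22,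 25, 27, 20, 27, 24, 23, 24, 25, 22, 25, 27, 20, 27], true, 45), ([27, 20, 27, 25, 22, 25, 27, 20, 27, 24, 23, 24, 25, 22, 25, 27, 20, 27], false, 40), ([27, 20, 27, 25, 22, 25, 27, 20, 27, 24, 23, 24, 25, 22, 25, 27, 20, 27], true, 46), ([33, 14, 33, 27, 20, 27, 25, 22, 25, 27, 20, 27, 24, 23, 24, 25, 22, 25, 27, 20, 27], true, 47), ([33, 14, 33, 27, 20, 27, 25, 22, 25, 27, 20, 27, 24, 23, 24, 25, 22, 25, 27, 20, 27], false, 44)],
  [25, 22, 25, 33, 14, 33, 27, 20, 27, 25, 22, 25, 24, 23, 24, 25, 22, 25, 33, 14, 33, 27, 20, 27, 25, 22, 25, 33, 14, 33, 14, 34, 20, 26, 14, 16, 21, 14, 9, 23, 22, 17, 6, 0], [24, 27]⟩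

theorem okC : dC.ok fsC = true := by decide +kernel

theorem ok0 : d0.ok fsS = true := by decide +kernel

theorem ok1 : d1.ok fsS = true := by decide +kernel

theorem ok2 : d2.ok fsS = true := by decide +kernel

theorem ok3 : d3.ok fsS = true := by decide +kernel

theorem ok4 : d4.ok fsS = true := by decide +kernel

theorem ok5 : d5.ok fsS = true := by decide +kernel

theorem ok6 : d6.ok fsS = true := by decide +kernel

theorem ok7 : d7.ok fsS = true := by decide +kernel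

theorem ok8 : d8.ok fsS = true := by decide +kernel

theorem ok9 : d9.ok fsS = true := by decide +kernel

theorem ok10 : d10.ok fsS = true := by decide +kernel

def DS : List Dt := [d0, d1, d2, d3, d4, d5, d6, d7, d8, d9, d10]

theorem okS : ∀ d ∈ DS, d.ok fsS = true := by
  simp only [DS, List.forall_mem_cons, ok0, ok1, ok2, ok3, ok4, ok5, ok6, ok7, ok8, ok9, ok10, true_and]
  simp

noncomputable def xs {α : Type} (f : α → ℕ) (W : List α) : ℕ := List.rec 0 (fun w _ ih => Nat.xor (f w) ih) W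

def S7 : List (List ℕ) := [34, 35, 36, 37, 38, 39, 40].sublists'

noncomputable def chkP (i j : ℕ) (W : List (List ℕ)) : Bool :=
  allTo 27 fun l => Nat.beq (xs (fun w => cwr w (Nat.pow 2 l)) W)
    (if j = 0 ∧ ((i = 25 ∧ l = 0) ∨ (i = 26 ∧ l = 1)) then Nat.pow 2 (26 : Fin 27) else 0)

theorem okP : (allTo 27 fun j => allTo 27 fun i => chkP i j (flt (fun w => tb (cw w (Nat.pow 2 j)) i) S7)) = true := by
  decide +kernel

def SX : List (List ℕ) := [[3], [40, 14, 7], [43, 27, 2], [34, 8, 13], [37, 11, 10], [38, 12, 9], [39, 8], [40, 14, 7, 4], [40, 39, 7, 4], [41, 6], [45, 2], [47, 33, 14, 0], [47, 34, 13, 0], [28, 1], [4, 3], [46, 1], [42, 28, 2, 1], [35, 12], [40, 14, 7, 5], [47, 0], [36, 33, 14, 0], [46, 3, 1], [41, 29, 2, 0], [27, 2], [38, 9], [42, 5], [36, 11], [33, 14, 13], [8, 3], [39, 8, 7], [44, 3, 1], [3, 2, 0], [43, 4, 0], [45, 34, 14, 2], [14, 7], [4, 3, 0],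 [41, 6, 2], [28, 2, 1], [33, 14, 2], [44, 8, 3], [13, 3], [34, 32, 7], [42, 33, 12, 5], [9, 12], [34, 13, 4], [36, 30, 7], [42, 12, 9, 5], [43, 27, 7, 2], [44, 14, 3], [33, 14, 12], [43, 7, 4], [41, 29, 7, 0], [43, 33, 13, 4], [43, 27, 13, 2], [38, 9, 7], [43, 14, 4], [34, 13, 3], [45, 13, 2], [12], [3, 39, 8], [45, 7, 2], [43, 8, 4], [35, 12, 5], [33, 14, 0], [45, 14, 2], [3, 38, 9], [14, 3], [45, 14, 7, 2], [12, 3], [39, 8, 3], [42, 38, 7, 5], [9], [41, 29, 11, 0], [8, 13, 4], [37, 29, 7, 0], [12, 5, 3], [14, 3, 2], [14, 7, 5]]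

theorem okX : (allTo 27 fun j => Nat.beq (xs (fun g => cw g (cw [44] (cwr g (Nat.pow 2 j)))) SX)
    (if j = 0 then Nat.pow 2 (26 : Fin 27) else 0)) = true := by decide +kernel

def reps : List (List ℕ) := [[47], [44], [44, 47], [24, 27]]

/-- The matrix of a word is not the identity. -/
noncomputable def cne (w : List ℕ) : Bool := (List.range 27).any fun j => (List.range 27).any fun i =>
  xor (tb (cw w (Nat.pow 2 j)) i) (tb (Nat.pow 2 j) i)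

theorem okR : ∀ a ∈ reps, ∀ b ∈ reps, (ceq [] (a ++ b) [] = true ∧ cne (a ++ ([0] ++ b ++ [0])) = true) ∨
    (ceq [] (a ++ b ++ (a ++ b)) [] = true ∧ cne (a ++ ([0] ++ b ++ [0]) ++ (a ++ ([0] ++ b ++ [0]))) = true) := by
  decide +kernel

end Cfsg.Agent.H2.AX
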