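import Cfsg.Agent.H2.TO1

/-! Automorphisms of orthogonal groups, I: root elements. -/

set_option autoImplicit false
set_option linter.unusedSectionVars false

namespace Cfsg.Agent.H2.BO

open Module Cfsg.Agent.H1 Cfsg.Agent.H6 Cfsg.Agent.H7 Cfsg.Agent.H2.TO

variable {F : Type*} [Field F] [Fintype F] {E : Type*} [AddCommGroup E] [Module F E] [FiniteDimensional F E]
  [Fintype E] {Q : QuadraticForm F E}

theorem fr_span (v : E) : finrank F (F ∙ v) ≤ 1 := finrank_span_le v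

theorem fr_two (a b : E) : finrank F ↥((F ∙ a) ⊔ (F ∙ b)) ≤ 2 := by
  have := finrank_sup_span_le (F ∙ a) b
  have := fr_span (F := F) a
  omega

theorem mem_two {a b x : E} : x ∈ (F ∙ a) ⊔ (F ∙ b) ↔ ∃ s t : F, x = s • a + t • b := by
  rw [Submodule.mem_sup]
  constructor
  · rintro ⟨y, hy, z, hz, rfl⟩
    obtain ⟨s, rfl⟩ := Submodule.mem_span_singleton.1 hy
    obtain ⟨t, rfl⟩ := Submodule.mem_span_singleton.1 hz
    exact ⟨s, t, rfl⟩
  · rintro ⟨s, t, rfl⟩
    exact ⟨_, Submodule.mem_span_singleton.2 ⟨s, rfl⟩, _, Submodule.mem_span_singleton.2 ⟨t, rfl⟩, rfl⟩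

theorem mem_sp {a x : E} : x ∈ F ∙ a ↔ ∃ s : F, x = s • a := by
  rw [Submodule.mem_span_singleton]; exact exists_congr fun _ => eq_comm

variable (h : OH Q)

include h in
/-- Connectedness of the collinearity graph. -/
theorem conn {α : Type*} {X : Submodule F E} (hX : finrank F X + 5 ≤ finrank F E) (s : E → α)
    (hs : ∀ x ∈ oc Q X, ∀ y ∈ oc Q X, RP Q x y → s x = s y) {x y : E} (hx : x ∈ oc Q X) (hy : y ∈ oc Q X)
    (x0 : x ≠ 0) (y0 : y ≠ 0) (qx : Q x = 0) (qy : Q y = 0) : s x = s y := by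
  have f1 := finrank_sup_span_le X x
  by_cases k : pb Q x y = 0
  · by_cases k' : y ∈ F ∙ x
    · have f2 := finrank_oc h.nd (X ⊔ F ∙ x)
      have f3 := fr_span (F := F) x
      obtain ⟨z, z1, z2, z3⟩ := exists_sing_not_mem Q (Y := oc Q (X ⊔ F ∙ x)) (R := F ∙ x)
        ((Submodule.span_singleton_le_iff_mem _ _).2 (mem_oc_sup.2 ⟨hx, mem_oc_span.2 (pb_sing qx)⟩)) (by omega)
      rw [mem_oc_sup, mem_oc_span] at z1
      obtain ⟨c, rfl⟩ := mem_sp.1 k'
      rw [hs x hx z z1.1 (.of qx z3 z1.2 x0 z2), hs _ hy z z1.1 (.of qy z3 (by simp [z1.2]) y0 fun e =>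
        z2 ((Submodule.span_singleton_le_iff_mem _ _).2 k' e))]
    · exact hs x hx y hy (.of qx qy k x0 k')
  · have f2 := finrank_sup_span_le (X ⊔ F ∙ x) y
    have f3 := finrank_oc h.nd (X ⊔ (F ∙ x) ⊔ F ∙ y)
    obtain ⟨z, z1, z2, z3⟩ := exists_sing_not_mem Q (Y := oc Q (X ⊔ (F ∙ x) ⊔ F ∙ y)) (R := ⊥) bot_le
      (by rw [finrank_bot]; omega)
    rw [mem_oc_sup, mem_oc_sup, mem_oc_span, mem_oc_span] at z1
    rw [hs x hx z z1.1.1 (.of qx z3 z1.1.2 x0 fun e => ?_), hs _ hy z z1.1.1 (.of qy z3 z1.2 y0 fun e => ?_)]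
    · obtain ⟨c, rfl⟩ := mem_sp.1 e
      have : c = 0 := by simpa [k] using z1.1.2
      simp [this] at z2
    · obtain ⟨c, rfl⟩ := mem_sp.1 e
      have : c = 0 := by simpa [pb_comm Q y x, k] using z1.2
      simp [this] at z2

include h in
/-- Two additive maps which are proportional on singular vectors are proportional. -/
theorem scal {X : Submodule F E} (hX : finrank F X + 5 ≤ finrank F E) {p p' : E} (hh : Hyp Q p p')
    (hp : p ∈ oc Q X) (hp' : p' ∈ oc Q X) (A B : E →+ E)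
    (hB : ∀ x ∈ oc Q X, ∀ y ∈ oc Q X, RP Q x y → ∀ s t : F, s • B x + t • B y = 0 → s = 0 ∧ t = 0)
    (hA : ∀ x ∈ oc Q X, Q x = 0 → A x ∈ F ∙ B x) : ∃ c : F, ∀ x ∈ oc Q X, A x = c • B x := by
  have : ∀ x, ∃ c : F, x ∈ oc Q X → Q x = 0 → A x = c • B x := fun x => by
    by_cases k : x ∈ oc Q X ∧ Q x = 0
    · obtain ⟨c, e⟩ := mem_sp.1 (hA x k.1 k.2); exact ⟨c, fun _ _ => e⟩
    · exact ⟨0, fun a b => (k ⟨a, b⟩).elim⟩
  choose s hs using this
  have key := fun x (hx : x ∈ oc Q X) (x0 : x ≠ 0) (qx : Q x = 0) => conn h hX s (fun x hx y hy r => by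
    have e := hs _ (add_mem hx hy) (by rw [Q_add, r.l, r.r, r.lr]; ring)
    rw [map_add, map_add, hs x hx r.l, hs y hy r.r] at e
    have := hB x hx y hy r (s x - s (x + y)) (s y - s (x + y)) (by linear_combination (norm := module) e)
    linear_combination this.1 - this.2) hx hp x0 hh.ne qx hh.l
  refine ⟨s p, fun x hx => ?_⟩
  refine sing_ind hh hp hp' (AddMonoidHom.eqLocus A ((DistribSMul.toAddMonoidHom E (s p)).comp B))
    (fun v hv qv => ?_) hx
  change A v = s p • B v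
  rcases eq_or_ne v 0 with rfl | v0
  · simp
  · rw [hs v hv qv, key v hv v0 qv]

include h in
theorem exists_hyp : ∃ p p', Hyp Q p p' := by
  obtain ⟨p, p', -, -, hh, -⟩ := exists_hyp_room h.nd (X := ⊥) (by
    have := h.big
    rw [bot_inf_eq, finrank_bot]; omega)
  exact ⟨p, p', hh⟩

theorem mem_oc_bot (x : E) : x ∈ oc Q ⊥ := fun y hy => by rw [(Submodule.mem_bot F).1 hy]; simp

include h in
theorem scal_top (A B : E →+ E) (hB : ∀ x y, RP Q x y → ∀ s t : F, s • B x + t • B y = 0 → s = 0 ∧ t = 0)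
    (hA : ∀ x, Q x = 0 → A x ∈ F ∙ B x) : ∃ c : F, ∀ x, A x = c • B x := by
  obtain ⟨p, p', hh⟩ := exists_hyp h
  obtain ⟨c, hc⟩ := scal h (X := ⊥) (by have := h.big; rw [finrank_bot]; omega) hh (mem_oc_bot _) (mem_oc_bot _) A B
    (fun x _ y _ => hB x y) fun x _ => hA x
  exact ⟨c, fun x => hc x (mem_oc_bot _)⟩

/-- A vector fixed by all Eichler transformations with centre `a` is a multiple of `a`. -/
theorem span_of_fix {a x : E} (ha : Q a = 0) (hx : ∀ y, pb Q a y = 0 → oA Q (h.ez a y) x = x) (a0 : a ≠ 0) :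
    x ∈ F ∙ a := by
  have k : pb Q x a = 0 := by
    by_contra k
    have f1 := finrank_oc h.nd (F ∙ a)
    have f2 := fr_span (F := F) a
    have f3 := h.big
    obtain ⟨y, y1, y2⟩ := exists_not_mem_of_finrank_lt (S := F ∙ a) (T := oc Q (F ∙ a)) (by omega)
    have := hx y (mem_oc_span.1 y1)
    rw [h.ez_apply ha (mem_oc_span.1 y1)] at this
    exact y2 (mem_sp.2 ⟨pb Q x y / pb Q x a - Q y, by
      rw [← smul_right_inj k, smul_smul, mul_sub, mul_div_cancel₀ _ k]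
      linear_combination (norm := module) -this⟩)
  refine mem_of_oc_oc h.nd fun y hy => ?_
  have := hx y (mem_oc_span.1 hy)
  rw [h.ez_apply ha (mem_oc_span.1 hy), k] at this
  simpa [a0] using this

theorem span_of_ez {a a' : E} (ha : Q a = 0) (a0 : a ≠ 0) (ha' : Q a' = 0)
    (k : ∀ y, pb Q a y = 0 → ∃ y', pb Q a' y' = 0 ∧ h.ez a y = h.ez a' y') : a' ∈ F ∙ a :=
  span_of_fix h ha (fun y hy => by
    obtain ⟨y', k1, k2⟩ := k y hy
    rw [k2, h.ez_fix ha' k1 (pb_sing ha') k1]) a0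

theorem sub_mem_of_ez {a y y' : E} (ha : Q a = 0) (a0 : a ≠ 0) (hy : pb Q a y = 0) (hy' : pb Q a y' = 0)
    (e : h.ez a y = h.ez a y') : y - y' ∈ F ∙ a :=
  ez_eq_one h ha a0 (by simp [hy, hy']) (by
    rw [sub_eq_add_neg, h.ez_add ha hy (by simp [hy']), ← h.ez_inv ha hy', e, mul_inv_cancel])

include h in
theorem center_scalar {z : Om Q} (hz : z ∈ Subgroup.center (Om Q)) : ∃ c : F, ∀ x, oA Q z x = c • x :=
  scal_top h (oA Q z).toAddMonoidHom (AddMonoidHom.id E) (fun _ _ r => r.ind) fun x qx => by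
    rcases eq_or_ne x 0 with rfl | x0
    · simp
    refine span_of_fix h qx (fun y hy => ?_) x0
    change oA Q (h.ez x y) (oA Q z x) = oA Q z x
    rw [← act_mul_apply, Subgroup.mem_center_iff.1 hz, act_mul_apply, h.ez_fix qx hy (pb_sing qx) hy]

theorem mem_center_of {z : Om Q} {c : F} (hz : ∀ x, oA Q z x = c • x) : z ∈ Subgroup.center (Om Q) :=
  Subgroup.mem_center_iff.2 fun g => om_ext fun x => by rw [act_mul_apply, act_mul_apply, hz, hz, map_smul]

/-- The projective group. -/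
abbrev PO (Q : QuadraticForm F E) : Type _ := Om Q ⧸ Subgroup.center (Om Q)

/-- The projection. -/
def pr (Q : QuadraticForm F E) : Om Q →* PO Q := QuotientGroup.mk' _

theorem pr_surj : Function.Surjective (pr Q) := QuotientGroup.mk'_surjective _

theorem pr_eq_of {g g' : Om Q} {c : F} (e : ∀ x, oA Q g' x = c • oA Q g x) : pr Q g = pr Q g' :=
  QuotientGroup.eq.2 (mem_center_of (c := c) fun x => by rw [act_mul_apply, e, map_smul, act_inv_apply])

include h in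
theorem of_pr_eq {g g' : Om Q} (e : pr Q g = pr Q g') : ∃ c : F, ∀ x, oA Q g' x = c • oA Q g x := by
  obtain ⟨c, hc⟩ := center_scalar h (QuotientGroup.eq.1 e)
  exact ⟨c, fun x => by rw [← map_smul, ← hc, ← act_mul_apply, mul_inv_cancel_left]⟩

include h in
theorem eq_of_pr {g g' : Om Q} (e : pr Q g = pr Q g') {X : Submodule F E} (hX : finrank F X < finrank F E)
    (k : ∀ x ∈ oc Q X, oA Q g x = x) (k' : ∀ x ∈ oc Q X, oA Q g' x = x) : g = g' := by
  obtain ⟨c, hc⟩ := of_pr_eq h e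
  have := finrank_oc h.nd X
  obtain ⟨x, x1, x2⟩ := exists_not_mem_of_finrank_lt (S := ⊥) (T := oc Q X) (by rw [finrank_bot]; omega)
  have e1 := hc x
  rw [k x x1, k' x x1] at e1
  have : c = 1 := by
    by_contra c1
    exact x2 ((smul_eq_zero.1 (show (c - 1) • x = 0 by linear_combination (norm := module) -e1)).resolve_left
      (sub_ne_zero.2 c1))
  exact om_ext fun y => by rw [hc, this, one_smul]

theorem ez_fix' {a y x : E} (ha : Q a = 0) (hy : pb Q a y = 0) (hx : x ∈ oc Q ((F ∙ a) ⊔ F ∙ y)) :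
    oA Q (h.ez a y) x = x := by
  rw [mem_oc_sup, mem_oc_span, mem_oc_span] at hx
  exact h.ez_fix ha hy (by rw [pb_comm, hx.1]) (by rw [pb_comm, hx.2])

theorem ez_of_pr {a y a' y' : E} (ha : Q a = 0) (hy : pb Q a y = 0) (ha' : Q a' = 0) (hy' : pb Q a' y' = 0)
    (e : pr Q (h.ez a y) = pr Q (h.ez a' y')) : h.ez a y = h.ez a' y' := by
  have f1 := fr_two (F := F) a y
  have f2 := fr_two (F := F) a' y'
  have f3 := Submodule.finrank_add_le_finrank_add_finrank ((F ∙ a) ⊔ F ∙ y) ((F ∙ a') ⊔ F ∙ y')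
  have f4 := h.big
  exact eq_of_pr h e (X := ((F ∙ a) ⊔ F ∙ y) ⊔ ((F ∙ a') ⊔ F ∙ y')) (by omega)
    (fun x hx => ez_fix' h ha hy (mem_oc_sup.1 hx).1) fun x hx => ez_fix' h ha' hy' (mem_oc_sup.1 hx).2

theorem pr_ez_ne {a b : E} (r : RP Q a b) : pr Q (h.ez a b) ≠ 1 := fun e =>
  r.nm (ez_eq_one h r.l r.ne r.lr (by
    rw [ez_of_pr h r.l r.lr r.l (y' := 0) (by simp) (by rw [e, h.ez_zero, map_one]), h.ez_zero]))

/-- An element centralising all Eichler transformations with centre `a` is one of them. -/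
theorem cent_Q {a : E} (ha : Q a = 0) (a0 : a ≠ 0) {z : PO Q}
    (hz : ∀ y, pb Q a y = 0 → Commute z (pr Q (h.ez a y))) : ∃ x, pb Q a x = 0 ∧ z = pr Q (h.ez a x) := by
  obtain ⟨g, rfl⟩ := pr_surj z
  have k1 : ∀ y, pb Q a y = 0 → h.ez a y = h.ez (oA Q g a) (oA Q g y) := fun y hy =>
    ez_of_pr h ha hy (by rw [oA_Q, ha]) (by rw [oA_pb, hy]) (by
      rw [ez_cj, map_mul, map_mul, (hz y hy).eq, map_inv, mul_inv_cancel_right])
  obtain ⟨c, hc⟩ := mem_sp.1 (span_of_ez h ha a0 (by rw [oA_Q, ha]) fun y hy => ⟨_, by rw [oA_pb, hy], k1 y hy⟩)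
  have c0 : c ≠ 0 := by
    rintro rfl
    exact a0 (oA_inj g (by rw [hc, map_zero, zero_smul]))
  have k2 : ∀ y, pb Q a y = 0 → pb Q a (oA Q g y) = 0 := fun y hy => by
    have := oA_pb g a y
    rw [hc, hy] at this
    simpa [c0] using this
  have k3 : ∀ y, pb Q a y = 0 → ∃ t : F, y - c • oA Q g y = t • a := fun y hy =>
    mem_sp.1 (sub_mem_of_ez h ha a0 hy (by simp [k2 y hy]) (by rw [k1 y hy, hc, h.ez_smul ha (k2 y hy)]))
  have cc : c * c = 1 := by
    obtain ⟨p, p', -, -, hh, hp, hp', -⟩ := exists_hyp_room h.nd (X := F ∙ a) (by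
      have := finrank_inf_oc_le (Q := Q) (F ∙ a)
      have := fr_span (F := F) a
      have := h.big
      omega)
    have hy : pb Q a (p + p') = 0 := by simp [mem_oc_span.1 hp, mem_oc_span.1 hp']
    obtain ⟨t, e⟩ := k3 _ hy
    have e2 : c • oA Q g (p + p') = (p + p') - t • a := by rw [← e]; abel
    have e3 := congrArg Q e2
    rw [Q_smul, oA_Q, Q_sub, Q_smul, ha, map_smul, pb_comm, hy, Q_add, hh.l, hh.r, hh.lr] at e3
    linear_combination e3
  obtain ⟨a', -, hh⟩ := exists_hyp_oc h.nd (X := ⊥) (mem_oc_bot a) (by simpa using a0) ha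
  have hh' : Hyp Q a (c • oA Q g a') := ⟨ha, by rw [Q_smul, oA_Q, hh.r, mul_zero], by
    have := oA_pb g a a'
    rw [hc, hh.lr] at this
    simpa using this⟩
  obtain ⟨m, hm⟩ : ∃ m, m = c • oA Q g a' - a' := ⟨_, rfl⟩
  have m0 : pb Q a m = 0 := by simp [hm, hh.lr, hh'.lr, -map_smul]
  have e1 := h.ez_move hh hh'
  rw [← hm] at e1
  refine ⟨-m, by simp [m0], ?_⟩
  rw [← h.ez_inv ha m0, map_inv, eq_inv_iff_mul_eq_one, (hz m m0).eq, ← map_mul]
  have ka : oA Q (h.ez a m * g) a = c • a := by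
    rw [act_mul_apply, hc, map_smul, h.ez_fix ha m0 (pb_sing ha) m0]
  have ka' : oA Q (h.ez a m * g) a' = c • a' := by
    have := congrArg (c • ·) e1
    simp only [← map_smul, smul_smul, cc, one_smul] at this
    rw [act_mul_apply, this]
  refine (QuotientGroup.eq_one_iff _).2 (mem_center_of (c := c) fun x => ?_)
  obtain ⟨-, w1, w2⟩ := mem_hc.1 (hh.proj_mem (Y := ⊤) trivial trivial (x := x) trivial)
  obtain ⟨w, hw⟩ : ∃ w, w = x - pb Q a' x • a - pb Q a x • a' := ⟨_, rfl⟩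
  rw [← hw] at w1 w2
  have kw : oA Q (h.ez a m * g) w = c • w := by
    obtain ⟨t, e⟩ := k3 w w1
    have e2 : oA Q g w = c • (w - t • a) := by rw [← e, sub_sub_cancel, smul_smul, cc, one_smul]
    have e3 : oA Q (h.ez a m * g) w = c • w + (c * (pb Q (w - t • a) m - t)) • a := by
      rw [act_mul_apply, e2, map_smul, h.ez_apply ha m0, show pb Q (w - t • a) a = 0 by
        simp [pb_comm Q w a, w1, pb_sing ha]]
      module
    have e4 := oA_pb (h.ez a m * g) a' w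
    rw [ka', e3, w2] at e4
    simp only [map_add, map_smul, LinearMap.smul_apply, w2, hh.rl, smul_eq_mul, mul_zero, mul_one, zero_add] at e4
    rw [e3, (mul_eq_zero.1 e4).resolve_right c0, zero_smul, add_zero]
  have : x = w + pb Q a' x • a + pb Q a x • a' := by rw [hw]; abel
  rw [this, map_add, map_add, map_smul, map_smul, kw, ka, ka']
  module

/-- Root elements of the projective group. -/
def Rt (z : PO Q) : Prop := ∃ a b, RP Q a b ∧ z = pr Q (h.ez a b)

theorem Rt.conj {z : PO Q} (hz : Rt h z) (g : PO Q) : Rt h (g * z * g⁻¹) := by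
  obtain ⟨a, b, r, rfl⟩ := hz
  obtain ⟨g, rfl⟩ := pr_surj g
  exact ⟨_, _, r.map g, by rw [ez_cj, map_mul, map_mul, map_inv]⟩

theorem rt_of_cent {a b : E} (r : RP Q a b) {z : PO Q} (z1 : z ≠ 1)
    (hz : ∀ y, pb Q a y = 0 → Commute z (pr Q (h.ez a y)))
    (hz' : ∀ y, pb Q a y = 0 → pb Q b y = 0 → Commute z (pr Q (h.ez b y))) : Rt h z := by
  obtain ⟨x, x0, rfl⟩ := cent_Q h r.l r.ne hz
  have k : ∀ y ∈ oc Q ((F ∙ a) ⊔ F ∙ b), ∃ t : F, pb Q x y • b - pb Q x b • (y + Q y • b) = t • a := fun y hy => by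
    rw [mem_oc_sup, mem_oc_span, mem_oc_span] at hy
    have e1 : oA Q (h.ez b y) a = a := h.ez_fix r.r hy.2 r.lr hy.1
    have e2 : pb Q a (oA Q (h.ez b y) x) = 0 := by rw [← x0, ← oA_pb (h.ez b y) a x, e1]
    have e3 := ez_cj h (h.ez b y) a x
    rw [e1] at e3
    obtain ⟨t, e⟩ := mem_sp.1 (sub_mem_of_ez h r.l r.ne e2 x0 (ez_of_pr h r.l e2 r.l x0 (by
      rw [e3, map_mul, map_mul, ← (hz' y hy.1 hy.2).eq, map_inv, mul_inv_cancel_right])))
    exact ⟨t, by rw [← e, h.ez_apply r.r hy.2]; abel⟩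
  have xb : pb Q x b = 0 := by
    by_contra k0
    have f1 := finrank_oc h.nd ((F ∙ a) ⊔ F ∙ b)
    have f2 := fr_two (F := F) a b
    have f3 := h.big
    obtain ⟨y, y1, y2⟩ := exists_not_mem_of_finrank_lt (S := (F ∙ a) ⊔ F ∙ b) (T := oc Q ((F ∙ a) ⊔ F ∙ b))
      (by omega)
    obtain ⟨t, e⟩ := k y y1
    exact y2 (mem_two.2 ⟨-t / pb Q x b, pb Q x y / pb Q x b - Q y, by
      rw [← smul_right_inj k0, smul_add, smul_smul, smul_smul, mul_sub, mul_div_cancel₀ _ k0, mul_div_cancel₀ _ k0]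
      linear_combination (norm := module) -e⟩)
  obtain ⟨s, t, rfl⟩ := mem_two.1 (mem_of_oc_oc h.nd (x := x) fun y hy => by
    obtain ⟨t, e⟩ := k y hy
    rw [xb] at e
    exact (r.ind (-t) _ (by linear_combination (norm := module) e)).2)
  rw [h.ez_add r.l (by simp [r.ll]) (by simp [r.lr]), h.ez_self, one_mul] at z1 ⊢
  have t0 : t ≠ 0 := by
    rintro rfl
    exact z1 (by rw [zero_smul, h.ez_zero, map_one])
  exact ⟨a, t • b, ⟨r.l, by simp [Q_smul, r.r], by simp [r.lr], fun s' t' e => by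
    simpa [t0] using r.ind s' (t' * t) (by rwa [mul_smul])⟩, rfl⟩

/-- Groups of Eichler transformations. -/
def QG {a : E} (ha : Q a = 0) (X : Submodule F E) : Subgroup (Om Q) where
  carrier := {g | ∃ y ∈ X, pb Q a y = 0 ∧ g = h.ez a y}
  one_mem' := ⟨0, zero_mem _, by simp, (h.ez_zero a).symm⟩
  mul_mem' := by
    rintro _ _ ⟨y, y1, y2, rfl⟩ ⟨y', y1', y2', rfl⟩
    exact ⟨_, add_mem y1 y1', by simp [y2, y2'], (h.ez_add ha y2 y2').symm⟩
  inv_mem' := by
    rintro _ ⟨y, y1, y2, rfl⟩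
    exact ⟨_, neg_mem y1, by simp [y2], h.ez_inv ha y2⟩

theorem ez_pow {a y : E} (ha : Q a = 0) (hy : pb Q a y = 0) (n : ℕ) : h.ez a y ^ n = h.ez a ((n : F) • y) := by
  induction n with
  | zero => simp [h.ez_zero]
  | succ n ih => rw [pow_succ, ih, Nat.cast_succ, add_smul, one_smul, h.ez_add ha (by simp [hy]) hy]

theorem QG_p {a : E} (ha : Q a = 0) (X : Submodule F E) : IsPGroup (ringChar F) (QG h ha X) := by
  rintro ⟨_, y, -, y2, rfl⟩
  exact ⟨1, Subtype.ext (by simp [ez_pow h ha y2, h.ez_zero])⟩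

theorem ringChar_prime : (ringChar F).Prime := CharP.char_is_prime F _

/-- Non-trivial elements centralising a Sylow subgroup. -/
def Cen (r : ℕ) {G : Type*} [Group G] (z : G) : Prop := z ≠ 1 ∧ ∃ S : Sylow r G, ∀ s ∈ (S : Subgroup G), Commute z s

open Pointwise in
theorem Cen.map {r : ℕ} {G : Type*} [Group G] {z : G} (hz : Cen r z) (φ : MulAut G) : Cen r (φ z) := by
  obtain ⟨z1, S, hS⟩ := hz
  refine ⟨by simpa using z1, φ • S, fun s hs => ?_⟩
  rw [Sylow.pointwise_smul_def, Subgroup.mem_pointwise_smul_iff_inv_smul_mem] at hs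
  simpa using (hS _ hs).map φ

theorem Cen.exists_conj {r : ℕ} [Fact r.Prime] {G : Type*} [Group G] [Finite G] {z : G} (hz : Cen r z)
    {P : Subgroup G} (hP : IsPGroup r P) : ∃ g, ∀ s ∈ P, Commute (g * z * g⁻¹) s := by
  obtain ⟨-, S, hS⟩ := hz
  obtain ⟨S', h1⟩ := hP.exists_le_sylow
  obtain ⟨g, rfl⟩ := MulAction.exists_smul_eq G S S'
  refine ⟨g, fun s hs => ?_⟩
  have := h1 hs
  rw [Sylow.coe_subgroup_smul, Subgroup.mem_pointwise_smul_iff_inv_smul_mem] at this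
  have := (hS _ this).map (MulAut.conj g)
  rwa [← MulAut.smul_def (MulAut.conj g) (_ • s), smul_inv_smul] at this

theorem exists_cen {r : ℕ} [Fact r.Prime] {G : Type*} [Group G] [Finite G] {P : Subgroup G} (hP : IsPGroup r P)
    (h1 : P ≠ ⊥) : ∃ z : G, Cen r z := by
  obtain ⟨S, hS⟩ := hP.exists_le_sylow
  have : Nontrivial (S : Subgroup G) := (Subgroup.nontrivial_iff_ne_bot _).2 fun e => h1 (le_bot_iff.1 (e ▸ hS))
  have := S.isPGroup'.center_nontrivial
  obtain ⟨z, hz⟩ := exists_ne (1 : Subgroup.center (S : Subgroup G))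
  exact ⟨z.1.1, fun e => hz (Subtype.ext (Subtype.ext e)), S, fun s hs =>
    (congrArg Subtype.val (Subgroup.mem_center_iff.1 z.2 ⟨s, hs⟩)).symm⟩

include h in
theorem exists_RP : ∃ a b, RP Q a b := by
  obtain ⟨a, a', hh⟩ := exists_hyp h
  obtain ⟨p, p', -, -, hh', hp, hp', -⟩ := exists_hyp_room h.nd (X := F ∙ a) (by
    have := finrank_inf_oc_le (Q := Q) (F ∙ a)
    have := fr_span (F := F) a
    have := h.big
    omega)
  exact ⟨a, p, .of hh.l hh'.l (mem_oc_span.1 hp) hh.ne fun e => by simpa [hh'.lr] using hp' p e⟩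

theorem rt_of_cen {z : PO Q} (hz : Cen (ringChar F) z) : Rt h z := by
  have := Fact.mk (ringChar_prime (F := F))
  have : Finite (Om Q) := finite_Om
  obtain ⟨a, b, r⟩ := exists_RP h
  have hP : IsPGroup (ringChar F) ↥(QG h r.r (oc Q (F ∙ a)) ⊔ QG h r.l ⊤) :=
    (QG_p h _ _).to_sup_of_normal_right' (QG_p h _ _) (by
      rintro _ ⟨y, y1, y2, rfl⟩
      have e1 : oA Q (h.ez b y) a = a := h.ez_fix r.r y2 r.lr (mem_oc_span.1 y1)
      refine Subgroup.mem_normalizer_fintype ?_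
      rintro _ ⟨x, -, x2, rfl⟩
      exact ⟨oA Q (h.ez b y) x, trivial, by rw [← x2, ← oA_pb (h.ez b y) a x, e1], by rw [← ez_cj, e1]⟩)
  obtain ⟨g, hg⟩ := hz.exists_conj (hP.map (pr Q))
  have := (rt_of_cent h r (hz.map (MulAut.conj g)).1
    (fun y hy => hg _ ⟨_, Subgroup.mem_sup_right ⟨y, trivial, hy, rfl⟩, rfl⟩)
    (fun y hy hy' => hg _ ⟨_, Subgroup.mem_sup_left ⟨y, mem_oc_span.2 hy, hy', rfl⟩, rfl⟩)).conj h g⁻¹
  simpa [mul_assoc] using this

/-- Automorphisms permute the root elements. -/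
theorem Rt.map (h7 : 7 ≤ finrank F E) {z : PO Q} (hz : Rt h z) (φ : MulAut (PO Q)) : Rt h (φ z) := by
  have := Fact.mk (ringChar_prime (F := F))
  have : Finite (Om Q) := finite_Om
  obtain ⟨a, b, r, rfl⟩ := hz
  obtain ⟨z, hz⟩ := exists_cen ((QG_p h r.l ⊤).map (pr Q)) fun e =>
    pr_ez_ne h r ((Subgroup.eq_bot_iff_forall _).1 e _ ⟨_, ⟨b, trivial, r.lr, rfl⟩, rfl⟩)
  obtain ⟨c, d, r', rfl⟩ := rt_of_cen h hz
  obtain ⟨g, g1, g2⟩ := h.witt_two h7 r'.ne r'.nm r.ne r.nm (by rw [r.l, r'.l]) (by rw [r.r, r'.r])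
    (by rw [r.lr, r'.lr])
  have := (rt_of_cen h (hz.map φ)).conj h (φ (pr Q g))
  rwa [← map_inv, ← map_mul, ← map_mul, ← map_inv, ← map_mul, ← map_mul, ← ez_cj, g1, g2] at this

end Cfsg.Agent.H2.BO
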