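import Cfsg.Agent.H2.BO1

/-! Automorphisms of orthogonal groups, II: lines and points. -/

set_option autoImplicit false
set_option linter.unusedSectionVars false

namespace Cfsg.Agent.H2.BO

open Module Cfsg.Agent.H1 Cfsg.Agent.H6 Cfsg.Agent.H7 Cfsg.Agent.H2.TO

variable {F : Type*} [Field F] [Fintype F] {E : Type*} [AddCommGroup E] [Module F E] [FiniteDimensional F E]
  [Fintype E] {Q : QuadraticForm F E} (h : OH Q)

theorem ml (a b : E) : a ∈ (F ∙ a) ⊔ (F ∙ b) := mem_two.2 ⟨1, 0, by simp⟩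
theorem mr (a b : E) : b ∈ (F ∙ a) ⊔ (F ∙ b) := mem_two.2 ⟨0, 1, by simp⟩

theorem two_le {a b : E} {L : Submodule F E} (ha : a ∈ L) (hb : b ∈ L) : (F ∙ a) ⊔ (F ∙ b) ≤ L :=
  sup_le ((Submodule.span_singleton_le_iff_mem _ _).2 ha) ((Submodule.span_singleton_le_iff_mem _ _).2 hb)

/-- `L` is the line of the root element `z`. -/
def Ln (z : PO Q) (L : Submodule F E) : Prop :=
  ∃ a b, RP Q a b ∧ z = pr Q (h.ez a b) ∧ L = (F ∙ a) ⊔ F ∙ b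

variable {h}

theorem Rt.ln {z : PO Q} (hz : Rt h z) : ∃ L, Ln h z L := let ⟨a, b, r, e⟩ := hz; ⟨_, a, b, r, e, rfl⟩

theorem Ln.rt {z : PO Q} {L : Submodule F E} (hz : Ln h z L) : Rt h z := let ⟨a, b, r, e, _⟩ := hz; ⟨a, b, r, e⟩

theorem Ln.sing {z : PO Q} {L : Submodule F E} (hz : Ln h z L) {x : E} (hx : x ∈ L) : Q x = 0 := by
  obtain ⟨a, b, r, -, rfl⟩ := hz
  obtain ⟨s, t, rfl⟩ := mem_two.1 hx
  simp [Q_add, Q_smul, r.l, r.r, r.lr]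

theorem Ln.perp {z : PO Q} {L : Submodule F E} (hz : Ln h z L) {x y : E} (hx : x ∈ L) (hy : y ∈ L) :
    pb Q x y = 0 := by
  rw [pb_def, hz.sing hx, hz.sing hy, hz.sing (add_mem hx hy)]; ring

theorem root_apply {a b : E} (ha : Q a = 0) (hb : Q b = 0) (hab : pb Q a b = 0) (x : E) :
    oA Q (h.ez a b) x = x + pb Q x b • a - pb Q x a • b := by
  rw [h.ez_apply ha hab, hb, zero_smul, add_zero]

theorem Ln.base {z : PO Q} {L : Submodule F E} (hz : Ln h z L) {u : E} (hu : u ∈ L) (u0 : u ≠ 0) :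
    ∃ y, RP Q u y ∧ z = pr Q (h.ez u y) ∧ L = (F ∙ u) ⊔ F ∙ y := by
  have key : ∀ {a b : E} (s t : F), RP Q a b → s ≠ 0 → ∃ y, RP Q (s • a + t • b) y ∧
      h.ez a b = h.ez (s • a + t • b) y ∧ (F ∙ a) ⊔ (F ∙ b) = (F ∙ (s • a + t • b)) ⊔ F ∙ y := fun {a b} s t r s0 => by
    have r' : RP Q (s • a + t • b) (s⁻¹ • b) := ⟨by simp [Q_add, Q_smul, r.l, r.r, r.lr], by simp [Q_smul, r.r],
      by simp [r.lr, r.rr], fun s' t' e => by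
        have := r.ind (s' * s) (s' * t + t' * s⁻¹) (by linear_combination (norm := module) e)
        have k : s' = 0 := (mul_eq_zero.1 this.1).resolve_right s0
        simpa [k, s0] using this.2⟩
    refine ⟨_, r', om_ext fun x => ?_, le_antisymm (two_le (mem_two.2 ⟨s⁻¹, -t, ?_⟩) (mem_two.2 ⟨0, s, ?_⟩))
      (two_le (mem_two.2 ⟨s, t, rfl⟩) (mem_two.2 ⟨0, s⁻¹, by simp⟩))⟩
    · rw [root_apply r.l r.r r.lr, root_apply r'.l r'.r r'.lr]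
      simp only [map_add, map_smul, smul_eq_mul]
      match_scalars <;> field_simp <;> ring
    · match_scalars <;> field_simp <;> ring
    · simp [smul_smul, s0]
  obtain ⟨a, b, r, rfl, rfl⟩ := hz
  obtain ⟨s, t, rfl⟩ := mem_two.1 hu
  by_cases s0 : s = 0
  · have t0 : t ≠ 0 := by rintro rfl; simp [s0] at u0
    have r' : RP Q b (-a) := ⟨r.r, by rw [Q_neg, r.l], by simp [r.rl], fun s' t' e => by
      simpa [and_comm] using r.ind (-t') s' (by linear_combination (norm := module) e)⟩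
    obtain ⟨y, k1, k2, k3⟩ := key t 0 r' t0
    rw [show t • b + (0 : F) • (-a) = s • a + t • b by simp [s0]] at k1 k2 k3
    exact ⟨y, k1, by rw [← k2, ← h.ez_swap r.l r.lr r.r], by
      rw [← k3, sup_comm, ← neg_one_smul F a, Submodule.span_singleton_smul_eq (by simp)]⟩
  · obtain ⟨y, k1, k2, k3⟩ := key s t r s0
    exact ⟨y, k1, by rw [k2], k3⟩

theorem Ln.le {z : PO Q} {L : Submodule F E} (hz : Ln h z L) {l m : E} (hl : l ∈ L) (hm : m ∈ L) (l0 : l ≠ 0)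
    (lm : m ∉ F ∙ l) : L = (F ∙ l) ⊔ F ∙ m := by
  obtain ⟨y, -, -, rfl⟩ := hz.base hl l0
  obtain ⟨s, t, rfl⟩ := mem_two.1 hm
  have t0 : t ≠ 0 := by rintro rfl; exact lm (mem_sp.2 ⟨s, by simp⟩)
  refine le_antisymm (two_le (ml _ _) (mem_two.2 ⟨-s / t, t⁻¹, ?_⟩)) (two_le hl hm)
  match_scalars <;> field_simp <;> ring

/-- Collinearity of root elements. -/
def Cl (h : OH Q) (z y : PO Q) : Prop := Rt h (z * y) ∨ z * y = 1

theorem Cl.map (h7 : 7 ≤ finrank F E) {z y : PO Q} (k : Cl h z y) (φ : MulAut (PO Q)) : Cl h (φ z) (φ y) :=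
  k.imp (fun k => map_mul φ z y ▸ k.map h h7 φ) fun k => by rw [← map_mul, k, map_one]

theorem cl_map_iff (h7 : 7 ≤ finrank F E) {z y : PO Q} (φ : MulAut (PO Q)) : Cl h (φ z) (φ y) ↔ Cl h z y :=
  ⟨fun k => by simpa using k.map h7 φ⁻¹, fun k => k.map h7 φ⟩

theorem cl_of {z y : PO Q} {L M : Submodule F E} (hz : Ln h z L) (hy : Ln h y M) (k1 : L ⊓ M ≠ ⊥)
    (k2 : L ≤ oc Q M) : Cl h z y := by
  obtain ⟨u, hu, u0⟩ := Submodule.exists_mem_ne_zero_of_ne_bot k1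
  obtain ⟨a, ra, rfl, rfl⟩ := hz.base hu.1 u0
  obtain ⟨b, rb, rfl, rfl⟩ := hy.base hu.2 u0
  rw [Cl, ← map_mul, ← h.ez_add ra.l ra.lr rb.lr]
  by_cases k : a + b ∈ F ∙ u
  · obtain ⟨c, e⟩ := mem_sp.1 k
    exact .inr (by rw [e, h.ez_self, map_one])
  · exact .inl ⟨u, a + b, .of ra.l (by rw [Q_add, ra.r, rb.r, pb_comm, k2 (mr _ _) b (mr _ _)]; ring)
      (by simp [ra.lr, rb.lr]) u0 k, rfl⟩

theorem Cl.geom (h7 : 7 ≤ finrank F E) {z y : PO Q} {L M : Submodule F E} (k : Cl h z y) (hz : Ln h z L)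
    (hy : Ln h y M) : L ⊓ M ≠ ⊥ ∧ L ≤ oc Q M := by
  obtain ⟨e, f, e0, f0, ef, k⟩ : ∃ e f, Q e = 0 ∧ Q f = 0 ∧ pb Q e f = 0 ∧ z * y = pr Q (h.ez e f) :=
    k.elim (fun ⟨e, f, r, k⟩ => ⟨e, f, r.l, r.r, r.lr, k⟩) fun k => ⟨0, 0, by simp, by simp, by simp, by
      rw [k, h.ez_zero, map_one]⟩
  have k1 : L ⊓ M ≠ ⊥ := fun k1 => by
    obtain ⟨a, b, r, rfl, rfl⟩ := hz
    obtain ⟨c, d, r', rfl, rfl⟩ := hy
    have f1 := fr_two (F := F) a b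
    have f2 := fr_two (F := F) c d
    have f3 := fr_two (F := F) e f
    have f4 := Submodule.finrank_add_le_finrank_add_finrank ((F ∙ a) ⊔ F ∙ b) ((F ∙ c) ⊔ F ∙ d)
    have f5 := Submodule.finrank_add_le_finrank_add_finrank (((F ∙ a) ⊔ F ∙ b) ⊔ ((F ∙ c) ⊔ F ∙ d))
      ((F ∙ e) ⊔ F ∙ f)
    have k2 := eq_of_pr h ((map_mul _ _ _).trans k)
      (X := (((F ∙ a) ⊔ F ∙ b) ⊔ ((F ∙ c) ⊔ F ∙ d)) ⊔ ((F ∙ e) ⊔ F ∙ f)) (by omega)
      (fun x hx => by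
        rw [mem_oc_sup, mem_oc_sup] at hx
        rw [act_mul_apply, ez_fix' h r'.l r'.lr hx.1.2, ez_fix' h r.l r.lr hx.1.1])
      fun x hx => ez_fix' h e0 ef (mem_oc_sup.1 hx).2
    have k3 : ∀ x ∈ oc Q ((F ∙ e) ⊔ F ∙ f), (pb Q a x = 0 ∧ pb Q b x = 0) ∧ pb Q c x = 0 := fun x hx => by
      have e1 := ez_fix' h e0 ef hx
      rw [← k2, act_mul_apply] at e1
      have e2 := congrArg (oA Q (h.ez a b)⁻¹) e1
      rw [act_inv_apply, h.ez_inv r.l r.lr, root_apply r'.l r'.r r'.lr,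
        root_apply r.l (by rw [Q_neg, r.r]) (by simp [r.lr])] at e2
      have e3 : pb Q x d • c + (-pb Q x c) • d ∈ ((F ∙ a) ⊔ F ∙ b) ⊓ ((F ∙ c) ⊔ F ∙ d) :=
        ⟨mem_two.2 ⟨-pb Q x b, pb Q x a, by
          rw [map_neg] at e2; linear_combination (norm := module) e2⟩, mem_two.2 ⟨_, _, rfl⟩⟩
      rw [k1, Submodule.mem_bot] at e3
      have e4 := r'.ind _ _ e3
      have e5 := r.ind (-pb Q x b) (pb Q x a) (by rw [map_neg] at e2; linear_combination (norm := module) e3 - e2)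
      simp only [neg_eq_zero] at e4 e5
      simp only [pb_comm Q _ x]
      exact ⟨⟨e5.2, e5.1⟩, e4.2⟩
    have ha := mem_of_oc_oc h.nd fun x hx => (k3 x hx).1.1
    have hb := mem_of_oc_oc h.nd fun x hx => (k3 x hx).1.2
    have hc := mem_of_oc_oc h.nd fun x hx => (k3 x hx).2
    have f6 : finrank F ↥((F ∙ a) ⊔ (F ∙ b) ⊔ F ∙ c) = 3 := by
      rw [Submodule.finrank_sup_span_singleton, Submodule.finrank_sup_span_singleton r.nm, finrank_span_singleton r.ne]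
      intro m
      exact r'.ne ((Submodule.eq_bot_iff _).1 k1 c ⟨m, ml _ _⟩)
    have := Submodule.finrank_mono (sup_le (two_le ha hb) ((Submodule.span_singleton_le_iff_mem _ _).2 hc))
    omega
  refine ⟨k1, ?_⟩
  obtain ⟨u, hu, u0⟩ := Submodule.exists_mem_ne_zero_of_ne_bot k1
  obtain ⟨a, ra, rfl, rfl⟩ := hz.base hu.1 u0
  obtain ⟨b, rb, rfl, rfl⟩ := hy.base hu.2 u0
  rw [← map_mul, ← h.ez_add ra.l ra.lr rb.lr] at k
  have w0 : pb Q u (a + b) = 0 := by simp [ra.lr, rb.lr]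
  have k2 := ez_of_pr h ra.l w0 e0 ef k
  obtain ⟨u', -, hh⟩ := exists_hyp_oc h.nd (X := ⊥) (mem_oc_bot u) (by simpa using u0) ra.l
  have e1 := congrArg (fun g => oA Q g u') k2
  simp only [h.ez_apply ra.l w0, root_apply e0 f0 ef, hh.rl, one_smul] at e1
  have e2 : a + b = (pb Q u' (a + b) - Q (a + b)) • u - (pb Q u' f • e - pb Q u' e • f) := by
    linear_combination (norm := module) -e1
  have e3 : (a + b) - (pb Q u' (a + b) - Q (a + b)) • u = pb Q u' e • f - pb Q u' f • e := by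
    linear_combination (norm := module) e2
  have e4 := congrArg Q e3
  rw [Q_sub, Q_sub, Q_smul, Q_smul, Q_smul, ra.l, e0, f0, map_smul, pb_comm Q _ u, w0] at e4
  simp only [map_smul, LinearMap.smul_apply, pb_comm Q f e, ef, Q_add, ra.r, rb.r] at e4
  have ab : pb Q a b = 0 := by simpa using e4
  refine two_le ?_ ?_ <;> rw [mem_oc_sup, mem_oc_span, mem_oc_span]
  · exact ⟨ra.ll, rb.rl⟩
  · exact ⟨ra.lr, by rw [pb_comm, ab]⟩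

/-- The hypothesis excluding triality. -/
def HW (Q : QuadraticForm F E) : Prop :=
  (∀ a b c d, RP Q a b → RP Q c d → (F ∙ a) ⊔ (F ∙ b) ≤ oc Q ((F ∙ c) ⊔ F ∙ d) →
    ((F ∙ a) ⊔ F ∙ b) ⊓ ((F ∙ c) ⊔ F ∙ d) ≠ ⊥) ∨ 9 ≤ finrank F E

theorem nbr {y z n : PO Q} {L M N : Submodule F E} (h7 : 7 ≤ finrank F E) (hy : Ln h y L) (hz : Ln h z M)
    (hn : Ln h n N) (k : L ⊓ M = ⊥) (k1 : Cl h y n) (k2 : Cl h z n) :
    ∃ l ∈ L, ∃ m ∈ M, l ≠ 0 ∧ m ≠ 0 ∧ N = (F ∙ l) ⊔ (F ∙ m) ∧ L ≤ oc Q N ∧ M ≤ oc Q N := by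
  obtain ⟨g1, g2⟩ := k1.geom h7 hy hn
  obtain ⟨g3, g4⟩ := k2.geom h7 hz hn
  obtain ⟨l, hl, l0⟩ := Submodule.exists_mem_ne_zero_of_ne_bot g1
  obtain ⟨m, hm, m0⟩ := Submodule.exists_mem_ne_zero_of_ne_bot g3
  exact ⟨l, hl.1, m, hm.1, l0, m0, hn.le hl.2 hm.2 l0 fun e => m0 ((Submodule.eq_bot_iff _).1 k m
    ⟨(Submodule.span_singleton_le_iff_mem _ _).2 hl.1 e, hm.1⟩), g2, g4⟩

theorem nbr_disj {y z n n' : PO Q} {L M N N' : Submodule F E} (h7 : 7 ≤ finrank F E) (hy : Ln h y L) (hz : Ln h z M)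
    (hn : Ln h n N) (hn' : Ln h n' N') (k : L ⊓ M = ⊥) (k1 : Cl h y n) (k2 : Cl h z n) (k3 : Cl h y n')
    (k4 : Cl h z n') (k5 : ¬ Cl h n n') : N ≤ oc Q N' ∧ N ⊓ N' = ⊥ := by
  obtain ⟨l, hl, m, hm, -, -, rfl, -, -⟩ := nbr h7 hy hz hn k k1 k2
  obtain ⟨-, -, -, -, -, -, -, g1, g2⟩ := nbr h7 hy hz hn' k k3 k4
  have := two_le (g1 hl) (g2 hm)
  exact ⟨this, by_contra fun e => k5 (cl_of hn hn' e this)⟩

theorem nbr_mem {y z n' : PO Q} {L M N' : Submodule F E} (h7 : 7 ≤ finrank F E) (hy : Ln h y L) (hz : Ln h z M)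
    (hn' : Ln h n' N') (k : L ⊓ M = ⊥) (k3 : Cl h y n') (k4 : Cl h z n') {l m : E} (hl : l ∈ L) (hm : m ∈ M)
    (k5 : N' ⊓ ((F ∙ l) ⊔ F ∙ m) ≠ ⊥) : l ∈ N' ∨ m ∈ N' := by
  obtain ⟨l', hl', m', hm', -, -, rfl, -, -⟩ := nbr h7 hy hz hn' k k3 k4
  obtain ⟨x, ⟨x1, x2⟩, x0⟩ := Submodule.exists_mem_ne_zero_of_ne_bot k5
  obtain ⟨s, t, rfl⟩ := mem_two.1 x2
  obtain ⟨s', t', e⟩ := mem_two.1 x1
  have e1 : s • l - s' • l' = 0 := (Submodule.eq_bot_iff _).1 k _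
    ⟨sub_mem (L.smul_mem _ hl) (L.smul_mem _ hl'), by
      rw [show s • l - s' • l' = t' • m' - t • m by linear_combination (norm := module) e]
      exact sub_mem (M.smul_mem _ hm') (M.smul_mem _ hm)⟩
  by_cases s0 : s = 0
  · have t0 : t ≠ 0 := by rintro rfl; simp [s0] at x0
    refine .inr ((Submodule.smul_mem_iff _ t0).1 ?_)
    simpa [s0] using x1
  · exact .inl ((Submodule.smul_mem_iff _ s0).1 (mem_two.2 ⟨s', 0, by linear_combination (norm := module) e1⟩))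

theorem ln_u {u c : E} (r : RP Q u c) : Ln h (pr Q (h.ez u c)) ((F ∙ u) ⊔ F ∙ c) := ⟨u, c, r, rfl, rfl⟩

theorem meet_u {u : E} (u0 : u ≠ 0) (a b : E) : ((F ∙ u) ⊔ F ∙ a) ⊓ ((F ∙ u) ⊔ F ∙ b) ≠ ⊥ := fun e =>
  u0 ((Submodule.eq_bot_iff _).1 e u ⟨ml _ _, ml _ _⟩)

theorem cl_u (h7 : 7 ≤ finrank F E) {u a b : E} (ra : RP Q u a) (rb : RP Q u b) :
    Cl h (pr Q (h.ez u a)) (pr Q (h.ez u b)) ↔ pb Q a b = 0 :=
  ⟨fun k => by rw [pb_comm]; exact (k.geom h7 (ln_u ra) (ln_u rb)).2 (mr _ _) b (mr _ _), fun k =>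
    cl_of (ln_u ra) (ln_u rb) (meet_u ra.ne _ _) (by
      refine two_le ?_ ?_ <;> rw [mem_oc_sup, mem_oc_span, mem_oc_span]
      · exact ⟨ra.ll, rb.rl⟩
      · exact ⟨ra.lr, by rw [pb_comm, k]⟩)⟩

/-- Automorphisms preserve the intersection of lines. -/
theorem meet_map (h7 : 7 ≤ finrank F E) (hW : HW Q) (φ : MulAut (PO Q)) {u a b : E} (ra : RP Q u a)
    (rb : RP Q u b) {L M : Submodule F E} (hL : Ln h (φ (pr Q (h.ez u a))) L) (hM : Ln h (φ (pr Q (h.ez u b))) M) :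
    L ⊓ M ≠ ⊥ := fun k => by
  by_cases ab : pb Q a b = 0
  · exact ((((cl_u h7 ra rb).2 ab).map h7 φ).geom h7 hL hM).1 k
  obtain ⟨X, hX⟩ : ∃ X, X = (F ∙ u) ⊔ (F ∙ a) ⊔ F ∙ b := ⟨_, rfl⟩
  have fX : finrank F X ≤ 3 := by
    have := finrank_sup_span_le ((F ∙ u) ⊔ F ∙ a) b
    have := fr_two (F := F) u a
    rw [hX]; omega
  have mX : ∀ {x}, x ∈ oc Q X ↔ (pb Q u x = 0 ∧ pb Q a x = 0) ∧ pb Q b x = 0 := by
    intro x; rw [hX, mem_oc_sup, mem_oc_sup, mem_oc_span, mem_oc_span, mem_oc_span]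
  have uX : u ∈ X := hX ▸ Submodule.mem_sup_left (ml _ _)
  have rad : ∀ c ∈ oc Q X, (X ⊔ F ∙ c) ⊓ oc Q (X ⊔ F ∙ c) ≤ (F ∙ u) ⊔ F ∙ c := fun c hc x hx => by
    obtain ⟨x1, x2⟩ := hx
    rw [SetLike.mem_coe, mem_oc_sup, mX] at x2
    obtain ⟨y, hy, y', hy', rfl⟩ := Submodule.mem_sup.1 x1
    rw [hX] at hy
    obtain ⟨y1, hy1, y2, hy2, rfl⟩ := Submodule.mem_sup.1 hy
    obtain ⟨s, t, rfl⟩ := mem_two.1 hy1
    obtain ⟨v, rfl⟩ := mem_sp.1 hy2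
    obtain ⟨w, rfl⟩ := mem_sp.1 hy'
    have e1 := x2.1.1.2
    have e2 := x2.1.2
    simp [ra.rl, ra.rr, rb.rl, rb.rr, (mX.1 hc).1.2, (mX.1 hc).2, ab, pb_comm Q b a] at e1 e2
    exact mem_two.2 ⟨s, w, by simp [e1, e2]⟩
  have nb : ∀ {c}, c ∈ oc Q X → c ∉ F ∙ u → Q c = 0 → RP Q u c ∧ ∃ N, Ln h (φ (pr Q (h.ez u c))) N ∧
      Cl h (φ (pr Q (h.ez u a))) (φ (pr Q (h.ez u c))) ∧ Cl h (φ (pr Q (h.ez u b))) (φ (pr Q (h.ez u c))) :=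
    fun {c} h1 h2 h3 => by
      have r := RP.of ra.l h3 (mX.1 h1).1.1 ra.ne h2
      obtain ⟨N, hN⟩ := ((ln_u (h := h) r).rt.map h h7 φ).ln
      exact ⟨r, N, hN, ((cl_u h7 ra r).2 (mX.1 h1).1.2).map h7 φ, ((cl_u h7 rb r).2 (mX.1 h1).2).map h7 φ⟩
  have nu : ∀ {c c'}, c' ∈ oc Q X → pb Q c c' ≠ 0 → c ∉ F ∙ u := fun h1 h2 e =>
    h2 (h1 _ ((Submodule.span_singleton_le_iff_mem _ _).2 uX e))
  rcases hW with hW | hW
  · obtain ⟨p, p', -, -, hh, hp, hp', -⟩ := exists_hyp_room h.nd (X := X) (by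
      have := Submodule.finrank_mono (rad 0 (zero_mem _))
      rw [Submodule.span_zero_singleton, sup_bot_eq, sup_bot_eq] at this
      have := fr_span (F := F) u
      omega)
    obtain ⟨r1, N1, n1, c1, d1⟩ := nb hp (nu hp' (by simp [hh.lr])) hh.l
    obtain ⟨r2, N2, n2, c2, d2⟩ := nb hp' (nu hp (by simp [hh.rl])) hh.r
    obtain ⟨g1, g2⟩ := nbr_disj h7 hL hM n1 n2 k c1 d1 c2 d2 (by simp [cl_map_iff h7, cl_u h7 r1 r2, hh.lr])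
    obtain ⟨_, _, s1, -, rfl⟩ := n1
    obtain ⟨_, _, s2, -, rfl⟩ := n2
    exact hW _ _ _ _ s1 s2 g1 g2
  · have f1 := finrank_oc h.nd X
    have f2 := fr_span (F := F) u
    obtain ⟨c, hc, cu, c0⟩ := exists_sing_not_mem Q (Y := oc Q X) (R := F ∙ u)
      ((Submodule.span_singleton_le_iff_mem _ _).2 (mX.2 ⟨⟨ra.ll, ra.rl⟩, rb.rl⟩)) (by omega)
    obtain ⟨p, p', e, e', hh, hp, hp', he, he', k1, k2, k3, k4, k5⟩ := exists_hyp_room h.nd (X := X ⊔ F ∙ c) (by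
      have := Submodule.finrank_mono (rad c hc)
      have := fr_two (F := F) u c
      have := finrank_sup_span_le X c
      omega)
    obtain ⟨w, hw, w0⟩ := exists_nonsing_of_pair (Q := Q) (Y := H1.hc Q (oc Q (X ⊔ F ∙ c)) p p')
      (mem_hc.2 ⟨he, k1, k2⟩) (mem_hc.2 ⟨he', k3, k4⟩) (by simp [k5])
    have q3 := hh.Q_comb hw 1 (-Q w)
    obtain ⟨w1, w2, w3⟩ := mem_hc.1 hw
    obtain ⟨p3, hp3⟩ : ∃ p3, p3 = (1 : F) • p + (-Q w) • p' + w := ⟨_, rfl⟩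
    have m3 : p3 ∈ oc Q (X ⊔ F ∙ c) := hp3 ▸ add_mem (add_mem (Submodule.smul_mem _ _ hp)
      (Submodule.smul_mem _ _ hp')) w1
    have b13 : pb Q p p3 ≠ 0 := by simp [hp3, hh.ll, hh.lr, w2, w0]
    have b23 : pb Q p' p3 ≠ 0 := by simp [hp3, hh.rl, hh.rr, w3]
    rw [← hp3] at q3
    rw [mem_oc_sup, mem_oc_span] at hp hp' m3
    obtain ⟨r0, N0, n0, c0, d0⟩ := nb hc cu c0
    obtain ⟨r1, N1, n1, c1, d1⟩ := nb hp.1 (nu hp'.1 (by simp [hh.lr])) hh.l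
    obtain ⟨r2, N2, n2, c2, d2⟩ := nb hp'.1 (nu hp.1 (by simp [hh.rl])) hh.r
    obtain ⟨r3, N3, n3, c3, d3⟩ := nb m3.1 (nu hp.1 (by rwa [pb_comm])) (by rw [q3]; ring)
    have g12 := (nbr_disj h7 hL hM n1 n2 k c1 d1 c2 d2 (by simp [cl_map_iff h7, cl_u h7 r1 r2, hh.lr])).2
    have g13 := (nbr_disj h7 hL hM n1 n3 k c1 d1 c3 d3 (by simp [cl_map_iff h7, cl_u h7 r1 r3, b13])).2
    have g23 := (nbr_disj h7 hL hM n2 n3 k c2 d2 c3 d3 (by simp [cl_map_iff h7, cl_u h7 r2 r3, b23])).2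
    obtain ⟨l, hl, m, hm, l0, m0, rfl, -, -⟩ := nbr h7 hL hM n0 k c0 d0
    have t1 := nbr_mem h7 hL hM n1 k c1 d1 hl hm
      ((((cl_u h7 r1 r0).2 (by rw [pb_comm, hp.2])).map h7 φ).geom h7 n1 n0).1
    have t2 := nbr_mem h7 hL hM n2 k c2 d2 hl hm
      ((((cl_u h7 r2 r0).2 (by rw [pb_comm, hp'.2])).map h7 φ).geom h7 n2 n0).1
    have t3 := nbr_mem h7 hL hM n3 k c3 d3 hl hm
      ((((cl_u h7 r3 r0).2 (by rw [pb_comm, m3.2])).map h7 φ).geom h7 n3 n0).1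
    rw [Submodule.eq_bot_iff] at g12 g13 g23
    rcases t1 with t1 | t1 <;> rcases t2 with t2 | t2 <;> rcases t3 with t3 | t3
    exacts [l0 (g12 _ ⟨t1, t2⟩), l0 (g12 _ ⟨t1, t2⟩), l0 (g13 _ ⟨t1, t3⟩), m0 (g23 _ ⟨t2, t3⟩),
      l0 (g23 _ ⟨t2, t3⟩), m0 (g13 _ ⟨t1, t3⟩), m0 (g12 _ ⟨t1, t2⟩), m0 (g12 _ ⟨t1, t2⟩)]

end Cfsg.Agent.H2.BO
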