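import Cfsg.Agent.H2.BO2

/-! Automorphisms of orthogonal groups, III: they are induced by semilinear similarities. -/

set_option autoImplicit false
set_option linter.unusedSectionVars false

namespace Cfsg.Agent.H2.BO

open Module Cfsg.Agent.H1 Cfsg.Agent.H6 Cfsg.Agent.H7 Cfsg.Agent.H2.TO

variable {F : Type*} [Field F] [Fintype F] {E : Type*} [AddCommGroup E] [Module F E] [FiniteDimensional F E]
  [Fintype E] {Q : QuadraticForm F E} (h : OH Q)

/-- The automorphism `φ` sends the point `u` to the point `u'`. -/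
structure Pt (φ : MulAut (PO Q)) (u u' : E) : Prop where
  q : Q u = 0
  ne : u ≠ 0
  q' : Q u' = 0
  ne' : u' ≠ 0
  im : ∀ y, pb Q u y = 0 → ∃ y', pb Q u' y' = 0 ∧ φ (pr Q (h.ez u y)) = pr Q (h.ez u' y')

variable {h} {φ : MulAut (PO Q)} {u u' t t' : E}

theorem Pt.smul (k : Pt h φ u u') {c c' : F} (c0 : c ≠ 0) (c0' : c' ≠ 0) : Pt h φ (c • u) (c' • u') :=
  ⟨by simp [Q_smul, k.q], smul_ne_zero c0 k.ne, by simp [Q_smul, k.q'], smul_ne_zero c0' k.ne', fun y hy => by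
    have hy' : pb Q u y = 0 := by simpa [c0] using hy
    obtain ⟨y', k1, k2⟩ := k.im (c • y) (by simp [hy'])
    exact ⟨c'⁻¹ • y', by simp [k1], by
      rw [h.ez_smul k.q hy', k2, h.ez_smul k.q' (by simp [k1]), smul_smul, mul_inv_cancel₀ c0', one_smul]⟩⟩

theorem Pt.left (k : Pt h φ u u') (ht : t ∈ F ∙ u) (t0 : t ≠ 0) : Pt h φ t u' := by
  obtain ⟨c, rfl⟩ := mem_sp.1 ht
  simpa using k.smul (left_ne_zero_of_smul t0) one_ne_zero

theorem Pt.right (k : Pt h φ u u') (ht : t ∈ F ∙ u') (t0 : t ≠ 0) : Pt h φ u t := by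
  obtain ⟨c, rfl⟩ := mem_sp.1 ht
  simpa using k.smul one_ne_zero (left_ne_zero_of_smul t0)

theorem Pt.map (k : Pt h φ u u') {g g' : Om Q} (e : φ (pr Q g) = pr Q g') : Pt h φ (oA Q g u) (oA Q g' u') :=
  ⟨by rw [oA_Q, k.q], fun e => k.ne (oA_inj g (by rw [e, map_zero])), by rw [oA_Q, k.q'],
    fun e => k.ne' (oA_inj g' (by rw [e, map_zero])), fun y hy => by
    obtain ⟨y', k1, k2⟩ := k.im (oA Q g⁻¹ y) (by rw [← hy, ← oA_pb g u, act_apply_inv])
    refine ⟨oA Q g' y', by rw [oA_pb, k1], ?_⟩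
    rw [← act_apply_inv (oA Q) g y, ez_cj, ez_cj]
    simp only [map_mul, map_inv, e, k2]⟩

/-- All the hypotheses. -/
structure HA (Q : QuadraticForm F E) : Prop where
  seven : 7 ≤ finrank F E
  hw : HW Q

variable (H : HA Q)
include H

theorem exists_pt (h : OH Q) (φ : MulAut (PO Q)) (hu : Q u = 0) (u0 : u ≠ 0) : ∃ u', Pt h φ u u' := by
  have h7 := H.seven
  obtain ⟨a, b, -, -, hh, ha, hb, -⟩ := exists_hyp_room h.nd (X := F ∙ u) (by
    have := finrank_inf_oc_le (Q := Q) (F ∙ u)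
    have := fr_span (F := F) u
    omega)
  have ra : RP Q u a := .of hu hh.l (mem_oc_span.1 ha) u0 fun e => by simpa [hh.lr] using hb a e
  have rb : RP Q u b := .of hu hh.r (mem_oc_span.1 hb) u0 fun e => by simpa [hh.rl] using ha b e
  obtain ⟨L, hL⟩ := ((ln_u (h := h) ra).rt.map h h7 φ).ln
  obtain ⟨M, hM⟩ := ((ln_u (h := h) rb).rt.map h h7 φ).ln
  have m0 := meet_map h7 H.hw φ ra rb hL hM
  obtain ⟨u', hu', u0'⟩ := Submodule.exists_mem_ne_zero_of_ne_bot m0
  have q' := hL.sing hu'.1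
  refine ⟨u', hu, u0, q', u0', fun y hy => ?_⟩
  let S : AddSubgroup E :=
    { carrier := {y | pb Q u y = 0 ∧ ∃ y', pb Q u' y' = 0 ∧ φ (pr Q (h.ez u y)) = pr Q (h.ez u' y')}
      zero_mem' := ⟨by simp, 0, by simp, by simp [h.ez_zero]⟩
      add_mem' := by
        rintro x y ⟨x0, x', x1, x2⟩ ⟨y0, y', y1, y2⟩
        exact ⟨by simp [x0, y0], x' + y', by simp [x1, y1], by
          rw [h.ez_add hu x0 y0, h.ez_add q' x1 y1, map_mul, map_mul, map_mul, x2, y2]⟩
      neg_mem' := by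
        rintro x ⟨x0, x', x1, x2⟩
        exact ⟨by simp [x0], -x', by simp [x1], by
          rw [← h.ez_inv hu x0, ← h.ez_inv q' x1, map_inv, map_inv, map_inv, x2]⟩ }
  refine (sing_ind hh ha hb S (fun c hc c0 => ?_) (mem_oc_span.2 hy)).2
  refine ⟨mem_oc_span.1 hc, ?_⟩
  by_cases cu : c ∈ F ∙ u
  · obtain ⟨s, rfl⟩ := mem_sp.1 cu
    exact ⟨0, by simp, by simp [h.ez_zero, h.ez_self]⟩
  have rc := RP.of hu c0 (mem_oc_span.1 hc) u0 cu
  obtain ⟨N, hN⟩ := ((ln_u (h := h) rc).rt.map h h7 φ).ln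
  have : u' ∈ N := by
    by_contra k
    obtain ⟨l, hl, l0⟩ := Submodule.exists_mem_ne_zero_of_ne_bot (meet_map h7 H.hw φ ra rc hL hN)
    obtain ⟨m, hm, m0'⟩ := Submodule.exists_mem_ne_zero_of_ne_bot (meet_map h7 H.hw φ rb rc hM hN)
    have e1 := hL.le hl.1 hu'.1 l0 fun e => k ((Submodule.span_singleton_le_iff_mem _ _).2 hl.2 e)
    have e2 := hM.le hm.1 hu'.2 m0' fun e => k ((Submodule.span_singleton_le_iff_mem _ _).2 hm.2 e)
    have := cl_of hL hM m0 (by
      rw [e1, e2]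
      refine two_le ?_ ?_ <;> rw [mem_oc_sup, mem_oc_span, mem_oc_span]
      · exact ⟨hN.perp hm.2 hl.2, hL.perp hu'.1 hl.1⟩
      · exact ⟨hM.perp hm.1 hu'.2, pb_sing q'⟩)
    simp [cl_map_iff h7, cl_u h7 ra rb, hh.lr] at this
  obtain ⟨y', r, e, -⟩ := hN.base this u0'
  exact ⟨y', r.lr, e⟩

theorem Pt.symm (k : Pt h φ u u') : Pt h φ⁻¹ u' u := by
  obtain ⟨v, kv⟩ := exists_pt H h φ⁻¹ k.q' k.ne'
  have := span_of_ez h k.q k.ne kv.q' fun y hy => by
    obtain ⟨y', k1, k2⟩ := k.im y hy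
    obtain ⟨y'', k3, k4⟩ := kv.im y' k1
    exact ⟨y'', k3, ez_of_pr h k.q hy kv.q' k3 (by rw [← k4, ← k2]; simp)⟩
  obtain ⟨c, rfl⟩ := mem_sp.1 this
  have c0 := left_ne_zero_of_smul kv.ne'
  simpa [smul_smul, c0] using kv.smul one_ne_zero (inv_ne_zero c0)

theorem Pt.uniq (k : Pt h φ u u') (k' : Pt h φ u t') : t' ∈ F ∙ u' :=
  span_of_ez h k.q' k.ne' k'.q' fun y hy => by
    obtain ⟨y', k1, k2⟩ := (k.symm H).im y hy
    obtain ⟨y'', k3, k4⟩ := k'.im y' k1
    exact ⟨y'', k3, ez_of_pr h k.q' hy k'.q' k3 (by rw [← k4, ← k2]; simp)⟩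

theorem Pt.perp (k : Pt h φ u u') (k' : Pt h φ t t') (e : pb Q u t = 0) : pb Q u' t' = 0 := by
  by_cases m : t ∈ F ∙ u
  · obtain ⟨c, rfl⟩ := mem_sp.1 ((k.left m k'.ne).uniq H k')
    simp [pb_sing k.q']
  have r := RP.of k.q k'.q e k.ne m
  obtain ⟨y, k1, k2⟩ := k.im t e
  obtain ⟨y', k3, k4⟩ := k'.im (-u) (by simp [r.rl])
  rw [← h.ez_swap r.l r.lr r.r, k2] at k4
  have e1 := h.ez_fix k'.q' k3 (pb_sing k'.q') k3
  rw [← ez_of_pr h k.q' k1 k'.q' k3 k4, h.ez_apply k.q' k1] at e1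
  by_contra k0
  rw [pb_comm] at k0
  have : y = (pb Q t' y / pb Q t' u' - Q y) • u' := by
    rw [← smul_right_inj k0, smul_smul, mul_sub, mul_div_cancel₀ _ k0]
    linear_combination (norm := module) -e1
  rw [this, h.ez_self, map_one, map_eq_one_iff _ φ.injective] at k2
  exact pr_ez_ne h r k2

theorem Pt.rp (k : Pt h φ u u') (k' : Pt h φ t t') (r : RP Q u t) : RP Q u' t' :=
  .of k.q' k'.q' (k.perp H k' r.lr) k.ne' fun e => r.nm (((k.right e k'.ne').symm H).uniq H (k'.symm H))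

theorem exists_f {v w v' w' : E} (hh : Hyp Q v w) (hh' : Hyp Q v' w') (kv : Pt h φ v v') :
    ∃ f : E →+ E, (∀ y, pb Q v' (f y) = 0 ∧ pb Q w' (f y) = 0) ∧
      ∀ y, pb Q v y = 0 → φ (pr Q (h.ez v y)) = pr Q (h.ez v' (f y)) := by
  have p0 : ∀ x, pb Q v (x - pb Q v x • w) = 0 := fun x => by simp [hh.lr]
  have : ∀ x, ∃ y', (pb Q v' y' = 0 ∧ pb Q w' y' = 0) ∧
      φ (pr Q (h.ez v (x - pb Q v x • w))) = pr Q (h.ez v' y') := fun x => by
    obtain ⟨y', k1, k2⟩ := kv.im _ (p0 x)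
    refine ⟨y' + (-pb Q w' y') • v', ⟨by simp [k1, hh'.ll], by simp [hh'.rl]⟩, ?_⟩
    rw [k2, h.ez_add hh'.l k1 (by simp [hh'.ll]), h.ez_self, mul_one]
  choose f f1 f2 using this
  refine ⟨AddMonoidHom.mk' f fun x y => ?_, f1, fun y hy => by simpa [hy] using f2 y⟩
  have e := f2 (x + y)
  rw [show x + y - pb Q v (x + y) • w = (x - pb Q v x • w) + (y - pb Q v y • w) by rw [map_add]; module,
    h.ez_add hh.l (p0 x) (p0 y), map_mul, map_mul, f2, f2, ← map_mul, ← h.ez_add hh'.l (f1 x).1 (f1 y).1] at e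
  have k0 : pb Q v' (f x + f y) = 0 := by simp [f1]
  obtain ⟨c, e⟩ := mem_sp.1 (sub_mem_of_ez h hh'.l hh'.ne k0 (f1 _).1 (ez_of_pr h hh'.l k0 hh'.l (f1 _).1 e))
  have := congrArg (pb Q w') e
  simp only [map_sub, map_add, map_smul, f1, hh'.rl, smul_eq_mul] at this
  rw [show c = 0 by linear_combination -this, zero_smul, sub_eq_zero] at e
  exact e.symm

/-- Automorphisms of the projective orthogonal group are induced by semilinear similarities. -/
theorem exists_sim (h : OH Q) (φ : MulAut (PO Q)) : ∃ (σ : F ≃+* F) (T : E ≃+ E) (lam : F), lam ≠ 0 ∧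
    (∀ (c : F) x, T (c • x) = σ c • T x) ∧ (∀ x, Q (T x) = lam * σ (Q x)) ∧
    ∀ g g' : Om Q, φ (pr Q g) = pr Q g' → ∃ c : F, ∀ x, oA Q g' (T x) = c • T (oA Q g x) := by
  have h7 := H.seven
  obtain ⟨v, w, hh⟩ := exists_hyp h
  obtain ⟨v', kv⟩ := exists_pt H h φ hh.l hh.ne
  obtain ⟨w', kw, hh'⟩ : ∃ w', Pt h φ w w' ∧ Hyp Q v' w' := by
    obtain ⟨w', kw⟩ := exists_pt H h φ hh.r hh.symm.ne
    have k : pb Q v' w' ≠ 0 := fun e => by simpa [hh.lr] using (kv.symm H).perp H (kw.symm H) e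
    have kw' := kw.smul one_ne_zero (inv_ne_zero k)
    rw [one_smul] at kw'
    exact ⟨_, kw', kv.q', kw'.q', by simp [k]⟩
  obtain ⟨f, f1, f2⟩ := exists_f H hh hh' kv
  obtain ⟨X, hX⟩ : ∃ X, X = (F ∙ v) ⊔ (F ∙ w) := ⟨_, rfl⟩
  have fX : finrank F X ≤ 2 := hX ▸ fr_two v w
  have mX : ∀ {x}, x ∈ oc Q X ↔ pb Q v x = 0 ∧ pb Q w x = 0 := by
    intro x; rw [hX, mem_oc_sup, mem_oc_span, mem_oc_span]
  have nX : ∀ x ∈ oc Q X, x ∈ X → x = 0 := fun x h1 h2 => by
    obtain ⟨s, t, rfl⟩ := mem_two.1 (hX ▸ h2)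
    have := mX.1 h1
    simp [hh.ll, hh.lr, hh.rl, hh.rr] at this
    simp [this]
  -- singular vectors of the complement
  have s1 : ∀ y ∈ oc Q X, ∀ y', Pt h φ y y' → ∀ c : F, f (c • y) ∈ F ∙ y' := fun y hy y' ky c => by
    have hy' := mX.1 hy
    obtain ⟨n, n1, n2⟩ := ky.im (c • -v) (by simp [pb_comm Q y v, hy'.1])
    rw [← h.ez_smul ky.q (by simp [pb_comm Q y v, hy'.1]),
      ← h.ez_swap hh.l (by simp [hy'.1]) (by simp [Q_smul, ky.q]), f2 _ (by simp [hy'.1])] at n2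
    have e1 := congrArg (fun g => oA Q g w') (ez_of_pr h hh'.l (f1 _).1 ky.q' n1 n2)
    have k1 := kw.perp H ky hy'.2
    simp only [h.ez_apply hh'.l (f1 _).1, h.ez_apply ky.q' n1, (f1 _).2, hh'.rl, k1] at e1
    have e2 := congrArg (pb Q w') e1
    simp only [map_sub, map_add, map_smul, (f1 _).2, hh'.rl, hh'.rr, k1, smul_eq_mul] at e2
    rw [show Q (f (c • y)) = 0 by linear_combination -e2] at e1
    exact mem_sp.2 ⟨-pb Q w' n, by linear_combination (norm := module) -e1⟩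
  have s2 : ∀ y ∈ oc Q X, y ≠ 0 → f y ≠ 0 := fun y hy y0 e => by
    have := f2 y (mX.1 hy).1
    rw [e, h.ez_zero, map_one, map_eq_one_iff _ φ.injective, ← map_one (pr Q), ← h.ez_zero v] at this
    exact y0 (nX y hy (hX ▸ Submodule.mem_sup_left (by
      simpa using sub_mem_of_ez h hh.l hh.ne (mX.1 hy).1 (by simp)
        (ez_of_pr h hh.l (mX.1 hy).1 hh.l (by simp) this))))
  have s3 : ∀ y ∈ oc Q X, Q y = 0 → y ≠ 0 → Pt h φ y (f y) := fun y hy q y0 => by
    obtain ⟨y', ky⟩ := exists_pt H h φ q y0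
    exact ky.right (by simpa using s1 y hy y' ky 1) (s2 y hy y0)
  obtain ⟨p, p', -, -, hp, p1, p1', -⟩ := exists_hyp_room h.nd (X := X) (by
    have := finrank_inf_oc_le (Q := Q) X
    omega)
  have : ∀ c : F, ∃ d : F, ∀ x ∈ oc Q X, f (c • x) = d • f x := fun c =>
    scal h (by omega) hp p1 p1' (f.comp (DistribSMul.toAddMonoidHom E c)) f
      (fun x hx y hy r => ((s3 x hx r.l r.ne).rp H (s3 y hy r.r r.symm.ne) r).ind) fun x hx q => by
        rcases eq_or_ne x 0 with rfl | x0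
        · simp
        · exact s1 x hx _ (s3 x hx q x0) c
  choose σ hσ using this
  have fp := s2 p p1 hp.ne
  let σ' : F →+* F :=
    { toFun := σ
      map_one' := smul_left_injective F fp (by simp only [← hσ _ p p1, one_smul])
      map_mul' := fun c d => smul_left_injective F fp (by
        simp only [← hσ _ p p1, mul_smul, ← hσ _ _ (Submodule.smul_mem _ d p1)])
      map_zero' := smul_left_injective F fp (by simp only [← hσ _ p p1, zero_smul, map_zero])
      map_add' := fun c d => smul_left_injective F fp (by simp only [← hσ _ p p1, add_smul, map_add]) }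
  let τ : F ≃+* F := RingEquiv.ofBijective σ' (Finite.injective_iff_bijective.1 σ'.injective)
  have hτ : ∀ c, ∀ x ∈ oc Q X, f (c • x) = τ c • f x := hσ
  clear_value τ
  have s4 : ∀ x ∈ oc Q X, Q x = 0 → ∀ y ∈ oc Q X, pb Q x y = 0 → pb Q (f x) (f y) = 0 := fun x hx q y hy e => by
    rcases eq_or_ne x 0 with rfl | x0
    · simp
    have k := (s3 x hx q x0).map (f2 y (mX.1 hy).1)
    rw [h.ez_fix hh.l (mX.1 hy).1 (by rw [pb_comm, (mX.1 hx).1]) e] at k
    obtain ⟨c, e1⟩ := mem_sp.1 ((s3 x hx q x0).uniq H k)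
    rw [h.ez_apply hh'.l (f1 _).1, pb_comm Q _ v', (f1 _).1] at e1
    simpa [hh'.rl, (f1 _).2] using congrArg (pb Q w') e1
  have s5 : ∀ x ∈ oc Q X, Q x = 0 → Q (f x) = 0 := fun x hx q => by
    rcases eq_or_ne x 0 with rfl | x0
    · simp
    · exact (s3 x hx q x0).q'
  obtain ⟨lam, hl⟩ : ∃ lam, lam = pb Q (f p) (f p') := ⟨_, rfl⟩
  have l0 : lam ≠ 0 := fun e => by
    simpa [hp.lr] using ((s3 p p1 hp.l hp.ne).symm H).perp H ((s3 p' p1' hp.r hp.symm.ne).symm H) (hl ▸ e)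
  have s6 : ∀ y ∈ hc Q (oc Q X) p p', ∀ α β : F, Q (f (α • p + β • p' + y)) = lam * τ α * τ β + Q (f y) :=
    fun y hy α β => by
      obtain ⟨y1, y2, y3⟩ := mem_hc.1 hy
      rw [map_add f, map_add f, hτ _ _ p1, hτ _ _ p1', Q_add, Q_add, Q_smul, Q_smul, s5 _ p1 hp.l, s5 _ p1' hp.r]
      simp only [map_add, map_smul, LinearMap.add_apply, LinearMap.smul_apply, s4 _ p1 hp.l y y1 y2,
        s4 _ p1' hp.r y y1 y3, ← hl, smul_eq_mul]
      ring
  have s7 : ∀ y ∈ oc Q X, Q (f y) = lam * τ (Q y) := fun y hy => by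
    have k := hp.proj_mem p1 p1' hy
    obtain ⟨z, hz⟩ : ∃ z, z = y - pb Q p' y • p - pb Q p y • p' := ⟨_, rfl⟩
    rw [← hz] at k
    have e1 := s6 z k 1 (-Q z)
    rw [s5 _ (add_mem (add_mem (Submodule.smul_mem _ _ p1) (Submodule.smul_mem _ _ p1')) (mem_hc.1 k).1)
      (by rw [hp.Q_comb k]; ring), map_one, map_neg] at e1
    rw [show y = pb Q p' y • p + pb Q p y • p' + z by rw [hz]; abel, s6 z k, hp.Q_comb k, map_add, map_mul]
    linear_combination -e1
  -- the semilinear map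
  obtain ⟨π, hπ⟩ : ∃ π : E → E, π = fun x => x - pb Q w x • v - pb Q v x • w := ⟨_, rfl⟩
  have π1 : ∀ x, π x ∈ hc Q ⊤ v w := fun x => hπ ▸ hh.proj_mem (Y := ⊤) trivial trivial trivial
  have π2 : ∀ x, π x ∈ oc Q X := fun x => mX.2 (mem_hc.1 (π1 x)).2
  have π3 : ∀ x, x = pb Q w x • v + pb Q v x • w + π x := fun x => by simp only [hπ]; abel
  let T0 : E →+ E := AddMonoidHom.mk' (fun x => (lam * τ (pb Q w x)) • v' + τ (pb Q v x) • w' + f (π x))
    fun x y => by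
      rw [show π (x + y) = π x + π y by simp only [hπ, map_add]; module]
      simp only [map_add]; module
  have hT : ∀ x, T0 x = (lam * τ (pb Q w x)) • v' + τ (pb Q v x) • w' + f (π x) := fun _ => rfl
  clear_value T0
  have t1 : ∀ (c : F) x, T0 (c • x) = τ c • T0 x := fun c x => by
    rw [hT, hT, show π (c • x) = c • π x by simp only [hπ, map_smul, smul_eq_mul]; module, hτ _ _ (π2 x)]
    simp only [map_smul, smul_eq_mul, map_mul]; module
  have t2 : ∀ x, Q (T0 x) = lam * τ (Q x) := fun x => by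
    rw [hT, hh'.Q_comb (Y := ⊤) (mem_hc.2 ⟨trivial, f1 _⟩), s7 _ (π2 x)]
    conv_rhs => rw [π3 x, hh.Q_comb (π1 x), map_add, map_mul]
    ring
  have t3 : ∀ x y, pb Q (T0 x) (T0 y) = lam * τ (pb Q x y) := fun x y => by
    rw [pb_def, pb_def, ← map_add, t2, t2, t2, map_sub, map_sub]; ring
  have t4 : Function.Injective T0 := (injective_iff_map_eq_zero _).2 fun x e =>
    (Submodule.mem_bot F).1 (mem_of_oc_oc h.nd fun y _ => by simpa [e, l0] using t3 x y)
  have t5 : ∀ y ∈ oc Q X, T0 y = f y := fun y hy => by simp [hT, hπ, mX.1 hy]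
  have t6 : T0 v = lam • v' := by simp [hT, hπ, hh.ll, hh.rl]
  have t7 : T0 w = w' := by simp [hT, hπ, hh.lr, hh.rr]
  have pt : ∀ u, Q u = 0 → u ≠ 0 → Pt h φ u (T0 u) := fun u q u0 => by
    by_cases k : pb Q v u = 0
    · rcases eq_or_ne (π u) 0 with e | e
      · have e1 := π3 u
        rw [k, e, zero_smul, add_zero, add_zero] at e1
        rw [e1] at u0
        rw [e1, t1, t6, smul_smul]
        have c0 := left_ne_zero_of_smul u0
        exact kv.smul c0 (mul_ne_zero (by simpa using c0) l0)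
      · have qe : Q (π u) = 0 := by
          have := hh.Q_comb (π1 u) (pb Q w u) (pb Q v u)
          rw [← π3, q, k] at this
          linear_combination -this
        obtain ⟨y, y1, y2⟩ := exists_dual h.nd X (u := π u) fun m => e (nX _ (π2 u) m)
        have y3 : pb Q w u • y ∈ oc Q X := Submodule.smul_mem _ _ y1
        have k1 := (s3 _ (π2 u) qe e).map (f2 _ (mX.1 y3).1)
        rw [h.ez_apply hh.l (mX.1 y3).1, h.ez_apply hh'.l (f1 _).1, pb_comm Q _ v, pb_comm Q _ v', (f1 _).1,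
          (mX.1 (π2 u)).1, ← t5 _ y3, ← t5 _ (π2 u), t3, map_smul, y2] at k1
        convert k1 using 1
        · conv_lhs => rw [π3 u, k]
          simp [add_comm]
        · rw [hT, k, t5 _ (π2 u)]
          simp [add_comm]
    · obtain ⟨z, hz⟩ : ∃ z, z = (pb Q v u)⁻¹ • u := ⟨_, rfl⟩
      have z1 : pb Q v z = 1 := by simp [hz, k]
      have z2 : pb Q w z = -Q (π z) := by
        have := hh.Q_comb (π1 z) (pb Q w z) (pb Q v z)
        rw [← π3, z1, hz, Q_smul, q, ← hz] at this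
        linear_combination -this
      have y3 := neg_mem (π2 z)
      have k1 := kw.map (f2 _ (mX.1 y3).1)
      rw [h.ez_apply hh.l (mX.1 y3).1, h.ez_apply hh'.l (f1 _).1, (f1 _).2, (mX.1 y3).2, hh.rl, hh'.rl,
        s7 _ y3, Q_neg, map_neg f] at k1
      have k2 : Pt h φ z (T0 z) := by
        convert k1 using 1
        · conv_lhs => rw [π3 z, z1, z2]
          module
        · rw [hT, z1, z2, map_neg, map_one]
          module
      rw [show u = pb Q v u • z by simp [hz, smul_smul, k], t1]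
      exact k2.smul k (by simpa using k)
  refine ⟨τ, AddEquiv.ofBijective T0 (Finite.injective_iff_bijective.1 t4), lam, l0, t1, t2, fun g g' e => ?_⟩
  refine scal_top h ((oA Q g').toAddMonoidHom.comp T0) (T0.comp (oA Q g).toAddMonoidHom) (fun x y r => ?_)
    fun x q => ?_
  · have r' := r.map g
    exact ((pt _ r'.l r'.ne).rp H (pt _ r'.r r'.symm.ne) r').ind
  · rcases eq_or_ne x 0 with rfl | x0
    · simp
    have k := (pt x q x0).map e
    exact (pt _ k.q k.ne).uniq H k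

end Cfsg.Agent.H2.BO
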