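import Cfsg.Agent.H2.BO3
import Cfsg.Agent.H6.BB0
import Cfsg.Agent.H6.OrthChar2
import Cfsg.Agent.H6.OrthRank

/-! Automorphisms of orthogonal groups, IV: reduction of the balance property to semilinear similarities. -/

set_option autoImplicit false
set_option linter.unusedSectionVars false

namespace Cfsg.Agent.H2.BO

open Module Cfsg.Agent.H1 Cfsg.Agent.H6 Cfsg.Agent.H7 Cfsg.Agent.H2.TO Cfsg.Agent.H6.BA

/-- The action of automorphisms on the quotient by the centre. -/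
def autQ (G : Type*) [Group G] : MulAut G →* MulAut (G ⧸ Subgroup.center G) :=
  MonoidHom.mk' (fun φ => QuotientGroup.congr _ _ φ (Subgroup.characteristic_iff_map_eq.1 inferInstance φ))
    fun _ _ => MulEquiv.ext fun x => QuotientGroup.induction_on x fun _ => rfl

variable {F : Type*} [Field F] [Fintype F] {E : Type*} [AddCommGroup E] [Module F E] [FiniteDimensional F E]
  [Fintype E] {Q : QuadraticForm F E}

theorem sim_ai (A : (Frm.ofQ Q).Sim) (x : E) : A.1 ((A⁻¹).1 x) = x := A.1.apply_symm_apply x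
theorem sim_ia (A : (Frm.ofQ Q).Sim) (x : E) : (A⁻¹).1 (A.1 x) = x := A.1.symm_apply_apply x

theorem cj_smul (A : (Frm.ofQ Q).Sim) (g : OG Q) (c : F) (x : E) :
    A.1 (g.1 ((A⁻¹).1 (c • x))) = c • A.1 (g.1 ((A⁻¹).1 x)) := by
  obtain ⟨σ, d, k⟩ := A.2
  obtain ⟨c, rfl⟩ := σ.surjective c
  obtain ⟨x, rfl⟩ := A.1.surjective x
  rw [← k.smul, sim_ia, sim_ia, map_smul, k.smul]

/-- Conjugation of an isometry by a semilinear similarity. -/
def cjE (A : (Frm.ofQ Q).Sim) (g : OG Q) : OG Q :=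
  ⟨{ toFun := fun x => A.1 (g.1 ((A⁻¹).1 x))
     invFun := fun x => A.1 ((g⁻¹).1 ((A⁻¹).1 x))
     map_add' := fun x y => by simp only [map_add]
     map_smul' := cj_smul A g
     left_inv := fun x => by simp only [sim_ia, OG_inv_apply, sim_ai]
     right_inv := fun x => by simp only [sim_ia, OG_apply_inv, sim_ai] }, fun x => by
    obtain ⟨σ, d, k⟩ := A.2
    obtain ⟨x, rfl⟩ := A.1.surjective x
    change Q (A.1 (g.1 ((A⁻¹).1 (A.1 x)))) = _
    rw [sim_ia]
    exact (k.quad _).trans ((congrArg (d * σ ·) (OG_Q g x)).trans (k.quad _).symm)⟩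

theorem cjE_apply (A : (Frm.ofQ Q).Sim) (g : OG Q) (x : E) : (cjE A g).1 x = A.1 (g.1 ((A⁻¹).1 x)) := rfl

variable (Q) in
/-- The action of semilinear similarities on the orthogonal group. -/
def cjO : (Frm.ofQ Q).Sim →* MulAut (OG Q) :=
  MonoidHom.mk' (fun A =>
    { toFun := cjE A
      invFun := cjE A⁻¹
      left_inv := fun g => OG_ext fun x => by simp only [cjE_apply, inv_inv, sim_ia]
      right_inv := fun g => OG_ext fun x => by simp only [cjE_apply, inv_inv, sim_ai]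
      map_mul' := fun g g' => OG_ext fun x => by simp only [cjE_apply, OG_mul_apply, sim_ia] })
    fun A B => MulEquiv.ext fun g => OG_ext fun x => by
      change (A * B).1 (g.1 (((A * B)⁻¹).1 x)) = _
      rw [mul_inv_rev]; rfl

variable (Q) in
/-- The action on `Ω`. -/
def cjW : (Frm.ofQ Q).Sim →* MulAut (Om Q) := (MulAut.characteristic _).comp (cjO Q)

theorem cjW_apply (A : (Frm.ofQ Q).Sim) (g : Om Q) (x : E) :
    oA Q (cjW Q A g) x = A.1 (oA Q g ((A⁻¹).1 x)) := rfl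

variable (Q) in
/-- The action on `PΩ`. -/
def kap : (Frm.ofQ Q).Sim →* MulAut (PO Q) := (autQ _).comp (cjW Q)

theorem kap_pr (A : (Frm.ofQ Q).Sim) (g : Om Q) : kap Q A (pr Q g) = pr Q (cjW Q A g) := rfl

variable (h : OH Q)

theorem cjW_ez {A : (Frm.ofQ Q).Sim} {σ : F ≃+* F} {c : F} (k : (Frm.ofQ Q).IsSim A.1 σ c) {u y : E} (hu : Q u = 0)
    (hy : pb Q u y = 0) : Q (A.1 u) = 0 ∧ pb Q (A.1 u) (c⁻¹ • A.1 y) = 0 ∧
      cjW Q A (h.ez u y) = h.ez (A.1 u) (c⁻¹ • A.1 y) := by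
  have kq : ∀ v, Q (A.1 v) = c * σ (Q v) := k.quad
  have kf : ∀ u v, pb Q (A.1 u) (A.1 v) = c * σ (pb Q u v) := k.form
  have k1 : Q (A.1 u) = 0 := by simp [kq, hu]
  have k2 : pb Q (A.1 u) (c⁻¹ • A.1 y) = 0 := by simp [kf, hy]
  refine ⟨k1, k2, om_ext fun x => ?_⟩
  obtain ⟨x, rfl⟩ := A.1.surjective x
  rw [cjW_apply, sim_ia, h.ez_apply hu hy, h.ez_apply k1 k2]
  simp only [map_add, map_sub, k.smul, map_smul (pb Q _), Q_smul, kq, kf, smul_eq_mul]
  have := k.ne
  match_scalars <;> field_simp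

include h in
theorem ker_kap : (kap Q).ker = (Frm.ofQ Q).Z := by
  ext A
  rw [MonoidHom.mem_ker, Frm.mem_Z]
  constructor
  · intro e
    obtain ⟨σ, c, k⟩ := A.2
    obtain ⟨a, ha⟩ := scal_top h A.1.toAddMonoidHom (AddMonoidHom.id E) (fun _ _ r => r.ind) fun u hu => by
      rcases eq_or_ne u 0 with rfl | u0
      · simp
      change A.1 u ∈ F ∙ u
      refine span_of_ez h hu u0 (cjW_ez h k hu (y := 0) (by simp)).1 fun y hy => ?_
      obtain ⟨k1, k2, k3⟩ := cjW_ez h k hu hy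
      exact ⟨_, k2, ez_of_pr h hu hy k1 k2 (by rw [← k3, ← kap_pr, e]; rfl)⟩
    obtain ⟨v, w, hh⟩ := exists_hyp h
    refine ⟨a, fun a0 => hh.ne (A.1.injective ?_), ha⟩
    rw [map_zero]
    exact (ha v).trans (by simp [a0])
  · rintro ⟨a, a0, ha⟩
    refine MulEquiv.ext fun z => ?_
    obtain ⟨g, rfl⟩ := pr_surj z
    rw [kap_pr]
    refine congrArg (pr Q) (om_ext fun x => ?_)
    rw [cjW_apply, ha, ← map_smul, ← ha, sim_ai]

include h in
theorem kap_surj (H : HA Q) : Function.Surjective (kap Q) := fun φ => by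
  obtain ⟨σ, T, lam, l0, t1, t2, t3⟩ := exists_sim H h φ
  let A : (Frm.ofQ Q).Sim := ⟨T.toIntLinearEquiv, σ, lam, l0, t1, fun u v => by
    change pb Q (T u) (T v) = lam * σ (pb Q u v)
    rw [pb_def, pb_def, ← map_add, t2, t2, t2, map_sub, map_sub]; ring, t2⟩
  refine ⟨A, MulEquiv.ext fun z => ?_⟩
  obtain ⟨g, rfl⟩ := pr_surj z
  obtain ⟨g', e⟩ := pr_surj (φ (pr Q g))
  obtain ⟨c, hc⟩ := t3 g g' e.symm
  rw [kap_pr, ← e]
  refine pr_eq_of (c := c) fun x => ?_
  obtain ⟨x, rfl⟩ := A.1.surjective x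
  rw [cjW_apply, sim_ia]
  exact hc x

/-- Elements of `Ω` as similarities. -/
def io (g : Om Q) : (Frm.ofQ Q).Sim :=
  ⟨toGA g.1.1, 1, 1, one_ne_zero, fun a v => map_smul g.1.1 a v, fun u v => (oA_pb g u v).trans (one_mul _).symm,
    fun v => (oA_Q g v).trans (one_mul _).symm⟩

theorem kap_io (g : Om Q) : kap Q (io g) = MulAut.conj (pr Q g) := MulEquiv.ext fun z => by
  obtain ⟨k, rfl⟩ := pr_surj z
  rw [kap_pr, MulAut.conj_apply, ← map_inv, ← map_mul, ← map_mul]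
  exact congrArg (pr Q) (om_ext fun x => rfl)

include h in
theorem center_PO : Subgroup.center (PO Q) = ⊥ := (Subgroup.eq_bot_iff_forall _).2 fun z hz => by
  obtain ⟨g, rfl⟩ := pr_surj z
  obtain ⟨a, -, ha⟩ := (Frm.mem_Z _).1 (ker_kap h ▸ (show io g ∈ (kap Q).ker by
    rw [MonoidHom.mem_ker, kap_io]
    exact MulEquiv.ext fun y => by
      rw [MulAut.conj_apply, ← Subgroup.mem_center_iff.1 hz, mul_inv_cancel_right]; rfl))
  exact (QuotientGroup.eq_one_iff _).2 (mem_center_of ha)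

include h in
theorem scIso_of_inn {A : (Frm.ofQ Q).Sim} (hA : A ∈ (MulAut.conj (G := PO Q)).range.comap (kap Q)) :
    (Frm.ofQ Q).ScIso A := by
  obtain ⟨z, e⟩ := hA
  obtain ⟨g, rfl⟩ := pr_surj z
  obtain ⟨a, a0, ha⟩ := (Frm.mem_Z _).1 (ker_kap h ▸ (show A * (io g)⁻¹ ∈ (kap Q).ker by
    rw [MonoidHom.mem_ker, map_mul, map_inv, kap_io, e, mul_inv_cancel]))
  refine ⟨a, g.1.1, a0, ⟨oA_pb g, oA_Q g⟩, fun v => ?_⟩
  rw [← ha]
  exact congrArg A.1 (sim_ia (io g) v).symm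

theorem bal_PO {p r : ℕ} (hC : CfgForm .O p r) {F : Type} [Field F] [Fintype F] [CharP F r] {E : Type}
    [AddCommGroup E] [Module F E] [FiniteDimensional F E] {Q : QuadraticForm F E} (h : OH Q) (H : HA Q) :
    Bal p (PO Q) := by
  have : Finite E := Module.finite_of_finite F
  have := Fintype.ofFinite E
  have : Finite (Om Q) := finite_Om
  have h5 := h.big
  have : Nontrivial E := Module.nontrivial_of_finrank_pos (R := F) (by omega)
  refine bal_of_hom (center_PO h) (kap Q) (fun φ _ => kap_surj h H φ) (fun g => kap_surj h H _) fun E' g k => ?_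
  rw [ker_kap h] at k ⊢
  exact hC F E _ (Frm.ofQ_is h.nd) (fun _ => by omega) _ E' g (fun y hy => scIso_of_inn h hy) k

theorem map_center_eq {G G' : Type*} [Group G] [Group G'] (e : G ≃* G') :
    (Subgroup.center G).map e = Subgroup.center G' := by
  ext z
  obtain ⟨z, rfl⟩ := e.surjective z
  refine (Subgroup.mem_map_iff_mem e.injective).trans ?_
  simp only [Subgroup.mem_center_iff, e.surjective.forall, ← map_mul, e.apply_eq_iff_eq]

/-- The matrix group and the abstract group. -/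
noncomputable def poEquiv {ι : Type} [Fintype ι] [DecidableEq ι] (Q : QuadraticForm F (ι → F)) :
    POmega F Q ≃* PO Q :=
  QuotientGroup.congr _ _ (commutatorEquiv (ogEquiv Q)) (map_center_eq _)

theorem hw_of (k : ∀ T : Submodule F E, TotSing Q T → finrank F T ≤ 3) : HW Q := .inl fun a b c d r r' k1 k2 => by
  have f : ∀ {a b : E}, RP Q a b → finrank F ↥((F ∙ a) ⊔ (F ∙ b)) = 2 := fun r => by
    rw [Submodule.finrank_sup_span_singleton r.nm, finrank_span_singleton r.ne]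
  have f1 := Submodule.finrank_sup_add_finrank_inf_eq ((F ∙ a) ⊔ F ∙ b) ((F ∙ c) ⊔ F ∙ d)
  rw [k2, finrank_bot, f r, f r'] at f1
  have := k (((F ∙ a) ⊔ F ∙ b) ⊔ ((F ∙ c) ⊔ F ∙ d)) fun x hx => by
    obtain ⟨y, hy, z, hz, rfl⟩ := Submodule.mem_sup.1 hx
    rw [Q_add, pb_comm, k1 hy z hz]
    obtain ⟨s, t, rfl⟩ := mem_two.1 hy
    obtain ⟨s', t', rfl⟩ := mem_two.1 hz
    simp [Q_add, Q_smul, r.l, r.r, r.lr, r'.l, r'.r, r'.lr]
  omega

variable {p r : ℕ} (hC : CfgForm .O p r) (K : Type) [Field K] [Fintype K] [CharP K r] (m : ℕ)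
include hC

theorem bal_pomegaOdd (hm : 3 ≤ m) (hq : Odd (Fintype.card K)) : Bal p (POmega K (quadFormOdd m K)) := by
  have f : finrank K (Unit ⊕ (Fin m ⊕ Fin m) → K) = 2 * m + 1 := by simp; omega
  have h : OH (qOdd m K) := ⟨qOdd_nondeg m K (two_ne_zero_of_odd_card K hq), by omega⟩
  refine (bal_PO hC h ⟨by omega, ?_⟩).congr (poEquiv (qOdd m K))
  rcases hm.eq_or_lt with rfl | hm
  · refine hw_of fun T hT => ?_
    have f1 := finrank_oc h.nd T
    have f2 := Submodule.finrank_mono (show T ≤ oc (qOdd 3 K) T from fun x hx y hy => by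
      rw [pb_def, hT _ hx, hT _ hy, hT _ (add_mem hy hx)]; ring)
    omega
  · exact .inr (by omega)

theorem bal_pomegaPlus (hm : 5 ≤ m) : Bal p (POmega K (quadFormPlus m K)) := by
  have f : finrank K (Fin m ⊕ Fin m → K) = 2 * m := by simp; omega
  exact (bal_PO hC ⟨qPlus_nondeg m K, by omega⟩ ⟨by omega, .inr (by omega)⟩).congr (poEquiv (qPlus m K))

theorem bal_pomegaMinus (a b : K) (hm : 4 ≤ m)
    (hab : ∀ z₁ z₂ : K, z₁ ^ 2 + a * z₁ * z₂ + b * z₂ ^ 2 = 0 → z₁ = 0 ∧ z₂ = 0) :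
    Bal p (POmega K (quadFormMinus (m - 1) K a b)) := by
  have f : finrank K ((Fin (m - 1) ⊕ Fin (m - 1)) ⊕ Fin 2 → K) = 2 * m := by simp; omega
  refine (bal_PO hC ⟨qMinus_nondeg _ K hab, by omega⟩ ⟨by omega, ?_⟩).congr (poEquiv (qMinus (m - 1) K a b))
  rcases hm.eq_or_lt with rfl | hm
  · exact hw_of fun T hT => finrank_le_of_totSing_qMinus _ hab hT
  · exact .inr (by omega)

end Cfsg.Agent.H2.BO
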