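import Cfsg.Agent.H1.URb
import Cfsg.Agent.H2.BO1

/-! Automorphisms of unitary groups, I: transvections. -/

set_option autoImplicit false
set_option linter.unusedSectionVars false

namespace Cfsg.Agent.H2.BU

open Module Cfsg.Agent.H1 Cfsg.Agent.H1.UR
open Cfsg.Agent.H5 (Sesq IsEps UF Isom perp)
open Cfsg.Agent.H2.BO (mem_sp mem_two Cen exists_cen)

variable {F : Type*} [Field F] [Fintype F] {σ : F →+* F} {E : Type*} [AddCommGroup E] [Module F E]
  [FiniteDimensional F E] [Fintype E] {B : Sesq σ E} {q : ℕ}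

/-- Standing hypotheses. -/
structure HU (B : Sesq σ E) (q : ℕ) : Prop where
  b : IsEps B 1
  u : UF σ q
  three : 3 ≤ finrank F E
  two : finrank F E = 3 → q ≠ 2

/-- A hyperbolic pair. -/
structure Hy (B : Sesq σ E) (v w : E) : Prop where
  l : B v v = 0
  r : B w w = 0
  rl : B w v = 1
  lr : B v w = 1

theorem Hy.ne {v w : E} (h : Hy B v w) : v ≠ 0 := by rintro rfl; simpa using h.rl
theorem Hy.symm {v w : E} (h : Hy B v w) : Hy B w v := ⟨h.r, h.l, h.lr, h.rl⟩

variable (H : HU B q)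
include H

theorem HU.hy {v w : E} (hv : B v v = 0) (hw : B w w = 0) (h : B w v = 1) : Hy B v w :=
  ⟨hv, hw, h, by rw [H.b.herm, h, map_one]⟩

theorem HU.partner {v : E} (v0 : v ≠ 0) (hv : B v v = 0) : ∃ w, Hy B v w := by
  obtain ⟨w, h1, h2, -⟩ := exists_partner H.b H.u v0 hv (S := ⊥) (by simpa using v0) (by simp)
  exact ⟨w, H.hy hv h1 h2⟩

theorem HU.exists_hy : ∃ v w, Hy B v w := by
  obtain ⟨v, -, v0, hv⟩ := exists_iso_vec H.b H.u ⊤ (by have := H.three; rw [finrank_top]; omega)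
  exact ⟨v, H.partner v0 hv⟩

theorem HU.mem_span {u x : E} (h : ∀ z, B z u = 0 → B z x = 0) : x ∈ F ∙ u := by
  rw [← H.b.perp_perp (F ∙ u)]
  exact fun z hz => H.b.refl (h z (mem_perp_one.1 hz))

theorem HU.exists_adm {e x : E} (he : B e e = 0) (hx : B x e = 0) : ∃ μ, Adm B x e μ := by
  obtain ⟨a, ha⟩ := H.u.trace_surj (H.b.herm_self x)
  exact ⟨a, he, hx, by rw [ha, add_comm]⟩

theorem HU.zero_of {α β : F} (h : ∀ a, a * α = σ a * β) : α = 0 := by
  obtain ⟨a, ha⟩ := H.u.exists_ne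
  have h1 := h 1
  have h2 := h a
  rw [map_one, one_mul, one_mul] at h1
  exact (mul_eq_zero.1 (show (σ a - a) * α = 0 by rw [← h1] at h2; linear_combination -h2)).resolve_left
    (sub_ne_zero.2 ha)

/-- A linear map fixing all isotropic points is scalar. -/
theorem HU.scalar (A : E →ₗ[F] E) (hA : ∀ u, B u u = 0 → A u ∈ F ∙ u) : ∃ c : F, ∀ x, A x = c • x := by
  obtain ⟨v, w, hh⟩ := H.exists_hy
  obtain ⟨δ, δ0, hδ⟩ := H.u.exists_trace_zero
  have key : ∀ {a b : E} {s : F}, B a a = 0 → B b b = 0 → B b a ≠ 0 → A a = s • a → A b = s • b :=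
    fun {a b s} ha hb ab e => by
      obtain ⟨t, ht⟩ := mem_sp.1 (hA b hb)
      have ab' : σ (B b a) ≠ 0 := (map_ne_zero σ).2 ab
      obtain ⟨r, hr⟩ := mem_sp.1 (hA (a + (δ / B b a) • b) (by
        simp only [map_add, map_smul, LinearMap.add_apply, LinearMap.smul_apply, LinearMap.map_smulₛₗ, ha, hb,
          H.b.herm b a, map_div₀, hδ, smul_eq_mul, RingHom.id_apply]
        field_simp; ring))
      rw [map_add, map_smul, e, ht] at hr
      have e1 := congrArg (B · a) hr
      have e2 := congrArg (B · b) hr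
      simp only [map_add, map_smul, LinearMap.add_apply, LinearMap.smul_apply, ha, hb, H.b.herm b a,
        smul_eq_mul] at e1 e2
      have e3 : s = r := mul_right_cancel₀ ab' (by linear_combination e2)
      have e4 : t = r := mul_right_cancel₀ (mul_ne_zero (div_ne_zero δ0 ab) ab) (by linear_combination e1)
      rw [ht, e3, e4]
  obtain ⟨c, hc⟩ := mem_sp.1 (hA v hh.l)
  refine ⟨c, fun x => ?_⟩
  have k : ∀ u, B u u = 0 → A u = c • u := fun u hu => by
    rcases eq_or_ne u 0 with rfl | u0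
    · simp
    obtain ⟨z, z1, z2, z3⟩ := exists_opp2 H.b H.u hh.ne hh.l u0 hu
    exact key z1 hu (fun e => z3 (H.b.refl e)) (key hh.l z1 z2 hc)
  have : x ∈ LinearMap.ker (A - c • LinearMap.id) := by
    rw [← H.b.perp_perp (LinearMap.ker _)]
    intro z hz
    by_contra k0
    obtain ⟨u, -, u1, u2⟩ := exists_iso_pairing H.b H.u (S := ⊤) (by simp [H.b.perp_top])
      (by have := H.three; rw [finrank_top]; omega) (v := z) (by
        rw [H.b.perp_top]; rintro rfl; simp at k0)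
    exact u2 (hz u (by simp [k u u1]))
  simpa [sub_eq_zero] using this

omit H in
theorem mem_center_of {z : SUb B} {c : F} (hz : ∀ x, suAct B z x = c • x) : z ∈ Subgroup.center (SUb B) :=
  Subgroup.mem_center_iff.2 fun g => su_ext fun x => by rw [sa_mul, sa_mul, hz, hz, map_smul]

theorem HU.center_scalar {z : SUb B} (hz : z ∈ Subgroup.center (SUb B)) : ∃ c : F, ∀ x, suAct B z x = c • x :=
  H.scalar _ fun u hu => H.mem_span fun x hx => by
    obtain ⟨δ, δ0, hδ⟩ := H.u.exists_trace_zero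
    rcases eq_or_ne u 0 with rfl | u0
    · simp
    obtain ⟨w, hw⟩ := exists_pair H.b u0
    have e := congrArg (fun g => B x (suAct B g w)) (Subgroup.mem_center_iff.1 hz (ut H.b u δ))
    simpa [sa_mul, ut_apply H.b hu hδ, hw, hx, δ0] using e

omit H in
/-- The projective group. -/
abbrev PU (B : Sesq σ E) : Type _ := SUb B ⧸ Subgroup.center (SUb B)

omit H in
/-- The projection. -/
noncomputable def pr (B : Sesq σ E) : SUb B →* PU B := QuotientGroup.mk' _

omit H in
theorem pr_surj : Function.Surjective (pr B) := QuotientGroup.mk'_surjective _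

omit H in
theorem pr_eq_of {g g' : SUb B} {c : F} (e : ∀ x, suAct B g' x = c • suAct B g x) : pr B g = pr B g' :=
  QuotientGroup.eq.2 (mem_center_of (c := c) fun x => by rw [sa_mul, e, map_smul, sa_inv_app])

theorem HU.of_pr_eq {g g' : SUb B} (e : pr B g = pr B g') : ∃ c : F, ∀ x, suAct B g' x = c • suAct B g x := by
  obtain ⟨c, hc⟩ := H.center_scalar (QuotientGroup.eq.1 e)
  exact ⟨c, fun x => by rw [← map_smul, ← hc, ← sa_mul, mul_inv_cancel_left]⟩

theorem HU.eq_ei {g : SUb B} {x e z : E} {μ : F} (h : Adm B x e μ) (k : pr B g = pr B (ei H.b x e μ)) (z0 : z ≠ 0)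
    (hz : suAct B g z = z) : g = ei H.b x e μ := by
  obtain ⟨c, hc⟩ := H.of_pr_eq k
  have : c = 1 := by
    by_contra c1
    have c1' := sub_ne_zero.2 c1
    have e1 := hc z
    rw [hz, ei_apply H.b h] at e1
    have e2 := congrArg (B · e) e1
    simp only [map_add, map_sub, map_smul, LinearMap.add_apply, LinearMap.sub_apply, LinearMap.smul_apply, h.iso,
      h.perp, smul_eq_mul] at e2
    have e3 : B z e = 0 := (mul_eq_zero.1 (show (c - 1) * B z e = 0 by linear_combination -e2)).resolve_left c1'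
    rw [e3] at e1
    have e4 := congrArg (B · x) e1
    simp only [map_add, map_sub, map_smul, LinearMap.add_apply, LinearMap.sub_apply, LinearMap.smul_apply,
      H.b.refl h.perp, smul_eq_mul] at e4
    have e5 : B z x = 0 := (mul_eq_zero.1 (show (c - 1) * B z x = 0 by linear_combination -e4)).resolve_left c1'
    rw [e5] at e1
    exact z0 ((smul_eq_zero.1 (show (c - 1) • z = 0 by linear_combination (norm := module) -e1)).resolve_left c1')
  exact su_ext fun y => by rw [hc, this, one_smul]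

theorem HU.ei_inj {v w x y : E} {μ ν : F} (hh : Hy B v w) (h : Adm B x v μ) (h' : Adm B y v ν)
    (k : pr B (ei H.b x v μ) = pr B (ei H.b y v ν)) : x - y = (B w x + μ - (B w y + ν)) • v := by
  have := congrArg (fun g => suAct B g w) (H.eq_ei h' k hh.ne (ei_fix H.b h))
  simp only [ei_apply H.b h, ei_apply H.b h', hh.rl] at this
  linear_combination (norm := module) this

theorem HU.ei_inj' {v w x y : E} {μ ν : F} (hh : Hy B v w) (h : Adm B x v μ) (h' : Adm B y v ν) (hx : B x w = 0)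
    (hy : B y w = 0) (k : pr B (ei H.b x v μ) = pr B (ei H.b y v ν)) : x = y ∧ μ = ν := by
  have e := H.ei_inj hh h h' k
  have e1 := congrArg (B · w) e
  simp only [map_sub, map_smul, LinearMap.sub_apply, LinearMap.smul_apply, hx, hy, hh.lr, H.b.refl hx,
    H.b.refl hy, smul_eq_mul] at e1
  have e2 : μ = ν := by linear_combination -e1
  simpa [H.b.refl hx, H.b.refl hy, e2, sub_eq_zero] using e

theorem HU.exists_perp (a b : E) : ∃ z, z ≠ 0 ∧ B z a = 0 ∧ B z b = 0 := by
  have := H.b.finrank_perp ((F ∙ a) ⊔ F ∙ b)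
  have := finrank_two_le (F := F) a b
  have := H.three
  obtain ⟨z, z1, z2⟩ := exists_not_mem_of_finrank_lt (S := ⊥) (T := perp B ((F ∙ a) ⊔ F ∙ b))
    (by rw [finrank_bot]; omega)
  exact ⟨z, by simpa using z2, mem_perp_two.1 z1⟩

/-- A product of two transvections with different centres is not a transvection. -/
theorem HU.mul_ut {u u' e : E} {c c' d : F} (hu : B u u = 0) (u0 : u ≠ 0) (hu' : B u' u' = 0) (he : B e e = 0)
    (hc : σ c = -c) (hc' : σ c' = -c') (c0' : c' ≠ 0) (hd : σ d = -d)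
    (k : pr B (ut H.b u c * ut H.b u' c') = pr B (ut H.b e d)) (ce : c ≠ 0 ∨ e = u) : u' ∈ F ∙ u := by
  obtain ⟨z, z0, z1, z2⟩ := H.exists_perp u u'
  have k1 := H.eq_ei (adm_zero he hd) k z0 (by simp [sa_mul, ut_apply H.b hu hc, ut_apply H.b hu' hc', z1, z2])
  have k2 : ∀ x, (c' * B x u') • u' + (c * B (x + (c' * B x u') • u') u) • u = (d * B x e) • e := fun x => by
    have := congrArg (fun g => suAct B g x) k1
    simp only [sa_mul, ut_apply H.b hu hc, ut_apply H.b hu' hc', ← ut.eq_1, ut_apply H.b he hd] at this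
    linear_combination (norm := module) this
  by_contra m
  have u0' : u' ≠ 0 := by rintro rfl; simp at m
  have k3 : e ∈ F ∙ u := by
    rcases ce with c0 | rfl
    · obtain ⟨x, x1, x2⟩ : ∃ x, B x u' = 0 ∧ B x u ≠ 0 := by
        by_contra! k
        obtain ⟨s, rfl⟩ := mem_sp.1 (H.mem_span k)
        exact m (mem_sp.2 ⟨s⁻¹, by rw [inv_smul_smul₀ (left_ne_zero_of_smul u0)]⟩)
      have := k2 x
      simp only [x1, mul_zero, zero_smul, add_zero, zero_add] at this
      have k4 : d * B x e ≠ 0 := fun e0 => by simp [e0, c0, x2, u0] at this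
      exact (Submodule.smul_mem_iff _ k4).1 (mem_sp.2 ⟨_, this.symm⟩)
    · exact Submodule.mem_span_singleton_self _
  obtain ⟨s, rfl⟩ := mem_sp.1 k3
  obtain ⟨x, hx⟩ := exists_pair H.b u0'
  have := k2 x
  rw [hx, mul_one] at this
  exact m ((Submodule.smul_mem_iff _ c0').1 (mem_sp.2 ⟨d * B x (s • u) * s - c * B (x + c' • u') u, by
    linear_combination (norm := module) this⟩))

theorem HU.span_of_ut {u u' : E} {c c' : F} (hu : B u u = 0) (u0 : u ≠ 0) (hu' : B u' u' = 0) (hc : σ c = -c)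
    (hc' : σ c' = -c') (c0' : c' ≠ 0) (k : pr B (ut H.b u' c') = pr B (ut H.b u c)) : u' ∈ F ∙ u :=
  H.mul_ut hu u0 hu' hu (c := 0) (by simp) hc' c0' hc (by rw [ut_zero H.b hu, one_mul, k]) (.inr rfl)

theorem HU.pr_ut_ne {u : E} {c : F} (hu : B u u = 0) (u0 : u ≠ 0) (hc : σ c = -c) (c0 : c ≠ 0) :
    pr B (ut H.b u c) ≠ 1 := fun e =>
  ut_ne_one H.b u0 hu hc c0 (H.eq_ei (adm_zero hu hc) (g := 1) (by rw [map_one, ← e]; rfl) u0 (sa_one u)).symm

/-- Elements acting by the same scalar on `v` and on `v^⊥ / v`. -/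
theorem HU.mem_Q {v w : E} (hh : Hy B v w) {g : SUb B} {a : F} (ha : a * σ a = 1) (h1 : suAct B g v = a • v)
    (h2 : ∀ y, B y v = 0 → suAct B g y - a • y ∈ F ∙ v) :
    ∃ x μ, Adm B x v μ ∧ B x w = 0 ∧ pr B g = pr B (ei H.b x v μ) := by
  have a0 : σ a ≠ 0 := right_ne_zero_of_mul_eq_one ha
  have k0 : σ a * B (suAct B g w) v = 1 := by
    have := suAct_pres g w v
    rw [h1, hh.rl] at this
    simpa using this
  obtain ⟨w', hw'⟩ : ∃ w', w' = σ a • suAct B g w := ⟨_, rfl⟩
  obtain ⟨μ, k1, k2⟩ := ei_move H.b hh.l (f := w) (f' := w') (by simp [hw', suAct_pres, hh.r])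
    (by simp [hw', hh.rl, k0]) (by simp [hh.rl])
  rw [hh.rl, inv_one, one_smul] at k1 k2
  obtain ⟨x, hx⟩ : ∃ x, x = w' - w := ⟨_, rfl⟩
  rw [← hx] at k1 k2
  obtain ⟨k3, k4⟩ := ei_self H.b hh.l (-B x w)
  refine ⟨_, _, k1.add H.b k3, by simp [hh.lr], ?_⟩
  rw [← ei_mul H.b k1 k3, k4, mul_one]
  refine (pr_eq_of (c := a) fun z => ?_).symm
  have kv : suAct B g v = a • suAct B (ei H.b x v μ) v := by rw [ei_fix H.b k1, h1]
  have kw : suAct B g w = a • suAct B (ei H.b x v μ) w := by rw [k2, hw', smul_smul, ha, one_smul]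
  obtain ⟨y, hy⟩ : ∃ y, y = z - B z w • v - B z v • w := ⟨_, rfl⟩
  have y1 : B y v = 0 := by simp [hy, hh.l, hh.rl]
  have y2 : B y w = 0 := by simp [hy, hh.r, hh.lr]
  have ky : suAct B g y = a • suAct B (ei H.b x v μ) y := by
    obtain ⟨t, e⟩ := mem_sp.1 (h2 y y1)
    have e1 : suAct B g y = a • suAct B (ei H.b x v μ) y + (t + a * B y x) • v := by
      rw [ei_apply H.b k1, y1]; linear_combination (norm := module) e
    have e2 := suAct_pres g y w
    rw [e1, kw, y2] at e2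
    simp only [map_add, map_smul, LinearMap.add_apply, LinearMap.smul_apply, LinearMap.map_smulₛₗ, suAct_pres, y2,
      smul_eq_mul, RingHom.id_apply] at e2
    rw [show B v (suAct B (ei H.b x v μ) w) = 1 by rw [← hh.lr, ← suAct_pres (ei H.b x v μ) v w, ei_fix H.b k1]] at e2
    rw [e1, show t + a * B y x = 0 by simpa [a0] using e2, zero_smul, add_zero]
  rw [show z = y + B z w • v + B z v • w by rw [hy]; abel]
  simp only [map_add, map_smul, kv, kw, ky]
  module

/-- Transvections of the projective group. -/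
def Tv (z : PU B) : Prop := ∃ e c, e ≠ 0 ∧ B e e = 0 ∧ c ≠ 0 ∧ σ c = -c ∧ z = pr B (ut H.b e c)

theorem Tv.conj {z : PU B} (hz : Tv H z) (g : PU B) : Tv H (g * z * g⁻¹) := by
  obtain ⟨e, c, e0, he, c0, hc, rfl⟩ := hz
  obtain ⟨g, rfl⟩ := pr_surj g
  exact ⟨_, c, sa_ne_zero g e0, sa_iso g he, c0, hc, by rw [← ut_conj' H.b g he hc, map_mul, map_mul, map_inv]⟩

theorem tv_of_cent {v : E} (v0 : v ≠ 0) (hv : B v v = 0) {z : PU B} (z1 : z ≠ 1)
    (hz : ∀ y μ, Adm B y v μ → Commute z (pr B (ei H.b y v μ))) : Tv H z := by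
  obtain ⟨g, rfl⟩ := pr_surj z
  obtain ⟨w, hh⟩ := H.partner v0 hv
  obtain ⟨δ, δ0, hδ⟩ := H.u.exists_trace_zero
  have k1 : ∀ y μ, Adm B y v μ → pr B (ei H.b (suAct B g y) (suAct B g v) μ) = pr B (ei H.b y v μ) := fun y μ h => by
    have := congrArg (pr B) (ei_conj H.b g h)
    rw [map_mul, map_mul, (hz y μ h).eq] at this
    exact (mul_right_cancel this).symm
  obtain ⟨a, ha⟩ := mem_sp.1 (H.span_of_ut hv v0 (sa_iso g hv) hδ hδ δ0 (by
    simpa [ut] using k1 0 _ (adm_zero hv hδ)))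
  have a0 : a ≠ 0 := left_ne_zero_of_smul (ha ▸ sa_ne_zero g v0)
  have k2 : ∀ y μ, Adm B y v μ → σ a • suAct B g y - y =
      (B w (σ a • suAct B g y) + a * σ a * μ - (B w y + μ)) • v := fun y μ h => by
    have h1 := h.map g
    have h2 := k1 y μ h
    rw [ha] at h1 h2
    rw [(ei_smul H.b h1 a0).2] at h2
    exact H.ei_inj hh (ei_smul H.b h1 a0).1 h h2
  have aa : a * σ a = 1 := by
    have := k2 0 _ (adm_zero hv hδ)
    simp only [map_zero, smul_zero, sub_zero, zero_add] at this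
    exact mul_right_cancel₀ δ0 (by linear_combination -(smul_eq_zero.1 this.symm).resolve_right v0)
  obtain ⟨x, μ, h1, h2, h3⟩ := H.mem_Q hh aa ha fun y hy => by
    obtain ⟨μ, h⟩ := H.exists_adm hv hy
    have := congrArg (a • ·) (k2 y μ h)
    simp only [smul_sub, smul_smul, aa, one_smul] at this
    exact mem_sp.2 ⟨_, this⟩
  have k3 : ∀ y, B y v = 0 → B y x = B x y := fun y hy => by
    obtain ⟨ν, h⟩ := H.exists_adm hv hy
    have := (hz y ν h).eq
    rw [h3, ← map_mul, ← map_mul, ei_mul H.b h1 h, ei_mul H.b h h1] at this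
    have := H.ei_inj hh (h1.add H.b h) (h.add H.b h1) this
    rw [add_comm x y, sub_self] at this
    linear_combination (smul_eq_zero.1 this.symm).resolve_right v0
  obtain ⟨s, rfl⟩ := mem_sp.1 (H.mem_span (u := v) (x := x) fun y hy => H.zero_of (β := B x y) fun c => by
    simpa using k3 (c • y) (by simp [hy]))
  obtain rfl : s = 0 := by simpa [hh.lr] using h2
  rw [zero_smul] at h1 h3
  rw [(ei_zero_eq H.b h1).2] at h3
  exact ⟨v, -μ, v0, hv, fun e => z1 (by rw [h3, e, ut_zero H.b hv, map_one]), (ei_zero_eq H.b h1).1, h3⟩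

theorem tv_of_cen {z : PU B} (hz : Cen (ringChar F) z) : Tv H z := by
  have := Fact.mk (BO.ringChar_prime (F := F))
  have : Finite (SUb B) := Finite.of_injective (fun g x => suAct B g x) fun _ _ e => su_ext (congrFun e)
  obtain ⟨v, w, hh⟩ := H.exists_hy
  obtain ⟨g, hg⟩ := hz.exists_conj ((Q_pgroup H.b hh.l (ringChar.Nat.cast_ringChar)).map (pr B))
  have := (tv_of_cent H hh.ne hh.l (hz.map (MulAut.conj g)).1 fun y μ h => hg _ ⟨_, ⟨y, μ, h, rfl⟩, rfl⟩).conj H g⁻¹
  simpa [mul_assoc] using this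

/-- Automorphisms permute the transvections. -/
theorem Tv.map {z : PU B} (hz : Tv H z) (φ : MulAut (PU B)) : Tv H (φ z) := by
  have := Fact.mk (BO.ringChar_prime (F := F))
  have : Finite (SUb B) := Finite.of_injective (fun g x => suAct B g x) fun _ _ e => su_ext (congrFun e)
  obtain ⟨e, c, e0, he, c0, hc, rfl⟩ := hz
  obtain ⟨z, hz⟩ := exists_cen ((Q_pgroup H.b he (ringChar.Nat.cast_ringChar)).map (pr B)) fun k =>
    H.pr_ut_ne he e0 hc c0 ((Subgroup.eq_bot_iff_forall _).1 k _ ⟨_, ⟨0, _, adm_zero he hc, rfl⟩, rfl⟩)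
  obtain ⟨e', c', e0', he', c0', hc', rfl⟩ := tv_of_cen H hz
  obtain ⟨a, ha⟩ := H.u.norm_surj (c := c / c') (by rw [map_div₀, hc, hc', neg_div_neg_eq])
  have a0 : a ≠ 0 := by rintro rfl; simp [eq_comm, c0, c0'] at ha
  obtain ⟨g, hg⟩ := su_move1 H.b H.u H.three (smul_ne_zero a0 e0) e0' (by simp [he, he'])
  have := (tv_of_cen H (hz.map φ)).conj H (φ (pr B g⁻¹))
  rwa [← map_inv, ← map_mul, ← map_mul, ← map_inv, ← map_mul, ← map_mul, ut_conj' H.b _ he' hc', ← hg, sa_inv_app,
    ut_smul H.b he a hc', ha, div_mul_cancel₀ _ c0'] at this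

end Cfsg.Agent.H2.BU
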