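import Cfsg.Agent.H2.BU1

/-! Automorphisms of unitary groups, II: points and unipotent radicals. -/

set_option autoImplicit false
set_option linter.unusedSectionVars false

namespace Cfsg.Agent.H2.BU

open Module Cfsg.Agent.H1 Cfsg.Agent.H1.UR
open Cfsg.Agent.H5 (Sesq IsEps UF Isom perp)
open Cfsg.Agent.H2.BO (mem_sp mem_two)

variable {F : Type*} [Field F] [Fintype F] {σ : F →+* F} {E : Type*} [AddCommGroup E] [Module F E]
  [FiniteDimensional F E] [Fintype E] {B : Sesq σ E} {q : ℕ} (H : HU B q)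

/-- The automorphism `φ` sends the point `u` to the point `u'`. -/
structure Pt (φ : MulAut (PU B)) (u u' : E) : Prop where
  q : B u u = 0
  ne : u ≠ 0
  q' : B u' u' = 0
  ne' : u' ≠ 0
  im : ∀ c, σ c = -c → ∃ c', σ c' = -c' ∧ φ (pr B (ut H.b u c)) = pr B (ut H.b u' c')

variable {H} {φ : MulAut (PU B)} {u u' t t' : E}

theorem Pt.smul (k : Pt H φ u u') {c c' : F} (c0 : c ≠ 0) (c0' : c' ≠ 0) : Pt H φ (c • u) (c' • u') :=
  ⟨by simp [k.q], smul_ne_zero c0 k.ne, by simp [k.q'], smul_ne_zero c0' k.ne', fun d hd => by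
    obtain ⟨d', k1, k2⟩ := k.im (c * σ c * d) (by simp [H.b.invol, hd, mul_comm])
    have h1 : σ (d' / (c' * σ c')) = -(d' / (c' * σ c')) := by simp [H.b.invol, k1, mul_comm, neg_div]
    have h2 : c' * σ c' ≠ 0 := mul_ne_zero c0' ((map_ne_zero σ).2 c0')
    exact ⟨_, h1, by rw [ut_smul H.b k.q c hd, k2, ut_smul H.b k.q' c' h1, mul_div_cancel₀ _ h2]⟩⟩

theorem Pt.left (k : Pt H φ u u') (ht : t ∈ F ∙ u) (t0 : t ≠ 0) : Pt H φ t u' := by
  obtain ⟨c, rfl⟩ := mem_sp.1 ht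
  simpa using k.smul (left_ne_zero_of_smul t0) one_ne_zero

theorem Pt.right (k : Pt H φ u u') (ht : t ∈ F ∙ u') (t0 : t ≠ 0) : Pt H φ u t := by
  obtain ⟨c, rfl⟩ := mem_sp.1 ht
  simpa using k.smul one_ne_zero (left_ne_zero_of_smul t0)

theorem Pt.map (k : Pt H φ u u') {g g' : SUb B} (e : φ (pr B g) = pr B g') :
    Pt H φ (suAct B g u) (suAct B g' u') :=
  ⟨sa_iso g k.q, sa_ne_zero g k.ne, sa_iso g' k.q', sa_ne_zero g' k.ne', fun c hc => by
    obtain ⟨c', k1, k2⟩ := k.im c hc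
    refine ⟨c', k1, ?_⟩
    rw [← ut_conj' H.b g k.q hc, ← ut_conj' H.b g' k.q' k1]
    simp only [map_mul, map_inv, e, k2]⟩

theorem Pt.im' (k : Pt H φ u u') {c : F} (hc : σ c = -c) (c0 : c ≠ 0) :
    ∃ c', σ c' = -c' ∧ c' ≠ 0 ∧ φ (pr B (ut H.b u c)) = pr B (ut H.b u' c') := by
  obtain ⟨c', k1, k2⟩ := k.im c hc
  refine ⟨c', k1, fun e => H.pr_ut_ne k.q k.ne hc c0 ?_, k2⟩
  rwa [e, ut_zero H.b k.q', map_one, map_eq_one_iff _ φ.injective] at k2

theorem ut_add (H : HU B q) (hu : B u u = 0) {c d : F} (hc : σ c = -c) (hd : σ d = -d) :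
    ut H.b u c * ut H.b u d = ut H.b u (c + d) := su_ext fun z => by
  rw [sa_mul, ut_apply H.b hu hc, ut_apply H.b hu hd, ut_apply H.b hu (by rw [map_add, hc, hd, neg_add])]
  simp only [map_add, map_smul, LinearMap.add_apply, LinearMap.smul_apply, hu, smul_eq_mul]
  module

theorem exists_pt (H : HU B q) (φ : MulAut (PU B)) (hu : B u u = 0) (u0 : u ≠ 0) : ∃ u', Pt H φ u u' := by
  obtain ⟨δ, δ0, hδ⟩ := H.u.exists_trace_zero
  obtain ⟨u', δ', u0', hu', δ0', hδ', e⟩ := Tv.map H ⟨u, δ, u0, hu, δ0, hδ, rfl⟩ φ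
  refine ⟨u', hu, u0, hu', u0', fun c hc => ?_⟩
  rcases eq_or_ne c 0 with rfl | c0
  · exact ⟨0, by simp, by simp [ut_zero H.b hu, ut_zero H.b hu']⟩
  obtain ⟨v, c', v0, hv, c0', hc', e'⟩ := Tv.map H ⟨u, c, u0, hu, c0, hc, rfl⟩ φ
  have h1 : σ (δ + c) = -(δ + c) := by rw [map_add, hδ, hc, neg_add]
  obtain ⟨z, d, hz, hd, e''⟩ : ∃ z d, B z z = 0 ∧ σ d = -d ∧ φ (pr B (ut H.b u (δ + c))) = pr B (ut H.b z d) := by
    rcases eq_or_ne (δ + c) 0 with k | k
    · exact ⟨u, 0, hu, by simp, by simp [k, ut_zero H.b hu]⟩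
    · obtain ⟨z, d, -, hz, -, hd, e''⟩ := Tv.map H ⟨u, _, u0, hu, k, h1, rfl⟩ φ
      exact ⟨z, d, hz, hd, e''⟩
  obtain ⟨s, rfl⟩ := mem_sp.1 (H.mul_ut hu' u0' hv hz hδ' hc' c0' hd (by
    rw [map_mul, ← e, ← e', ← map_mul, ← map_mul, ut_add H hu hδ hc, e'']) (.inl δ0'))
  exact ⟨s * σ s * c', by simp [H.b.invol, hc', mul_comm], e'.trans (by rw [ut_smul H.b hu' s hc'])⟩

theorem Pt.symm (k : Pt H φ u u') : Pt H φ⁻¹ u' u := by
  obtain ⟨v, kv⟩ := exists_pt H φ⁻¹ k.q' k.ne'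
  obtain ⟨δ, δ0, hδ⟩ := H.u.exists_trace_zero
  obtain ⟨c, k1, k2⟩ := k.im δ hδ
  obtain ⟨d, k3, k4⟩ := kv.im c k1
  exact kv.right (H.span_of_ut kv.q' kv.ne' k.q k3 hδ δ0 (by rw [← k4, ← k2]; simp)) k.ne

theorem Pt.uniq (k : Pt H φ u u') (k' : Pt H φ u t') : t' ∈ F ∙ u' := by
  obtain ⟨δ, δ0, hδ⟩ := H.u.exists_trace_zero
  obtain ⟨c, k1, k2⟩ := k.im δ hδ
  obtain ⟨d, k3, d0, k4⟩ := k'.im' hδ δ0
  exact H.span_of_ut k.q' k.ne' k'.q' k1 k3 d0 (k4.symm.trans k2)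

theorem Pt.perp (k : Pt H φ u u') (k' : Pt H φ t t') (e : B t u = 0) : B t' u' = 0 := by
  obtain ⟨δ, δ0, hδ⟩ := H.u.exists_trace_zero
  obtain ⟨c, k1, c0, k2⟩ := k.im' hδ δ0
  have k3 := k'.map k2
  rw [ut_apply H.b k.q hδ, ut_apply H.b k.q' k1, e, mul_zero, zero_smul, add_zero] at k3
  obtain ⟨s, hs⟩ := mem_sp.1 (k'.uniq k3)
  have := congrArg (B · t') hs
  simp only [map_add, map_smul, LinearMap.add_apply, LinearMap.smul_apply, k'.q', H.b.herm t' u', smul_eq_mul,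
    zero_add, mul_zero, mul_eq_zero, c0, false_or, map_eq_zero, or_self] at this
  exact this

theorem HU.disj (H : HU B q) {v w : E} (hh : Hy B v w) : Disjoint ((F ∙ v) ⊔ F ∙ w) (perp B ((F ∙ v) ⊔ F ∙ w)) :=
  Submodule.disjoint_def.2 fun x h1 h2 => by
    obtain ⟨s, t, rfl⟩ := mem_two.1 h1
    have := mem_perp_two.1 h2
    simp [hh.l, hh.r, hh.lr, hh.rl] at this
    simp [this]

theorem HU.exists_x0 (H : HU B q) {v w : E} (hh : Hy B v w) : ∃ x, B x v = 0 ∧ B x w = 0 ∧ B x x ≠ 0 := by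
  obtain ⟨x, x1, x2⟩ := H.u.exists_aniso (B := B) (W := perp B ((F ∙ v) ⊔ F ∙ w)) fun k => by
    rw [H.b.perp_perp] at k
    have h1 := H.b.finrank_perp ((F ∙ v) ⊔ F ∙ w)
    rw [(H.disj hh).symm.eq_bot_of_le k, finrank_bot] at h1
    have := finrank_two_le (F := F) v w
    have := H.three
    omega
  exact ⟨x, (mem_perp_two.1 x1).1, (mem_perp_two.1 x1).2, x2⟩

theorem HU.polar (H : HU B q) {v w : E} (hh : Hy B v w) (A : E →ₗ[F] E) (hv : A v ∈ F ∙ v)
    (hp : ∀ x, B x v = 0 → B (A x) v = 0) (hi : ∀ u, B u v = 0 → B u u = 0 → B (A u) u = 0) :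
    ∃ l : F, ∀ x, B x v = 0 → A x - l • x ∈ F ∙ v := by
  obtain ⟨a, ha⟩ := mem_sp.1 hv
  obtain ⟨δ, δ0, hδ⟩ := H.u.exists_trace_zero
  by_cases k : ∃ e, e ∈ perp B ((F ∙ v) ⊔ F ∙ w) ∧ e ≠ 0 ∧ B e e = 0
  · obtain ⟨e, he, e0, ee⟩ := k
    obtain ⟨f, hf, ff, fe⟩ := exists_hyp H.b H.u (H.disj hh) he e0 ee
    have hy := H.hy ee ff fe
    have ev := (mem_perp_two.1 he).1
    have fv := (mem_perp_two.1 hf).1
    obtain ⟨C, hC⟩ : ∃ C : E →ₗ[F] E, C = A - B (A e) f • LinearMap.id := ⟨_, rfl⟩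
    have ci : ∀ u, B u v = 0 → B u u = 0 → B (C u) u = 0 := fun u h1 h2 => by simp [hC, hi u h1 h2, h2]
    have c1 : B (C e) f = 0 := by simp [hC, hy.lr]
    have c2 : B (C f) e = 0 := by
      have := ci (e + δ • f) (by simp [ev, fv]) (by simp [ee, ff, fe, hy.lr, hδ])
      simpa [ci e ev ee, ci f fv ff, c1, δ0] using this
    have key : ∀ {e f : E}, Hy B e f → B e v = 0 → B f v = 0 → B (C e) f = 0 → B (C f) e = 0 → ∀ y, B y v = 0 →
        B y e = 0 → B y f = 0 → ∀ a μ, μ + σ μ = -(a * σ a * B y y) → σ a * B (C e) y + a * B (C y) e +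
          a * σ a * B (C y) y + a * σ μ * B (C y) f + μ * σ a * B (C f) y = 0 :=
      fun {e f} hy ev fv c1 c2 y y1 y2 y3 a μ hμ => by
        have := ci (e + a • y + μ • f) (by simp [ev, fv, y1]) (by
          simp only [map_add, map_smul, LinearMap.add_apply, LinearMap.smul_apply, LinearMap.map_smulₛₗ, hy.l, hy.r,
            hy.lr, hy.rl, y2, y3, H.b.refl y2, H.b.refl y3, smul_eq_mul, RingHom.id_apply]
          linear_combination hμ)
        simp only [map_add, map_smul, LinearMap.add_apply, LinearMap.smul_apply, LinearMap.map_smulₛₗ, c1, c2,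
          ci e ev hy.l, ci f fv hy.r, smul_eq_mul, RingHom.id_apply] at this
        linear_combination this
    have ex : ∀ (a : F) (y : E), ∃ μ, μ + σ μ = -(a * σ a * B y y) := fun a y => by
      obtain ⟨μ, hμ⟩ := H.u.trace_surj (c := -(a * σ a * B y y)) (by simp [H.b.invol, H.b.herm_self, mul_comm])
      exact ⟨μ, by rw [hμ, add_comm]⟩
    have key2 : ∀ {e f : E}, Hy B e f → B e v = 0 → B f v = 0 → B (C e) f = 0 → B (C f) e = 0 → ∀ y, B y v = 0 →
        B y e = 0 → B y f = 0 → B (C y) f = 0 ∧ B (C f) y = 0 := fun {e f} hy ev fv c1 c2 y y1 y2 y3 => by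
      have h1 : ∀ a, a * B (C y) f = σ a * B (C f) y := fun a => by
        obtain ⟨μ, hμ⟩ := ex a y
        have e1 := key hy ev fv c1 c2 y y1 y2 y3 a μ hμ
        have e2 := key hy ev fv c1 c2 y y1 y2 y3 a (μ + δ) (by rw [map_add, hδ]; linear_combination hμ)
        rw [map_add, hδ] at e2
        exact mul_left_cancel₀ δ0 (by linear_combination e1 - e2)
      have h2 := H.zero_of h1
      exact ⟨h2, by simpa [h2, eq_comm] using h1 1⟩
    have c3 : ∀ x, B x v = 0 → B (C x) x = 0 := fun x hx => by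
      obtain ⟨y, hy'⟩ : ∃ y, y = x - B x f • e - B x e • f := ⟨_, rfl⟩
      have y1 : B y v = 0 := by simp [hy', hx, ev, fv]
      have y2 : B y e = 0 := by simp [hy', ee, fe]
      have y3 : B y f = 0 := by simp [hy', ff, hy.lr]
      obtain ⟨k1, k2⟩ := key2 hy ev fv c1 c2 y y1 y2 y3
      obtain ⟨k3, k4⟩ := key2 hy.symm fv ev c2 c1 y y1 y3 y2
      obtain ⟨μ, hμ⟩ := ex 1 y
      have k5 : B (C y) y = 0 := by simpa [k1, k2, k3, k4] using key hy ev fv c1 c2 y y1 y2 y3 1 μ hμ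
      rw [show x = y + B x f • e + B x e • f by rw [hy']; abel]
      simp [k1, k2, k3, k4, k5, c1, c2, ci e ev ee, ci f fv ff]
    refine ⟨B (A e) f, fun x hx => H.mem_span fun z hz => H.b.refl ?_⟩
    have h1 : ∀ a, a * B (C x) z = σ a * -B (C z) x := fun a => by
      have := c3 (a • x + z) (by simp [hx, hz])
      simp only [map_add, map_smul, LinearMap.add_apply, LinearMap.smul_apply, LinearMap.map_smulₛₗ, c3 x hx,
        c3 z hz, smul_eq_mul, RingHom.id_apply] at this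
      linear_combination this
    simpa [hC] using H.zero_of h1
  · obtain ⟨x0, x1, x2, x3⟩ := H.exists_x0 hh
    have x4 : x0 ≠ 0 := by rintro rfl; simp at x3
    have h1 : perp B ((F ∙ v) ⊔ F ∙ w) = F ∙ x0 := by
      refine (Submodule.eq_of_le_of_finrank_le ((Submodule.span_singleton_le_iff_mem _ _).2
        (mem_perp_two.2 ⟨x1, x2⟩)) ?_).symm
      rw [finrank_span_singleton x4]
      by_contra! h2
      exact k (exists_iso_vec H.b H.u _ h2)
    have h2 : ∀ x, B x v = 0 → ∃ s : F, x = B x w • v + s • x0 := fun x hx => by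
      obtain ⟨s, hs⟩ := mem_sp.1 (h1 ▸ mem_perp_two.2 (⟨by simp [hx, hh.l], by simp [hh.lr]⟩ :
        B (x - B x w • v) v = 0 ∧ B (x - B x w • v) w = 0))
      exact ⟨s, by rw [← hs]; abel⟩
    obtain ⟨l, hl⟩ := h2 _ (hp x0 x1)
    refine ⟨l, fun x hx => ?_⟩
    obtain ⟨s, hs⟩ := h2 x hx
    generalize B x w = b at hs
    generalize B (A x0) w = b' at hl
    exact mem_sp.2 ⟨b * a + s * b' - l * b, by rw [hs, map_add, map_smul, map_smul, ha, hl]; module⟩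

/-- Automorphisms respect the unipotent radicals of the point stabilisers. -/
theorem Pt.map_Q {v v' w' y : E} {μ : F} (kv : Pt H φ v v') (hh : Hy B v' w') (h : Adm B y v μ) :
    ∃ y' μ', Adm B y' v' μ' ∧ B y' w' = 0 ∧ φ (pr B (ei H.b y v μ)) = pr B (ei H.b y' v' μ') := by
  obtain ⟨ρ, e⟩ := pr_surj (φ (pr B (ei H.b y v μ)))
  have k1 := kv.map e.symm
  rw [ei_fix H.b h] at k1
  obtain ⟨a, ha⟩ := mem_sp.1 (kv.uniq k1)
  have a0 : σ a ≠ 0 := (map_ne_zero σ).2 (left_ne_zero_of_smul (ha ▸ k1.ne'))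
  have hp : ∀ x, B x v' = 0 → B (suAct B ρ x) v' = 0 := fun x hx => by
    have := suAct_pres ρ x v'
    rw [ha, hx] at this
    simpa [a0] using this
  obtain ⟨l, hl⟩ := H.polar hh (suAct B ρ) (kv.uniq k1) hp fun u h1 h2 => by
    rcases eq_or_ne u 0 with rfl | u0
    · simp
    obtain ⟨s, ks⟩ := exists_pt H φ⁻¹ h2 u0
    have k2 := kv.symm.perp ks h1
    have k3 := ks.symm
    rw [inv_inv] at k3
    exact k3.perp (k3.map e.symm) (by simp [ei_apply H.b h, k2, H.b.refl k2, ks.q'])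
  obtain ⟨x, x1, x2, x3⟩ := H.exists_x0 hh
  have ll : l * σ l = 1 := by
    obtain ⟨t, ht⟩ := mem_sp.1 (hl x x1)
    have := suAct_pres ρ x x
    rw [sub_eq_iff_eq_add.1 ht] at this
    simp only [map_add, map_smul, LinearMap.add_apply, LinearMap.smul_apply, LinearMap.map_smulₛₗ, x1, hh.l,
      H.b.refl x1, smul_eq_mul, RingHom.id_apply] at this
    exact mul_right_cancel₀ x3 (by linear_combination this)
  have pw : ∀ n : ℕ, suAct B (ρ ^ n) v' = a ^ n • v' ∧ ∀ z, B z v' = 0 → B (suAct B (ρ ^ n) z) x = l ^ n * B z x :=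
    fun n => by
      induction n with
      | zero => simp
      | succ n ih =>
        refine ⟨by rw [pow_succ, sa_mul, ha, map_smul, ih.1, smul_smul, pow_succ'], fun z hz => ?_⟩
        obtain ⟨t, ht⟩ := mem_sp.1 (hl z hz)
        rw [pow_succ, sa_mul, ih.2 _ (hp z hz), sub_eq_iff_eq_add.1 ht]
        simp only [map_add, map_smul, LinearMap.add_apply, LinearMap.smul_apply, H.b.refl x1, smul_eq_mul]
        ring
  have := Fact.mk (BO.ringChar_prime (F := F))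
  obtain ⟨n, hn⟩ := Q_pgroup H.b h.iso (ringChar.Nat.cast_ringChar) ⟨_, y, μ, h, rfl⟩
  have hn' : ei H.b y v μ ^ ringChar F ^ n = 1 := congrArg Subtype.val hn
  obtain ⟨c, hc⟩ := H.of_pr_eq (g := 1) (g' := ρ ^ ringChar F ^ n) (by
    rw [map_pow, e, ← map_pow, ← map_pow, hn', map_one, map_one])
  have e1 := (pw (ringChar F ^ n)).1
  have e2 := (pw (ringChar F ^ n)).2 x x1
  rw [hc, sa_one] at e1 e2
  have e3 : c = a ^ ringChar F ^ n := smul_left_injective F hh.ne e1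
  have e4 : c = l ^ ringChar F ^ n := mul_right_cancel₀ x3 (by simpa using e2)
  obtain rfl : a = l := sub_eq_zero.1 (pow_eq_zero_iff (pow_ne_zero n this.out.ne_zero) |>.1 (by
    rw [sub_pow_char_pow, ← e3, ← e4, sub_self]))
  obtain ⟨y', μ', h1, h2, h3⟩ := H.mem_Q hh ll ha hl
  exact ⟨y', μ', h1, h2, e ▸ h3⟩

end Cfsg.Agent.H2.BU
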