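import Cfsg.Agent.H2.BU2

/-! Automorphisms of unitary groups, III: the Levi subgroup acting on the radical. -/

set_option autoImplicit false
set_option linter.unusedSectionVars false

namespace Cfsg.Agent.H2.BU

open Module Cfsg.Agent.H1 Cfsg.Agent.H1.UR
open Cfsg.Agent.H5 (Sesq IsEps UF Isom perp)
open Cfsg.Agent.H2.BO (mem_sp mem_two)

variable {F : Type*} [Field F] [Fintype F] {σ : F →+* F} {E : Type*} [AddCommGroup E] [Module F E]
  [FiniteDimensional F E] [Fintype E] {B : Sesq σ E} {q : ℕ}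

/-- The complement of a hyperbolic pair. -/
def Wp (B : Sesq σ E) (v w : E) : Submodule F E := perp B ((F ∙ v) ⊔ F ∙ w)

theorem mem_Wp {v w y : E} : y ∈ Wp B v w ↔ B y v = 0 ∧ B y w = 0 := mem_perp_two

theorem Hy.proj {v w : E} (hh : Hy B v w) (x : E) : x - B x w • v - B x v • w ∈ Wp B v w :=
  mem_Wp.2 ⟨by simp [hh.l, hh.rl], by simp [hh.r, hh.lr]⟩

variable (H : HU B q) {v w : E} (hh : Hy B v w)
include H hh

theorem HU.tor {x : E} (hx : x ∈ Wp B v w) (x0 : B x x ≠ 0) {a : F} (ha : a ≠ 0) : ∃ g : SUb B,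
    suAct B g v = a • v ∧ suAct B g w ∈ F ∙ w ∧
      ∀ z ∈ Wp B v w, suAct B g z = z + ((σ a / a - 1) * B z x / B x x) • x := by
  obtain ⟨x1, x2⟩ := mem_Wp.1 hx
  obtain ⟨g, hg⟩ := exists_tor H.b hh.l hh.r hh.rl x0 x1 x2 ha
  refine ⟨g, ?_, mem_sp.2 ⟨(σ a)⁻¹, ?_⟩, fun z hz => by simp [hg, mem_Wp.1 hz]⟩
  · simp [hg, hh.l, hh.lr, H.b.refl x1, sub_smul]
  · simp [hg, hh.r, hh.rl, H.b.refl x2, sub_smul]

theorem HU.dich {x : E} (hx : x ∈ Wp B v w) (x0 : B x x ≠ 0) : (∃ x' ∈ Wp B v w, B x' x' ≠ 0 ∧ B x x' = 0) ∨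
    (4 ≤ q + 1 ∧ ∀ z ∈ Wp B v w, z ∈ F ∙ x) := by
  obtain ⟨x1, x2⟩ := mem_Wp.1 hx
  have dec : ∀ z ∈ (F ∙ v) ⊔ (F ∙ w) ⊔ F ∙ x, z ∈ Wp B v w → z ∈ F ∙ x := fun z h1 h2 => by
    obtain ⟨y, hy, y', hy', rfl⟩ := Submodule.mem_sup.1 h1
    rw [Submodule.disjoint_def.1 (H.disj hh) y hy (by
      simpa [Wp] using sub_mem h2 ((Submodule.span_singleton_le_iff_mem _ _).2 hx hy')), zero_add]
    exact hy'
  by_cases k : perp B ((F ∙ v) ⊔ (F ∙ w) ⊔ F ∙ x) ≤ perp B (perp B ((F ∙ v) ⊔ (F ∙ w) ⊔ F ∙ x))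
  · rw [H.b.perp_perp] at k
    have k1 : perp B ((F ∙ v) ⊔ (F ∙ w) ⊔ F ∙ x) = ⊥ := (Submodule.eq_bot_iff _).2 fun z hz => by
      have h1 := k hz
      rw [H5.perp_sup] at hz
      obtain ⟨s, rfl⟩ := mem_sp.1 (dec z h1 hz.1)
      have := mem_perp_one.1 hz.2
      simp [x0] at this
      simp [this]
    have f1 := H.b.finrank_perp ((F ∙ v) ⊔ (F ∙ w) ⊔ F ∙ x)
    have f2 := finrank_sup_span_le ((F ∙ v) ⊔ (F ∙ w)) x
    have f3 := finrank_two_le (F := F) v w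
    have f4 := H.three
    have f5 := H.u.two_le
    rw [k1, finrank_bot] at f1
    have f6 := H.two (by omega)
    refine .inr ⟨by omega, fun z hz => dec z ?_ hz⟩
    rw [← H.b.perp_perp ((F ∙ v) ⊔ (F ∙ w) ⊔ F ∙ x), k1]
    intro y hy
    simp [(Submodule.mem_bot F).1 hy]
  · obtain ⟨x', h1, h2⟩ := H.u.exists_aniso k
    rw [H5.perp_sup] at h1
    exact .inl ⟨x', h1.1, h2, H.b.refl (mem_perp_one.1 h1.2)⟩

theorem HU.gen (P : E → Prop) (h1 : ∀ x ∈ Wp B v w, ∀ y ∈ Wp B v w, P x → P y → P (x - y))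
    (h2 : ∀ x ∈ Wp B v w, B x x ≠ 0 → P x) {y : E} (hy : y ∈ Wp B v w) : P y := by
  by_cases k : B y y = 0
  swap
  · exact h2 y hy k
  obtain ⟨x, x1, x2, x3⟩ := H.exists_x0 hh
  have hx := mem_Wp.2 ⟨x1, x2⟩
  obtain ⟨δ, δ0, hδ⟩ := H.u.exists_trace_zero
  obtain ⟨t, t0, ht⟩ : ∃ t : F, t ≠ 0 ∧ t * B x y + σ (t * B x y) = 0 := by
    by_cases k' : B x y = 0
    · exact ⟨1, one_ne_zero, by simp [k']⟩
    · exact ⟨δ / B x y, div_ne_zero δ0 k', by rw [div_mul_cancel₀ _ k', hδ, add_neg_cancel]⟩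
  have tx := Submodule.smul_mem _ t hx
  have := h1 _ (add_mem hy tx) _ tx (h2 _ (add_mem hy tx) fun e => x3 (by
    simp only [map_add, map_smul, LinearMap.add_apply, LinearMap.smul_apply, LinearMap.map_smulₛₗ, k,
      H.b.herm x y, smul_eq_mul, RingHom.id_apply, map_mul] at e ht
    exact mul_left_cancel₀ (mul_ne_zero t0 ((map_ne_zero σ).2 t0)) (by linear_combination e - ht)))
    (h2 _ tx (by simp [x3, t0]))
  simpa using this

omit hh in
theorem HU.exists_root : ∃ b : F, b * σ b = 1 ∧ b ≠ 1 ∧ b ^ 2 ≠ 1 ∧ (4 ≤ q + 1 → b ^ 3 ≠ 1) := by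
  obtain ⟨b, hb⟩ := H.u.exists_prim
  have := H.u.two_le
  exact ⟨b, by rw [H.u.norm_eq, hb.pow_eq_one], hb.ne_one (by omega), hb.pow_ne_one_of_pos_of_lt (by omega) (by omega),
    fun h => hb.pow_ne_one_of_pos_of_lt (by omega) (by omega)⟩

theorem HU.eps (ε : E → F) (hadd : ∀ x ∈ Wp B v w, ∀ y ∈ Wp B v w, ε (x + y) = ε x + ε y)
    (hε : ∀ (g : SUb B) (a : F), a * σ a = 1 → suAct B g v = a • v → suAct B g w ∈ F ∙ w →
      ∀ y ∈ Wp B v w, ε (σ a • suAct B g y) = ε y) {y : E} (hy : y ∈ Wp B v w) : ε y = 0 := by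
  refine H.gen hh (ε · = 0) (fun x hx y hy k k' => ?_) (fun x hx x0 => ?_) hy
  · simpa [k, k', eq_comm] using hadd _ (sub_mem hx hy) _ hy
  obtain ⟨b, b1, b2, -, b4⟩ := H.exists_root
  have b0 : b ≠ 0 := left_ne_zero_of_mul_eq_one b1
  obtain ⟨m, m1, hm⟩ : ∃ m : F, m ≠ 1 ∧ ∀ c : F, ε (m • c • x) = ε (c • x) := by
    rcases H.dich hh hx x0 with ⟨x', h1, h2, h3⟩ | ⟨h1, -⟩
    · obtain ⟨g, g1, g2, g3⟩ := H.tor hh h1 h2 b0
      refine ⟨σ b, fun e => b2 (by simpa [e] using b1), fun c => ?_⟩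
      have := hε g b b1 g1 g2 _ (Submodule.smul_mem _ c hx)
      simpa [g3 _ hx, h3] using this
    · obtain ⟨g, g1, g2, g3⟩ := H.tor hh hx x0 b0
      refine ⟨σ b * (σ b / b), fun e => b4 h1 ?_, fun c => ?_⟩
      · field_simp at e
        linear_combination -b ^ 2 * e + (b * σ b + 1) * b1
      · rw [← hε g b b1 g1 g2 _ (Submodule.smul_mem _ c hx), map_smul, g3 _ hx]
        congr 1
        match_scalars; field_simp; ring
  have m2 := sub_ne_zero.2 m1
  have := hadd _ hx _ (Submodule.smul_mem _ (m - 1)⁻¹ hx)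
  rw [show x + (m - 1)⁻¹ • x = m • (m - 1)⁻¹ • x by match_scalars; field_simp; ring, hm] at this
  simpa using this

theorem HU.comm (A : E →+ E) (hW : ∀ y ∈ Wp B v w, A y ∈ Wp B v w)
    (hA : ∀ (g : SUb B) (a : F), suAct B g v = a • v → suAct B g w ∈ F ∙ w →
      ∀ y ∈ Wp B v w, A (σ a • suAct B g y) = σ a • suAct B g (A y)) : ∃ c : F, ∀ y ∈ Wp B v w, A y = c • y := by
  obtain ⟨x0, x1, x2, x3⟩ := H.exists_x0 hh
  have hx0 := mem_Wp.2 ⟨x1, x2⟩
  have s1 : ∀ a, σ a = a → ∀ y ∈ Wp B v w, A (a • y) = a • A y := fun a ha y hy => by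
    rcases eq_or_ne a 0 with rfl | a0
    · simp
    obtain ⟨g, g1, g2, g3⟩ := H.tor hh hx0 x3 a0
    simpa [g3 _ hy, g3 _ (hW _ hy), ha, a0] using hA g a g1 g2 y hy
  obtain ⟨b, b1, b2, b3, b4⟩ := H.exists_root
  obtain ⟨a, a0, ha⟩ := H.u.hilbert90 b1
  have b0 : b ≠ 0 := left_ne_zero_of_mul_eq_one b1
  have a0' : σ a ≠ 0 := (map_ne_zero σ).2 a0
  have ab : σ a / a = b⁻¹ := by rw [div_eq_iff a0]; nth_rewrite 2 [ha]; field_simp
  have sb : σ b = b⁻¹ := eq_inv_of_mul_eq_one_right b1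
  have s2 : ∀ x ∈ Wp B v w, B x x ≠ 0 → ∃ m, σ m ≠ m ∧ ∀ c : F, A (m • c • x) = m • A (c • x) := fun x hx xx => by
    rcases H.dich hh hx xx with ⟨x', h1, h2, h3⟩ | ⟨h1, h2⟩
    · obtain ⟨g, g1, g2, g3⟩ := H.tor hh h1 h2 a0
      refine ⟨σ a, fun e => b2 (mul_left_cancel₀ a0' (by rw [← ha, ← e, H.b.invol, mul_one])), fun c => ?_⟩
      have z1 := Submodule.smul_mem _ c hx
      have z2 : B (c • x) x' = 0 := by simp [h3]
      generalize c • x = z at z1 z2
      have e1 := hA g a g1 g2 z z1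
      have e2 := hA g a g1 g2 _ (Submodule.smul_mem _ (σ a) z1)
      have e3 := s1 (a + σ a) (by rw [map_add, H.b.invol, add_comm]) _ (Submodule.smul_mem _ (σ a) z1)
      have e4 := s1 (a * σ a) (by rw [map_mul, H.b.invol, mul_comm]) z z1
      rw [map_smul (suAct B g)] at e2
      rw [g3 z z1, z2, mul_zero, zero_div, zero_smul, add_zero] at e1 e2
      have e5 : A (σ a • σ a • z) + A ((a * σ a) • z) = A ((a + σ a) • σ a • z) := by
        rw [← map_add]; congr 1; module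
      rw [e2, e3, e4, e1, map_smul, g3 _ (hW z z1), map_add, map_smul, g3 _ (hW z z1), g3 _ h1, ab] at e5
      have e6 := congrArg (B · x') e5
      simp only [map_add, map_smul, LinearMap.add_apply, LinearMap.smul_apply, smul_eq_mul] at e6
      have e7 : B (A z) x' = 0 := by
        generalize σ a = s at *
        subst ha
        field_simp at e6
        have : (b - 1) * (b ^ 2 - 1) * B (A z) x' = 0 := by linear_combination e6
        simpa [sub_ne_zero.2 b2, sub_ne_zero.2 b3] using this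
      rw [e1, g3 _ (hW z z1), e7, mul_zero, zero_div, zero_smul, add_zero]
    · obtain ⟨g, g1, g2, g3⟩ := H.tor hh hx xx a0
      have g4 : ∀ z ∈ Wp B v w, σ a • suAct B g z = (σ a * b⁻¹) • z := fun z hz => by
        obtain ⟨s, rfl⟩ := mem_sp.1 (h2 z hz)
        rw [g3 _ hz, ab, map_smul, LinearMap.smul_apply, smul_eq_mul]
        match_scalars; field_simp; ring
      refine ⟨σ a * b⁻¹, fun e => b4 h1 ?_, fun c => ?_⟩
      · rw [map_mul, map_inv₀, sb, H.b.invol, inv_inv] at e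
        generalize σ a = s at *
        subst ha
        field_simp at e
        linear_combination e
      · have z1 := Submodule.smul_mem _ c hx
        rw [← g4 _ z1, hA g a g1 g2 _ z1, g4 _ (hW _ z1)]
  have s3 : ∀ y ∈ Wp B v w, ∀ c : F, A (c • y) = c • A y := fun y hy =>
    H.gen hh (fun y => ∀ c : F, A (c • y) = c • A y) (fun x _ y _ k k' c => by simp [smul_sub, k, k'])
      (fun x hx xx c => by
        obtain ⟨m, m1, m2⟩ := s2 x hx xx
        have m3 := sub_ne_zero.2 m1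
        obtain ⟨k, hk⟩ : ∃ k, k = (σ c - c) / (σ m - m) := ⟨_, rfl⟩
        have k1 : σ k = k := by
          rw [hk, map_div₀, map_sub, map_sub, H.b.invol, H.b.invol, ← neg_div_neg_eq, neg_sub, neg_sub]
        have k2 : σ (c - m * k) = c - m * k := by
          rw [map_sub, map_mul, k1, hk]; field_simp; ring
        rw [show c • x = (c - m * k) • x + m • k • x by module, map_add, m2, s1 _ k2 x hx, s1 _ k1 x hx]
        module) hy
  have s4 : ∀ x ∈ Wp B v w, A x ∈ F ∙ x := fun x hx => by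
    by_cases xx : B x x = 0
    · rcases eq_or_ne x 0 with rfl | x0
      · simp
      obtain ⟨δ, δ0, hδ⟩ := H.u.exists_trace_zero
      obtain ⟨y, hy⟩ := exists_pair H.b x0
      have y1 := hh.proj y
      have y2 : B (y - B y w • v - B y v • w) x = 1 := by
        simp [hy, H.b.refl (mem_Wp.1 hx).1, H.b.refl (mem_Wp.1 hx).2]
      generalize y - B y w • v - B y v • w = z at y1 y2
      have := hA (ut H.b x δ) 1 (by simp [ut_apply H.b xx hδ, H.b.refl (mem_Wp.1 hx).1])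
        (by simp [ut_apply H.b xx hδ, H.b.refl (mem_Wp.1 hx).2]) z y1
      simp only [map_one, one_smul, ut_apply H.b xx hδ, map_add, s3 x hx, y2, mul_one, add_right_inj] at this
      exact (Submodule.smul_mem_iff _ δ0).1 (mem_sp.2 ⟨_, this⟩)
    · obtain ⟨g, g1, g2, g3⟩ := H.tor hh hx xx a0
      have := hA g a g1 g2 x hx
      rw [g3 x hx, g3 _ (hW x hx), s3 _ (add_mem hx (Submodule.smul_mem _ _ hx)), map_add, s3 x hx,
        smul_right_inj a0', add_right_inj, ab, mul_div_cancel_right₀ _ xx] at this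
      exact (Submodule.smul_mem_iff _ (sub_ne_zero.2 (by simpa using b2))).1 (mem_sp.2 ⟨_, this⟩)
  obtain ⟨c, hc⟩ := mem_sp.1 (s4 x0 hx0)
  refine ⟨c, fun y hy => ?_⟩
  by_cases k : y ∈ F ∙ x0
  · obtain ⟨s, rfl⟩ := mem_sp.1 k
    rw [s3 x0 hx0, hc, smul_comm]
  · obtain ⟨d, hd⟩ := mem_sp.1 (s4 y hy)
    obtain ⟨e, he⟩ := mem_sp.1 (s4 _ (add_mem hx0 hy))
    rw [map_add, hc, hd] at he
    have e1 : d = e := by
      by_contra k'
      exact k ((Submodule.smul_mem_iff _ (sub_ne_zero.2 k')).1 (mem_sp.2 ⟨e - c, by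
        linear_combination (norm := module) he⟩))
    have e2 : (c - e) • x0 = 0 := by rw [e1] at he; linear_combination (norm := module) he
    rw [hd, e1, ← sub_eq_zero.1 ((smul_eq_zero.1 e2).resolve_right (by rintro rfl; simp at x3))]

end Cfsg.Agent.H2.BU
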