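import Cfsg.Agent.H2.BU3

/-! Automorphisms of unitary groups, IV: they are induced by semilinear similarities. -/

set_option autoImplicit false
set_option linter.unusedSectionVars false

namespace Cfsg.Agent.H2.BU

open Module Cfsg.Agent.H1 Cfsg.Agent.H1.UR
open Cfsg.Agent.H5 (Sesq IsEps UF Isom perp)
open Cfsg.Agent.H2.BO (mem_sp mem_two)

variable {F : Type*} [Field F] [Fintype F] {σ : F →+* F} {E : Type*} [AddCommGroup E] [Module F E]
  [FiniteDimensional F E] [Fintype E] {B : Sesq σ E} {q : ℕ}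

/-- The map induced on the unipotent radicals. -/
structure Dat (H : HU B q) (φ : MulAut (PU B)) (v w v' w' : E) (f : E →+ E) (θ : E → F → F) : Prop where
  hy : Hy B v w
  hy' : Hy B v' w'
  pv : Pt H φ v v'
  pw : Pt H φ w w'
  mem : ∀ y, f y ∈ Wp B v' w'
  adm : ∀ y ∈ Wp B v w, ∀ μ, Adm B y v μ → Adm B (f y) v' (θ y μ)
  im : ∀ y ∈ Wp B v w, ∀ μ, Adm B y v μ → φ (pr B (ei H.b y v μ)) = pr B (ei H.b (f y) v' (θ y μ))

variable {H : HU B q} {φ : MulAut (PU B)} {v w v' w' : E} {f f' : E →+ E} {θ θ' : E → F → F}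

theorem exists_dat (hh : Hy B v w) (hh' : Hy B v' w') (kv : Pt H φ v v') (kw : Pt H φ w w') :
    ∃ f θ, Dat H φ v w v' w' f θ := by
  have : ∀ y μ, ∃ y' μ', Adm B y v μ →
      Adm B y' v' μ' ∧ B y' w' = 0 ∧ φ (pr B (ei H.b y v μ)) = pr B (ei H.b y' v' μ') := fun y μ => by
    by_cases k : Adm B y v μ
    · obtain ⟨y', μ', k'⟩ := kv.map_Q hh' k; exact ⟨y', μ', fun _ => k'⟩
    · exact ⟨0, 0, fun k' => (k k').elim⟩
  choose g θ hg using this
  have add : ∀ {x y μ ν}, Adm B x v μ → Adm B y v ν → g (x + y) (μ + ν + B y x) = g x μ + g y ν :=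
    fun {x y μ ν} h h' => by
      obtain ⟨a1, a2, a3⟩ := hg _ _ h
      obtain ⟨b1, b2, b3⟩ := hg _ _ h'
      obtain ⟨c1, c2, c3⟩ := hg _ _ (h.add H.b h')
      exact (H.ei_inj' hh' c1 (a1.add H.b b1) c2 (by simp [a2, b2]) (by
        rw [← c3, ← ei_mul H.b h h', ← ei_mul H.b a1 b1, map_mul, map_mul, map_mul, a3, b3])).1
  have zero : ∀ {μ}, Adm B 0 v μ → g 0 μ = 0 := fun {μ} h => by
    obtain ⟨a1, a2, a3⟩ := hg _ _ h
    obtain ⟨c, c1, c2⟩ := kv.im _ (ei_zero_eq H.b h).1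
    exact (H.ei_inj' hh' a1 (adm_zero hh'.l c1) a2 (by simp) (by rw [← a3, (ei_zero_eq H.b h).2, c2]; rfl)).1
  have ind : ∀ {y μ ν}, Adm B y v μ → Adm B y v ν → g y μ = g y ν := fun {y μ ν} h h' => by
    have k : Adm B 0 v (μ - ν) := ⟨hh.l, by simp, by rw [map_sub, map_zero]; linear_combination h.tr - h'.tr⟩
    simpa [zero k] using add k h'
  obtain ⟨π, hπ⟩ : ∃ π : E → E, π = fun x => x - B x v • w := ⟨_, rfl⟩
  have : ∀ x, ∃ μ, Adm B (π x) v μ := fun x => H.exists_adm hh.l (by simp [hπ, hh.rl])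
  choose m hm using this
  have e : ∀ y ∈ Wp B v w, ∀ μ, Adm B y v μ → g (π y) (m y) = g y μ := fun y hy μ h => by
    have k := hm y
    have k' : π y = y := by simp [hπ, h.perp]
    rw [k'] at k ⊢
    exact ind k h
  refine ⟨AddMonoidHom.mk' (fun x => g (π x) (m x)) fun x y => ?_, θ, hh, hh', kv, kw,
    fun y => mem_Wp.2 ⟨(hg _ _ (hm y)).1.perp, (hg _ _ (hm y)).2.1⟩, fun y hy μ h => ?_, fun y hy μ h => ?_⟩
  · have k := hm (x + y)
    have k' : π (x + y) = π x + π y := by simp only [hπ, map_add, LinearMap.add_apply]; module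
    rw [k'] at k ⊢
    rw [ind k ((hm x).add H.b (hm y)), add (hm x) (hm y)]
  · rw [AddMonoidHom.mk'_apply, e y hy μ h]; exact (hg _ _ h).1
  · rw [AddMonoidHom.mk'_apply, e y hy μ h]; exact (hg _ _ h).2.2

namespace Dat

variable (D : Dat H φ v w v' w' f θ)
include D

theorem uq {y y' : E} {μ μ' : F} (hy : y ∈ Wp B v w) (h : Adm B y v μ) (hy' : y' ∈ Wp B v' w') (h' : Adm B y' v' μ')
    (e : φ (pr B (ei H.b y v μ)) = pr B (ei H.b y' v' μ')) : f y = y' ∧ θ y μ = μ' :=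
  H.ei_inj' D.hy' (D.adm y hy μ h) h' (mem_Wp.1 (D.mem y)).2 (mem_Wp.1 hy').2 ((D.im y hy μ h).symm.trans e)

theorem add {x y : E} {μ ν : F} (hx : x ∈ Wp B v w) (hy : y ∈ Wp B v w) (h : Adm B x v μ) (h' : Adm B y v ν) :
    θ (x + y) (μ + ν + B y x) = θ x μ + θ y ν + B (f y) (f x) :=
  (D.uq (add_mem hx hy) (h.add H.b h') (add_mem (D.mem x) (D.mem y)) ((D.adm x hx μ h).add H.b (D.adm y hy ν h')) (by
    rw [← ei_mul H.b h h', ← ei_mul H.b (D.adm x hx μ h) (D.adm y hy ν h'), map_mul, map_mul, map_mul, D.im x hx μ h,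
      D.im y hy ν h'])).2

theorem inv (D' : Dat H φ⁻¹ v' w' v w f' θ') {y : E} (hy : y ∈ Wp B v w) : f' (f y) = y := by
  obtain ⟨μ, h⟩ := H.exists_adm D.hy.l (mem_Wp.1 hy).1
  exact (D'.uq (D.mem y) (D.adm y hy μ h) hy h (by rw [← D.im y hy μ h]; simp)).1

omit D in
theorem W_map {g : SUb B} {a : F} (hh : Hy B v w) (g1 : suAct B g v = a • v) (g2 : suAct B g w ∈ F ∙ w) {y : E}
    (hy : y ∈ Wp B v w) : suAct B g y ∈ Wp B v w := by
  obtain ⟨b, g2⟩ := mem_sp.1 g2
  have e1 := suAct_pres g y v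
  have e2 := suAct_pres g y w
  rw [g1, (mem_Wp.1 hy).1] at e1
  rw [g2, (mem_Wp.1 hy).2] at e2
  exact mem_Wp.2 ⟨by simpa [left_ne_zero_of_smul (g1 ▸ sa_ne_zero g hh.ne)] using e1,
    by simpa [left_ne_zero_of_smul (g2 ▸ sa_ne_zero g hh.symm.ne)] using e2⟩

omit D in
theorem cj (H : HU B q) {g : SUb B} {a μ : F} {y : E} (v0 : v ≠ 0) (g1 : suAct B g v = a • v) (h : Adm B y v μ) :
    Adm B (σ a • suAct B g y) v (a * σ a * μ) ∧
      pr B (ei H.b (σ a • suAct B g y) v (a * σ a * μ)) = pr B g * pr B (ei H.b y v μ) * (pr B g)⁻¹ := by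
  have h1 := h.map g
  have h2 := ei_conj H.b g h
  rw [g1] at h1 h2
  have h3 := ei_smul H.b h1 (left_ne_zero_of_smul (g1 ▸ sa_ne_zero g v0))
  exact ⟨h3.1, by rw [← h3.2, ← map_mul, h2, map_mul, mul_inv_cancel_right]⟩

theorem stab {g g' : SUb B} {a : F} (e : φ (pr B g) = pr B g') (g1 : suAct B g v = a • v)
    (g2 : suAct B g w ∈ F ∙ w) : suAct B g' v' ∈ (F ∙ v') ∧ suAct B g' w' ∈ F ∙ w' :=
  ⟨(D.pv.left (mem_sp.2 ⟨a, g1⟩) (sa_ne_zero g D.hy.ne)).uniq (D.pv.map e),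
    (D.pw.left g2 (sa_ne_zero g D.hy.symm.ne)).uniq (D.pw.map e)⟩

theorem inter {g g' : SUb B} {a a' μ : F} {y : E} (e : φ (pr B g) = pr B g') (g1 : suAct B g v = a • v)
    (g2 : suAct B g w ∈ F ∙ w) (g1' : suAct B g' v' = a' • v') (hy : y ∈ Wp B v w) (h : Adm B y v μ) :
    f (σ a • suAct B g y) = σ a' • suAct B g' (f y) ∧ θ (σ a • suAct B g y) (a * σ a * μ) = a' * σ a' * θ y μ := by
  obtain ⟨k1, k2⟩ := cj H D.hy.ne g1 h
  obtain ⟨k3, k4⟩ := cj H D.hy'.ne g1' (D.adm y hy μ h)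
  exact D.uq (Submodule.smul_mem _ _ (W_map D.hy g1 g2 hy)) k1
    (Submodule.smul_mem _ _ (W_map D.hy' g1' (D.stab e g1 g2).2 (D.mem y))) k3 (by
      rw [k2, k4, map_mul, map_mul, map_inv, e, D.im y hy μ h])

theorem semi (D' : Dat H φ⁻¹ v' w' v w f' θ') (c : F) : ∃ d : F, ∀ y ∈ Wp B v w, f (c • y) = d • f y := by
  obtain ⟨d, hd⟩ := H.comm D.hy' ((f.comp (DistribSMul.toAddMonoidHom E c)).comp f') (fun y _ => D.mem _)
    fun g' a' g1' g2' y' hy' => by
      obtain ⟨g, e⟩ := pr_surj (φ⁻¹ (pr B g'))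
      obtain ⟨g1, g2⟩ := D'.stab e.symm g1' g2'
      obtain ⟨a, g1⟩ := mem_sp.1 g1
      obtain ⟨μ, h⟩ := H.exists_adm D.hy'.l (mem_Wp.1 hy').1
      have y1 := Submodule.smul_mem _ c (D'.mem y')
      obtain ⟨ν, h'⟩ := H.exists_adm D.hy.l (mem_Wp.1 y1).1
      change f (c • f' _) = _ • suAct B g' (f (c • f' y'))
      rw [(D'.inter e.symm g1' g2' g1 hy' h).1, ← (D.inter (by rw [e]; simp) g1 g2 g1' y1 h').1, map_smul (suAct B g), smul_comm]
  exact ⟨d, fun y hy => by simpa [D.inv D' hy] using hd _ (D.mem y)⟩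

theorem comm {x y : E} (hx : x ∈ Wp B v w) (hy : y ∈ Wp B v w) :
    θ 0 (B y x - B x y) = B (f y) (f x) - B (f x) (f y) := by
  obtain ⟨μ, h⟩ := H.exists_adm D.hy.l (mem_Wp.1 hx).1
  obtain ⟨ν, h'⟩ := H.exists_adm D.hy.l (mem_Wp.1 hy).1
  have e1 := D.add hx hy h h'
  have e2 := D.add hy hx h' h
  have e3 := D.add (zero_mem _) (add_mem hy hx) (μ := B y x - B x y)
    ⟨D.hy.l, by simp, by simp [← H.b.herm]⟩ (h'.add H.b h)
  rw [zero_add, map_zero, map_zero f, map_zero, e2, add_comm y x,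
    show B y x - B x y + (ν + μ + B x y) + 0 = μ + ν + B y x by ring, e1] at e3
  linear_combination -e3

theorem perp (hf : ∀ c : F, ∃ d : F, ∀ y ∈ Wp B v w, f (c • y) = d • f y) (D' : Dat H φ⁻¹ v' w' v w f' θ')
    {x y : E} (hx : x ∈ Wp B v w) (hy : y ∈ Wp B v w) (e : B (f y) (f x) = 0) : B y x = 0 :=
  H.zero_of (β := B x y) fun c => by
    obtain ⟨d, hd⟩ := hf c
    have y1 := Submodule.smul_mem _ c hy
    have k := D.comm hx y1
    have k0 : Adm B 0 v (B (c • y) x - B x (c • y)) := ⟨D.hy.l, by simp, by simp [← H.b.herm, H.b.invol]⟩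
    rw [hd y hy, map_smul B d, LinearMap.smul_apply, LinearMap.map_smulₛₗ (B (f x)), e, H.b.refl e, smul_zero, smul_zero,
      sub_zero] at k
    have k1 := D.im 0 (zero_mem _) _ k0
    rw [k, map_zero f, show ei H.b 0 v' 0 = 1 by simpa using (ei_self H.b D.hy'.l 0).2, map_one,
      map_eq_one_iff _ φ.injective] at k1
    have := (H.ei_inj' D.hy k0 ⟨D.hy.l, by simp, by simp⟩ (y := 0) (ν := 0) (by simp) (by simp) (by
      rw [k1, show ei H.b 0 v 0 = 1 by simpa using (ei_self H.b D.hy.l 0).2, map_one])).2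
    simpa [sub_eq_zero] using this

end Dat

/-- Automorphisms of the projective unitary group are induced by semilinear similarities. -/
theorem exists_sim (H : HU B q) (φ : MulAut (PU B)) : ∃ (τ : F ≃+* F) (T : E ≃+ E) (lam : F), lam ≠ 0 ∧
    (∀ (c : F) x, T (c • x) = τ c • T x) ∧ (∀ x y, B (T x) (T y) = lam * τ (B x y)) ∧
    ∀ g g' : SUb B, φ (pr B g) = pr B g' → ∃ c : F, ∀ x, suAct B g' (T x) = c • T (suAct B g x) := by
  obtain ⟨v, w, hh⟩ := H.exists_hy
  obtain ⟨v', kv⟩ := exists_pt H φ hh.l hh.ne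
  obtain ⟨w', kw, hh'⟩ : ∃ w', Pt H φ w w' ∧ Hy B v' w' := by
    obtain ⟨w', kw⟩ := exists_pt H φ hh.r hh.symm.ne
    have k : B w' v' ≠ 0 := fun e => by simpa [hh.rl] using kv.symm.perp kw.symm e
    have kw' := kw.smul one_ne_zero (inv_ne_zero k)
    rw [one_smul] at kw'
    exact ⟨_, kw', H.hy kv.q' kw'.q' (by simp [k])⟩
  obtain ⟨f, θ, D⟩ := exists_dat hh hh' kv kw
  obtain ⟨f', θ', D'⟩ := exists_dat hh' hh kv.symm kw.symm
  have D'' : Dat H φ⁻¹⁻¹ v w v' w' f θ := by rwa [inv_inv]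
  choose s hs using D.semi D'
  obtain ⟨x0, x1, x2, x3⟩ := H.exists_x0 hh
  have hx0 := mem_Wp.2 ⟨x1, x2⟩
  have fx : B (f x0) (f x0) ≠ 0 := fun e => x3 (D.perp (fun c => ⟨_, hs c⟩) D' hx0 hx0 e)
  have fp : f x0 ≠ 0 := by intro e; simp [e] at fx
  let σ' : F →+* F :=
    { toFun := s
      map_one' := smul_left_injective F fp (by simp only [← hs _ x0 hx0, one_smul])
      map_mul' := fun c d => smul_left_injective F fp (by
        simp only [← hs _ x0 hx0, mul_smul, ← hs _ _ (Submodule.smul_mem _ d hx0)])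
      map_zero' := smul_left_injective F fp (by simp only [← hs _ x0 hx0, zero_smul, map_zero])
      map_add' := fun c d => smul_left_injective F fp (by simp only [← hs _ x0 hx0, add_smul, map_add]) }
  let τ : F ≃+* F := RingEquiv.ofBijective σ' (Finite.injective_iff_bijective.1 σ'.injective)
  have hτ : ∀ c, ∀ x ∈ Wp B v w, f (c • x) = τ c • f x := hs
  clear_value τ
  have st : ∀ c, σ (τ c) = τ (σ c) := fun c => by rw [H.u.apply, H.u.apply, map_pow]
  have s4 : ∀ x ∈ Wp B v w, ∀ y ∈ Wp B v w, B y x = 0 → B (f y) (f x) = 0 := fun x hx y hy e =>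
    D'.perp (D'.semi D'') D'' (D.mem x) (D.mem y) (by rwa [D.inv D' hx, D.inv D' hy])
  obtain ⟨lam, hl⟩ : ∃ lam, lam = B (f x0) (f x0) / τ (B x0 x0) := ⟨_, rfl⟩
  have x4 : τ (B x0 x0) ≠ 0 := by simpa using x3
  have l0 : lam ≠ 0 := hl ▸ div_ne_zero fx x4
  have l1 : σ lam = lam := by rw [hl, map_div₀, st, H.b.herm_self, H.b.herm_self]
  have s5 : ∀ x ∈ Wp B v w, B x0 x ≠ 0 → B (f x0) (f x) = lam * τ (B x0 x) → ∀ y ∈ Wp B v w,
      B (f y) (f x) = lam * τ (B y x) := fun x hx k k' y hy => by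
    have := s4 x hx _ (sub_mem hy (Submodule.smul_mem _ (B y x / B x0 x) hx0)) (by simp [k])
    rw [map_sub, hτ _ _ hx0] at this
    simp only [map_sub, map_smul, LinearMap.sub_apply, LinearMap.smul_apply, k', smul_eq_mul, map_div₀] at this
    have k1 : τ (B x0 x) ≠ 0 := by simpa using k
    field_simp at this
    linear_combination this
  have s6 := s5 x0 hx0 x3 (by rw [hl, div_mul_cancel₀ _ x4])
  have s7' : ∀ x ∈ Wp B v w, B x0 x ≠ 0 → ∀ y ∈ Wp B v w, B (f y) (f x) = lam * τ (B y x) := fun x hx k =>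
    s5 x hx k (by rw [H.b.herm, s6 x hx, map_mul, l1, st, ← H.b.herm])
  have s7 : ∀ x ∈ Wp B v w, ∀ y ∈ Wp B v w, B (f y) (f x) = lam * τ (B y x) := fun x hx y hy => by
    by_cases k : B x0 x = 0
    · have := s7' _ (add_mem hx hx0) (by simpa [k] using x3) y hy
      simp only [map_add, s6 y hy] at this
      linear_combination this
    · exact s7' x hx k y hy
  have s8 : ∀ μ, Adm B 0 v μ → θ 0 μ = lam * τ μ := fun μ h => by
    obtain ⟨ω, hω⟩ := H.u.exists_trace_one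
    have y1 := Submodule.smul_mem _ (μ * ω / B x0 x0) hx0
    have k := D.comm hx0 y1
    have k1 : σ μ = -μ := by have := h.tr; simp at this; linear_combination this
    rw [s7 _ hx0 _ y1, s7 _ y1 _ hx0, ← mul_sub, ← map_sub] at k
    rwa [show B ((μ * ω / B x0 x0) • x0) x0 - B x0 ((μ * ω / B x0 x0) • x0) = μ by
      simp only [map_smul, LinearMap.smul_apply, LinearMap.map_smulₛₗ, map_div₀, map_mul, k1, H.b.herm_self,
        smul_eq_mul, RingHom.id_apply]
      field_simp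
      linear_combination μ * hω] at k
  have s9 : ∀ y ∈ Wp B v w, ∀ μ, Adm B y v μ → θ y μ = lam * τ μ := by
    have : ∀ y, ∃ μ, y ∈ Wp B v w → Adm B y v μ := fun y => by
      by_cases k : y ∈ Wp B v w
      · obtain ⟨μ, h⟩ := H.exists_adm hh.l (mem_Wp.1 k).1; exact ⟨μ, fun _ => h⟩
      · exact ⟨0, fun k' => (k k').elim⟩
    choose m hm using this
    have ind : ∀ y ∈ Wp B v w, ∀ μ, Adm B y v μ → θ y μ - lam * τ μ = θ y (m y) - lam * τ (m y) := fun y hy μ h => by
      have k : Adm B 0 v (μ - m y) := ⟨hh.l, by simp, by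
        rw [map_sub, map_zero]; linear_combination h.tr - (hm y hy).tr⟩
      have := D.add (zero_mem _) hy k (hm y hy)
      simp only [zero_add, map_zero, add_zero, sub_add_cancel, s8 _ k, map_sub] at this
      linear_combination this
    intro y hy μ h
    rw [← sub_eq_zero, ind y hy μ h]
    refine H.eps hh (fun y => θ y (m y) - lam * τ (m y)) (fun x hx y hy => ?_) (fun g a ha g1 g2 y hy => ?_) hy
    · rw [← ind _ (add_mem hx hy) _ ((hm x hx).add H.b (hm y hy)), D.add hx hy (hm x hx) (hm y hy), s7 x hx y hy,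
        map_add, map_add]
      ring
    · obtain ⟨g', e⟩ := pr_surj (φ (pr B g))
      obtain ⟨a', g1'⟩ := mem_sp.1 (D.stab e.symm g1 g2).1
      obtain ⟨δ, δ0, hδ⟩ := H.u.exists_trace_zero
      have k1 := (D.inter e.symm g1 g2 g1' (zero_mem _) (adm_zero hh.l hδ)).2
      rw [map_zero, smul_zero, ha, one_mul, s8 _ (adm_zero hh.l hδ)] at k1
      have k2 : a' * σ a' = 1 := mul_right_cancel₀ (mul_ne_zero l0 (show τ (-δ) ≠ 0 by simpa using δ0))
        (by linear_combination -k1)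
      have k3 := (D.inter e.symm g1 g2 g1' hy (hm y hy)).2
      have k4 := (Dat.cj H hh.ne g1 (hm y hy)).1
      rw [ha, one_mul] at k3 k4
      rw [← ind _ (Submodule.smul_mem _ _ (Dat.W_map hh g1 g2 hy)) _ k4, k3, k2, one_mul]
  -- the semilinear map
  obtain ⟨π, hπ⟩ : ∃ π : E → E, π = fun x => x - B x w • v - B x v • w := ⟨_, rfl⟩
  have π1 : ∀ x, π x ∈ Wp B v w := fun x => hπ ▸ hh.proj x
  have π3 : ∀ x, x = B x w • v + B x v • w + π x := fun x => by simp only [hπ]; abel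
  let T0 : E →+ E := AddMonoidHom.mk' (fun x => (lam * τ (B x w)) • v' + τ (B x v) • w' + f (π x))
    fun x y => by
      rw [show π (x + y) = π x + π y by simp only [hπ, map_add, LinearMap.add_apply]; module]
      simp only [map_add, LinearMap.add_apply]; module
  have hT : ∀ x, T0 x = (lam * τ (B x w)) • v' + τ (B x v) • w' + f (π x) := fun _ => rfl
  clear_value T0
  have t1 : ∀ (c : F) x, T0 (c • x) = τ c • T0 x := fun c x => by
    rw [hT, hT, show π (c • x) = c • π x by simp only [hπ, map_smul, LinearMap.smul_apply, smul_eq_mul]; module,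
      hτ _ _ (π1 x)]
    simp only [map_smul, LinearMap.smul_apply, smul_eq_mul, map_mul]; module
  have t3 : ∀ x y, B (T0 x) (T0 y) = lam * τ (B x y) := fun x y => by
    have a1 := mem_Wp.1 (D.mem (π x))
    have a2 := mem_Wp.1 (D.mem (π y))
    have a3 := mem_Wp.1 (π1 x)
    have a4 := mem_Wp.1 (π1 y)
    rw [hT, hT]
    conv_rhs => rw [π3 x, π3 y]
    simp only [map_add, map_smul, LinearMap.add_apply, LinearMap.smul_apply, LinearMap.map_smulₛₗ, smul_eq_mul,
      RingHom.id_apply, hh.l, hh.r, hh.lr, hh.rl, hh'.l, hh'.r, hh'.lr, hh'.rl, a1, a3, H.b.refl a2.1, H.b.refl a2.2,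
      H.b.refl a4.1, H.b.refl a4.2, s7 _ (π1 y) _ (π1 x), map_mul, l1, st, map_zero, map_one]
    ring
  have t4 : Function.Injective T0 := (injective_iff_map_eq_zero _).2 fun x e =>
    H.b.nondeg x fun y => by simpa [e, l0] using t3 x y
  have t5 := Finite.injective_iff_bijective.1 t4
  have t6 : T0 v = lam • v' := by simp [hT, hπ, hh.l, hh.lr]
  have pt1 : ∀ z, B z z = 0 → B z v = 1 → Pt H φ z (T0 z) := fun z q z1 => by
    have a3 := mem_Wp.1 (π1 z)
    have h : Adm B (π z) v (-B z w) := ⟨hh.l, a3.1, by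
      rw [π3 z] at q
      simp only [map_add, map_smul, LinearMap.add_apply, LinearMap.smul_apply, LinearMap.map_smulₛₗ, smul_eq_mul,
        RingHom.id_apply, hh.l, hh.r, hh.lr, hh.rl, a3, H.b.refl a3.1, H.b.refl a3.2, z1, map_one] at q
      rw [map_neg]
      linear_combination -q⟩
    have k1 := kw.map (D.im _ (π1 z) _ h)
    rw [ei_apply H.b h, ei_apply H.b (D.adm _ (π1 z) _ h), s9 _ (π1 z) _ h, hh.rl, hh'.rl, H.b.refl a3.2,
      H.b.refl (mem_Wp.1 (D.mem _)).2, map_neg] at k1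
    convert k1 using 1
    · conv_lhs => rw [π3 z, z1]
      module
    · rw [hT, z1, map_one]
      module
  have pt : ∀ u, B u u = 0 → u ≠ 0 → Pt H φ u (T0 u) := fun u q u0 => by
    by_cases k : B u v = 0
    · by_cases k' : v ∈ F ∙ u
      · obtain ⟨c, rfl⟩ := mem_sp.1 k'
        have c0 := left_ne_zero_of_smul hh.ne
        have := kv.smul (inv_ne_zero c0) (mul_ne_zero (show τ c⁻¹ ≠ 0 by simpa using c0) l0)
        rwa [mul_smul, ← t6, ← t1, inv_smul_smul₀ c0] at this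
      obtain ⟨u', ku⟩ := exists_pt H φ q u0
      obtain ⟨u'', rfl⟩ := t5.2 u'
      obtain ⟨t, a1, a2, a3⟩ := exists_partner H.b H.u hh.ne hh.l k' fun s hs => by
        obtain ⟨c, rfl⟩ := mem_sp.1 hs
        simp [H.b.refl k]
      have a4 := a3 u (Submodule.mem_span_singleton_self u)
      have b1 : ∀ z, B z z = 0 → B z v = 1 → B z u = 0 → B z u'' = 0 := fun z c1 c2 c3 => by
        simpa [t3, l0] using ku.perp (pt1 z c1 c2) c3
      have b2 : B v u'' = 0 := by
        have := ku.perp (kv.smul one_ne_zero l0) (by simp [H.b.refl k])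
        rw [← t6] at this
        simpa [t3, l0] using this
      have ht := H.hy hh.l a1 a2
      obtain ⟨c, rfl⟩ := mem_sp.1 (H.mem_span (u := u) (x := u'') fun z hz => by
        obtain ⟨y, hy⟩ : ∃ y, y = z - B z t • v - B z v • t := ⟨_, rfl⟩
        have y1 : B y v = 0 := by simp [hy, hh.l, a2]
        have y2 : B y u = 0 := by simp [hy, a4, H.b.refl k, hz]
        obtain ⟨μ, h⟩ := H.exists_adm hh.l y1
        have := b1 _ (sa_iso (ei H.b y v μ) a1) (by simp [ei_apply H.b h, a2, y1, hh.l])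
          (by simp [ei_apply H.b h, a4, H.b.refl k, y2])
        have y3 : B y u'' = 0 := by simpa [ei_apply H.b h, a2, b2, b1 t a1 a2 a4] using this
        simpa [hy, b2, b1 t a1 a2 a4] using y3)
      have c0 : τ c ≠ 0 := left_ne_zero_of_smul (t1 c u ▸ ku.ne')
      have := ku.smul one_ne_zero (inv_ne_zero c0)
      rwa [one_smul, t1, inv_smul_smul₀ c0] at this
    · have := (pt1 ((B u v)⁻¹ • u) (by simp [q]) (by simp [k])).smul k (show τ (B u v) ≠ 0 by simpa using k)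
      rwa [← t1, smul_inv_smul₀ k] at this
  let T := AddEquiv.ofBijective T0 t5
  have t1' : ∀ (c : F) x, T (c • x) = τ c • T x := t1
  refine ⟨τ, T, lam, l0, t1, t3, fun g g' e => ?_⟩
  let A : E →ₗ[F] E :=
    { toFun := fun x => T.symm (suAct B g'⁻¹ (T (suAct B g x)))
      map_add' := fun x y => by simp only [map_add]
      map_smul' := fun c x => T.injective (by simp only [map_smul, t1', AddEquiv.apply_symm_apply, RingHom.id_apply]) }
  obtain ⟨c, hc⟩ := H.scalar A fun x q => by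
    rcases eq_or_ne x 0 with rfl | x0
    · simp
    have k := (pt x q x0).map e
    obtain ⟨d, hd⟩ := mem_sp.1 (k.uniq (pt _ k.q k.ne))
    refine mem_sp.2 ⟨τ.symm d, T.injective ?_⟩
    change T (T.symm (suAct B g'⁻¹ (T0 _))) = _
    rw [AddEquiv.apply_symm_apply, hd, map_smul, sa_inv_app, t1', RingEquiv.apply_symm_apply]
    rfl
  have k : ∀ x, T (suAct B g x) = τ c • suAct B g' (T x) := fun x => by
    rw [← map_smul, ← t1', ← hc]
    change _ = suAct B g' (T (T.symm _))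
    rw [AddEquiv.apply_symm_apply, sa_app_inv]
  have c0 : τ c ≠ 0 := left_ne_zero_of_smul (k v ▸ (map_ne_zero_iff T T.injective).2 (sa_ne_zero g hh.ne))
  exact ⟨(τ c)⁻¹, fun x => by rw [k, inv_smul_smul₀ c0]⟩

end Cfsg.Agent.H2.BU
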