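import Cfsg.Agent.H2.BU4
import Cfsg.Agent.H2.BO4
import Cfsg.Agent.H1.MIU6

/-! Automorphisms of unitary groups, V: reduction of the balance property to semilinear similarities. -/

set_option autoImplicit false
set_option linter.unusedSectionVars false

namespace Cfsg.Agent.H2.BU

open Module Cfsg.Agent.H1 Cfsg.Agent.H1.UR Cfsg.Agent.H6.BA
open Cfsg.Agent.H5 (Sesq IsEps UF Isom perp)
open Cfsg.Agent.H2.BO (mem_sp mem_two autQ map_center_eq)

variable {F : Type*} [Field F] [Fintype F] {σ : F →+* F} {E : Type*} [AddCommGroup E] [Module F E]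
  [FiniteDimensional F E] [Fintype E] {B : Sesq σ E} {q : ℕ}

/-- Conjugation of isometries by a semilinear similarity. -/
def cjI (A : (Frm.ofB B).Sim) : Isom B →* Isom B :=
  MonoidHom.mk' (fun g =>
    ⟨{ toFun := fun x => A.1 (g.1 (A.1.symm x))
       invFun := fun x => A.1 (g.1.symm (A.1.symm x))
       map_add' := fun x y => by simp only [map_add]
       map_smul' := fun c x => by
         obtain ⟨s, d, k⟩ := A.2
         obtain ⟨c, rfl⟩ := s.surjective c
         obtain ⟨x, rfl⟩ := A.1.surjective x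
         rw [← k.smul, A.1.symm_apply_apply, A.1.symm_apply_apply, map_smul, k.smul, RingHom.id_apply]
       left_inv := fun x => by simp
       right_inv := fun x => by simp }, fun x y => by
      obtain ⟨s, d, k⟩ := A.2
      obtain ⟨x, rfl⟩ := A.1.surjective x
      obtain ⟨y, rfl⟩ := A.1.surjective y
      have kf : ∀ u v, B (A.1 u) (A.1 v) = d * s (B u v) := k.form
      change B (A.1 (g.1 (A.1.symm _))) (A.1 (g.1 (A.1.symm _))) = _
      rw [A.1.symm_apply_apply, A.1.symm_apply_apply, kf, kf, g.2]⟩)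
    fun g g' => Subtype.ext (LinearEquiv.ext fun x => by
      change A.1 (g.1 (g'.1 _)) = A.1 (g.1 (A.1.symm (A.1 _)))
      rw [A.1.symm_apply_apply])

theorem cjI_apply (A : (Frm.ofB B).Sim) (g : Isom B) (x : E) : (cjI A g).1 (A.1 x) = A.1 (g.1 x) := by
  change A.1 (g.1 (A.1.symm _)) = _
  rw [A.1.symm_apply_apply]

variable (H : HU B q)
include H

theorem cj_ei {A : (Frm.ofB B).Sim} {s : F ≃+* F} {c : F} (k : (Frm.ofB B).IsSim A.1 s c) {x e : E} {μ : F}
    (h : Adm B x e μ) : Adm B (c⁻¹ • A.1 x) (A.1 e) (s μ / c) ∧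
      cjI A (ei H.b x e μ).1 = (ei H.b (c⁻¹ • A.1 x) (A.1 e) (s μ / c)).1 := by
  have kf : ∀ u v, B (A.1 u) (A.1 v) = c * s (B u v) := k.form
  have st : ∀ a, σ (s a) = s (σ a) := fun a => by rw [H.u.apply, H.u.apply, map_pow]
  have c0 := k.ne
  have c1 : σ c = c := by
    obtain ⟨v, w, hh⟩ := H.exists_hy
    have := H.b.herm (A.1 v) (A.1 w)
    simpa [kf, hh.rl, hh.lr, eq_comm] using this
  have k1 : Adm B (c⁻¹ • A.1 x) (A.1 e) (s μ / c) := ⟨by simp [kf, h.iso], by simp [kf, h.perp], by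
    simp only [map_smul, LinearMap.smul_apply, LinearMap.map_smulₛₗ, map_div₀, map_inv₀, kf, c1, st, ← h.tr, map_add,
      smul_eq_mul, RingHom.id_apply]
    field_simp⟩
  refine ⟨k1, Subtype.ext (LinearEquiv.ext fun z => ?_)⟩
  obtain ⟨z, rfl⟩ := A.1.surjective z
  rw [cjI_apply]
  change A.1 (suAct B _ z) = suAct B _ _
  rw [ei_apply H.b h, ei_apply H.b k1]
  simp only [map_add, map_sub, k.smul, LinearMap.map_smulₛₗ, map_inv₀, kf, c1, smul_eq_mul, map_mul]
  match_scalars <;> field_simp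

theorem cj_mem (A : (Frm.ofB B).Sim) (g : SUb B) : cjI A g.1 ∈ SUb B := by
  obtain ⟨s, c, k⟩ := A.2
  have := su_eq_top H.b H.u (((SUb B).comap (cjI A)).subgroupOf (SUb B)) fun x e μ h => by
    change cjI A (ei H.b x e μ).1 ∈ SUb B
    rw [(cj_ei H k h).2]; exact SetLike.coe_mem _
  exact (show g ∈ ((SUb B).comap (cjI A)).subgroupOf (SUb B) from this ▸ Subgroup.mem_top g)

/-- The action on the special unitary group. -/
noncomputable def cjS : (Frm.ofB B).Sim →* MulAut (SUb B) :=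
  MonoidHom.mk' (fun A =>
    { toFun := fun g => ⟨_, cj_mem H A g⟩
      invFun := fun g => ⟨_, cj_mem H A⁻¹ g⟩
      left_inv := fun g => su_ext fun x => by
        change A.1.symm (A.1 (g.1.1 (A.1.symm (A.1 x)))) = _
        rw [A.1.symm_apply_apply, A.1.symm_apply_apply]; rfl
      right_inv := fun g => su_ext fun x => by
        change A.1 (A.1.symm (g.1.1 (A.1 (A.1.symm x)))) = _
        rw [A.1.apply_symm_apply, A.1.apply_symm_apply]; rfl
      map_mul' := fun g g' => Subtype.ext (map_mul (cjI A) _ _) })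
    fun _ _ => MulEquiv.ext fun _ => su_ext fun _ => rfl

theorem cjS_apply (A : (Frm.ofB B).Sim) (g : SUb B) (x : E) : suAct B (cjS H A g) (A.1 x) = A.1 (suAct B g x) :=
  cjI_apply A g.1 x

/-- The action on the projective group. -/
noncomputable def kap : (Frm.ofB B).Sim →* MulAut (PU B) := (autQ _).comp (cjS H)

theorem kap_pr (A : (Frm.ofB B).Sim) (g : SUb B) : kap H A (pr B g) = pr B (cjS H A g) := rfl

theorem ker_kap : (kap H).ker = (Frm.ofB B).Z := by
  ext A
  rw [MonoidHom.mem_ker, Frm.mem_Z]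
  constructor
  · intro e
    obtain ⟨s, c, k⟩ := A.2
    have kf : ∀ u v, B (A.1 u) (A.1 v) = c * s (B u v) := k.form
    have h1 : ∀ u, B u u = 0 → A.1 u ∈ F ∙ u := fun u hu => by
      rcases eq_or_ne u 0 with rfl | u0
      · simp
      obtain ⟨δ, δ0, hδ⟩ := H.u.exists_trace_zero
      obtain ⟨k1, k2⟩ := cj_ei H k (adm_zero hu hδ)
      rw [map_zero, smul_zero] at k1 k2
      obtain ⟨k3, k4⟩ := ei_zero_eq H.b k1
      refine H.span_of_ut hu u0 k1.iso hδ k3 (by simp [δ0, k.ne]) ?_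
      rw [← k4, ← show cjS H A (ut H.b u δ) = _ from Subtype.ext k2, ← kap_pr, e]
      rfl
    obtain ⟨v, w, hh⟩ := H.exists_hy
    obtain ⟨x, x1, x2, x3⟩ := H.exists_x0 hh
    obtain ⟨a, ha⟩ := mem_sp.1 (h1 v hh.l)
    obtain ⟨b, hb⟩ := mem_sp.1 (h1 w hh.r)
    have a0 : a ≠ 0 := left_ne_zero_of_smul (ha ▸ (map_ne_zero_iff _ A.1.injective).2 hh.ne)
    have b0 : b ≠ 0 := left_ne_zero_of_smul (hb ▸ (map_ne_zero_iff _ A.1.injective).2 hh.symm.ne)
    have x4 : B (A.1 x) v = 0 := by simpa [ha, x1, a0] using kf x v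
    have h2 : ∀ t, s t * B (A.1 x) x = b * t * B x x := fun t => by
      obtain ⟨μ, h⟩ := H.exists_adm (x := t • x) hh.l (by simp [x1])
      obtain ⟨r, hr⟩ := mem_sp.1 (h1 _ (sa_iso (ei H.b (t • x) v μ) hh.r))
      rw [ei_apply H.b h, hh.rl, one_smul, map_sub, map_add, k.smul, k.smul, ha, hb] at hr
      have e1 := congrArg (B · v) hr
      have e2 := congrArg (B · x) hr
      simp only [map_add, map_sub, map_smul, LinearMap.add_apply, LinearMap.sub_apply, LinearMap.smul_apply, hh.l,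
        hh.rl, x1, x4, H.b.refl x1, H.b.refl x2, smul_eq_mul] at e1 e2
      linear_combination e2 - t * B x x * e1
    have h3 : ∀ t, s t = t := fun t => mul_right_cancel₀ (mul_ne_zero b0 x3) (by
      have := h2 1
      rw [map_one] at this
      linear_combination h2 t - s t * this)
    obtain ⟨d, hd⟩ := H.scalar
      { toFun := A.1, map_add' := map_add _, map_smul' := fun t y => by rw [k.smul, h3, RingHom.id_apply] } h1
    refine ⟨d, fun d0 => hh.ne (A.1.injective ?_), hd⟩
    rw [map_zero]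
    exact (hd v).trans (by simp [d0])
  · rintro ⟨a, a0, ha⟩
    refine MulEquiv.ext fun z => ?_
    obtain ⟨g, rfl⟩ := pr_surj z
    rw [kap_pr]
    refine congrArg (pr B) (su_ext fun x => ?_)
    obtain ⟨x, rfl⟩ := A.1.surjective x
    rw [cjS_apply, ha, ha, map_smul]

theorem kap_surj : Function.Surjective (kap H) := fun φ => by
  obtain ⟨s, T, lam, l0, t1, t2, t3⟩ := exists_sim H φ
  let A : (Frm.ofB B).Sim := ⟨T.toIntLinearEquiv, s, lam, l0, t1, t2, fun _ => by simp [Frm.ofB]⟩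
  refine ⟨A, MulEquiv.ext fun z => ?_⟩
  obtain ⟨g, rfl⟩ := pr_surj z
  obtain ⟨g', e⟩ := pr_surj (φ (pr B g))
  obtain ⟨c, hc⟩ := t3 g g' e.symm
  rw [kap_pr, ← e]
  refine pr_eq_of (c := c) fun x => ?_
  obtain ⟨x, rfl⟩ := A.1.surjective x
  rw [cjS_apply]
  exact hc x

omit H in
/-- Elements of the special unitary group as similarities. -/
def io (g : SUb B) : (Frm.ofB B).Sim :=
  ⟨toGA g.1.1, 1, 1, one_ne_zero, fun a v => map_smul g.1.1 a v, fun u v => (g.1.2 u v).trans (one_mul _).symm,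
    fun _ => by simp [Frm.ofB]⟩

theorem kap_io (g : SUb B) : kap H (io g) = MulAut.conj (pr B g) := MulEquiv.ext fun z => by
  obtain ⟨k, rfl⟩ := pr_surj z
  rw [kap_pr, MulAut.conj_apply, ← map_inv, ← map_mul, ← map_mul]
  exact congrArg (pr B) (su_ext fun x => rfl)

theorem center_PU : Subgroup.center (PU B) = ⊥ := (Subgroup.eq_bot_iff_forall _).2 fun z hz => by
  obtain ⟨g, rfl⟩ := pr_surj z
  obtain ⟨a, -, ha⟩ := (Frm.mem_Z _).1 (ker_kap H ▸ (show io g ∈ (kap H).ker by
    rw [MonoidHom.mem_ker, kap_io]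
    exact MulEquiv.ext fun y => by
      rw [MulAut.conj_apply, ← Subgroup.mem_center_iff.1 hz, mul_inv_cancel_right]; rfl))
  exact (QuotientGroup.eq_one_iff _).2 (mem_center_of ha)

theorem scIso_of_inn {A : (Frm.ofB B).Sim} (hA : A ∈ (MulAut.conj (G := PU B)).range.comap (kap H)) :
    (Frm.ofB B).ScIso A := by
  obtain ⟨z, e⟩ := hA
  obtain ⟨g, rfl⟩ := pr_surj z
  obtain ⟨a, a0, ha⟩ := (Frm.mem_Z _).1 (ker_kap H ▸ (show A * (io g)⁻¹ ∈ (kap H).ker by
    rw [MonoidHom.mem_ker, map_mul, map_inv, kap_io, e, mul_inv_cancel]))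
  refine ⟨a, g.1.1, a0, ⟨g.1.2, fun _ => rfl⟩, fun v => ?_⟩
  rw [← ha]
  exact congrArg A.1 (g.1.1.symm_apply_apply v).symm

omit H in
theorem bal_PU {p r : ℕ} (hC : CfgForm .U p r) {F : Type} [Field F] [Fintype F] [CharP F r] {σ : F →+* F} {E : Type}
    [AddCommGroup E] [Module F E] [FiniteDimensional F E] {B : Sesq σ E} {q : ℕ} (H : HU B q) : Bal p (PU B) := by
  have : Finite E := Module.finite_of_finite F
  have := Fintype.ofFinite E
  have : Finite (SUb B) := Finite.of_injective (fun g x => suAct B g x) fun _ _ e => su_ext (congrFun e)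
  have h3 := H.three
  have : Nontrivial E := Module.nontrivial_of_finrank_pos (R := F) (by omega)
  refine bal_of_hom (center_PU H) (kap H) (fun φ _ => kap_surj H φ) (fun g => kap_surj H _) fun E' g k => ?_
  rw [ker_kap H] at k ⊢
  exact hC F E (Frm.ofB B) ⟨H.u.exists_ne, H.b, fun _ => rfl⟩ (fun e => nomatch e) _ E' g
    (fun y hy => scIso_of_inn H hy) k

omit H in
/-- The balance property of `PSU`, given the configuration theorem for unitary forms. -/
theorem bal_psu {p r : ℕ} {G : Type*} [Group G] (hC : CfgForm .U p r) (hG : IsPSUChar r G) : Bal p G := by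
  obtain ⟨F, _, _, _, n, q, hF, hn, hq, ⟨e⟩⟩ := hG
  have hU := H5.uf_frob hF
  obtain ⟨e'⟩ := exists_su_equiv hU n
  have f : finrank F (Fin n → F) = n := by simp
  exact (bal_PU hC ⟨hU.isEps_std (Fin n), hU, by omega, fun h h' => hq ⟨by omega, h'⟩⟩).congr
    (e.trans (QuotientGroup.congr _ _ e'.symm (map_center_eq _)))

end Cfsg.Agent.H2.BU
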