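import Cfsg.Agent.H2.SL2Sol

/-! General counting lemmas and lemmas on centralisers. -/

set_option autoImplicit false
set_option linter.unusedSectionVars false
set_option linter.unusedSimpArgs false

namespace Cfsg.Agent.H2

open Matrix Polynomial

section grp

variable {G : Type*} [Group G]

/-- the elements conjugate into a set -/
def cjSet (S : Set G) : Set G := {y | ∃ g : G, g * y * g⁻¹ ∈ S}

theorem ncard_cjSet [Finite G] (N : Subgroup G) (S : Set G) (h1 : ∀ x : G, ∀ a ∈ S, x * a * x⁻¹ ∈ S → x ∈ N)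
    (h2 : ∀ x ∈ N, ∀ a ∈ S, x * a * x⁻¹ ∈ S) : (cjSet S).ncard * Nat.card N = Nat.card G * S.ncard := by
  classical
  rw [← Nat.card_coe_set_eq, ← Nat.card_coe_set_eq, ← Nat.card_prod, ← Nat.card_prod]
  choose c hc using fun y : cjSet S => y.2
  refine Nat.card_eq_of_bijective (fun s => ((s.2 : G) * c s.1, ⟨(s.2 : G) * c s.1 * s.1 * ((s.2 : G) * c s.1)⁻¹,
    ?_⟩)) ⟨?_, ?_⟩
  · have := h2 _ s.2.2 _ (hc s.1)
    convert this using 1
    group
  · rintro ⟨y, n⟩ ⟨y', n'⟩ h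
    simp only [Prod.mk.injEq, Subtype.mk.injEq] at h
    obtain ⟨h2, h3⟩ := h
    rw [h2] at h3
    obtain rfl : y = y' := Subtype.ext (by simpa using h3)
    obtain rfl : n = n' := Subtype.ext (by simpa using h2)
    rfl
  · rintro ⟨g, a, ha⟩
    let y : cjSet S := ⟨g⁻¹ * a * g, g, by simpa [mul_assoc] using ha⟩
    refine ⟨(y, ⟨g * (c y)⁻¹, h1 _ _ (hc y) ?_⟩), ?_⟩
    · convert ha using 1
      simp only [y]; group
    · simp only [inv_mul_cancel_right, Prod.mk.injEq, true_and]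
      apply Subtype.ext
      simp only [y]; group

theorem ncard_orderOf_cyclic [Finite G] {T : Subgroup G} (hT : IsCyclic T) {d : ℕ} (hd : d ∣ Nat.card T) :
    {a | a ∈ T ∧ orderOf a = d}.ncard = Nat.totient d := by
  classical
  have := Fintype.ofFinite T
  rw [← IsCyclic.card_orderOf_eq_totient (α := T) (by rwa [← Nat.card_eq_fintype_card]), ← Set.ncard_coe_finset,
    ← Set.ncard_image_of_injective _ Subtype.val_injective]
  congr 1
  ext a
  simp only [Set.mem_ofPred_eq, Finset.coe_filter, Finset.mem_univ, true_and, Set.mem_image]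
  exact ⟨fun h => ⟨⟨a, h.1⟩, by rw [← Subgroup.orderOf_coe]; exact h.2, rfl⟩,
    by rintro ⟨b, h, rfl⟩; exact ⟨b.2, by rw [Subgroup.orderOf_coe, h]⟩⟩

theorem pow_card_of_mem {H : Subgroup G} {x : G} (hx : x ∈ H) : x ^ Nat.card H = 1 :=
  congrArg Subtype.val (pow_card_eq_one' (x := (⟨x, hx⟩ : H)))

theorem mem_of_pow_card_of_cyclic [Finite G] {T B : Subgroup G} (hT : IsCyclic T) (hB : B ≤ T) {x : G} (hx : x ∈ T)
    (h : x ^ Nat.card B = 1) : x ∈ B := by
  classical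
  have := Fintype.ofFinite T
  have h1 := IsCyclic.card_pow_eq_one_le (α := T) (n := Nat.card B) Nat.card_pos
  have h2 : ((B.subgroupOf T : Set T)) = ((Finset.univ.filter fun a : T => a ^ Nat.card B = 1 : Finset T) : Set T) := by
    refine Set.eq_of_subset_of_ncard_le (fun a ha => ?_) ?_
    · simp only [Finset.coe_filter, Finset.mem_univ, true_and, Set.mem_ofPred_eq]
      exact Subtype.ext (pow_card_of_mem (H := B) ha)
    · rw [Set.ncard_coe_finset]
      exact h1.trans (le_of_eq (Nat.card_congr (Subgroup.subgroupOfEquivOfLe hB).toEquiv).symm)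
  have : (⟨x, hx⟩ : T) ∈ (B.subgroupOf T : Set T) := by
    rw [h2]; simpa [Subtype.ext_iff] using h
  exact this

theorem eq_of_card_of_cyclic [Finite G] {T A B : Subgroup G} (hT : IsCyclic T) (hA : A ≤ T) (hB : B ≤ T)
    (h : Nat.card A = Nat.card B) : A = B :=
  le_antisymm (fun _ hx => mem_of_pow_card_of_cyclic hT hB (hA hx) (h ▸ pow_card_of_mem hx))
    fun _ hx => mem_of_pow_card_of_cyclic hT hA (hB hx) (h ▸ pow_card_of_mem hx)

theorem exists_conj_mem_of_not_dvd [Finite G] {C T : Subgroup G} (hT : T ≤ C) {y : G} (hy : y ∈ C) {l : ℕ}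
    (hl : l.Prime) (hy' : y ^ l = 1) {n : ℕ} (hn : Nat.card C = n * Nat.card T) (hd : ¬ l ∣ n) :
    ∃ x ∈ C, x * y * x⁻¹ ∈ T := by
  have := Fact.mk hl
  have h1 := (T.subgroupOf C).index_mul_card
  rw [hn, Nat.card_congr (Subgroup.subgroupOfEquivOfLe hT).toEquiv] at h1
  obtain ⟨x, hx⟩ := exists_le_conjS (isPGroup_zpowers (p := l) (k := 1) (y := (⟨y, hy⟩ : C))
    (Subtype.ext (by simpa using hy'))) (N := T.subgroupOf C) (by rwa [Nat.eq_of_mul_eq_mul_right Nat.card_pos h1])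
  exact ⟨(x⁻¹ : C), x⁻¹.2, by simpa using Subgroup.mem_subgroupOf.1 (mem_conjS.1 (hx (Subgroup.mem_zpowers _)))⟩

theorem card_eq_conj_mul [Finite G] (N : Subgroup G) (x : G) :
    Nat.card N = {e | ∃ g ∈ N, g * x * g⁻¹ = e}.ncard * Nat.card (N ⊓ Cen x : Subgroup G) := by
  let _ : MulAction N G := MulAction.compHom G (MulAut.conj.comp N.subtype)
  have h1 := (MulAction.stabilizer N x).index_mul_card
  rw [MulAction.index_stabilizer] at h1
  rw [← h1]
  congr 1
  · congr 1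
    ext e
    exact ⟨fun ⟨g, hg⟩ => ⟨g, g.2, hg⟩, fun ⟨g, hg, h⟩ => ⟨⟨g, hg⟩, h⟩⟩
  · refine Nat.card_congr ⟨fun g => ⟨g.1, g.1.2, mem_Cen.2 (mul_inv_eq_iff_eq_mul.1 g.2)⟩,
      fun g => ⟨⟨g.1, g.2.1⟩, mul_inv_eq_iff_eq_mul.2 (mem_Cen.1 g.2.2)⟩, fun _ => rfl, fun _ => rfl⟩

theorem conj_pow_of_inv {a x : G} (h : a * x * a⁻¹ = x⁻¹) (n : ℕ) : a * x ^ n * a⁻¹ = (x ^ n)⁻¹ := by
  rw [← conj_pow, h, inv_pow]

/-- two involutions are conjugate in the dihedral group they generate or commute with an involution of it -/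
theorem invol_cases [Finite G] {C : Subgroup G} {a s : G} (ha : a ∈ C) (hs : s ∈ C) (ha2 : a * a = 1) (hs2 : s * s = 1) :
    (∃ x ∈ C, x * a * x⁻¹ = s) ∨ ∃ e ∈ C, e * e = 1 ∧ e ≠ 1 ∧ a * e = e * a ∧ s * e = e * s := by
  have ia : a⁻¹ = a := inv_eq_of_mul_eq_one_right ha2
  have is : s⁻¹ = s := inv_eq_of_mul_eq_one_right hs2
  have h1 : a * (a * s) * a⁻¹ = (a * s)⁻¹ := by rw [← mul_assoc, ha2, one_mul, _root_.mul_inv_rev, is]
  have h2 : s * (a * s) * s⁻¹ = (a * s)⁻¹ := by rw [mul_assoc, mul_inv_cancel_right, _root_.mul_inv_rev, is, ia]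
  have h0 := pow_orderOf_eq_one (a * s)
  have hpos := orderOf_pos (a * s)
  rcases Nat.even_or_odd' (orderOf (a * s)) with ⟨k, hk | hk⟩
  · rw [hk, two_mul, pow_add] at h0
    have h3 := inv_eq_of_mul_eq_one_right h0
    refine Or.inr ⟨(a * s) ^ k, pow_mem (mul_mem ha hs) k, h0, pow_ne_one_of_lt_orderOf (by omega) (by omega), ?_, ?_⟩
    · rw [← mul_inv_eq_iff_eq_mul, conj_pow_of_inv h1, h3]
    · rw [← mul_inv_eq_iff_eq_mul, conj_pow_of_inv h2, h3]
  · refine Or.inl ⟨(a * s) ^ k, pow_mem (mul_mem ha hs) k, ?_⟩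
    rw [← conj_pow_of_inv h1, ← mul_assoc, ← mul_assoc, mul_assoc _ a a, ha2, mul_one, ← pow_add, ia,
      ← eq_mul_inv_iff_mul_eq, ia]
    rw [hk, pow_succ, two_mul] at h0
    rw [eq_inv_of_mul_eq_one_left h0, _root_.mul_inv_rev, ia, is]

theorem le_Cen_of_four [Finite G] {C : Subgroup G} (h3 : ∀ g ∈ C, ¬ 3 ∣ orderOf g) {t s : G} (ht : t ∈ C) (hs : s ∈ C)
    (ht2 : t * t = 1) (hs2 : s * s = 1) (ht1 : t ≠ 1) (hs1 : s ≠ 1) (hts : t ≠ s) (hc : s * t = t * s)
    (H1 : ∀ e ∈ C, e * e = 1 → e ≠ 1 → ∀ a ∈ C, ∀ b ∈ C, a * e = e * a → b * e = e * b → a * b = b * a)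
    (H2 : ∀ e ∈ C, e * e = 1 → e ≠ 1 → e * t = t * e → e = t ∨ e = s ∨ e = t * s) : C ≤ Cen t := by
  have it : t⁻¹ = t := inv_eq_of_mul_eq_one_right ht2
  have hts2 : t * s * (t * s) = 1 := by rw [mul_assoc, ← mul_assoc s, hc, mul_assoc, hs2, mul_one, ht2]
  have hts1 : t * s ≠ 1 := fun e => hts (by rw [← it, inv_eq_of_mul_eq_one_right e])
  have key : ∀ e, (e = t ∨ e = s ∨ e = t * s) → e ∈ C ∧ e * e = 1 ∧ e ≠ 1 ∧ e * t = t * e := by
    rintro e (rfl | rfl | rfl)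
    · exact ⟨ht, ht2, ht1, rfl⟩
    · exact ⟨hs, hs2, hs1, hc⟩
    · exact ⟨mul_mem ht hs, hts2, hts1, by rw [mul_assoc, hc]⟩
  have k1 : ∀ e, (e = t ∨ e = s ∨ e = t * s) → ∀ a ∈ C, (a * e = e * a ↔ a * t = t * a) := fun e he a ha => by
    obtain ⟨e1, e2, e3, e4⟩ := key e he
    exact ⟨fun h => H1 e e1 e2 e3 a ha t ht h e4.symm, fun h => H1 t ht ht2 ht1 a ha e e1 h e4⟩
  have k2 : ∀ g ∈ C, ∀ e e', (e = t ∨ e = s ∨ e = t * s) → (e' = t ∨ e' = s ∨ e' = t * s) → g * e * g⁻¹ = e' →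
      ∀ f, (f = t ∨ f = s ∨ f = t * s) → (g * f * g⁻¹ = t ∨ g * f * g⁻¹ = s ∨ g * f * g⁻¹ = t * s) := by
    intro g hg e e' he he' h f hf
    obtain ⟨f1, f2, f3, f4⟩ := key f hf
    have hm := mul_mem (mul_mem hg f1) (inv_mem hg)
    refine H2 _ hm (by rw [conj_mul, f2]; group) (by simpa using f3) ((k1 e' he' _ hm).1 ?_)
    rw [← h, conj_mul, conj_mul, (k1 e he f f1).2 f4]
  have k3 : ∀ g ∈ C, ∀ e e', (e = t ∨ e = s ∨ e = t * s) → (e' = t ∨ e' = s ∨ e' = t * s) → g * e * g⁻¹ = e' →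
      g * t = t * g := by
    intro g hg e e' he he' h
    by_contra hn
    have k4 : ∀ f, (f = t ∨ f = s ∨ f = t * s) → g * f * g⁻¹ ≠ f := fun f hf h =>
      hn ((k1 f hf g hg).1 (mul_inv_eq_iff_eq_mul.1 h))
    have a1 := k2 g hg e e' he he' h t (Or.inl rfl)
    have a2 := k2 g hg e e' he he' h s (Or.inr (Or.inl rfl))
    have b1 := k4 t (Or.inl rfl)
    have b2 := k4 s (Or.inr (Or.inl rfl))
    have b3 := k4 (t * s) (Or.inr (Or.inr rfl))
    rw [← conj_mul] at b3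
    have b4 : g ^ 3 * t * (g ^ 3)⁻¹ = t := by
      have e : g ^ 3 * t * (g ^ 3)⁻¹ = g * (g * (g * t * g⁻¹) * g⁻¹) * g⁻¹ := by rw [pow_succ, sq]; group
      have tts : t * (t * s) = s := by rw [← mul_assoc, ht2, one_mul]
      rw [e]
      rcases a1 with a1 | a1 | a1
      · exact absurd a1 b1
      · rcases a2 with a2 | a2 | a2
        · exact absurd (by rw [a1, a2, hc]) b3
        · exact absurd a2 b2
        · rw [a1, a2, ← conj_mul, a1, a2, ← mul_assoc, hc, mul_assoc, hs2, mul_one]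
      · rcases a2 with a2 | a2 | a2
        · rw [a1, show g * (t * s) * g⁻¹ = g * t * g⁻¹ * (g * s * g⁻¹) by group, a1, a2, mul_assoc t s t, hc, tts, a2]
        · exact absurd a2 b2
        · exact absurd (by simpa using a1.trans a2.symm) hts
    exact hn (mem_Cen.1 (mem_of_pow_mem_of_coprime (mem_Cen.2 (mul_inv_eq_iff_eq_mul.1 b4))
      ((Nat.Prime.coprime_iff_not_dvd Nat.prime_three).2 (h3 g hg))))
  intro g hg
  have hm := mul_mem (mul_mem hg ht) (inv_mem hg)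
  have h2 : g * t * g⁻¹ * (g * t * g⁻¹) = 1 := by rw [conj_mul, ht2]; group
  rcases invol_cases hm hs h2 hs2 with ⟨x, hx, h⟩ | ⟨e, e1, e2, e3, e4, e5⟩
  · have h4 : x * g * t * (x * g)⁻¹ = s := by rw [← h]; group
    have := k3 _ (mul_mem hx hg) t s (Or.inl rfl) (Or.inr (Or.inl rfl)) h4
    rw [this, mul_inv_cancel_right] at h4
    exact absurd h4 hts
  · exact mem_Cen.2 (k3 g hg t _ (Or.inl rfl) (H2 _ hm h2 (by simpa using ht1)
      ((k1 s (Or.inr (Or.inl rfl)) _ hm).1 (H1 e e1 e2 e3 _ hm s hs e4 e5))) rfl)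

theorem ncard_order_two_mul [Finite G] {i k : ℕ} (hi : Odd i)
    (h : ∀ z : G, orderOf z = i → {e | orderOf e = 2 ∧ e ∈ Cen z}.ncard = k) :
    {a : G | orderOf a = 2 * i}.ncard = {z : G | orderOf z = i}.ncard * k := by
  classical
  have h1 : Nat.card (Σ z : {z : G | orderOf z = i}, {e | orderOf e = 2 ∧ e ∈ Cen (z : G)}) =
      {z : G | orderOf z = i}.ncard * k := by
    have := Fintype.ofFinite {z : G | orderOf z = i}
    rw [Nat.card_sigma, Finset.sum_congr rfl (g := fun _ => k) (fun z _ => h z.1 z.2), Finset.sum_const,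
      Finset.card_univ, ← Nat.card_eq_fintype_card, smul_eq_mul]
    rfl
  obtain ⟨j, rfl⟩ := hi
  rw [← h1]
  symm
  have key : ∀ e z : G, orderOf z = 2 * j + 1 → orderOf e = 2 → e ∈ Cen z → (e * z) ^ (2 * j + 1) = e := by
    intro e z hz he hc
    rw [Commute.mul_pow (mem_Cen.1 hc), ← hz, pow_orderOf_eq_one, mul_one, hz, pow_succ, pow_mul, ← he,
      pow_orderOf_eq_one, one_pow, one_mul]
  refine Nat.card_eq_of_bijective (fun s => ⟨(s.2 : G) * s.1, ?_⟩) ⟨?_, ?_⟩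
  · rw [Set.mem_ofPred_eq, Commute.orderOf_mul_eq_mul_orderOf_of_coprime (mem_Cen.1 s.2.2.2), s.2.2.1, s.1.2]
    rw [s.2.2.1, s.1.2]; simp
  · rintro ⟨⟨z, hz⟩, e, he⟩ ⟨⟨z', hz'⟩, e', he'⟩ h
    have h2 : e * z = e' * z' := congrArg Subtype.val h
    obtain rfl : e = e' := by rw [← key e z hz he.1 he.2, h2, key e' z' hz' he'.1 he'.2]
    obtain rfl : z = z' := mul_left_cancel h2
    rfl
  · rintro ⟨a, ha⟩
    have ha' : orderOf a = 2 * (2 * j + 1) := ha
    refine ⟨⟨⟨a ^ (2 * j + 2), ?_⟩, a ^ (2 * j + 1), ?_, mem_Cen.2 (Commute.pow_pow_self a _ _)⟩, Subtype.ext ?_⟩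
    · rw [Set.mem_ofPred_eq, orderOf_pow' _ (by omega), ha', show 2 * j + 2 = 2 * (j + 1) by ring, Nat.gcd_mul_left,
        show Nat.gcd (2 * j + 1) (j + 1) = 1 from by
          rw [show 2 * j + 1 = j + (j + 1) by ring, Nat.gcd_add_self_left]; simp]
      omega
    · rw [orderOf_pow' _ (by omega), ha', Nat.gcd_mul_left_left, Nat.mul_div_cancel _ (by omega)]
    · change a ^ (2 * j + 1) * a ^ (2 * j + 2) = a
      rw [← pow_add, show 2 * j + 1 + (2 * j + 2) = 2 * (2 * j + 1) + 1 by ring, pow_succ, ← ha', pow_orderOf_eq_one,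
        one_mul]

end grp

section comm

variable {F : Type*} [Field F] {n : ℕ}

theorem exists_aeval_of_cyclic {X : Matrix (Fin n) (Fin n) F} {v : Fin n → F}
    (hv : ∀ p : F[X], p.degree < n → aeval X p *ᵥ v = 0 → p = 0) {Y : Matrix (Fin n) (Fin n) F} (hY : Y * X = X * Y) :
    ∃ p : F[X], Y = aeval X p := by
  let Φ : degreeLT F n →ₗ[F] (Fin n → F) :=
    { toFun := fun p => aeval X (p : F[X]) *ᵥ v
      map_add' := fun p q => by simp [add_mulVec]
      map_smul' := fun c p => by simp [smul_mulVec] }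
  have hinj : Function.Injective Φ := by
    rw [injective_iff_map_eq_zero]
    exact fun p hp => Subtype.ext (hv p (mem_degreeLT.1 p.2) hp)
  have hsurj : Function.Surjective Φ := by
    have : FiniteDimensional F (degreeLT F n) := (degreeLTEquiv F n).symm.finiteDimensional
    rwa [← LinearMap.injective_iff_surjective_of_finrank_eq_finrank (degreeLTEquiv F n).finrank_eq]
  have hc : ∀ r : F[X], Y * aeval X r = aeval X r * Y := by
    intro r
    have : Commute Y X := hY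
    induction r using Polynomial.induction_on' with
    | add p q hp hq => simp [mul_add, add_mul, hp, hq]
    | monomial k a => simp [aeval_monomial, Algebra.algebraMap_eq_smul_one, (this.pow_right k).eq]
  obtain ⟨p, hp⟩ := hsurj (Y *ᵥ v)
  refine ⟨p, ?_⟩
  apply Matrix.toLin'.injective
  apply LinearMap.ext
  intro w
  obtain ⟨r, rfl⟩ := hsurj w
  change Y *ᵥ (aeval X (r : F[X]) *ᵥ v) = aeval X (p : F[X]) *ᵥ (aeval X (r : F[X]) *ᵥ v)
  have hp' : aeval X (p : F[X]) *ᵥ v = Y *ᵥ v := hp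
  rw [mulVec_mulVec, hc, ← mulVec_mulVec, ← hp', mulVec_mulVec, mulVec_mulVec, ← map_mul, ← map_mul, mul_comm]

theorem aeval_mulVec_of_fix {X : Matrix (Fin n) (Fin n) F} {v : Fin n → F} (hv : X *ᵥ v = v) (p : F[X]) :
    aeval X p *ᵥ v = p.eval 1 • v := by
  have h1 : ∀ k : ℕ, X ^ k *ᵥ v = v := fun k => by
    induction k with
    | zero => simp
    | succ k ih => rw [pow_succ, ← mulVec_mulVec, hv, ih]
  induction p using Polynomial.induction_on' with
  | add p q hp hq => simp [add_mulVec, hp, hq, add_smul]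
  | monomial k a => simp [aeval_monomial, Algebra.algebraMap_eq_smul_one, smul_mulVec, h1]

theorem commutant_facts' {X : Matrix (Fin (n + 1)) (Fin (n + 1)) F} {g : F[X]} (hg : Irreducible g)
    (hdeg : g.natDegree = n) (h1 : g.eval 1 ≠ 0) (hX : aeval X (g * (Polynomial.X - 1)) = 0) (hX1 : X ≠ 1)
    {v₀ : Fin (n + 1) → F} (hv0 : v₀ ≠ 0) (hv : X *ᵥ v₀ = v₀) {G : Type*} [Group G] [Finite G]
    (φ : G →* Matrix (Fin (n + 1)) (Fin (n + 1)) F) (hφ : Function.Injective φ) (hc : ∀ y, φ y * X = X * φ y)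
    (hG : ∀ c : F, c ^ Nat.card G = 1 → c = 1) :
    IsCyclic G ∧ Nat.card {y : G // y ≠ 1 ∧ aeval (φ y) (g * (Polynomial.X - 1)) = 0} ≤ n := by
  classical
  obtain ⟨v, hv1⟩ : ∃ v, (X - 1) *ᵥ v ≠ 0 := by
    by_contra h
    push Not at h
    exact hX1 (sub_eq_zero.1 (Matrix.toLin'.injective (LinearMap.ext fun v => by rw [toLin'_apply, h v, toLin'_apply, zero_mulVec])))
  set v₁ := (X - 1) *ᵥ v with hv1'
  have hgv : aeval X g *ᵥ v₁ = 0 := by
    rw [hv1', mulVec_mulVec]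
    simp only [map_mul, map_sub, aeval_X, map_one] at hX
    rw [hX, zero_mulVec]
  have hdvd : ∀ p : F[X], aeval X p *ᵥ v₁ = 0 → g ∣ p := fun p hp => by
    by_contra hd
    obtain ⟨a, b, hab⟩ := hg.coprime_iff_not_dvd.2 hd
    apply hv1
    rw [← one_mulVec v₁, ← map_one (aeval (R := F) X), ← hab, map_add, map_mul, map_mul, add_mulVec, ← mulVec_mulVec,
      ← mulVec_mulVec, hgv, hp, mulVec_zero, mulVec_zero, add_zero]
  have hcop : IsCoprime (Polynomial.X - C 1) g :=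
    (irreducible_X_sub_C 1).coprime_iff_not_dvd.2 fun h => h1 (dvd_iff_isRoot.1 h)
  have hcyc : ∀ p : F[X], p.degree < (n + 1 : ℕ) → aeval X p *ᵥ (v₀ + v₁) = 0 → p = 0 := by
    intro p hp h
    have e1 : p.eval 1 = 0 := by
      have := congrArg (aeval X g *ᵥ ·) h
      simp only [mulVec_mulVec, ← map_mul, mulVec_zero, mulVec_add] at this
      rw [aeval_mulVec_of_fix hv, mul_comm g p, map_mul, ← mulVec_mulVec, hgv, mulVec_zero, add_zero, eval_mul] at this
      exact (mul_eq_zero.1 ((smul_eq_zero.1 this).resolve_right hv0)).resolve_right h1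
    rw [mulVec_add, aeval_mulVec_of_fix hv, e1, zero_smul, zero_add] at h
    refine eq_zero_of_dvd_of_degree_lt (hcop.mul_dvd (dvd_iff_isRoot.2 e1) (hdvd p h)) ?_
    rw [degree_mul, degree_X_sub_C, degree_eq_natDegree hg.ne_zero, hdeg, add_comm]
    exact_mod_cast hp
  choose P hP using fun y => exists_aeval_of_cyclic hcyc (hc y)
  have := Fact.mk hg
  have hmk : ∀ p p' : F[X], aeval X p = aeval X p' → AdjoinRoot.mk g p = AdjoinRoot.mk g p' := fun p p' h =>
    AdjoinRoot.mk_eq_mk.2 (hdvd _ (by rw [map_sub, h, sub_self, zero_mulVec]))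
  let ψ : G →* AdjoinRoot g :=
    { toFun := fun y => AdjoinRoot.mk g (P y)
      map_one' := by rw [hmk _ 1 (by rw [← hP, map_one, map_one]), map_one]
      map_mul' := fun a b => by rw [hmk _ (P a * P b) (by rw [← hP, map_mul, map_mul, ← hP, ← hP]), map_mul] }
  have hψ : Function.Injective ψ := by
    rw [injective_iff_map_eq_one]
    intro y hy
    obtain ⟨r, hr⟩ := AdjoinRoot.mk_eq_mk.1 (hy.trans (map_one (AdjoinRoot.mk g)).symm)
    have e1 : (P y).eval 1 = 1 := by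
      apply hG
      have e2 := aeval_mulVec_of_fix hv (P y ^ Nat.card G)
      rw [map_pow, ← hP, ← map_pow, pow_card_eq_one', map_one, one_mulVec, eval_pow] at e2
      have : ((P y).eval 1 ^ Nat.card G - 1) • v₀ = 0 := by rw [sub_smul, ← e2, one_smul, sub_self]
      exact sub_eq_zero.1 ((smul_eq_zero.1 this).resolve_right hv0)
    have e2 : r.eval 1 = 0 := by
      have := congrArg (eval 1) hr
      rw [eval_sub, e1, eval_one, sub_self, eval_mul] at this
      exact (mul_eq_zero.1 this.symm).resolve_left h1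
    obtain ⟨r', rfl⟩ := dvd_iff_isRoot.2 e2
    apply hφ
    rw [map_one, hP, ← sub_eq_zero, ← map_one (aeval (R := F) X), ← map_sub, hr, ← mul_assoc, map_mul, C_1, hX, zero_mul]
  refine ⟨isCyclic_of_injective_ringHom ψ hψ, ?_⟩
  have h2 := Polynomial.ncard_rootSet_le g (AdjoinRoot g)
  rw [hdeg, ← Nat.card_coe_set_eq] at h2
  have h3 : ∀ y : {y : G // y ≠ 1 ∧ aeval (φ y) (g * (Polynomial.X - 1)) = 0}, ψ y.1 ∈ g.rootSet (AdjoinRoot g) := by
    rintro ⟨y, hy1, hy⟩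
    rw [mem_rootSet]
    refine ⟨hg.ne_zero, ?_⟩
    have e1 : aeval (ψ y) (g * (Polynomial.X - 1)) = 0 := by
      have e2 := hmk ((g * (Polynomial.X - 1)).comp (P y)) 0 (by rw [aeval_comp, ← hP, hy, map_zero])
      rw [map_zero, ← AdjoinRoot.aeval_eq, aeval_comp, AdjoinRoot.aeval_eq] at e2
      exact e2
    rw [map_mul, map_sub, aeval_X, map_one] at e1
    exact (mul_eq_zero.1 e1).resolve_right fun h => hy1 (hψ ((sub_eq_zero.1 h).trans (map_one ψ).symm))
  refine le_trans (Nat.card_le_card_of_injective (fun y => ⟨ψ y.1, h3 y⟩) ?_) h2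
  intro a b h
  exact Subtype.ext (hψ (congrArg Subtype.val h))

end comm

end Cfsg.Agent.H2
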