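import Cfsg.Agent.H2.MinTw

/-! Eigenspaces of long root subgroups; multiplicity one. -/

set_option autoImplicit false
set_option linter.unusedSectionVars false

namespace Cfsg.Agent.H2

open Cfsg.Lie Cfsg.Agent.H1 Cfsg.Agent.H7 Cfsg.Agent.H8 Matrix Module

/-- The characters of a finite field. -/
noncomputable def chi {k : Type*} [Field k] [Finite k] (s t : k) : ℂ := (exists_psi_complex k).choose (s * t)

section chi
variable {k : Type*} [Field k] [Finite k]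

theorem chi_inj : Function.Injective (chi (k := k)) := fun _ _ e =>
  eq_of_psi (exists_psi_complex k).choose_spec fun c => by simpa only [chi, mul_comm c] using congrFun e c

theorem chi_zero (t : k) : chi 0 t = 1 := by simp [chi]

theorem exists_chi {s : k} (hs : s ≠ 0) : ∃ t, chi s t ≠ 1 := by
  by_contra h
  exact hs (chi_inj (funext fun t => by rw [chi_zero]; exact not_not.1 (not_exists.1 h t)))

theorem le_of_chi {V : Type*} [AddCommGroup V] [Module ℂ V] (a : k → Module.End ℂ V) (h0 : a 0 = 1)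
    (ha : ∀ t u, a (t + u) = a t * a u) {U P : Submodule ℂ V} (hU : ∀ t, ∀ v ∈ U, a t v ∈ U)
    (h : ∀ s, U ⊓ Wt a (chi s) ≤ P) : U ≤ P := by
  have := Fintype.ofFinite k
  refine le_of_Wt a h0 ha chi (fun s => by simp [chi]) (fun s t u => by simp [chi, mul_add, AddChar.map_add_eq_mul])
    (fun t ht => ?_) (by simp) U P hU fun s v hv h' => h s ⟨hv, h'⟩
  obtain ⟨u, hu⟩ := exists_chi ht
  exact sum_psi_eq_zero _ (AddMonoidHom.mulRight t) ⟨u, by simpa [chi, mul_comm t] using hu⟩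

end chi

theorem line_stab {Γ : Type*} [Group Γ] [Finite Γ] {V : Type*} [AddCommGroup V] [Module ℂ V] [FiniteDimensional ℂ V]
    {R : Γ →* Module.End ℂ V} {E E' : Submodule ℂ V} (h : finrank ℂ E ≤ 1) (h' : E' ≤ E) {v : V} (hv : v ∈ E')
    (h0 : v ≠ 0) : StbS R E' ≤ StbS R (ℂ ∙ v) := fun _ hg =>
  mem_StbS_span (mem_span_of_finrank h (h' hv) h0 (h' (hg.1 v hv)))

namespace MD

variable {D : ChevalleyDatum} {K : Type*} [Field K] {G : Type*} [Group G] [hD : RootFacts D] [hN : NFacts D]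
  [hS : SLFacts D] [Finite G] {k : Type*} [Field k] [Finite k] {M : MD D K G k} {r a b g θ : ℕ} {T U Ψ : Set ℕ}
  {w : Equiv.Perm ℕ} {V : Type*} [AddCommGroup V] [Module ℂ V] [FiniteDimensional ℂ V] (R : M.S →* Module.End ℂ V)
  {s : k} {v : V}

/-- Eigenspaces of a long root subgroup. -/
noncomputable def Wz (r : ℕ) (s : k) : Submodule ℂ V := Wt (fun t => R (M.z r t)) (chi s)

/-- Eigenvectors of a long root subgroup fixed by further roots. -/
noncomputable def EE (r : ℕ) (s : k) (T : Set ℕ) : Submodule ℂ V := Wz R r s ⊓ Fix R (M.Y T)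

variable {R}

theorem Wz_zero (h : M.Fx r) : Wz R r 0 = Fix R (M.X r) := by
  ext v
  refine ⟨fun hv y hy => ?_, fun hv t => by rw [chi_zero, one_smul]; exact hv (z_mem h t)⟩
  obtain ⟨t, rfl⟩ := exists_z h hy
  simpa [chi_zero, mem_Stb] using hv t

theorem EE_anti (h : T ⊆ U) : EE R r s U ≤ EE R r s T := inf_le_inf_left _ (Fix_anti (Y_mono h))

theorem EE_empty : EE R r s ∅ = Wz R r s := by
  rw [EE, Y_empty, inf_eq_left]; exact fun _ _ => mem_Fix.2 bot_le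

theorem eq_zero_of_fix (h : M.Fx r) (hs : s ≠ 0) (hv : v ∈ Wz R r s) (h' : M.X r ≤ Stb R v) : v = 0 :=
  let ⟨t, ht⟩ := exists_chi hs; eq_zero_of_smul ht ((hv t).symm.trans (h' (z_mem h t)))

theorem conj_Wz {n : M.S} {c : k} (hc : c ≠ 0) (h : ∀ t, n * M.z r t * n⁻¹ = M.z a (c * t)) (hv : v ∈ Wz R r (s * c)) :
    R n v ∈ Wz R a s := fun t => by
  have := h (c⁻¹ * t)
  rw [mul_inv_cancel_left₀ hc] at this
  show R _ _ = _
  rw [← this, rmul, rinv, rmul, show R _ v = _ from hv (c⁻¹ * t), map_smul, chi, chi, mul_assoc, mul_inv_cancel_left₀ hc]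

theorem conj_Fix {n : M.S} (hn : NRep D M.x n w) (h : ∀ b ∈ U, w⁻¹ b ∈ T) (hv : v ∈ Fix R (M.Y T)) :
    R n v ∈ Fix R (M.Y U) := fun _ hy => mem_Stb_conj.2 (hv (hn.conj_XS' st h hy))

theorem conj_EE {n : M.S} (hn : NRep D M.x n w) (hr : M.Fx r) (h : ∀ b ∈ U, w⁻¹ b ∈ T) (hs : s ≠ 0) :
    ∃ s' ≠ 0, ∀ v ∈ EE R r s' T, R n v ∈ EE R (w r) s U :=
  let ⟨_, hc, h1⟩ := conj_z hn hr; ⟨_, mul_ne_zero hs hc, fun _ hv => ⟨conj_Wz hc h1 hv.1, conj_Fix hn h hv.2⟩⟩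

theorem scale (ha : M.Fx a) (hb : M.Fx b) (h : A D b a = -1) (hs : s ≠ 0) {s' : k} (hs' : s' ≠ 0) :
    ∃ n, ∀ T, ∀ v ∈ EE R a s T, R n v ∈ EE R a s' T := by
  obtain ⟨n, hn, h1⟩ := exists_hE hb (div_ne_zero hs' hs)
  refine ⟨n, fun T v hv => ⟨conj_Wz (zpow_ne_zero _ (div_ne_zero hs' hs)) (h1 a ha) ?_, conj_Fix hn (fun _ h => h) hv.2⟩⟩
  simpa [h, mul_div_cancel₀ _ hs'] using hv.1

theorem stab (ha : M.Fx a) (h1 : Nrm D T Ψ) (h2 : Nrm D {a} Ψ)
    (h3 : ∀ b ∈ T, b < D.nroots ∧ b ≠ D.neg a ∧ ∀ k, Sm D a b k → k ∈ Ψ) : M.Y T ≤ StbS R (EE R a s Ψ) := fun y hy =>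
  mem_StbS fun v hv => ⟨fun t => by
    have h4 := hv.2 (comm_Y h2 h1 (fun _ e b hb => e ▸ ⟨ha.1, h3 b hb⟩) (inv_mem (z_mem' ha (Set.mem_singleton a) t)) (inv_mem hy))
    show R _ _ = _
    rw [← map_smul, ← show R _ v = _ from hv.1 t]
    conv_rhs => rw [← show R _ v = v from h4]
    simp only [← rmul, mul_assoc, mul_inv_cancel_left, inv_inv],
  (StbS_Fix fun y' hy' => by simpa using conj_Y h1 (inv_mem hy) hy').1 v hv.2⟩

theorem heis_X (hr : M.Fx r) (hs : s ≠ 0) (e : Sm D b g r) {W : Submodule ℂ V} (hW : W ≤ Wz R r s)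
    (h1 : M.X b ≤ StbS R W) (h2 : M.X g ≤ StbS R W) : Heis R W (M.X g) (M.X b) := by
  refine ⟨h2, h1, fun y hy u hu => ?_, fun u hu h0 => ?_⟩
  · have h3 : ∀ b g, Sm D b g r → ∀ b' ∈ orb M.ρ b, b' < D.nroots ∧ A D r b' = 1 := fun b g e b' h =>
      ⟨(lt_orb h).2 e.1, (A_orb hr h).trans e.A_left⟩
    have h4 : ∀ b g, Sm D b g r → Nrm D (orb M.ρ b) {r} := fun b g e => Nrm.of_nonneg fun b' h _ e' =>
      e' ▸ ⟨(h3 b g e b' h).1, hr.1, by rw [A_symm, (h3 b g e b' h).2]; omega⟩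
    refine (exists_z hr (X_fx hr ▸ comm_Y (h4 _ _ e.symm) (h4 _ _ e) (fun g' hg b' hb => ?_) hy hu)).elim
      fun t ht => ⟨_, fun v hv => by rw [ht]; exact hW hv t⟩
    obtain ⟨h5, h6⟩ := h3 _ _ e.symm g' hg
    obtain ⟨h7, h8⟩ := h3 _ _ e b' hb
    refine ⟨h5, h7, fun e => ?_, fun k hk => eq_of_A (by rw [hk.add, h6, h8]; rfl)⟩
    rw [e, A_neg_right _ h5] at h8; omega
  · obtain ⟨t, ht⟩ := exists_chi hs
    obtain ⟨y, hy, h3⟩ := heis' hr e hu h0 t
    exact ⟨y, hy, _, ht, fun v hv => by rw [h3]; exact hW hv t⟩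

theorem cpl_orb (hr : M.Fx r) (hb : b < D.nroots) (e : M.ρ.SameCycle b g) : M.ρ.SameCycle (cpl D r b) (cpl D r g) :=
  (inv_of (fun s => s < D.nroots → M.ρ.SameCycle (cpl D r b) (cpl D r s)) (fun s => propext (by
    rw [M.tw.lt]; exact forall_congr' fun h => by rw [← rho_cpl hr h, Equiv.Perm.sameCycle_apply_right])) e).mpr
    (fun _ => .refl _ _) ((lt_orb e).2 hb)

theorem lag (hr : M.Fx r) (hs : s ≠ 0) (P : Finset ℕ) (h1 : ∀ b ∈ P, D.IsPosRoot b ∧ A D r b = 1) (h2 : M.Inv P)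
    (h3 : ∀ b ∈ P, ∀ b' ∈ P, 0 ≤ A D b b') (W : Submodule ℂ V) (hW : W ≤ Wz R r s)
    (h4 : ∀ b ∈ P, M.X b ≤ StbS R W ∧ M.X (cpl D r b) ≤ StbS R W) :
    Nat.card k ^ P.card * finrank ℂ ↥(W ⊓ Fix R (M.Y P)) ≤ finrank ℂ W ∧ (W ≠ ⊥ → W ⊓ Fix R (M.Y P) ≠ ⊥) := by
  classical
  induction P using Finset.strongInduction generalizing W with
  | H P ih =>
  rcases P.eq_empty_or_nonempty with rfl | ⟨b, hb⟩
  · rw [Finset.coe_empty, Y_empty, inf_eq_left.2 fun _ _ => mem_Fix.2 bot_le]; simp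
  have e : ∀ b ∈ P, Sm D b (cpl D r b) r := fun b hb => sm_cpl hr.1 (h1 b hb).1.1 (h1 b hb).2
  set P' := P.filter (fun b' => ¬ M.ρ.SameCycle b b') with hP'
  have h5 : ∀ b' ∈ P', b' ∈ P ∧ ¬ M.ρ.SameCycle b b' := fun b' => Finset.mem_filter.1
  have h6 : M.Inv P' := fun c c' e h =>
    Finset.mem_filter.2 ⟨h2 c c' e (h5 c h).1, fun h' => (h5 c h).2 (h'.trans e.symm)⟩
  obtain ⟨h7, h8⟩ := ih P' (Finset.filter_ssubset.2 ⟨b, hb, not_not.2 (.refl _ _)⟩) (fun c h => h1 c (h5 c h).1) h6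
    (fun c h c' h' => h3 c (h5 c h).1 c' (h5 c' h').1) (W ⊓ Fix R (M.X b)) (inf_le_left.trans hW) fun c hc => by
      obtain ⟨h7, h8⟩ := h5 c hc
      refine ⟨fun y hy => StbS_inf ((h4 c h7).1 hy) (StbS_Fix_comm fun u hu => commute_Y (fun c' h1' b' h2' => ?_) hy hu),
        fun y hy => StbS_inf ((h4 c h7).2 hy) (StbS_Fix_comm fun u hu => commute_Y (fun c' h1' b' h2' => ?_) hy hu)⟩
      · exact ⟨(h1 _ (h2 _ _ h1' h7)).1.1, (h1 _ (h2 _ _ h2' hb)).1.1, h3 _ (h2 _ _ h1' h7) _ (h2 _ _ h2' hb)⟩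
      · have h9 := (lt_orb h1').2 (e c h7).2.1
        have h10 := h1 _ (h2 _ _ h2' hb)
        have h11 : A D r c' = 1 := (A_orb hr h1').trans (e c h7).symm.A_left
        have h12 := sm_cpl hr.1 h9 h11
        have h13 := cpl_orb hr (e c h7).2.1 h1'
        rw [← (e c h7).symm.eq (sm_cpl hr.1 (e c h7).2.1 (e c h7).symm.A_left)] at h13
        refine ⟨h9, h10.1.1, ?_⟩
        have h14 := h12.add b'
        rw [A_symm b' r, h10.2] at h14
        rcases A_le h10.1.1 h12.2.1 with h | h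
        · exact absurd (h2'.trans (h ▸ h13.symm)) h8
        · rw [A_symm]; omega
  have h9 := heis_X hr hs (e b hb) hW (h4 b hb).1 (h4 b hb).2
  have h10 := heis_X hr hs (e b hb).symm hW (h4 b hb).2 (h4 b hb).1
  refine ⟨?_, fun h0 h => h8 (h9.ne_bot h0) (eq_bot_iff.2 fun v hv => h.le ⟨hv.1.1, gen
    (Nrm.of_nonneg fun c h c' h' => ⟨(h1 c h).1.1, (h1 c' h').1.1, h3 c h c' h'⟩).1 (fun c h => (h1 c h).1) h2
    fun c hc => ?_⟩)⟩
  · have h11 := card_X (M := M) (e b hb).2.1 ((P.filter (M.ρ.SameCycle b)).image (cpl D r)) fun c hc => by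
      obtain ⟨c, h, rfl⟩ := Finset.mem_image.1 hc
      exact cpl_orb hr (e b hb).1 (Finset.mem_filter.1 h).2
    rw [Finset.card_image_of_injOn fun c h c' h' e' => (e c (Finset.mem_filter.1 h).1).symm.eq
      (by rw [e']; exact (e c' (Finset.mem_filter.1 h').1).symm)] at h11
    rw [← Finset.card_filter_add_card_filter_not (M.ρ.SameCycle b), pow_add, mul_assoc]
    refine le_trans (Nat.mul_le_mul h11 (le_trans (Nat.mul_le_mul_left _ (Submodule.finrank_mono ?_)) h7)) h10.card_mul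
    exact fun v hv => ⟨⟨hv.1, (X_le h2 hb).trans hv.2⟩, (Y_mono fun c h => (h5 c h).1).trans hv.2⟩
  · by_cases h' : M.ρ.SameCycle b c
    · rw [X_orb h']; exact hv.1.2
    · exact (X_le h6 (Finset.mem_filter.2 ⟨hc, h'⟩)).trans hv.2

variable (D) in
/-- The positive roots at an acute angle to `a`. -/
def La (a : ℕ) : Finset ℕ := (Finset.range D.nroots).filter fun b => D.IsPosRoot b ∧ A D a b = 1

theorem mem_La : b ∈ La D a ↔ D.IsPosRoot b ∧ A D a b = 1 := by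
  simp only [La, Finset.mem_filter, Finset.mem_range, and_iff_right_iff_imp]
  exact fun h => h.1.1

theorem inv_La (ha : M.Fx a) : M.Inv (La D a) := fun _ _ e h =>
  mem_La.2 ⟨(pos_orb e).2 (mem_La.1 h).1, (A_orb ha e).trans (mem_La.1 h).2⟩

theorem A_nonneg (hb : D.IsPosRoot b) (hg : D.IsPosRoot g) (h : ∀ c, ¬ Sm D b g c) : 0 ≤ A D b g := by
  rcases A_cases hb.1 hg.1 with rfl | h' | h' | h' | h'
  · rw [A_self hb.1]; omega
  · exact absurd h' (ne_neg_pos hb hg)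
  · omega
  · omega
  · exact absurd (exists_sm hb.1 hg.1 h') (h _)

theorem La_nonneg (i : Fin D.rank) (hb : b ∈ La D (D.simple i)) (hg : g ∈ La D (D.simple i)) : 0 ≤ A D b g := by
  rw [mem_La] at hb hg
  exact A_nonneg hb.1 hg.1 fun c h => h.ne_simple hb.1 hg.1 i (eq_of_A (by rw [h.add, hb.2, hg.2]; rfl))

/-- The Heisenberg group of a root acts on the eigenspaces. -/
theorem stab_one (hr : M.Fx r) (hb : b < D.nroots) (h : A D r b = 1) (h1 : Nrm D (orb M.ρ b) Ψ) (h2 : Nrm D {r} Ψ) :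
    M.X b ≤ StbS R (EE R r s Ψ) :=
  stab hr h1 h2 fun c e => by
    have := (A_orb hr e).trans h
    exact ⟨(lt_orb e).2 hb, ne_neg_of_A hr.1 (by omega), fun _ h' => absurd h'.A_eq (by omega)⟩

theorem nrm_empty : Nrm D T ∅ := ⟨fun _ _ _ h => h.elim, fun _ _ _ h => h.elim⟩

theorem lag_La {i : Fin D.rank} (ha : M.Fx (D.simple i)) (hs : s ≠ 0) :
    Nat.card k ^ (La D (D.simple i)).card * finrank ℂ (EE R (D.simple i) s (La D (D.simple i))) ≤
      finrank ℂ (Wz R (D.simple i) s) ∧ (Wz R (D.simple i) s ≠ ⊥ → EE R (D.simple i) s (La D (D.simple i)) ≠ ⊥) :=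
  lag ha hs _ (fun _ => mem_La.1) (inv_La ha) (fun _ h _ => La_nonneg i h) _ le_rfl fun b hb => by
    have e := sm_cpl ha.1 (mem_La.1 hb).1.1 (mem_La.1 hb).2
    exact EE_empty (R := R) ▸ ⟨stab_one ha e.1 e.A_left nrm_empty nrm_empty, stab_one ha e.2.1 e.symm.A_left nrm_empty nrm_empty⟩

theorem card_ne_zero [Fintype k] [DecidableEq k] : (Finset.univ.erase (0 : k)).card = Nat.card k - 1 := by
  rw [Finset.card_erase_of_mem (Finset.mem_univ _), Finset.card_univ, Nat.card_eq_fintype_card]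

/-- Multiplicity one. -/
theorem mult_one {i : Fin D.rank} (ha : M.Fx (D.simple i)) (hb : M.Fx b) (hp : D.IsPosRoot b)
    (h : A D b (D.simple i) = -1) {N : ℕ} (hN : (La D (D.simple i)).card = N + 1)
    (hd : finrank ℂ V < 2 * (Nat.card k - 1) * (Nat.card k ^ (N + 1) + Nat.card k ^ N)) (hs : s ≠ 0) :
    finrank ℂ (EE R (D.simple i) s (La D (D.simple i))) ≤ 1 := by
  classical
  have := Fintype.ofFinite k
  by_contra h0
  set a := D.simple i
  have h1 : ∀ s' ∈ Finset.univ.erase (0 : k), 2 ≤ finrank ℂ (EE R a s' (La D a)) := fun s' h' =>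
    let ⟨n, hn⟩ := scale (R := R) ha hb h hs (Finset.ne_of_mem_erase h')
    (not_le.1 h0).trans_le (finrank_le_conj n (hn _))
  have e := exists_sm hb.1 ha.1 h
  set c := refl D b a
  have hc : M.Fx c := hb.refl ha
  have h2 : c ∈ La D a := mem_La.2 ⟨e.pos hp (simple_pos i), by rw [A_symm]; exact e.symm.A_left⟩
  have h3 := filt_step chi_inj (fun t => R (M.z a t)) ⊤ (Wz R a) fun _ => le_inf le_top le_rfl
  have h4 := filt_step chi_inj (fun t => R (M.z a t)) (Fix R (M.Y {c})) (fun s => EE R a s {c}) fun _ => (inf_comm _ _).le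
  obtain ⟨n, hn⟩ := exists_nE hb
  have h5 : finrank ℂ (Fix R (M.Y {c})) ≤ finrank ℂ ↥(⊤ ⊓ Wz R a 0) := finrank_le_conj n fun v hv => ⟨trivial, by
    rw [Wz_zero ha, X_fx ha]; exact conj_Fix hn (fun _ h => by rw [h, refl_inv]; rfl) hv⟩
  have h6 := Finset.card_nsmul_le_sum _ (fun s => finrank ℂ (Wz R a s)) (Nat.card k ^ (N + 1) * 2) fun s' h' =>
    (Nat.mul_le_mul_left _ (h1 s' h')).trans (hN ▸ (lag_La ha (Finset.ne_of_mem_erase h')).1)
  have h7 := Finset.card_nsmul_le_sum (Finset.univ.erase 0) (fun s => finrank ℂ (EE R a s {c})) (Nat.card k ^ N * 2) fun s' h' => by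
    have h7 : ∀ g ∈ (La D a).erase c, g ∈ La D a := fun g => Finset.mem_of_mem_erase
    have h8 : ∀ g < D.nroots, A D a g = 1 → 0 ≤ A D c g → M.X g ≤ StbS R (EE R a s' {c}) := fun g h1 h2' h3 =>
      stab_one ha h1 h2' (Nrm.of_nonneg fun g' e _ e' => e' ▸ ⟨(lt_orb e).2 h1, hc.1, by rwa [A_symm, A_orb hc e]⟩)
        (Nrm.of_nonneg fun _ e _ e' => e ▸ e' ▸ ⟨ha.1, hc.1, by rw [(mem_La.1 h2).2]; omega⟩)
    have h9 := (lag ha (Finset.ne_of_mem_erase h') ((La D a).erase c) (fun g hg => mem_La.1 (h7 g hg))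
      (fun g g' e hg => Finset.mem_erase.2 ⟨mt (eq_orb hc e).1 (Finset.ne_of_mem_erase hg), inv_La ha _ _ e (h7 g hg)⟩)
      (fun g hg g' hg' => La_nonneg i (h7 g hg) (h7 g' hg')) (EE R a s' {c}) inf_le_left fun g hg => by
        have e := sm_cpl ha.1 (mem_La.1 (h7 g hg)).1.1 (mem_La.1 (h7 g hg)).2
        refine ⟨h8 g e.1 e.A_left (La_nonneg i h2 (h7 g hg)), h8 _ e.2.1 e.symm.A_left ?_⟩
        have h9 := e.add c
        rw [A_symm c a, (mem_La.1 h2).2] at h9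
        have := (A_le hc.1 e.1).resolve_left (Finset.ne_of_mem_erase hg)
        omega).1
    rw [Finset.card_erase_of_mem h2, hN, Nat.add_sub_cancel] at h9
    refine (Nat.mul_le_mul_left _ ((h1 s' h').trans (Submodule.finrank_mono fun v hv => ?_))).trans h9
    exact ⟨EE_anti (by simpa using h2) hv, (Y_mono h7).trans hv.2⟩
  rw [card_ne_zero, smul_eq_mul] at h6 h7
  rw [finrank_top] at h3
  have : finrank ℂ ↥(⊤ ⊓ Wz R a 0) = finrank ℂ ↥(⊤ ⊓ Wt (fun t => R (M.z a t)) (chi 0)) := rfl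
  nlinarith

end MD

end Cfsg.Agent.H2
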