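import Cfsg.Agent.H2.MinA

/-! Vectors fixed by the unipotent radical of a minimal parabolic subgroup; the lower bound. -/

set_option autoImplicit false
set_option linter.unusedSectionVars false

namespace Cfsg.Agent.H2

open Cfsg.Lie Cfsg.Agent.H1 Cfsg.Agent.H7 Cfsg.Agent.H8 Matrix Module

namespace MD

variable {D : ChevalleyDatum} {K : Type*} [Field K] {G : Type*} [Group G] [hD : RootFacts D] [hN : NFacts D]
  [hS : SLFacts D] [Finite G] {k : Type*} [Field k] [Finite k] {M : MD D K G k} {r a b g θ : ℕ} {T U Ψ : Set ℕ}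
  {w : Equiv.Perm ℕ} {V : Type*} [AddCommGroup V] [Module ℂ V] [FiniteDimensional ℂ V] {R : M.S →* Module.End ℂ V}
  {s : k} {v : V} {i j : Fin D.rank}

theorem comm_fix (hr : M.Fx r) (e : Sm D b g r) (h1 : M.X b ≤ StbS R (ℂ ∙ v)) (h2 : M.X g ≤ StbS R (ℂ ∙ v)) :
    M.X r ≤ Stb R v := fun y hy => by
  obtain ⟨t, rfl⟩ := exists_z hr hy
  obtain ⟨u, hu, h0⟩ := exists_ne_one (M := M) e.1
  obtain ⟨y, hy, h3⟩ := heis' hr e hu h0 t
  exact h3 ▸ comm_mem_Stb (h2 hy) (h1 hu)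

theorem fix_of (ha : M.Fx a) (hm : finrank ℂ (EE R a s T) ≤ 1) (hv : v ∈ EE R a s T) (h0 : v ≠ 0) (hb : b < D.nroots)
    (h1 : M.X b ≤ StbS R (ℂ ∙ v))
    (h2 : M.Fx b → ∃ d g, Sm D d g b ∧ M.X d ≤ StbS R (ℂ ∙ v) ∧ M.X g ≤ StbS R (ℂ ∙ v)) : M.X b ≤ Stb R v := by
  by_cases h : M.ρ b = b
  · obtain ⟨d, g, e, h3, h4⟩ := h2 ⟨hb, h⟩
    exact comm_fix ⟨hb, h⟩ e h3 h4
  obtain ⟨n, e, h3, h4, h5⟩ := M.tor b hb h
  intro u hu
  obtain ⟨y, hy, rfl⟩ := h5 u hu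
  refine comm_mem_Stb (line_stab hm le_rfl hv h0 (StbS_inf (mem_StbS fun v hv => conj_Wz one_ne_zero (fun t => Subtype.ext ?_)
    ((mul_one s).symm ▸ hv)) ((StbS R _).inv_mem_iff.1 (StbS_Fix fun y hy => ?_)))) (h1 hy)
  · simpa [z_val ha, h4 a ha.1 ha.2] using h3 a (M.ι t)
  · rw [inv_inv]; exact h3.conj_mem_XS (fun _ h => h) hy

theorem nrm_pos (hT : ∀ b ∈ T, D.IsPosRoot b) (hU : ∀ b ∈ U, D.IsPosRoot b)
    (h : ∀ b, D.IsPosRoot b → (∀ i : Fin D.rank, b ≠ D.simple i) → b ∈ U) : Nrm D T U :=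
  Nrm.of_sm fun r hr s hs => ⟨(hT r hr).1, (hU s hs).1, ne_neg_pos (hT r hr) (hU s hs), fun c e =>
    h c (e.pos (hT r hr) (hU s hs)) (e.ne_simple (hT r hr) (hU s hs))⟩

variable (D) in
/-- The positive roots other than `a`. -/
def Pa (a : ℕ) : Set ℕ := {b | D.IsPosRoot b ∧ b ≠ a}

theorem le_Pa (ha : M.Fx (D.simple i)) {H : Subgroup M.S} (h : ∀ b, D.IsPosRoot b → b ≠ D.simple i → M.X b ≤ H) :
    M.Y (Pa D (D.simple i)) ≤ H :=
  gen (nrm_pos (fun _ h => h.1) (fun _ h => h.1) fun _ h h' => And.intro h (h' i)).1 (fun _ h => h.1)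
    (fun _ _ e h => And.intro ((pos_orb e).2 h.1) (mt (eq_orb ha e).1 h.2)) fun b hb => h b hb.1 hb.2

variable (M) in
/-- The highest root and the fundamental root joined to it. -/
structure Base (θ : ℕ) (i : Fin D.rank) : Prop where
  hθ : M.Fx θ
  ha : M.Fx (D.simple i)
  one : A D θ (D.simple i) = 1
  pos : ∀ b, 1 ≤ A D θ b → D.IsPosRoot b
  dec : ∀ r, M.Fx r → 0 ≤ A D θ r → A D (D.simple i) r ≤ 0 → A D θ r - A D (D.simple i) r ≤ 1 →
    ∃ d < D.nroots, A D θ d = 0 ∧ A D (D.simple i) d = 0 ∧ A D r d = 1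

namespace Base
variable (h : M.Base θ i)
include h

theorem nonneg (hb : D.IsPosRoot b) : 0 ≤ A D θ b := by
  by_contra h1
  exact not_neg_of_pos hb ((neg_pos_iff hb.1).1 (h.pos _ (by rw [A_neg_right _ hb.1]; omega)))

theorem mem_La' : b ∈ La D (D.simple i) ↔ 1 ≤ A D θ b ∧ A D (D.simple i) b = 1 := by
  rw [mem_La]
  refine and_congr_left fun h1 => ⟨fun hb => ?_, h.pos b⟩
  have e := sm_cpl h.ha.1 hb.1 h1
  have h2 := e.add θ
  have h3 := h.nonneg hb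
  by_contra h4
  exact e.ne_simple hb (h.pos _ (by rw [h.one] at h2; omega)) i rfl

theorem ne_neg (hb : b < D.nroots) (h1 : 0 ≤ A D θ b) (h2 : 1 ≤ A D θ g) : g ≠ D.neg b := fun e => by
  rw [e, A_neg_right _ hb] at h2; omega

theorem ne_neg' (h1 : 0 ≤ A D θ b) : b ≠ D.neg (D.simple i) := fun e => by
  rw [e, A_neg_right _ h.ha.1, h.one] at h1; omega

theorem stab0 (hb : b < D.nroots) (h1 : 0 ≤ A D θ b) (h2 : A D θ b = 0 → A D (D.simple i) b = 0) :
    M.X b ≤ StbS R (EE R (D.simple i) s (La D (D.simple i))) := by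
  refine stab h.ha (Nrm.of_sm fun b' e c hc => ?_) (Nrm.of_nonneg fun _ e c hc => ?_) fun b' e => ?_
  · have h3 := h.mem_La'.1 hc
    rw [← A_orb h.hθ e, ← A_orb h.ha e] at *
    refine ⟨(lt_orb e).2 hb, (h.pos c h3.1).1, h.ne_neg ((lt_orb e).2 hb) h1 h3.1, fun d e' => h.mem_La'.2 ?_⟩
    have h4 := e'.add θ
    by_cases h5 : A D θ b' = 0
    · exact ⟨by omega, by rw [e'.add, h2 h5, h3.2]; rfl⟩
    · exact ⟨by omega, by rw [eq_of_A (D := D) (r := θ) (s := d) (by omega), A_symm, h.one]⟩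
  · exact e ▸ ⟨h.ha.1, (mem_La.1 hc).1.1, by rw [(mem_La.1 hc).2]; omega⟩
  · rw [← A_orb h.hθ e] at h1
    exact ⟨(lt_orb e).2 hb, h.ne_neg' h1, fun d e' => h.mem_La'.2 ⟨by rw [e'.add, h.one]; omega, by
      rw [A_symm, e'.A_left]⟩⟩

variable (hm : finrank ℂ (EE R (D.simple i) s (La D (D.simple i))) ≤ 1) (hv : v ∈ EE R (D.simple i) s (La D (D.simple i)))
  (h0 : v ≠ 0)
include hm hv h0

theorem line0 (hb : b < D.nroots) (h1 : 0 ≤ A D θ b) (h2 : A D θ b = 0 → A D (D.simple i) b = 0) :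
    M.X b ≤ StbS R (ℂ ∙ v) := (h.stab0 hb h1 h2).trans (line_stab hm le_rfl hv h0)

theorem fix0 (hb : b < D.nroots) (h1 : 0 ≤ A D θ b) (h2 : 0 ≤ A D (D.simple i) b) (h3 : b ≠ D.simple i)
    (h4 : A D θ b = 0 → A D (D.simple i) b = 0) : M.X b ≤ Stb R v := by
  have h5 := (A_le h.ha.1 hb).resolve_left h3
  by_cases h6 : A D (D.simple i) b = 1
  · exact (X_le (inv_La h.ha) (h.mem_La'.2 ⟨by omega, h6⟩)).trans hv.2
  refine fix_of h.ha hm hv h0 hb (h.line0 hm hv h0 hb h1 h4) fun hf => ?_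
  obtain ⟨d, hd, h7, h8, h9⟩ := h.dec b hf h1 (by omega) (by
    have := (A_le h.hθ.1 hb).resolve_left fun e => h6 (by rw [e, A_symm, h.one])
    omega)
  have e := sm_cpl hb hd h9
  have := e.add θ
  have := e.add (D.simple i)
  exact ⟨_, _, e, h.line0 hm hv h0 hd h7.ge fun _ => h8, h.line0 hm hv h0 e.2.1 (by omega) fun _ => by omega⟩

theorem line1 (h1 : ∀ b ∈ Ψ, 1 ≤ A D θ b) (h2 : θ ∈ Ψ) (h3 : M.Inv Ψ) (h4 : ∀ b ∈ La D (D.simple i), b ∈ Ψ)
    (h5 : ∀ b ∈ Ψ, M.X b ≤ Stb R v) (hb : b < D.nroots) (h6 : A D θ b = 0)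
    (h7 : ∀ b' ∈ orb M.ρ b, ∀ c ∈ Ψ, ∀ d, Sm D b' c d → d ∈ Ψ) : M.X b ≤ StbS R (ℂ ∙ v) := by
  have h8 : ∀ T : Set ℕ, (∀ b ∈ T, 1 ≤ A D θ b) → Nrm D T Ψ := fun T hT => Nrm.of_sm fun b hb c hc =>
    ⟨(h.pos b (hT b hb)).1, (h.pos c (h1 c hc)).1, ne_neg_pos (h.pos b (hT b hb)) (h.pos c (h1 c hc)), fun d e => by
      rwa [eq_of_A (D := D) (r := θ) (s := d) (by have := hT b hb; have := h1 c hc; rw [e.add]; omega)]⟩
  refine (stab h.ha (Nrm.of_sm fun b' e c hc => ⟨(lt_orb e).2 hb, (h.pos c (h1 c hc)).1, h.ne_neg ((lt_orb e).2 hb)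
    (by rw [A_orb h.hθ e, h6]) (h1 c hc), h7 b' e c hc⟩) (h8 _ fun _ e => e ▸ h.one.ge) fun b' e => ?_).trans
    (line_stab hm (EE_anti h4) ⟨hv.1, gen (h8 _ h1).1 (fun b hb => h.pos b (h1 b hb)) h3 h5⟩ h0)
  rw [← A_orb h.hθ e] at h6
  exact ⟨(lt_orb e).2 hb, h.ne_neg' h6.ge, fun d e' => h4 d (h.mem_La'.2 ⟨by rw [e'.add, h.one]; omega, by
    rw [A_symm, e'.A_left]⟩)⟩

theorem fix1 (hg : M.Fx g) (h1 : A D θ g = 0) (h2 : A D (D.simple i) g = -1) (e : Sm D (D.simple i) b θ) :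
    M.X b ≤ Stb R v := by
  have h3 := h.line1 hm hv h0 (Ψ := {c | 1 ≤ A D θ c ∧ (A D (D.simple i) c = 1 ∨ A D (D.simple i) c = 0 ∧ 0 ≤ A D g c)})
    (fun _ h => h.1) ⟨by rw [A_self h.hθ.1]; omega, Or.inl (by rw [A_symm, h.one])⟩
    (fun c c' e hc => by simpa only [Set.mem_ofPred_eq, A_orb h.hθ e, A_orb h.ha e, A_orb hg e] using hc)
    (fun c hc => ⟨(h.mem_La'.1 hc).1, Or.inl (h.mem_La'.1 hc).2⟩)
    (fun c hc => h.fix0 hm hv h0 (h.pos c hc.1).1 (by have := hc.1; omega) (by have := hc.2; omega)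
      (fun e => by have := hc.2; rw [e, A_self h.ha.1] at this; omega) (by have := hc.1; omega)) hg.1 h1
    fun g' e' c hc d e => by
      obtain rfl := (eq_orb hg e').2 rfl
      have := e.add θ
      have := e.add (D.simple i)
      have := e.A_eq
      have := e.A_left
      rw [A_symm] at this
      obtain ⟨h4, h5⟩ := hc
      exact ⟨by omega, by omega⟩
  have h4 := e.add g
  rw [A_symm g θ, A_symm g, A_symm g] at h4
  have e' := sm_cpl e.2.1 hg.1 (by omega)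
  have := e'.add θ
  have := e.symm.A_left
  exact comm_fix (h.hθ.of_sm h.ha.2 e) e' h3 (h.line0 hm hv h0 e'.2.1 (by omega) (by omega))

theorem fix2 (h1 : ∀ b, Sm D (D.simple i) b θ → M.X b ≤ Stb R v) : v ∈ EE R (D.simple i) s (Pa D (D.simple i)) := by
  have h2 : ∀ b, 1 ≤ A D θ b → b ≠ D.simple i → M.X b ≤ Stb R v := fun b hb h2 => by
    have h3 := (h.pos b hb).1
    by_cases h4 : 0 ≤ A D (D.simple i) b
    · exact h.fix0 hm hv h0 h3 (by omega) h4 h2 (by omega)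
    have h5 := h.ne_neg' (b := b) (by omega)
    have e := exists_sm h.ha.1 h3 (by have := A_cases h.ha.1 h3; omega)
    exact h1 b (eq_of_A (D := D) (r := θ) (by rw [e.add, h.one]; omega) ▸ e)
  have h3 : ∀ b < D.nroots, A D θ b = 0 → A D (D.simple i) b ≤ 0 → M.X b ≤ StbS R (ℂ ∙ v) := fun b hb h3 h4 =>
    h.line1 hm hv h0 (Ψ := {c | 1 ≤ A D θ c ∧ c ≠ D.simple i}) (fun _ h => h.1)
      ⟨by rw [A_self h.hθ.1]; omega, fun e => by have := h.one; rw [← e, A_self h.hθ.1] at this; omega⟩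
      (fun c c' e hc => ⟨A_orb h.hθ e ▸ hc.1, mt (eq_orb h.ha e).1 hc.2⟩)
      (fun c hc => ⟨(h.mem_La'.1 hc).1, fun e => by have := (h.mem_La'.1 hc).2; rw [e, A_self h.ha.1] at this; omega⟩)
      (fun c hc => h2 c hc.1 hc.2) hb h3 fun b' e c hc d e' => ⟨by rw [e'.add, A_orb h.hθ e, h3, zero_add]; exact hc.1,
        fun e'' => by have := e'.A_left; rw [e'', A_orb h.ha e] at this; omega⟩
  refine ⟨hv.1, le_Pa h.ha fun b hb h4 => ?_⟩
  by_cases h5 : 1 ≤ A D θ b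
  · exact h2 b h5 h4
  have h6 := h.nonneg hb
  have h7 : A D (D.simple i) b ≤ 0 := by
    have := (A_le h.ha.1 hb.1).resolve_left h4
    have := mt (fun e => (h.mem_La'.1 (mem_La.2 ⟨hb, e⟩)).1) h5
    omega
  refine fix_of h.ha hm hv h0 hb.1 (h3 b hb.1 (by omega) h7) fun hf => ?_
  obtain ⟨d, hd, h8, h9, h10⟩ := h.dec b hf h6 h7 (by
    have := A_cases h.ha.1 hb.1
    have := h.ne_neg' h6
    omega)
  have e := sm_cpl hb.1 hd h10
  have := e.add θ
  have := e.add (D.simple i)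
  exact ⟨_, _, e, h3 d hd h8 h9.le, h3 _ e.2.1 (by omega) (by omega)⟩

end Base

variable (R) in
/-- Existence of the extremal vectors. -/
def CD (a : ℕ) : Prop := ∀ s ≠ 0, EE R a s (Pa D a) ≠ ⊥

variable (R) in
/-- Multiplicity one. -/
def M1 (a : ℕ) : Prop := ∀ s ≠ 0, finrank ℂ (EE R a s (La D a)) ≤ 1

theorem exists_EE (ha : M.Fx (D.simple i)) (hb : M.Fx b) (h : A D b (D.simple i) = -1)
    (h1 : ∃ t, R (M.z (D.simple i) t) ≠ 1) (hs : s ≠ 0) : ∃ v ∈ EE R (D.simple i) s (La D (D.simple i)), v ≠ 0 := by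
  obtain ⟨s', hs', h2⟩ : ∃ s' ≠ 0, Wz R (D.simple i) s' ≠ ⊥ := by
    by_contra h2
    push Not at h2
    obtain ⟨t, ht⟩ := h1
    refine ht (LinearMap.ext fun v => le_of_chi (fun t => R (M.z (D.simple i) t)) (by simp [z_zero ha])
      (by simp [z_add ha]) (U := ⊤) (P := Fix R (M.X (D.simple i))) (fun _ _ _ => trivial) (fun s => ?_) trivial (z_mem ha t))
    by_cases h0 : s = 0
    · exact inf_le_right.trans (h0 ▸ (Wz_zero ha).le)
    · exact inf_le_right.trans ((h2 s h0).le.trans bot_le)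
  obtain ⟨v, hv, h0⟩ := (Submodule.ne_bot_iff _).1 ((lag_La ha hs').2 h2)
  obtain ⟨n, hn⟩ := scale (R := R) ha hb h hs' hs
  exact ⟨_, hn _ v hv, rne h0 n⟩

theorem sub_cases (h : A D (D.simple i) (D.simple j) = -1) (hb : D.IsPosRoot b) (h1 : D.InRootSub {i.1, j.1} b) :
    b = D.simple i ∨ b = D.simple j ∨ b = refl D (D.simple i) (D.simple j) := by
  have h2 : i ≠ j := fun e => by rw [e, A_self (simple_lt j)] at h; omega
  have h3 : wt D b = rc D b i • wt D (D.simple i) + rc D b j • wt D (D.simple j) := by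
    rw [wt_eq_rc b, Finset.sum_eq_add i j h2 (fun l _ hl => ?_) (by simp) (by simp)]
    rw [(inRootSub_iff_rc.1 h1).2 l (by simpa [Fin.ext_iff] using hl), zero_smul]
  have h4 := norm_comb (simple_lt i) (simple_lt j) hb.1 h3
  have h5 := rc_nonneg hb i
  have h6 := rc_nonneg hb j
  have e := exists_sm (simple_lt i) (simple_lt j) h
  rw [h] at h4
  have h7 : rc D b i ≤ 1 := by nlinarith [sq_nonneg (rc D b i - 2 * rc D b j)]
  have h8 : rc D b j ≤ 1 := by nlinarith [sq_nonneg (2 * rc D b i - rc D b j)]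
  generalize rc D b i = x at *
  generalize rc D b j = y at *
  interval_cases x <;> interval_cases y
  · omega
  · exact Or.inr (Or.inl (wt_inj hb.1 (simple_lt j) (by simpa using h3)))
  · exact Or.inl (wt_inj hb.1 (simple_lt i) (by simpa using h3))
  · exact Or.inr (Or.inr (wt_inj hb.1 e.2.2.1 (by simpa [e.2.2.2] using h3)))

theorem CD.step (ha : M.Fx (D.simple i)) (ha' : M.Fx (D.simple j)) (h : A D (D.simple i) (D.simple j) = -1)
    (h1 : CD R (D.simple i)) (hm : M1 R (D.simple i)) : CD R (D.simple j) := fun s hs => by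
  have e := exists_sm ha.1 ha'.1 h
  have hi : D.InRootSub {i.1, j.1} (D.simple i) := simple_inRootSub.2 (by simp)
  have hj : D.InRootSub {i.1, j.1} (D.simple j) := simple_inRootSub.2 (by simp)
  have h2 := H8.refl_mem_WJ hi
  have h3 := H8.refl_mem_WJ hj
  have hc := ha.refl ha'
  have hc' := (inRootSub_WJ h2).2 hj
  have hp := e.pos (simple_pos i) (simple_pos j)
  have hsub := fun b hb => sub_cases (b := b) h hb
  have h4 : (refl D (D.simple i) * refl D (D.simple j)) (D.simple i) = D.simple j := by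
    have e' := exists_sm ha'.1 ha.1 (A_symm (D := D) _ _ ▸ h)
    rw [Equiv.Perm.mul_apply, wt_inj e'.2.2.1 e.2.2.1 (e'.symm.2.2.2.trans e.2.2.2.symm), refl_refl]
  set c := refl D (D.simple i) (D.simple j)
  set Ψ := {b | D.IsPosRoot b ∧ ¬ D.InRootSub {i.1, j.1} b}
  have h5 : ∀ b, M.Fx b → D.InRootSub {i.1, j.1} b → Nrm D (orb M.ρ b) Ψ := fun b hb h => orb_fx hb ▸
    Nrm.mono ⟨isIdealFor_UJ, fun _ h1 _ h2 => ne_neg_UJ h1 h2⟩ fun _ e => Or.inr (e ▸ h)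
  obtain ⟨n, hn⟩ := exists_nE ha
  obtain ⟨n', hn'⟩ := exists_nE ha'
  obtain ⟨s', hs', h6⟩ := conj_EE (R := R) (n := n * n') (hn.mul st hn') ha (U := Ψ) (T := Ψ) (fun b hb =>
    ⟨WJ_pos (inv_mem (mul_mem h2 h3)) hb.1 hb.2, mt (inRootSub_WJ (inv_mem (mul_mem h2 h3))).1 hb.2⟩) hs
  obtain ⟨v, hv, h0⟩ := (Submodule.ne_bot_iff _).1 (h1 s' hs')
  rw [h4] at h6
  have e' := sm_cpl ha'.1 hc.1 (A_symm (D := D) _ _ ▸ e.symm.A_left)
  obtain ⟨u, hu, h7⟩ := (Submodule.ne_bot_iff _).1 ((lag ha' hs {c} (by simpa using ⟨hp, e'.A_left⟩)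
    (fun b b' e hb => by simpa using (eq_orb hc e).2 (by simpa using hb)) (by simp [A_self hc.1]) (EE R _ s Ψ) inf_le_left
    (by
      simpa using ⟨stab_one ha' hc.1 e'.A_left (h5 c hc hc') (orb_fx ha' ▸ h5 _ ha' hj), stab_one ha' e'.2.1
        e'.symm.A_left (h5 _ (ha'.of_sm hc.2 e') (H8.inRootSub_neg ((inRootSub_WJ h3).2 hc'))) (orb_fx ha' ▸ h5 _ ha' hj)⟩)).2
    ((Submodule.ne_bot_iff _).2 ⟨_, h6 v (EE_anti (fun b hb => And.intro hb.1 fun e => hb.2 (e ▸ hi)) hv), rne h0 _⟩))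
  set Ψ' := {b | D.IsPosRoot b ∧ b ≠ D.simple i ∧ b ≠ D.simple j}
  have h8 : ∀ T : Set ℕ, (∀ b ∈ T, D.IsPosRoot b) → Nrm D T Ψ' := fun T hT =>
    nrm_pos hT (fun _ h => h.1) fun _ h h' => ⟨h, h' i, h' j⟩
  have h9 : M.Inv Ψ' := fun _ _ e h => ⟨(pos_orb e).2 h.1, mt (eq_orb ha e).1 h.2.1, mt (eq_orb ha' e).1 h.2.2⟩
  have h10 : u ∈ EE R (D.simple j) s Ψ' := ⟨hu.1.1, gen (h8 _ fun _ h => h.1).1 (fun _ h => h.1) h9 fun b hb => by
    by_cases h : b = c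
    · rw [h, X_fx hc, ← Finset.coe_singleton]; exact hu.2
    · refine (Y_mono fun b' e => ?_).trans hu.1.2
      have := h9 _ _ e hb
      exact ⟨this.1, fun h' => (hsub b' this.1 h').elim this.2.1 fun h' => h'.elim this.2.2 (mt (eq_orb hc e).1 h)⟩⟩
  have h11 : EE R (D.simple j) s Ψ' ≤ Fix R (M.X (D.simple i)) := by
    refine le_of_chi (fun t => R (M.z (D.simple i) t)) (by simp [z_zero ha]) (by simp [z_add ha]) (fun t =>
      (stab ha' (T := {D.simple i}) (h8 _ fun _ e => e ▸ simple_pos i) (h8 _ fun _ e => e ▸ simple_pos j) (fun _ e => e ▸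
        ⟨ha.1, ne_neg_pos (simple_pos j) (simple_pos i), fun d e => ⟨e.pos (simple_pos j) (simple_pos i),
          e.ne_simple (simple_pos j) (simple_pos i) i, e.ne_simple (simple_pos j) (simple_pos i) j⟩⟩)
        (z_mem' ha (Set.mem_singleton _) t)).1) fun s' y hy => ?_
    by_cases h0 : s' = 0
    · exact (Wz_zero ha).le (h0 ▸ hy.2)
    obtain ⟨v, hv, h12⟩ := (Submodule.ne_bot_iff _).1 (h1 s' h0)
    have h13 : ∀ b ∈ La D (D.simple i), b ∈ Ψ' := fun b hb => ⟨(mem_La.1 hb).1, fun e => by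
      have := (mem_La.1 hb).2; rw [e, A_self ha.1] at this; omega, fun e => by
      have := (mem_La.1 hb).2; rw [e, h] at this; omega⟩
    obtain ⟨c, rfl⟩ := Submodule.mem_span_singleton.1 (mem_span_of_finrank (hm s' h0)
      (EE_anti (fun b hb => And.intro (h13 b hb).1 (h13 b hb).2.1) hv) h12 ⟨hy.2, (Y_mono h13).trans hy.1.2⟩)
    rw [eq_zero_of_fix ha' hs hy.1.1 (X_fx ha' ▸ (Y_mono fun _ e => e ▸ ⟨simple_pos j, fun e => by
      rw [e, A_self ha.1] at h; omega⟩).trans (Submodule.smul_mem _ c hv).2)]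
    exact zero_mem _
  refine (Submodule.ne_bot_iff _).2 ⟨u, ⟨hu.1.1, le_Pa ha' fun b hb h => ?_⟩, h7⟩
  by_cases h' : b = D.simple i
  · exact h' ▸ h11 h10
  · exact (X_le h9 ⟨hb, h', h⟩).trans h10.2

variable (M) in
/-- The roots above `r`. -/
def Up (r : ℕ) : Set ℕ := {b | b < D.nroots ∧ M.F r < M.F b}

theorem Up_ne_bot (hr : M.Fx r) (hp : D.IsPosRoot r) (hg : ∀ b < D.nroots, A D r b = 1 → 2 * M.F b ≠ M.F r)
    (h : ∀ i : Fin D.rank, M.Fx (D.simple i) → CD R (D.simple i)) (hs : s ≠ 0) : EE R r s (M.Up r) ≠ ⊥ := by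
  set φ : ℕ → ℤ := fun b => 3 * (2 * M.F b - M.F r * A D r b) + A D r b with hφ
  obtain ⟨w, hw, h1⟩ := exists_W_pos (D := D) ((3 : ℤ) • ((2 : ℤ) • dotProductBilin ℤ ℤ M.c -
    M.F r • dotProductBilin ℤ ℤ (cor D r)) + dotProductBilin ℤ ℤ (cor D r))
  replace h1 : ∀ b, 0 < φ b → D.IsPosRoot (w b) := h1
  have h2 : ∀ b < D.nroots, φ (D.neg b) = - φ b := fun b hb => by simp only [hφ, F_neg hb, A_neg_right r hb]; ring
  have h3 : φ r = 2 := by simp only [hφ, A_self hr.1]; ring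
  have h4 : ∀ b < D.nroots, 2 ≤ φ b ∨ φ b ≤ -2 := fun b hb => by
    rcases A_cases hr.1 hb with rfl | rfl | h | h | h
    · exact Or.inl h3.ge
    · rw [h2 r hr.1, h3]; omega
    · have : M.F b ≠ 0 := fun e => (F_pos (M := M) (pos_of_F hb e.ge)).ne' e
      simp only [hφ, h]; omega
    · have := hg b hb h
      simp only [hφ, h]; omega
    · have := hg _ (neg_lt hb) (by rw [A_neg_right r hb, h]; rfl)
      rw [F_neg hb] at this
      simp only [hφ, h]; omega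
  have h5 : ∀ b < D.nroots, D.IsPosRoot (w b) ↔ 0 < φ b := fun b hb => ⟨fun h => by
    by_contra h'
    have := h1 _ (by have := h4 b hb; rw [h2 b hb]; omega)
    rw [W_neg hw hb, neg_pos_iff h.1] at this
    exact not_neg_of_pos h this, h1 b⟩
  have h6 : Commute M.ρ w := by
    refine mul_inv_eq_iff_eq_mul.1 (eq_of_inv (M.tw.conj_mem_W M.faith hw) hw fun b hb => ?_)
    obtain ⟨b, rfl⟩ := M.ρ.surjective b
    simp only [Equiv.Perm.mul_apply, perm_inv_apply, M.tw.pos]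
    rw [h5 _ hb.1, h5 _ ((M.tw.lt b).1 hb.1)]
    simp only [hφ, F_orb (M := M) (Equiv.Perm.SameCycle.refl M.ρ b).apply_right,
      A_orb hr (Equiv.Perm.SameCycle.refl M.ρ b).apply_right]
  obtain ⟨n, hn⟩ := exists_rep hw h6
  have h7 := h1 r (by omega)
  obtain ⟨i, hi⟩ := hD.descent _ h7
  have h8 : w r = D.simple i := by
    by_contra h8
    rw [← A_simple, A_symm] at hi
    have e := sm_cpl h7.1 (simple_lt i) (by have := (A_le h7.1 (simple_lt i)).resolve_left (Ne.symm h8); omega)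
    have h9 : D.IsPosRoot (cpl D (w r) (D.simple i)) := by
      have := sref_pos h7 h8
      rwa [wt_inj this.1 e.2.1 (by rw [wt_sref, ← A_simple, A_symm, e.A_left, e.2.2.2]; simp)] at this
    have h10 : ∀ b, D.IsPosRoot b → 2 ≤ φ (w⁻¹ b) := fun b hb => by
      have h10 := W_lt (inv_mem hw) hb.1
      have := (h5 _ h10).1 (by rwa [perm_apply_inv])
      have := h4 _ h10
      omega
    have e' : Sm D (w⁻¹ (D.simple i)) (w⁻¹ (cpl D (w r) (D.simple i))) r := ⟨W_lt (inv_mem hw) e.1, W_lt (inv_mem hw) e.2.1,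
      hr.1, by
        simpa only [perm_inv_apply, one_smul] using wt_W_comb (inv_mem hw) (i := 1) (j := 1) (by simpa using e.2.2.2 :
          wt D (w r) = (1 : ℤ) • wt D (D.simple i) + (1 : ℤ) • wt D (cpl D (w r) (D.simple i)))⟩
    have h11 := h10 _ (simple_pos i)
    have h12 := h10 _ h9
    have h13 := e'.add r
    have h14 := F_add (M := M) e'
    simp only [hφ] at h3 h11 h12
    rw [h13, mul_add] at h3
    omega
  have ha := h8 ▸ hr.map hn
  obtain ⟨s', hs', h9⟩ := conj_EE (R := R) (n := n⁻¹) (hn.inv st) ha (U := M.Up r) (T := Pa D (D.simple i)) (fun b hb => by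
    have h9 := F_pos (M := M) hp
    have h10 : b ≠ r := fun e => by have := hb.2; rw [e] at this; omega
    refine ⟨h1 b ?_, fun e => h10 (w.injective (e.trans h8.symm))⟩
    have := (A_le hr.1 hb.1).resolve_left h10
    have := hb.2
    have : b ≠ D.neg r := fun e => by rw [e, F_neg hr.1] at this; omega
    have := A_cases hr.1 hb.1
    simp only [hφ]
    rcases (by omega : A D r b = 0 ∨ A D r b = 1 ∨ A D r b = -1) with h | h | h <;> rw [h] <;> omega) hs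
  obtain ⟨v, hv, h0⟩ := (Submodule.ne_bot_iff _).1 (h i ha s' hs')
  rw [← h8, perm_inv_apply] at h9
  exact (Submodule.ne_bot_iff _).2 ⟨_, h9 v (h8 ▸ hv), rne h0 _⟩

variable (M) in
/-- Half of the positive roots whose difference to `r` is a positive root. -/
def L0 (r : ℕ) : Finset ℕ := (Finset.range D.nroots).filter fun b => A D r b = 1 ∧ M.F r < 2 * M.F b ∧ M.F b < M.F r

theorem pow_le_Up (hr : M.Fx r) (hp : D.IsPosRoot r) (hs : s ≠ 0) (h : EE R r s (M.Up r) ≠ ⊥) :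
    Nat.card k ^ (M.L0 r).card ≤ finrank ℂ (EE R r s (M.Up r)) := by
  have h0 := F_pos (M := M) hp
  have h1 : ∀ b, b ∈ M.L0 r ↔ b < D.nroots ∧ A D r b = 1 ∧ M.F r < 2 * M.F b ∧ M.F b < M.F r := fun b => by simp [L0]
  have h2 : ∀ b ∈ M.L0 r, D.IsPosRoot b := fun b hb =>
    pos_of_F (M := M) ((h1 b).1 hb).1 (by have := (h1 b).1 hb; omega)
  have h3 : ∀ T : Set ℕ, (∀ b ∈ T, D.IsPosRoot b) → Nrm D T (M.Up r) := fun T hT => Nrm.of_sm fun b hb c hc =>
    ⟨(hT b hb).1, hc.1, ne_neg_pos (hT b hb) (pos_of_F (M := M) hc.1 (by have := hc.2; omega)), fun d e =>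
      ⟨e.2.2.1, by have := hc.2; have := F_pos (M := M) (hT b hb); rw [F_add e]; omega⟩⟩
  have h4 : ∀ b, D.IsPosRoot b → A D r b = 1 → M.X b ≤ StbS R (EE R r s (M.Up r)) := fun b hb h =>
    stab_one hr hb.1 h (h3 _ fun _ e => (pos_orb e).2 hb) (h3 _ fun _ e => e ▸ hp)
  obtain ⟨h5, h6⟩ := lag hr hs (M.L0 r) (fun b hb => ⟨h2 b hb, ((h1 b).1 hb).2.1⟩)
    (fun b c e hb => (h1 c).2 (by rw [lt_orb e, A_orb hr e, F_orb e]; exact (h1 b).1 hb))
    (fun b hb c hc => A_nonneg (h2 b hb) (h2 c hc) fun d e => by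
      have := (h1 b).1 hb
      have := (h1 c).1 hc
      have h5 := F_add (M := M) e
      rw [eq_of_A (D := D) (r := r) (s := d) (by rw [e.add]; omega)] at h5
      omega) (EE R r s (M.Up r)) inf_le_left fun b hb => by
      have := (h1 b).1 hb
      have e := sm_cpl hr.1 this.1 this.2.1
      have := F_add (M := M) e
      exact ⟨h4 b (h2 b hb) e.A_left, h4 _ (pos_of_F (M := M) e.2.1 (by omega)) e.symm.A_left⟩
  exact (Nat.le_mul_of_pos_right _ (Nat.pos_of_ne_zero (mt Submodule.finrank_eq_zero.1 (h6 h)))).trans h5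

/-- The lower bound. -/
theorem total (P : Finset ℕ) (hP : ∀ r ∈ P, M.Fx r ∧ D.IsPosRoot r) (hF : Set.InjOn M.F P)
    (h : ∀ r ∈ P, ∀ s ≠ 0, EE R r s (M.Up r) ≠ ⊥) (W : Submodule ℂ V) (hW : ∀ r ∈ P, Fix R (M.Y (M.Up r)) ≤ W) :
    (Nat.card k - 1) * ∑ r ∈ P, Nat.card k ^ (M.L0 r).card ≤ finrank ℂ W := by
  classical
  have := Fintype.ofFinite k
  refine le_trans ?_ (filt chi_inj (fun r t => R (M.z r t)) M.F (fun r s => EE R r s (M.Up r)) P hF
    (fun _ _ _ => inf_le_left) (fun r hr r' _ h s => inf_le_right.trans ((Fix_anti ?_).trans (Wz_zero (hP r hr).1).ge)) W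
    fun r hr _ => inf_le_right.trans (hW r hr))
  · rw [Finset.mul_sum, ← card_ne_zero]
    exact Finset.sum_le_sum fun r hr => Finset.card_nsmul_le_sum _ _ _ fun s hs =>
      pow_le_Up (hP r hr).1 (hP r hr).2 (Finset.ne_of_mem_erase hs) (h r hr s (Finset.ne_of_mem_erase hs))
  · exact X_fx (hP r hr).1 ▸ Y_mono fun _ e => e ▸ ⟨(hP r hr).1.1, h⟩

end MD

end Cfsg.Agent.H2
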