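import Cfsg.Agent.H2.MinB

/-! The lower bound from finitely many conditions on the root system. -/

set_option autoImplicit false
set_option linter.unusedSectionVars false

namespace Cfsg.Agent.H2

open Cfsg.Lie Cfsg.Agent.H1 Cfsg.Agent.H7 Cfsg.Agent.H8 Matrix Module

/-- The conditions. -/
def MinChk (n l : ℕ) (a : ℕ → ℕ → ℤ) (f : ℕ → ℤ) (ρ sm dep : ℕ → ℕ) (i N : ℕ) (E : List ℕ) : Prop :=
  (ρ (n - 1) = n - 1 ∧ ρ (sm i) = sm i ∧ a (n - 1) (sm i) = 1 ∧ (∀ b < n, 1 ≤ a (n - 1) b → 0 < f b) ∧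
    ∀ r < n, ρ r = r → 0 ≤ a (n - 1) r → a (sm i) r ≤ 0 → a (n - 1) r - a (sm i) r ≤ 1 →
      ∃ d < n, a (n - 1) d = 0 ∧ a (sm i) d = 0 ∧ a r d = 1) ∧
  (∀ j < l, ρ (sm j) = sm j → ((Finset.range n).filter fun b => 0 < f b ∧ a (sm j) b = 1).card = N + 1 ∧
    (∃ b < n, ρ b = b ∧ 0 < f b ∧ a b (sm j) = -1) ∧
    (j = i ∨ ∃ j' < l, ρ (sm j') = sm j' ∧ a (sm j') (sm j) = -1 ∧ dep j' < dep j)) ∧
  (∀ r < n, ρ r = r → 0 < f r → (∀ b < n, a r b = 1 → 2 * f b ≠ f r) ∧ (∀ r' < n, ρ r' = r' → f r' = f r → r' = r) ∧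
    f r ≤ f (n - 1)) ∧
  ((List.range (n - 1)).filter fun r => ρ r = r ∧ 0 < f r).map
    (fun r => ((Finset.range n).filter fun b => a r b = 1 ∧ f r < 2 * f b ∧ f b < f r).card) = E ∧
  ((Finset.range n).filter fun b => a (n - 1) b = 1 ∧ f (n - 1) < 2 * f b ∧ f b < f (n - 1)).card = N + 1

set_option synthInstance.maxSize 4096 in
instance decMinChk (n l : ℕ) (a : ℕ → ℕ → ℤ) (f : ℕ → ℤ) (ρ sm dep : ℕ → ℕ) (i N : ℕ) (E : List ℕ) :
    Decidable (MinChk n l a f ρ sm dep i N E) := by unfold MinChk; infer_instance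

theorem A_tab {D : ChevalleyDatum} {TW TC : ℕ} (h : chkTables D TW TC = true) :
    A D = fun r s => if r < D.nroots ∧ s < D.nroots then pkA D TW TC r s else 0 := by
  funext r s
  split_ifs with h1
  · exact A_eq_pk h h1.1 h1.2
  · rcases not_and_or.1 h1 with h1 | h1
    · simp [A, cor_ge_of h (not_lt.1 h1)]
    · simp [A, wt_ge_of h (not_lt.1 h1)]

theorem F_tab {D : ChevalleyDatum} {TW TC : ℕ} (h : chkTables D TW TC = true) (c : List ℤ) :
    (fun r => (fun i : Fin D.rank => c.getD i 0) ⬝ᵥ wt D r) = fun r => if r < D.nroots then ordOf D TW c r else 0 := by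
  funext r
  split_ifs with h1
  · exact ord_eq_pk h c h1
  · simp [wt_ge_of h (not_lt.1 h1)]

namespace MD

variable {D : ChevalleyDatum} {K : Type*} [Field K] {G : Type*} [Group G] [hD : RootFacts D] [hN : NFacts D]
  [hS : SLFacts D] [Finite G] {k : Type*} [Field k] [Finite k] {M : MD D K G k} {r a b g θ : ℕ}
  {V : Type*} [AddCommGroup V] [Module ℂ V] [FiniteDimensional ℂ V] {R : M.S →* Module.End ℂ V}
  {i : Fin D.rank} {dep : ℕ → ℕ} {N : ℕ} {E : List ℕ} (h : MinChk D.nroots D.rank (A D) M.F M.ρ D.simple dep i N E)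

theorem pos_iff_F (hb : b < D.nroots) : D.IsPosRoot b ↔ 0 < M.F b := ⟨F_pos, fun h => pos_of_F hb h.le⟩

include h

theorem base_of : M.Base (D.nroots - 1) i := by
  obtain ⟨h1, h2, h3, h4, h5⟩ := h.1
  have h6 : D.nroots - 1 < D.nroots := by have := simple_lt i; omega
  refine ⟨⟨h6, h1⟩, ⟨simple_lt i, h2⟩, h3, fun b hb => ?_, fun r hr => h5 r hr.1 hr.2⟩
  have h7 : b < D.nroots := by
    by_contra h7
    simp [A, hD.wt_ge b (not_lt.1 h7)] at hb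
  exact (pos_iff_F h7).2 (h4 b h7 hb)

theorem m1_of (hd : finrank ℂ V < 2 * (Nat.card k - 1) * (Nat.card k ^ (N + 1) + Nat.card k ^ N)) (j : Fin D.rank)
    (hj : M.Fx (D.simple j)) : M1 R (D.simple j) := fun _ hs => by
  obtain ⟨h1, ⟨b, h2, h3, h4, h5⟩, -⟩ := h.2.1 j j.2 hj.2
  refine mult_one hj ⟨h2, h3⟩ ((pos_iff_F h2).2 h4) h5 (h1 ▸ congrArg _ (Finset.filter_congr fun b hb => ?_)) hd hs
  rw [pos_iff_F (M := M) (Finset.mem_range.1 hb)]

theorem exists_base (h1 : ∃ t, R (M.z (D.simple i) t) ≠ 1) {s : k} (hs : s ≠ 0) :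
    ∃ v ∈ EE R (D.simple i) s (La D (D.simple i)), v ≠ 0 :=
  let ⟨_, ⟨_, h2, h3, _, h5⟩, _⟩ := h.2.1 i i.2 h.1.2.1; exists_EE (base_of h).ha ⟨h2, h3⟩ h5 h1 hs

theorem cd_of (hm : ∀ j : Fin D.rank, M.Fx (D.simple j) → M1 R (D.simple j)) (h0 : CD R (D.simple i)) (j : Fin D.rank)
    (hj : M.Fx (D.simple j)) : CD R (D.simple j) := by
  generalize hn : dep j = n
  induction n using Nat.strong_induction_on generalizing j with
  | _ n ih =>
  obtain ⟨-, -, h1 | ⟨j', h1, h2, h3, h4⟩⟩ := h.2.1 j j.2 hj.2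
  · exact h1 ▸ h0
  · have h5 : M.Fx (D.simple (⟨j', h1⟩ : Fin D.rank)) := ⟨simple_lt _, h2⟩
    exact (ih _ (hn ▸ h4) ⟨j', h1⟩ h5 rfl).step h5 hj h3 (hm _ h5)

/-- The two halves of the lower bound. -/
theorem bound_of (hc : ∀ j : Fin D.rank, M.Fx (D.simple j) → CD R (D.simple j)) :
    (Nat.card k - 1) * (E.map (Nat.card k ^ ·)).sum ≤ finrank ℂ (Fix R (M.X (D.nroots - 1))) ∧
    finrank ℂ (Fix R (M.X (D.nroots - 1))) + (Nat.card k - 1) * Nat.card k ^ (N + 1) ≤ finrank ℂ V := by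
  classical
  have := Fintype.ofFinite k
  have hθ := (base_of h).hθ
  have hp := (base_of h).pos _ (by rw [A_self hθ.1]; omega)
  have h1 : ∀ r, M.Fx r → D.IsPosRoot r → ∀ s ≠ 0, EE R r s (M.Up r) ≠ ⊥ := fun r hr hp s hs =>
    Up_ne_bot hr hp (h.2.2.1 r hr.1 hr.2 (F_pos hp)).1 hc hs
  constructor
  · have h2 : ∀ r ∈ (Finset.range (D.nroots - 1)).filter fun r => M.ρ r = r ∧ 0 < M.F r,
        r < D.nroots - 1 ∧ M.ρ r = r ∧ 0 < M.F r := by simp
    have h3 : ∀ r ∈ (Finset.range (D.nroots - 1)).filter fun r => M.ρ r = r ∧ 0 < M.F r, M.Fx r ∧ D.IsPosRoot r :=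
      fun r hr => have : r < D.nroots := by have := h2 r hr; omega
        ⟨⟨this, (h2 r hr).2.1⟩, (pos_iff_F this).2 (h2 r hr).2.2⟩
    refine le_trans (le_of_eq ?_) (total _ h3 (fun r hr r' hr' e => (h.2.2.1 r' (h3 r' hr').1.1 (h3 r' hr').1.2
      (h2 r' hr').2.2).2.1 r (h3 r hr).1.1 (h3 r hr).1.2 e) (fun r hr => h1 r (h3 r hr).1 (h3 r hr).2) _
      fun r hr => Fix_anti (X_fx hθ ▸ Y_mono fun _ e => e ▸ ⟨hθ.1, ?_⟩))
    · rw [← h.2.2.2.1, List.map_map, ← List.sum_toFinset _ (List.nodup_range.filter _), List.toFinset_filter,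
        List.toFinset_range]
      simp [L0]
    · have h4 := h.2.2.1 r (h3 r hr).1.1 (h3 r hr).1.2 (h2 r hr).2.2
      exact h4.2.2.lt_of_ne fun e => (h2 r hr).1.ne (h4.2.1 _ hθ.1 hθ.2 e.symm).symm
  · have h2 := filt_step chi_inj (fun t => R (M.z (D.nroots - 1) t)) ⊤ (fun s => EE R _ s (M.Up (D.nroots - 1)))
      fun _ => le_inf le_top inf_le_left
    rw [finrank_top, top_inf_eq] at h2
    refine le_trans (Nat.add_le_add (Submodule.finrank_mono (Wz_zero hθ).ge) ?_) h2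
    rw [← card_ne_zero, ← h.2.2.2.2]
    exact Finset.card_nsmul_le_sum _ _ _ fun s hs =>
      pow_le_Up hθ hp (Finset.ne_of_mem_erase hs) (h1 _ hθ hp s (Finset.ne_of_mem_erase hs))

theorem boundE (hg : M.Fx g) (h1 : A D (D.nroots - 1) g = 0) (h2 : A D (D.simple i) g = -1)
    (h3 : ∃ t, R (M.z (D.simple i) t) ≠ 1)
    (hd : finrank ℂ V < 2 * (Nat.card k - 1) * (Nat.card k ^ (N + 1) + Nat.card k ^ N)) :
    (Nat.card k - 1) * (E.map (Nat.card k ^ ·)).sum ≤ finrank ℂ (Fix R (M.X (D.nroots - 1))) ∧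
    finrank ℂ (Fix R (M.X (D.nroots - 1))) + (Nat.card k - 1) * Nat.card k ^ (N + 1) ≤ finrank ℂ V := by
  refine bound_of h (cd_of h (m1_of h hd) fun s hs => ?_)
  obtain ⟨v, hv, h0⟩ := exists_base h h3 hs
  have hm := m1_of (R := R) h hd i (base_of h).ha s hs
  exact (Submodule.ne_bot_iff _).2 ⟨v, (base_of h).fix2 hm hv h0 fun b e => (base_of h).fix1 hm hv h0 hg h1 h2 e, h0⟩

end MD

end Cfsg.Agent.H2
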