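import Cfsg.Agent.H2.MinT2

/-! Further tools for the rank two twisted group. -/

set_option autoImplicit false
set_option linter.unusedSectionVars false

namespace Cfsg.Agent.H2

open Cfsg.Lie Cfsg.Agent.H1 Cfsg.Agent.H7 Cfsg.Agent.H8 Matrix Module

variable {D : ChevalleyDatum} [hD : RootFacts D] [hN : NFacts D] [hS : SLFacts D] {K : Type*} [Field K] {G : Type*} [Group G]

namespace TH

variable {x : ℕ → K → G} {σ : G →* G} {ρ : Equiv.Perm ℕ} {π : Fin D.rank → Fin D.rank} {f : ℕ → K → K} {S : Subgroup G}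
  {O : Fin D.rank → Set ℕ} {φ : K →+* K} {m : ℕ} (h : TH D x σ ρ π f S O φ m) {r : ℕ}
include h

theorem card_XO (hr : r < D.nroots) (h1 : ρ r ≠ r) : Nat.card (XO x S ρ r) = Nat.card K :=
  (Nat.card_congr (Equiv.ofBijective (fun t => (⟨⟨_, h.nm_S hr t⟩, h.nm_orb _ _ _⟩ : XO x S ρ r))
    ⟨fun _ _ e => h.nm_inj hr h1 (congrArg (fun y => y.1.1) e), fun u =>
      let ⟨t, ht⟩ := h.exists_nm (y := u.1) hr h1 u.2 u.1.2; ⟨t, Subtype.ext (Subtype.ext ht.symm)⟩⟩)).symm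

theorem ncard_orb (hr : r < D.nroots) (h1 : ρ r ≠ r) : (orb ρ r).ncard = m := by
  have h2 : ∀ i < m, ∀ j < i, ρ^[i] r ≠ ρ^[j] r := fun i hi j hj e => by
    have h3 := h.A_iter j r (ρ^[i - j] r)
    rw [← Function.iterate_add_apply, Nat.add_sub_cancel' hj.le, e, A_self ((h.lt_iter j).2 hr),
      h.orth r hr h1 _ (by omega) (by omega)] at h3
    omega
  rw [show orb ρ r = (ρ^[·] r) '' (Finset.range m) from Set.ext fun s => ⟨fun e => by simpa using h.exists_iter e,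
    fun ⟨i, _, e⟩ => e ▸ cyc_iter r i⟩, Set.InjOn.ncard_image fun i hi j hj e => ?_, Set.ncard_coe_finset, Finset.card_range]
  rcases lt_trichotomy i j with h3 | h3 | h3
  exacts [absurd e.symm (h2 j (by simpa using hj) i h3), h3, absurd e (h2 i (by simpa using hi) j h3)]

theorem exists_tor [Finite K] (hr : r < D.nroots) (h1 : ρ r ≠ r) {g : K} (hg : g ≠ 0) :
    φ (∏ i ∈ Finset.range m, φ^[i] g) = ∏ i ∈ Finset.range m, φ^[i] g ∧ ∃ n ∈ S, n ∈ HH D x ∧ ∀ s < D.nroots, ρ s = s → ∀ t,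
      n * x s t * n⁻¹ = x s ((∏ i ∈ Finset.range m, φ^[i] g) ^ A D r s * t) := by
  refine ⟨?_, _, h.nmH_S (h.ind_pm hr h1) ⟨_, h.hE_mem r g⟩, h.nm_HH (hE_mem_HH x hr hg) m, fun s hs e t => ?_⟩
  · have := (Finset.prod_range_succ (φ^[·] g) m).symm.trans (Finset.prod_range_succ' _ m)
    simp only [Function.iterate_succ_apply', h.phi, Function.iterate_zero_apply, mul_left_inj' hg] at this
    rw [map_prod, ← this]
  · refine (h.nm_conj hs e (h.faith.toIsSt.hE_conj hr hg s) m t).trans ?_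
    rw [Finset.prod_congr rfl fun i _ => show φ^[i] (g ^ A D r s) = φ^[i] g ^ A D r s by
      simpa only [RingHom.coe_pow] using map_zpow₀ (φ ^ i) g (A D r s), Finset.prod_zpow]

end TH

namespace MD

variable [Finite G] {k : Type*} [Field k] [Finite k] {M : MD D K G k} {r a b : ℕ} {T : Set ℕ} {V : Type*} [AddCommGroup V]
  [Module ℂ V] [FiniteDimensional ℂ V] {R : M.S →* Module.End ℂ V} {w : Equiv.Perm ℕ} {s : k} {v : V}

theorem card_Y (hX : ∀ r < D.nroots, Nat.card (M.X r) = Nat.card k ^ (orb M.ρ r).ncard) (h1 : IsClosed D T)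
    (h2 : ∀ r ∈ T, D.IsPosRoot r) (h3 : M.Inv T) : Nat.card (M.Y T) = Nat.card k ^ T.ncard := by
  have hf : ∀ T : Set ℕ, (∀ r ∈ T, D.IsPosRoot r) → T.Finite := fun T h =>
    (Set.finite_lt_nat D.nroots).subset fun r hr => (h r hr).1
  generalize hn : T.ncard = n
  induction n using Nat.strong_induction_on generalizing T with
  | _ n ih =>
  rcases T.eq_empty_or_nonempty with rfl | hne
  · rw [Y_empty, ← hn]; simp
  obtain ⟨r, hr, hm⟩ := Set.exists_min_image T M.F (hf T h2) hne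
  have h4 : IsClosed D (T \ orb M.ρ r) := fun s hs s' hs' g hg i j hi hj e => by
    refine ⟨h1 s hs.1 s' hs'.1 g hg i j hi hj e, fun h5 => ?_⟩
    have h6 := F_add (M := M) (sm_of_comb (h2 s hs.1).1 (h2 s' hs'.1).1 hg (ne_neg_pos (h2 s hs.1) (h2 s' hs'.1)) hi hj e)
    have := F_orb h5
    have := hm s hs.1
    have := F_pos (M := M) (h2 s' hs'.1)
    omega
  have h5 : M.Inv (T \ orb M.ρ r) := fun s s' e hs => ⟨h3 s s' e hs.1, fun h => hs.2 (h.trans e.symm)⟩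
  have h6 : ∀ y ∈ XS M.x (orb M.ρ r), y ∈ XS M.x (T \ orb M.ρ r) → y = 1 := fun y e e' => by
    have := M.faith.mem_XS_inter (one_mem _) (nrm_orb (h2 r hr).1).1 h4 (fun s e => (pos_orb e).2 (h2 r hr))
      (fun s hs => h2 s hs.1) e e'
    rwa [Set.inter_sdiff_self, XS_empty, Subgroup.mem_bot] at this
  have h7 : orb M.ρ r ⊆ T := fun _ e => h3 _ _ e hr
  rw [← hn, ← Set.ncard_sdiff_add_ncard_of_subset h7 (hf T h2), pow_add, ← hX r (h2 r hr).1, ← ih _ (hn ▸ Set.ncard_lt_ncard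
    ⟨Set.sdiff_subset, fun h => (h hr).2 (mem_orb r)⟩ (hf T h2)) h4 (fun s hs => h2 s hs.1) h5 rfl, mul_comm]
  refine le_antisymm ?_ (card_mul_le_of_disjoint (Subgroup.disjoint_def.2 fun e e' => Subtype.ext (h6 _ e e')) (Y_mono h7)
    (Y_mono Set.sdiff_subset))
  rw [← Nat.card_prod]
  refine Nat.card_le_card_of_surjective (fun p : M.X r × M.Y (T \ orb M.ρ r) => ⟨p.1 * p.2, mul_mem (Y_mono h7 p.1.2)
    (Y_mono Set.sdiff_subset p.2.2)⟩) fun ⟨y, hy⟩ => ?_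
  obtain ⟨u, hu, v, hv, e⟩ := st.exists_mul (S₁ := orb M.ρ r) (S₂ := (orb M.ρ r)ᶜ) h1 (one_mem _) h2 (fun s _ => em _) hy
  replace hu := XS_mono _ Set.inter_subset_right hu
  replace e : (y : G) = u * v := e
  have h8 : u⁻¹ * M.σ u = v * (M.σ v)⁻¹ := by
    rw [eq_mul_inv_iff_mul_eq, mul_assoc, ← map_mul, ← e, M.sub.fix _ y.2, e, inv_mul_cancel_left]
  have h9 := mem_S (h2 r hr).1 hu (inv_mul_eq_one.1 (h6 _ (mul_mem (inv_mem hu) (M.tw.map_XS (fun s e => e.apply_right) hu))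
    (h8 ▸ mul_mem hv (inv_mem (M.tw.map_XS (fun s hs => h5 _ _ (Equiv.Perm.SameCycle.refl _ _).apply_right hs) hv))))).symm
  exact ⟨(⟨⟨u, h9⟩, hu⟩, ⟨⟨v, by simpa only [e, inv_mul_cancel_left] using mul_mem (inv_mem h9) y.2⟩, hv⟩),
    Subtype.ext (Subtype.ext e.symm)⟩

theorem card_S (hX : ∀ r < D.nroots, Nat.card (M.X r) = Nat.card k ^ (orb M.ρ r).ncard) {ι : Type*} [Fintype ι]
    (wd : ι → Equiv.Perm ℕ) (h1 : Function.Injective wd) (h2 : ∀ i, wd i ∈ W D ∧ Commute M.ρ (wd i))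
    (h3 : ∀ w ∈ W D, Commute M.ρ w → ∃ i, wd i = w) : Nat.card M.S = Nat.card ((UU D M.x).subgroupOf M.S) *
      Nat.card ((HH D M.x).subgroupOf M.S) * ∑ i, Nat.card k ^ len D (wd i) := by
  choose n hn using fun i => exists_rep (M := M) (h2 i).1 (h2 i).2
  rw [← Nat.card_congr (Equiv.ofBijective (fun p : Σ i, (UU D M.x).subgroupOf M.S × (HH D M.x).subgroupOf M.S ×
    M.Y (invSet D (wd i)) => (p.2.1 * (p.2.2.1 * n p.1) * p.2.2.2 : M.S)) ⟨?_, fun g => ?_⟩), Nat.card_sigma, Finset.mul_sum]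
  · refine Finset.sum_congr rfl fun i _ => ?_
    rw [Nat.card_prod, Nat.card_prod, card_Y hX (by simpa only [Set.ext fun _ => mem_invSet] using! isClosed_Um (h2 i).1)
      (fun r hr => (mem_invSet.1 hr).1) (fun r s e hr => (inv_of (· ∈ invSet D (wd i)) (fun r => by
        rw [mem_invSet, mem_invSet, M.tw.pos, Twist.comm_apply (h2 i).2, M.tw.negRoot]) e).mpr hr), Set.ncard_coe_finset,
      len, mul_assoc]
  · rintro ⟨i, u, a, y⟩ ⟨j, u', a', y'⟩ e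
    have h4 := fun i (a : (HH D M.x).subgroupOf M.S) => NRep.HH_mul st a.2 (hn i)
    have h5 := fun i (y : M.Y (invSet D (wd i))) => XS_mono M.x (fun _ => mem_invSet.1) y.2
    have h6 := fun i (u : (UU D M.x).subgroupOf M.S) a y => show _ ∈ Cell D M.x (wd i) from
      ⟨_, UU_le_BB _ u.2, _, h4 i a, _, UU_le_BB _ (Um_le_UU _ _ (h5 i y)), rfl⟩
    replace e := congrArg Subtype.val e
    obtain rfl := h1 (M.faith.cell_unique (h6 i u a y) (by convert h6 j u' a' y' using 1; exact e))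
    obtain ⟨h7, h8, h9⟩ := M.faith.sharp_unique u.2 u'.2 (h4 i a) (h4 i a') (h5 i y) (h5 i y') e
    rw [Subtype.ext (Subtype.ext h7), Subtype.ext (Subtype.ext (mul_right_cancel h8)), Subtype.ext (Subtype.ext h9)]
  · obtain ⟨w, hW, hw, u, hu, m, hm, h4, y, hy, e⟩ := M.sub.bruhat M.tw M.faith g.2
    obtain ⟨i, rfl⟩ := h3 w hW hw
    exact ⟨⟨i, ⟨⟨u, hu.1⟩, hu.2⟩, ⟨⟨m, hm⟩ * (n i)⁻¹, h4.mul_inv_mem st (hn i)⟩, ⟨⟨y, hy.1⟩,
      XS_mono M.x (fun _ => mem_invSet.2) hy.2⟩⟩, Subtype.ext (by simp [e])⟩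

theorem fix_of_tor (ha : M.Fx a) (hm : finrank ℂ (EE R a s T) ≤ 1) (hv : v ∈ EE R a s T) (h0 : v ≠ 0) (hb : M.Fx b)
    (h1 : M.X b ≤ StbS R (ℂ ∙ v)) {n : M.S} (hn : NRep D M.x n 1) (h2 : ∀ t, n * M.z a t * n⁻¹ = M.z a (1 * t)) {c : k}
    (hc : c ≠ 1) (h3 : ∀ t, n * M.z b t * n⁻¹ = M.z b (c * t)) : M.X b ≤ Stb R v := fun y hy => by
  obtain ⟨t, rfl⟩ := exists_z hb hy
  have := comm_mem_Stb (line_stab hm le_rfl hv h0 (mem_StbS fun v hv => ⟨conj_Wz one_ne_zero h2 ((mul_one s).symm ▸ hv.1),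
    conj_Fix hn (fun _ h => h) hv.2⟩)) (h1 (z_mem hb (t / (c - 1))))
  rwa [h3, show c * (t / (c - 1)) = t + t / (c - 1) by field_simp [sub_ne_zero.2 hc]; ring, z_add hb,
    mul_inv_cancel_right] at this

theorem base_bound {i : Fin D.rank} (ha : M.Fx (D.simple i)) (hb : M.Fx b) (hp : D.IsPosRoot b)
    (h : A D b (D.simple i) = -1) {N : ℕ} (hN : (La D (D.simple i)).card = N + 1)
    (h1 : ∀ s ≠ 0, EE R (D.simple i) s (La D (D.simple i)) ≠ ⊥) :
    finrank ℂ ↥(Fix R (M.Y {refl D b (D.simple i)}) ⊓ Wz R (D.simple i) 0) +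
      (Nat.card k - 1) * (Nat.card k ^ (N + 1) + Nat.card k ^ N) ≤ finrank ℂ V := by
  classical
  have := Fintype.ofFinite k
  set a := D.simple i
  replace h1 : ∀ s' ∈ Finset.univ.erase (0 : k), 1 ≤ finrank ℂ (EE R a s' (La D a)) := fun s' h' =>
    Submodule.one_le_finrank_iff.2 (h1 s' (Finset.ne_of_mem_erase h'))
  have e := exists_sm hb.1 ha.1 h
  set c := refl D b a
  have hc : M.Fx c := hb.refl ha
  have h2 : c ∈ La D a := mem_La.2 ⟨e.pos hp (simple_pos i), by rw [A_symm]; exact e.symm.A_left⟩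
  have h3 := filt_step chi_inj (fun t => R (M.z a t)) ⊤ (Wz R a) fun _ => le_inf le_top le_rfl
  have h4 := filt_step chi_inj (fun t => R (M.z a t)) (Fix R (M.Y {c})) (fun s => EE R a s {c}) fun _ => (inf_comm _ _).le
  obtain ⟨n, hn⟩ := exists_nE hb
  have h5 : finrank ℂ (Fix R (M.Y {c})) ≤ finrank ℂ ↥(⊤ ⊓ Wz R a 0) := finrank_le_conj n fun v hv => ⟨trivial, by
    rw [Wz_zero ha, X_fx ha]; exact conj_Fix hn (fun _ h => by rw [h, refl_inv]; rfl) hv⟩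
  have h6 := Finset.card_nsmul_le_sum _ (fun s => finrank ℂ (Wz R a s)) (Nat.card k ^ (N + 1) * 1) fun s' h' =>
    (Nat.mul_le_mul_left _ (h1 s' h')).trans (hN ▸ (lag_La ha (Finset.ne_of_mem_erase h')).1)
  have h7 := Finset.card_nsmul_le_sum (Finset.univ.erase 0) (fun s => finrank ℂ (EE R a s {c})) (Nat.card k ^ N * 1) fun s' h' => by
    have h7 : ∀ g ∈ (La D a).erase c, g ∈ La D a := fun g => Finset.mem_of_mem_erase
    have h8 : ∀ g < D.nroots, A D a g = 1 → 0 ≤ A D c g → M.X g ≤ StbS R (EE R a s' {c}) := fun g h1 h2' h3 =>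
      stab_one ha h1 h2' (Nrm.of_nonneg fun g' e _ e' => e' ▸ ⟨(lt_orb e).2 h1, hc.1, by rwa [A_symm, A_orb hc e]⟩)
        (Nrm.of_nonneg fun _ e _ e' => e ▸ e' ▸ ⟨ha.1, hc.1, by rw [(mem_La.1 h2).2]; omega⟩)
    have h9 := (lag ha (Finset.ne_of_mem_erase h') ((La D a).erase c) (fun g hg => mem_La.1 (h7 g hg))
      (fun g g' e hg => Finset.mem_erase.2 ⟨mt (eq_orb hc e).1 (Finset.ne_of_mem_erase hg), inv_La ha _ _ e (h7 g hg)⟩)
      (fun g hg g' hg' => La_nonneg i (h7 g hg) (h7 g' hg')) (EE R a s' {c}) inf_le_left fun g hg => by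
        have e := sm_cpl ha.1 (mem_La.1 (h7 g hg)).1.1 (mem_La.1 (h7 g hg)).2
        refine ⟨h8 g e.1 e.A_left (La_nonneg i h2 (h7 g hg)), h8 _ e.2.1 e.symm.A_left ?_⟩
        have h9 := e.add c
        rw [A_symm c a, (mem_La.1 h2).2] at h9
        have := (A_le hc.1 e.1).resolve_left (Finset.ne_of_mem_erase hg)
        omega).1
    rw [Finset.card_erase_of_mem h2, hN, Nat.add_sub_cancel] at h9
    refine (Nat.mul_le_mul_left _ ((h1 s' h').trans (Submodule.finrank_mono fun v hv => ?_))).trans h9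
    exact ⟨EE_anti (by simpa using h2) hv, (Y_mono h7).trans hv.2⟩
  rw [card_ne_zero, smul_eq_mul, mul_one] at h6 h7
  rw [finrank_top] at h3
  have : finrank ℂ ↥(⊤ ⊓ Wz R a 0) = finrank ℂ ↥(⊤ ⊓ Wt (fun t => R (M.z a t)) (chi 0)) := rfl
  have : finrank ℂ ↥(Fix R (M.Y {c}) ⊓ Wz R a 0) = finrank ℂ ↥(Fix R (M.Y {c}) ⊓ Wt (fun t => R (M.z a t)) (chi 0)) := rfl
  rw [mul_add]; omega

end MD

end Cfsg.Agent.H2
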