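import Cfsg.Agent.H2.MinRep
import Cfsg.Agent.H1.Block

/-! Divisibility properties of character degrees and certificates for non-divisibility. -/

set_option autoImplicit false
set_option linter.unusedSectionVars false

namespace Cfsg.Agent.H2

open Module Cfsg.Agent.H1

theorem dvd_of_isIntegral {a k : ℤ} (hk : k ≠ 0) (h : IsIntegral ℤ ((a : ℂ) / k)) : k ∣ a := by
  have h3 : IsIntegral ℤ ((a : ℚ) / k) := by
    rw [← isIntegral_algebraMap_iff (algebraMap ℚ ℂ).injective]; simpa using h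
  obtain ⟨z, hz⟩ := IsIntegrallyClosed.isIntegral_iff.mp h3
  refine ⟨z, ?_⟩
  have : (a : ℚ) = k * z := by rw [show (z : ℚ) = a / k from hz, mul_div_cancel₀ _ (by exact_mod_cast hk)]
  exact_mod_cast this

section
variable {Γ : Type*} [Group Γ] [Finite Γ] {V : Type*} [AddCommGroup V] [Module ℂ V] [FiniteDimensional ℂ V]

theorem finrank_dvd_card (R : Representation ℂ Γ V) (hR : R.IsIrreducible) : finrank ℂ V ∣ Nat.card Γ := by
  have := Fintype.ofFinite Γ
  have := Fintype.ofFinite (ConjClasses Γ)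
  have hχ := isIrrCharacter_of_rep R hR
  have hc := IsIrrCharacter.isCharacter hχ
  have h1 := om_eq_sum_classes (IsCharacter.isClassFunction hc) (c := fun g => R.character g⁻¹)
    (fun g h => by simpa [mul_assoc] using IsCharacter.isClassFunction hc g⁻¹ h)
  have h2 := IsIrrCharacter.classInner_self hχ
  rw [classInner, inv_mul_eq_one₀ card_ne_zero'] at h2
  have h3 : (finrank ℂ V : ℂ) ≠ 0 := by simpa using IsIrrCharacter.one_ne_zero hχ
  refine Int.natCast_dvd_natCast.1 (dvd_of_isIntegral (by exact_mod_cast h3) ?_)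
  rw [Int.cast_natCast, Int.cast_natCast, h2, show _ / _ = _ from Eq.trans (by
    simp [om, IsCharacter.apply_inv hc, mul_comm]) h1]
  exact IsIntegral.sum _ fun K _ => (IsCharacter.isIntegral hc _).mul (isIntegral_centralChar hχ _)

theorem finrank_dvd_index (R : Representation ℂ Γ V) (hR : R.IsIrreducible) (g : Γ) {a : ℕ} {b : ℤ}
    (h : a * R.character g = b) : (finrank ℂ V : ℤ) ∣ (Subgroup.centralizer {g}).index * b := by
  have := Fintype.ofFinite Γ
  have hχ := isIrrCharacter_of_rep R hR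
  have h3 : (finrank ℂ V : ℂ) ≠ 0 := by simpa using IsIrrCharacter.one_ne_zero hχ
  refine dvd_of_isIntegral (by exact_mod_cast h3) ?_
  have h4 := (isIntegral_algebraMap (x := (a : ℤ))).mul (isIntegral_centralChar hχ g)
  rw [centralChar, ← mul_div_assoc, mul_left_comm] at h4
  simpa [h] using h4

theorem sum_character (R : Representation ℂ Γ V) (A : Subgroup Γ) [Fintype A] :
    ∑ g : A, R.character g = Nat.card A * finrank ℂ (Fix R A) := by
  have h : LinearMap.IsProj (Fix R A) ((Nat.card A : ℂ)⁻¹ • av R A) :=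
    ⟨fun v => Submodule.smul_mem _ _ (av_mem A v), fun v hv => by
      rw [LinearMap.smul_apply, av_of_mem hv, inv_smul_smul₀ (card_ne A)]⟩
  rw [← h.trace, map_smul, smul_eq_mul, mul_inv_cancel_left₀ (card_ne A),
    show av R A = ∑ g : A, R g from LinearMap.ext fun v => by rw [av_apply, LinearMap.sum_apply], map_sum]
  rfl

end

/-- Value of a polynomial given by its coefficients. -/
def pv (y : ℤ) : List ℤ → ℤ
  | [] => 0
  | a :: p => a + y * pv y p

/-- Sum. -/
def padd : List ℤ → List ℤ → List ℤ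
  | [], q => q
  | p, [] => p
  | a :: p, b :: q => (a + b) :: padd p q

/-- Product. -/
def pmul : List ℤ → List ℤ → List ℤ
  | [], _ => []
  | a :: p, q => padd (q.map (a * ·)) (0 :: pmul p q)

theorem pv_padd (y : ℤ) : ∀ p q, pv y (padd p q) = pv y p + pv y q
  | [], q => by simp [padd, pv]
  | a :: p, [] => by simp [padd, pv]
  | a :: p, b :: q => by simp only [padd, pv, pv_padd y p q]; ring

theorem pv_map (y a : ℤ) : ∀ q : List ℤ, pv y (q.map (a * ·)) = a * pv y q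
  | [] => by simp [pv]
  | b :: q => by simp only [List.map_cons, pv, pv_map y a q]; ring

theorem pv_pmul (y : ℤ) : ∀ p q, pv y (pmul p q) = pv y p * pv y q
  | [], q => by simp [pmul, pv]
  | a :: p, q => by simp only [pmul, pv_padd, pv_map, pv, pv_pmul y p q]; ring

theorem pv_zero (y : ℤ) : ∀ p : List ℤ, (∀ a ∈ p, a = 0) → pv y p = 0
  | [], _ => rfl
  | a :: p, h => by rw [pv, h a (by simp), pv_zero y p fun b hb => h b (by simp [hb])]; simp

theorem pv_concat (y : ℤ) : ∀ p : List ℤ, pv y (p ++ [1]) = pv y p + y ^ p.length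
  | [] => by simp [pv]
  | a :: p => by simp only [List.cons_append, pv, pv_concat y p, List.length_cons]; ring

theorem pv_abs {y : ℤ} (hy : 1 ≤ y) : ∀ p : List ℤ, |pv y p| * y ≤ (p.map abs).sum * y ^ p.length
  | [] => by simp [pv]
  | a :: p => by
    have h1 := pv_abs hy p
    have h2 : y ≤ y ^ (p.length + 1) := le_self_pow₀ hy (by simp)
    have h3 := abs_add_le a (y * pv y p)
    rw [abs_mul, abs_of_nonneg (by omega : 0 ≤ y)] at h3
    simp only [pv, List.map_cons, List.sum_cons, List.length_cons, pow_succ] at *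
    nlinarith [abs_nonneg a]

/-- The product of the `y ^ d - 1`. -/
def pH (ds : List ℕ) : List ℤ := ds.foldr (fun d => pmul (padd (List.replicate d 0 ++ [1]) [-1])) [1]

theorem pv_pH (y : ℤ) (ds : List ℕ) : pv y (pH ds) = (ds.map fun d => y ^ d - 1).prod := by
  induction ds with
  | nil => simp [pH, pv]
  | cons d ds ih =>
    rw [pH, List.foldr_cons, pv_pmul, pv_padd, pv_concat, pv_zero _ _ fun _ => List.eq_of_mem_replicate, ← pH, ih]
    simp [pv, sub_eq_add_neg]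

/-- A certificate. -/
def CertOK (f : List ℤ) (ds : List ℕ) (Q j : ℕ) (C : List ℤ × List ℤ × List ℤ × List ℤ × ℤ) : Prop :=
  (∀ a ∈ padd (pmul C.1 (C.2.1 ++ [1])) (padd (f.map (-1 * ·)) [j]), a = 0) ∧
  (∀ a ∈ padd (padd (pmul C.2.2.1 (C.2.1 ++ [1])) (pmul C.2.2.2.1 (pH ds))) [-C.2.2.2.2], a = 0) ∧
  0 < C.2.2.2.2 ∧ (C.2.1.map abs).sum < Q ∧ j < Q ∧ j * C.2.2.2.2 * Q < Q ^ C.2.1.length

instance decCertOK (f : List ℤ) (ds : List ℕ) (Q j : ℕ) (C : List ℤ × List ℤ × List ℤ × List ℤ × ℤ) :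
    Decidable (CertOK f ds Q j C) := by unfold CertOK; infer_instance

theorem CertOK.not_dvd {f : List ℤ} {ds : List ℕ} {Q j q N : ℕ} {C : List ℤ × List ℤ × List ℤ × List ℤ × ℤ}
    (h : CertOK (0 :: f) ds Q j C) (hj : 0 < j) (hq : IsPrimePow q) (hQ : Q ≤ q) :
    ¬ pv q (0 :: f) - j ∣ q ^ N * (ds.map fun d => (q : ℤ) ^ d - 1).prod := fun h0 => by
  obtain ⟨c, g, A, B, R⟩ := C
  obtain ⟨h1, h2, h3, h4, h5, h6⟩ := h
  replace h1 := pv_zero q _ h1
  replace h2 := pv_zero q _ h2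
  simp only [pv_padd, pv_pmul, pv_map, pv_pH] at h1 h2 h3 h4 h6
  obtain ⟨p, n, hp, -, rfl⟩ := (isPrimePow_nat_iff _).1 hq
  have h7 : gcd (pv (p ^ n : ℕ) (0 :: f) - j) (((p ^ n : ℕ) : ℤ) ^ N) ∣ j := by
    obtain ⟨i, -, hi⟩ := (dvd_prime_pow (Nat.prime_iff_prime_int.1 hp) (n * N)).1 (by
      simpa [pow_mul] using gcd_dvd_right (pv (p ^ n : ℕ) (0 :: f) - j) (((p ^ n : ℕ) : ℤ) ^ N))
    have h7 := hi.symm.dvd.trans (gcd_dvd_left _ _)
    have h8 : ((p ^ n : ℕ) : ℤ) ∣ pv (p ^ n : ℕ) (0 :: f) := by simp [pv]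
    rcases le_total i n with h | h
    · exact hi.dvd.trans ((dvd_sub_right (Dvd.dvd.trans (by simpa using pow_dvd_pow _ h) h8)).1 h7)
    · have := Int.le_of_dvd (by omega) ((dvd_sub_right h8).1 ((Dvd.dvd.trans (by simpa using pow_dvd_pow _ h)) h7))
      omega
  generalize p ^ n = q at *
  have h8 : pv q (g ++ [1]) ∣ j * R := by
    have h8 : pv q (g ++ [1]) ∣ pv q (0 :: f) - j := ⟨pv q c, by simp only [pv] at h1 ⊢; linarith⟩
    have h9 := h8.trans ((dvd_gcd_mul_iff_dvd_mul.2 h0).trans (mul_dvd_mul_right h7 _))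
    simp only [pv, mul_zero, add_zero, add_neg_eq_zero] at h2
    rw [← h2, mul_add, mul_left_comm _ (pv _ B)]
    exact dvd_add (((dvd_mul_left _ _).mul_left _)) (h9.mul_left _)
  have h9 := Int.le_of_dvd (by positivity) h8
  have h10 := pv_abs (y := q) (by omega) g
  have h11 : (Q : ℤ) ≤ q := by omega
  rw [pv_concat] at h9
  obtain ⟨m, hm⟩ : ∃ m, g.length = m + 1 := Nat.exists_eq_add_one.2 (Nat.pos_of_ne_zero fun e => by
    rw [e] at h6; nlinarith [mul_pos (by omega : (0 : ℤ) < j) h3])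
  rw [hm, pow_succ] at h6 h9 h10
  have h12 : (Q : ℤ) ^ m ≤ q ^ m := pow_le_pow_left₀ (by omega) h11 m
  have h13 := lt_of_mul_lt_mul_right h6 (by omega)
  have h14 := le_of_mul_le_mul_right (h10.trans_eq (mul_assoc _ _ _).symm) (by omega)
  nlinarith [neg_abs_le (pv q g), pow_pos (by omega : (0 : ℤ) < q) m]

/-- All the certificates. -/
def CertAll (f : List ℤ) (ds : List ℕ) (Q r N : ℕ) (Cs : List (List ℤ × List ℤ × List ℤ × List ℤ × ℤ))
    (ex : List (ℕ × ℕ)) : Prop :=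
  ∀ j < r, CertOK (0 :: f) ds Q (j + 1) (Cs.getD j default) ∧ ∀ q < Q, 2 ≤ q →
    pv ((q : ℕ) : ℤ) (0 :: f) - (j + 1 : ℕ) ∣ ((q : ℕ) : ℤ) ^ N * (ds.map fun d : ℕ => ((q : ℕ) : ℤ) ^ d - 1).prod → (q, j + 1) ∈ ex

set_option synthInstance.maxSize 1024 in
instance decCertAll (f : List ℤ) (ds : List ℕ) (Q r N : ℕ) (Cs : List (List ℤ × List ℤ × List ℤ × List ℤ × ℤ))
    (ex : List (ℕ × ℕ)) : Decidable (CertAll f ds Q r N Cs ex) := by unfold CertAll; infer_instance

theorem mem_of_certs {f : List ℤ} {ds : List ℕ} {Q r q N : ℕ} {Cs : List (List ℤ × List ℤ × List ℤ × List ℤ × ℤ)}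
    {ex : List (ℕ × ℕ)} (h : CertAll f ds Q r N Cs ex)
    (hq : IsPrimePow q) {k : ℕ} (h1 : pv q (0 :: f) ≤ k + r) (h2 : k < pv q (0 :: f))
    (h3 : (k : ℤ) ∣ q ^ N * (ds.map fun d => (q : ℤ) ^ d - 1).prod) : ∃ j, (q, j) ∈ ex ∧ pv q (0 :: f) = k + j := by
  obtain ⟨j, hj⟩ := Int.eq_ofNat_of_zero_le (by omega : 0 ≤ pv q (0 :: f) - k - 1)
  obtain ⟨h4, h5⟩ := h j (by omega)
  rw [show (k : ℤ) = pv q (0 :: f) - (j + 1 : ℕ) by push_cast; omega] at h3
  exact ⟨_, h5 q (not_le.1 fun hQ => h4.not_dvd j.succ_pos hq hQ h3) hq.two_le h3, by push_cast; omega⟩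

/-- A sum of powers. -/
def pE (E : List ℕ) : List ℤ := E.foldr (fun e => padd (List.replicate e 0 ++ [1])) []

theorem pv_pE (y : ℕ) (E : List ℕ) : pv y (pE E) = (E.map (y ^ ·)).sum := by
  induction E with
  | nil => rfl
  | cons e E ih =>
    rw [pE, List.foldr_cons, pv_padd, pv_concat, pv_zero _ _ fun _ => List.eq_of_mem_replicate, ← pE, ih]; simp

theorem pv_nonneg {y : ℤ} (hy : 0 ≤ y) : ∀ p : List ℤ, (∀ a ∈ p, 0 ≤ a) → 0 ≤ pv y p
  | [], _ => le_rfl
  | a :: p, h => add_nonneg (h a (by simp)) (mul_nonneg hy (pv_nonneg hy p fun b hb => h b (by simp [hb])))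

/-- Shift of the variable. -/
def psh (c : ℤ) (p : List ℤ) : List ℤ := p.foldr (fun a s => padd [a] (pmul [c, 1] s)) []

theorem pv_psh (y c : ℤ) (p : List ℤ) : pv y (psh c p) = pv (y + c) p := by
  induction p with
  | nil => rfl
  | cons a p ih => rw [psh, List.foldr_cons, pv_padd, pv_pmul, ← psh, ih]; simp only [pv]; ring

theorem le_of_filt {f : List ℤ} {E : List ℕ} {N r q k d : ℕ} (hq : 1 ≤ q)
    (h : ∀ a ∈ padd (pmul [-1, 1] (pE ((N + 1) :: E))) (padd (f.map (-1 * ·)) [r]), a = 0)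
    (h1 : (q - 1) * (E.map (q ^ ·)).sum ≤ d) (h2 : d + (q - 1) * q ^ (N + 1) ≤ k) : pv q f ≤ k + r := by
  replace h := pv_zero q _ h
  simp only [pv_padd, pv_pmul, pv_map, pv_pE, pv, List.map_cons, List.sum_cons] at h
  zify [hq] at h1 h2
  push_cast at h h1
  linarith

theorem lt_of_psh {f : List ℤ} {N q k : ℕ} (hq : 2 ≤ q)
    (h : ∀ a ∈ psh 2 (padd (pmul [-2, 2] (pE [N + 1, N])) (f.map (-1 * ·))), 0 ≤ a) (hk : k < pv q f) :
    k < 2 * (q - 1) * (q ^ (N + 1) + q ^ N) := by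
  replace h := pv_nonneg (y := q - 2) (by omega) _ h
  simp only [pv_psh, sub_add_cancel, pv_padd, pv_pmul, pv_map, pv_pE, pv, List.map_cons, List.sum_cons, List.map_nil,
    List.sum_nil] at h
  zify [(by omega : 1 ≤ q)]
  push_cast at h
  linarith

end Cfsg.Agent.H2
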