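import Cfsg.Agent.H1.Wt

/-! Fixed spaces, averaging operators and Heisenberg pairs in complex representations of finite groups. -/

set_option autoImplicit false
set_option linter.unusedSectionVars false

namespace Cfsg.Agent.H2

open Module Cfsg.Agent.H1

variable {Γ : Type*} [Group Γ] {V : Type*} [AddCommGroup V] [Module ℂ V] (R : Γ →* Module.End ℂ V)

/-- The stabiliser of a vector. -/
def Stb (v : V) : Subgroup Γ where
  carrier := {g | R g v = v}
  mul_mem' {a b} ha hb := by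
    simp only [Set.mem_ofPred_eq] at *
    rw [map_mul, End.mul_apply, hb, ha]
  one_mem' := by simp
  inv_mem' {a} ha := by
    simp only [Set.mem_ofPred_eq] at *
    conv_lhs => rw [← ha]
    rw [← End.mul_apply, ← map_mul, inv_mul_cancel, map_one, End.one_apply]

/-- The stabiliser of a subspace. -/
def StbS (W : Submodule ℂ V) : Subgroup Γ where
  carrier := {g | (∀ v ∈ W, R g v ∈ W) ∧ ∀ v ∈ W, R g⁻¹ v ∈ W}
  mul_mem' {a b} ha hb := ⟨fun v hv => by rw [map_mul]; exact ha.1 _ (hb.1 v hv),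
    fun v hv => by rw [mul_inv_rev, map_mul]; exact hb.2 _ (ha.2 v hv)⟩
  one_mem' := by simp
  inv_mem' {a} ha := ⟨ha.2, by simpa using ha.1⟩

/-- The fixed space of a subgroup. -/
def Fix (A : Subgroup Γ) : Submodule ℂ V where
  carrier := {v | A ≤ Stb R v}
  add_mem' {a b} ha hb g hg := by
    show R g _ = _
    rw [map_add, show R g a = a from ha hg, show R g b = b from hb hg]
  zero_mem' g _ := map_zero _
  smul_mem' c a ha g hg := by
    show R g _ = _
    rw [map_smul, show R g a = a from ha hg]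

variable {R}

theorem mem_Stb {v : V} {g : Γ} : g ∈ Stb R v ↔ R g v = v := Iff.rfl

theorem mem_Fix {A : Subgroup Γ} {v : V} : v ∈ Fix R A ↔ A ≤ Stb R v := Iff.rfl

theorem Fix_anti {A B : Subgroup Γ} (h : A ≤ B) : Fix R B ≤ Fix R A := fun _ hv => h.trans hv

theorem rmul (a b : Γ) (v : V) : R (a * b) v = R a (R b v) := by rw [map_mul, End.mul_apply]

theorem rinv (a : Γ) (v : V) : R a⁻¹ (R a v) = v := by rw [← rmul, inv_mul_cancel, map_one, End.one_apply]

theorem rinv' (a : Γ) (v : V) : R a (R a⁻¹ v) = v := by rw [← rmul, mul_inv_cancel, map_one, End.one_apply]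

theorem rne {v : V} (hv : v ≠ 0) (g : Γ) : R g v ≠ 0 := fun h => hv (by rw [← rinv (R := R) g v, h, map_zero])

theorem mem_Stb_conj {v : V} {g a : Γ} : a ∈ Stb R (R g v) ↔ g⁻¹ * a * g ∈ Stb R v := by
  rw [mem_Stb, mem_Stb, rmul, rmul]
  exact ⟨fun h => by rw [h, rinv], fun h => by rw [← rinv' (R := R) g (R a _), h]⟩

theorem StbS.mem {W : Submodule ℂ V} {g : Γ} (h : g ∈ StbS R W) {v : V} (hv : v ∈ W) : R g v ∈ W := h.1 v hv

theorem mem_StbS [Finite Γ] {W : Submodule ℂ V} {g : Γ} (h : ∀ v ∈ W, R g v ∈ W) : g ∈ StbS R W := by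
  refine ⟨h, fun v hv => ?_⟩
  have : ∀ n, R (g ^ n) v ∈ W := fun n => by
    induction n with
    | zero => simpa using hv
    | succ n ih => rw [pow_succ', rmul]; exact h _ ih
  have h1 := this (orderOf g - 1)
  rwa [eq_inv_of_mul_eq_one_left (a := g ^ (orderOf g - 1)) (b := g)
    (by rw [← pow_succ, Nat.sub_add_cancel (orderOf_pos g), pow_orderOf_eq_one])] at h1

theorem StbS_inf {W W' : Submodule ℂ V} {g : Γ} (h : g ∈ StbS R W) (h' : g ∈ StbS R W') : g ∈ StbS R (W ⊓ W') :=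
  ⟨fun v hv => ⟨h.1 v hv.1, h'.1 v hv.2⟩, fun v hv => ⟨h.2 v hv.1, h'.2 v hv.2⟩⟩

theorem StbS_Fix [Finite Γ] {A : Subgroup Γ} {g : Γ} (h : ∀ a ∈ A, g⁻¹ * a * g ∈ A) : g ∈ StbS R (Fix R A) :=
  mem_StbS fun _ hv a ha => mem_Stb_conj.2 (hv (h a ha))

theorem StbS_Fix_comm [Finite Γ] {A : Subgroup Γ} {g : Γ} (h : ∀ a ∈ A, Commute g a) : g ∈ StbS R (Fix R A) :=
  StbS_Fix fun a ha => by rw [mul_assoc, ← (h a ha).eq, inv_mul_cancel_left]; exact ha

/-- Elements stabilising a line have commutators fixing it. -/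
theorem comm_mem_Stb {v : V} {a b : Γ} (ha : a ∈ StbS R (ℂ ∙ v)) (hb : b ∈ StbS R (ℂ ∙ v)) :
    a * b * a⁻¹ * b⁻¹ ∈ Stb R v := by
  obtain ⟨c, hc⟩ := Submodule.mem_span_singleton.1 (ha.1 v (Submodule.mem_span_singleton_self v))
  obtain ⟨d, hd⟩ := Submodule.mem_span_singleton.1 (hb.1 v (Submodule.mem_span_singleton_self v))
  obtain ⟨e, he⟩ := Submodule.mem_span_singleton.1 ((inv_mem (mul_mem hb ha)).1 v (Submodule.mem_span_singleton_self v))
  have h1 : R (a * b) v = R (b * a) v := by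
    rw [rmul, rmul, ← hc, ← hd, map_smul, map_smul, ← hc, ← hd, smul_comm]
  rw [mem_Stb, mul_assoc, ← mul_inv_rev, rmul, ← he, map_smul, h1, ← map_smul, he, rinv']

theorem Stb_le_StbS (v : V) : Stb R v ≤ StbS R (ℂ ∙ v) := fun g hg => by
  have : ∀ g ∈ Stb R v, ∀ w ∈ ℂ ∙ v, R g w ∈ ℂ ∙ v := fun g hg w hw => by
    obtain ⟨c, rfl⟩ := Submodule.mem_span_singleton.1 hw
    rwa [map_smul, show R g v = v from hg]
  exact ⟨this g hg, this _ (inv_mem hg)⟩

theorem mem_StbS_span [Finite Γ] {v : V} {g : Γ} (h : R g v ∈ ℂ ∙ v) : g ∈ StbS R (ℂ ∙ v) :=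
  mem_StbS fun w hw => by
    obtain ⟨c, rfl⟩ := Submodule.mem_span_singleton.1 hw
    rw [map_smul]; exact Submodule.smul_mem _ _ h

theorem mem_span_of_finrank [FiniteDimensional ℂ V] {E : Submodule ℂ V} (h : finrank ℂ E ≤ 1) {v w : V} (hv : v ∈ E) (h0 : v ≠ 0)
    (hw : w ∈ E) : w ∈ ℂ ∙ v := by
  rwa [Submodule.eq_of_le_of_finrank_le ((Submodule.span_singleton_le_iff_mem v E).2 hv)
    (by rwa [finrank_span_singleton h0])]

theorem finrank_le_conj [FiniteDimensional ℂ V] {S T : Submodule ℂ V} (g : Γ) (h : ∀ v ∈ S, R g v ∈ T) :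
    finrank ℂ S ≤ finrank ℂ T := finrank_le_of_mapsTo (R g) (rep_injective R g) h

theorem eq_zero_of_smul {v : V} {c : ℂ} (hc : c ≠ 1) (h : c • v = v) : v = 0 := by
  have : (c - 1) • v = 0 := by rw [sub_smul, h, one_smul, sub_self]
  exact (smul_eq_zero.1 this).resolve_left (sub_ne_zero.2 hc)

section av
variable [Finite Γ]

variable (R) in
/-- The sum of the elements of a subgroup. -/
noncomputable def av (A : Subgroup Γ) : Module.End ℂ V :=
  letI := Fintype.ofFinite A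
  ∑ g : A, R g

theorem av_apply (A : Subgroup Γ) [Fintype A] (v : V) : av R A v = ∑ g : A, R g v := by
  unfold av
  rw [LinearMap.sum_apply]
  congr!

theorem av_conj {A : Subgroup Γ} {g : Γ} (h : ∀ a ∈ A, g * a * g⁻¹ ∈ A) (v : V) : R g (av R A v) = av R A (R g v) := by
  have := Fintype.ofFinite A
  rw [av_apply, av_apply, map_sum]
  refine Fintype.sum_bijective (fun a : A => (⟨_, h a a.2⟩ : A)) (Finite.injective_iff_bijective.1 fun a b e => ?_) _ _
    fun a => by simp only [← rmul, inv_mul_cancel_right]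
  simpa using congrArg Subtype.val e

theorem av_right {A : Subgroup Γ} {g : Γ} (hg : g ∈ A) (v : V) : av R A (R g v) = av R A v := by
  have := Fintype.ofFinite A
  rw [av_apply, av_apply]
  exact Fintype.sum_equiv (Equiv.mulRight (⟨g, hg⟩ : A)) _ _ fun a => (rmul _ _ _).symm

theorem av_mem (A : Subgroup Γ) (v : V) : av R A v ∈ Fix R A := fun g hg => by
  rw [mem_Stb, av_conj (fun a ha => mul_mem (mul_mem hg ha) (inv_mem hg)), av_right hg]

theorem av_of_mem {A : Subgroup Γ} {v : V} (hv : v ∈ Fix R A) : av R A v = (Nat.card A : ℂ) • v := by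
  have := Fintype.ofFinite A
  rw [av_apply, Finset.sum_congr rfl fun (a : A) _ => show R a v = v from hv a.2]
  simp [Nat.cast_smul_eq_nsmul]

theorem card_ne (A : Subgroup Γ) : (Nat.card A : ℂ) ≠ 0 := Nat.cast_ne_zero.2 Nat.card_pos.ne'

theorem av_mem_of {A : Subgroup Γ} {W : Submodule ℂ V} {v : V} (h : ∀ a ∈ A, R a v ∈ W) : av R A v ∈ W := by
  have := Fintype.ofFinite A
  rw [av_apply]
  exact W.sum_mem fun a _ => h a a.2

theorem av_av {A B : Subgroup Γ} (h : B ≤ A) (v : V) : av R A (av R B v) = (Nat.card B : ℂ) • av R A v := by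
  have := Fintype.ofFinite B
  rw [av_apply B, map_sum, Finset.sum_congr rfl fun (b : B) _ => av_right (h b.2) v]
  simp [Nat.cast_smul_eq_nsmul]

theorem av_eq_zero {A : Subgroup Γ} {g : Γ} (hg : g ∈ A) {v : V} {c : ℂ} (hc : c ≠ 1) (h : R g v = c • v) :
    av R A v = 0 := eq_zero_of_smul hc (by rw [← map_smul, ← h, av_right hg])

theorem eq_zero_of_av {A : Subgroup Γ} {v : V} (hv : v ∈ Fix R A) (h : av R A v = 0) : v = 0 :=
  (smul_eq_zero.1 (av_of_mem hv ▸ h)).resolve_left (card_ne A)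

end av

section heis
variable [Finite Γ]

variable (R) in
/-- The commutators of `A` and `B` act on `W` by scalars, in a way that is nondegenerate in `B`. -/
structure Heis (W : Submodule ℂ V) (A B : Subgroup Γ) : Prop where
  stA : A ≤ StbS R W
  stB : B ≤ StbS R W
  sc : ∀ a ∈ A, ∀ b ∈ B, ∃ c : ℂ, ∀ v ∈ W, R (a * b * a⁻¹ * b⁻¹) v = c • v
  nd : ∀ b ∈ B, b ≠ 1 → ∃ a ∈ A, ∃ c : ℂ, c ≠ 1 ∧ ∀ v ∈ W, R (a * b * a⁻¹ * b⁻¹) v = c • v

variable {W : Submodule ℂ V} {A B : Subgroup Γ}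

theorem Heis.mono (h : Heis R W A B) {W' : Submodule ℂ V} (hW : W' ≤ W) (hA : A ≤ StbS R W') (hB : B ≤ StbS R W') :
    Heis R W' A B :=
  ⟨hA, hB, fun a ha b hb => (h.sc a ha b hb).imp fun _ hc v hv => hc v (hW hv), fun b hb h1 =>
    let ⟨a, ha, c, h2, hc⟩ := h.nd b hb h1; ⟨a, ha, c, h2, fun v hv => hc v (hW hv)⟩⟩

omit [Finite Γ] in
theorem act_of_comm {a b : Γ} {v : V} {c : ℂ} (hv : R a v = v) (h : R (a * b * a⁻¹ * b⁻¹) (R b v) = c • R b v) :
    R a (R b v) = c • R b v := by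
  rw [← h, ← rmul, ← rmul, inv_mul_cancel_right, rmul (a * b), show R a⁻¹ v = v from (Stb R v).inv_mem hv]

theorem Heis.av_av (h : Heis R W A B) {v : V} (hv : v ∈ W) (hA : v ∈ Fix R A) :
    av R A (av R B v) = (Nat.card A : ℂ) • v := by
  have := Fintype.ofFinite B
  rw [av_apply B, map_sum, Finset.sum_eq_single 1 (fun b _ hb => ?_) (by simp)]
  · simpa using av_of_mem hA
  · obtain ⟨a, ha, c, h1, hc⟩ := h.nd b b.2 (fun e => hb (Subtype.ext e))
    exact av_eq_zero ha h1 (act_of_comm (hA ha) (hc _ ((h.stB b.2).1 _ hv)))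

theorem Heis.av_ne (h : Heis R W A B) {v : V} (hv : v ∈ W) (hA : v ∈ Fix R A) (h0 : v ≠ 0) : av R B v ≠ 0 := fun e =>
  smul_ne_zero (card_ne A) h0 (by rw [← h.av_av hv hA, e, map_zero])

theorem Heis.ne_bot (h : Heis R W A B) (h0 : W ≠ ⊥) : W ⊓ Fix R B ≠ ⊥ := fun e => by
  have := Fintype.ofFinite A
  have := Fintype.ofFinite B
  obtain ⟨v, hv, h0⟩ := (Submodule.ne_bot_iff _).1 h0
  have h1 : ∀ a : A, R a (av R B (R a⁻¹ v)) = 0 := fun a => by
    have : av R B (R a⁻¹ v) ∈ W ⊓ Fix R B :=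
      ⟨av_mem_of fun b hb => (h.stB hb).1 _ ((h.stA (inv_mem a.2)).1 _ hv), av_mem _ _⟩
    rw [e, Submodule.mem_bot] at this
    rw [this, map_zero]
  have h2 := Finset.sum_eq_zero fun a (_ : a ∈ Finset.univ) => h1 a
  simp only [av_apply, map_sum] at h2
  rw [Finset.sum_comm, Finset.sum_eq_single 1 (fun b _ hb => ?_) (by simp)] at h2
  · simp only [OneMemClass.coe_one, map_one, End.one_apply, rinv', Finset.sum_const, ← Nat.cast_smul_eq_nsmul ℂ] at h2
    exact smul_ne_zero (by simp) h0 h2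
  · obtain ⟨a, ha, c, h3, hc⟩ := h.nd b b.2 (fun e => hb (Subtype.ext e))
    refine eq_zero_of_smul h3 ?_
    rw [Finset.smul_sum]
    refine Fintype.sum_equiv (Equiv.mulRight (⟨a, ha⟩ : A)) _ _ fun g => ?_
    rw [← map_smul, ← hc _ ((h.stB b.2).1 _ ((h.stA (inv_mem g.2)).1 _ hv))]
    simp only [← rmul, Equiv.coe_mulRight, Subgroup.coe_mul, mul_inv_rev, mul_assoc, inv_mul_cancel_left, InvMemClass.coe_inv]

theorem Heis.card_mul [FiniteDimensional ℂ V] (h : Heis R W A B) :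
    Nat.card B * finrank ℂ ↥(W ⊓ Fix R A) ≤ finrank ℂ W := by
  classical
  have := Fintype.ofFinite B
  by_cases h0 : W ⊓ Fix R A = ⊥
  · rw [h0, finrank_bot]; simp
  obtain ⟨v, hv, h0⟩ := (Submodule.ne_bot_iff _).1 h0
  choose l hl using fun (b : B) (a : A) => h.sc a a.2 b b.2
  have h1 : ∀ (b : B) (a : A), ∀ w ∈ W ⊓ Fix R A, R a (R b w) = l b a • R b w := fun b a w hw =>
    act_of_comm (hw.2 a.2) (hl b a _ ((h.stB b.2).1 _ hw.1))
  have h2 := sum_finrank_Wt_le' (fun a : A => R a) l (fun b => (W ⊓ Fix R A).map (R b)) (fun b => by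
    rintro _ ⟨w, hw, rfl⟩ a; exact h1 b a w hw) Finset.univ (fun b _ b' _ e => by
      by_contra hne
      obtain ⟨a, ha, c, h3, hc⟩ := h.nd (b'⁻¹ * b) (mul_mem (inv_mem b'.2) b.2)
        (fun e => hne (Subtype.ext (inv_mul_eq_one.1 e).symm))
      have h4 : R a (R ((b' : Γ)⁻¹ * b) v) = c • R ((b' : Γ)⁻¹ * b) v := act_of_comm (hv.2 ha) (hc _ ((h.stB (mul_mem (inv_mem b'.2) b.2)).1 _ hv.1))
      have h5 := hl b' ⟨a, ha⟩ _ ((h.stB b'.2).1 _ ((h.stA ha).1 _ ((h.stB (mul_mem (inv_mem b'.2) b.2)).1 _ hv.1)))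
      have h6 := h1 b ⟨a, ha⟩ v hv
      have h7 : l b ⟨a, ha⟩ ≠ 0 := fun e => rne (rne h0 _) _ (by rw [h6, e, zero_smul])
      rw [← e, ← rmul, ← rmul, ← rmul, h4, map_smul, ← rmul (b' : Γ)] at h5
      simp only [mul_assoc, inv_mul_cancel_left, mul_inv_cancel_left] at h5
      rw [rmul, h6, smul_comm] at h5
      exact smul_ne_zero h7 (rne h0 _) (eq_zero_of_smul h3 h5.symm))
  rw [Finset.sum_congr rfl fun (b : B) _ =>
    (Submodule.equivMapOfInjective _ (rep_injective R b) (W ⊓ Fix R A)).finrank_eq.symm] at h2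
  simp only [Finset.sum_const, Finset.card_univ, smul_eq_mul, ← Nat.card_eq_fintype_card] at h2
  rw [h2]
  refine Submodule.finrank_mono (Finset.sup_le fun b _ => ?_)
  rintro _ ⟨w, hw, rfl⟩
  exact (h.stB b.2).1 _ hw.1

end heis

section filt
variable [FiniteDimensional ℂ V] {k T : Type*} [Fintype k] [Zero k] [DecidableEq k] {l : k → T → ℂ}

theorem filt_step (hl : Function.Injective l) (a : T → Module.End ℂ V) (U : Submodule ℂ V) (E : k → Submodule ℂ V)
    (h : ∀ s, E s ≤ U ⊓ Wt a (l s)) :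
    finrank ℂ ↥(U ⊓ Wt a (l 0)) + ∑ s ∈ Finset.univ.erase 0, finrank ℂ (E s) ≤ finrank ℂ U := by
  have h1 := sum_finrank_Wt_le' a l (fun s => U ⊓ Wt a (l s)) (fun _ => inf_le_right) Finset.univ hl.injOn
  rw [← Finset.add_sum_erase _ _ (Finset.mem_univ 0)] at h1
  refine (Nat.add_le_add_left (Finset.sum_le_sum fun s _ => Submodule.finrank_mono (h s)) _).trans (h1.trans_le ?_)
  exact Submodule.finrank_mono (Finset.sup_le fun _ _ => inf_le_left)

theorem filt (hl : Function.Injective l) {ι : Type*} (a : ι → T → Module.End ℂ V) (F : ι → ℤ) (E : ι → k → Submodule ℂ V)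
    (P : Finset ι) (hF : Set.InjOn F P) (h1 : ∀ r ∈ P, ∀ s, E r s ≤ Wt (a r) (l s))
    (h2 : ∀ r ∈ P, ∀ r' ∈ P, F r' < F r → ∀ s, E r' s ≤ Wt (a r) (l 0)) (U : Submodule ℂ V)
    (hU : ∀ r ∈ P, ∀ s, E r s ≤ U) : ∑ r ∈ P, ∑ s ∈ Finset.univ.erase 0, finrank ℂ (E r s) ≤ finrank ℂ U := by
  classical
  induction P using Finset.induction_on_max_value F generalizing U with
  | empty => simp
  | insert r P hr hm ih =>
    have h3 := Finset.mem_insert_self r P
    rw [Finset.sum_insert hr, add_comm]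
    refine le_trans (Nat.add_le_add_right (ih (hF.mono (by simp)) (fun r hr => h1 r (Finset.mem_insert_of_mem hr))
      (fun r hr r' hr' => h2 r (Finset.mem_insert_of_mem hr) r' (Finset.mem_insert_of_mem hr')) _ fun r' hr' s => le_inf
      (hU r' (Finset.mem_insert_of_mem hr') s) (h2 r h3 r' (Finset.mem_insert_of_mem hr') ((hm r' hr').lt_of_ne fun e => hr ?_) s)) _)
      (filt_step hl _ U _ fun s => le_inf (hU r h3 s) (h1 r h3 s))
    rwa [← hF (Finset.mem_insert_of_mem hr') h3 e]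

end filt

end Cfsg.Agent.H2
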