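import Cfsg.Agent.H2.MinTH

/-! Twisted data from tables; representations that are trivial on the long root subgroups. -/

set_option autoImplicit false
set_option linter.unusedSectionVars false

namespace Cfsg.Agent.H2

open Cfsg.Lie Cfsg.Agent.H1 Cfsg.Agent.H7 Cfsg.Agent.H8 Matrix Module

section field
variable {K : Type*} [Field K] [Fintype K] {q m : ℕ} (hK : Fintype.card K = q ^ m) {φ : K →+* K} (hφ : ∀ t, φ t = t ^ q)
include hφ

theorem iter_frob (i : ℕ) (t : K) : φ^[i] t = t ^ q ^ i := by rw [show (φ : K → K) = (· ^ q) from funext hφ, pow_iterate]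

include hK

theorem card_eqLocus (hm : m ≠ 0) : Nat.card (φ.eqLocusField (RingHom.id K)) = q :=
  (Nat.card_congr (Equiv.subtypeEquivRight fun t => by rw [← hφ]; rfl)).trans (card_fixed hK hm)

open Polynomial in
theorem exists_tr (hm : m ≠ 0) : ∃ a, ∑ i ∈ Finset.range m, φ^[i] a ≠ 0 := by
  by_contra h
  push Not at h
  have h1 : 1 < q := (Nat.one_lt_pow_iff hm).1 (hK ▸ Fintype.one_lt_card)
  have h2 := eq_zero_of_natDegree_lt_card_of_eval_eq_zero' (∑ i ∈ Finset.range m, X ^ q ^ i : K[X]) Finset.univ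
    (fun a _ => by simpa [eval_finsetSum, iter_frob hφ] using h a) (by
      refine lt_of_le_of_lt (natDegree_sum_le_of_forall_le _ _ (n := q ^ (m - 1)) fun i hi => ?_)
        (Finset.card_univ.trans hK ▸ Nat.pow_lt_pow_right h1 (by omega))
      rw [natDegree_X_pow]; exact Nat.pow_le_pow_right h1.le (by have := Finset.mem_range.1 hi; omega))
  have h3 := congrArg (coeff · 1) h2
  simp only [finsetSum_coeff, coeff_X_pow, coeff_zero] at h3
  rw [Finset.sum_eq_single 0 (fun i _ hi => if_neg (Nat.one_lt_pow hi h1).ne) (by simp [hm])] at h3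
  simp at h3

theorem exists_nrm (hm : 2 ≤ m) : ∃ l, ∏ i ∈ Finset.range m, φ^[i] l = 1 ∧ l ^ 2 ≠ 1 := by
  have h1 : 1 < q := (Nat.one_lt_pow_iff (by omega)).1 (hK ▸ Fintype.one_lt_card)
  obtain ⟨a, ha⟩ : ∃ a : Kˣ, a ^ ((q - 1) * 2) ≠ 1 := by
    by_contra h
    push Not at h
    have h2 := Nat.le_of_dvd (by omega) ((FiniteField.forall_pow_eq_one_iff K _).1 h)
    have h3 := Nat.pow_le_pow_right h1.le hm
    obtain ⟨n, rfl⟩ := Nat.exists_eq_add_of_lt h1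
    rw [hK] at h2
    simp only [pow_two] at h3
    have : 1 + n + 1 - 1 = n + 1 := by omega
    rw [this] at h2
    have := Nat.sub_le_iff_le_add.1 h2
    nlinarith
  refine ⟨a ^ (q - 1), ?_, fun h => ha (Units.ext (by simpa [pow_mul] using h))⟩
  simp only [iter_frob hφ, Finset.prod_pow_eq_pow_sum, ← pow_mul]
  rw [← Finset.mul_sum, mul_comm, Nat.geomSum_eq h1, Nat.div_mul_cancel (by simpa using Nat.sub_dvd_pow_sub_pow q 1 m), ← hK]
  exact FiniteField.pow_card_sub_one_eq_one _ a.ne_zero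

end field

/-- Conditions on the tables. -/
def TwChk (n m : ℕ) (a : ℕ → ℕ → ℤ) (f : ℕ → ℤ) (ρ : ℕ → ℕ) (ε : ℕ → ℤ) : Prop :=
  ∀ r < n, (ρ^[m] r = r ∧ ∏ j ∈ Finset.range m, ε (ρ^[j] r) = 1) ∧ (ρ r = r → ε r = 1) ∧ f (ρ r) = f r ∧
    (∀ s < n, a (ρ r) (ρ s) = a r s) ∧ (ρ r ≠ r → ∀ i < m, i ≠ 0 → a r (ρ^[i] r) = 0)

instance decTwChk (n m : ℕ) (a : ℕ → ℕ → ℤ) (f : ℕ → ℤ) (ρ : ℕ → ℕ) (ε : ℕ → ℤ) : Decidable (TwChk n m a f ρ ε) := by
  unfold TwChk; infer_instance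

variable {D : ChevalleyDatum} [hD : RootFacts D] [hN : NFacts D] [hS : SLFacts D] {K : Type*} [Field K] {G : Type*} [Group G]

theorem th_of {x : ℕ → K → G} {σ : G →* G} {π : Fin D.rank → Fin D.rank} {S : Subgroup G} {O : Fin D.rank → Set ℕ}
    {φ : K →+* K} {L L' : List (List (ℕ × ℕ × ℤ))} {h₀} [Fintype K] {q m : ℕ} (hK : Fintype.card K = q ^ m)
    (hφ : ∀ t, φ t = t ^ q) (hm : 2 ≤ m) (hL : TwOK D 1 L π) (h1 : TwSub D x σ π S O)
    (h2 : Twist D x σ (twP L L' h₀) π (twF L φ)) (hx : IsFaith D x) {f : ℕ → ℤ}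
    (h : TwChk D.nroots m (A D) f (twP L L' h₀) fun r => (twT L r).2.2) : TH D x σ (twP L L' h₀) π (twF L φ) S O φ m := by
  have h3 : ∀ r < D.nroots, ∀ t, twF L φ r t = (twT L r).2.2 * φ t := fun r hr t => by
    rw [twF, (hL.2.2.1 r hr).2.2.2.2.2.elim id id, pow_one]
  have h4 : ∀ r, D.nroots ≤ r → twP L L' h₀ r = r := fun r hr => congrArg Prod.fst (twT_ge (hL.1.le.trans hr))
  have h5 : ∀ t, φ^[m] t = t := fun t => by rw [iter_frob hφ, ← hK, FiniteField.pow_card]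
  refine ⟨h1, h2, hx, fun r hr e t => by rw [h3 r hr, show (twT L r).2.2 = 1 from (h r hr).2.1 e]; simp, fun r t => ?_, Equiv.ext fun r => ?_, h5,
    fun r s => ?_, fun r hr => (h r hr).2.2.2.2, exists_tr hK hφ (by omega), exists_nrm hK hφ hm⟩
  · by_cases hr : r < D.nroots
    · have h6 : ∀ i, (twP L L' h₀)^[i] r < D.nroots ∧ σ^[i] (x r t) = x ((twP L L' h₀)^[i] r)
          ((∏ j ∈ Finset.range i, (twT L ((twP L L' h₀)^[j] r)).2.2 : ℤ) * φ^[i] t) := fun i => by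
        induction i with
        | zero => simpa
        | succ i ih =>
          simp only [Function.iterate_succ_apply', Finset.prod_range_succ, ih.2, h2.map, h2.lt, h3 _ ih.1, map_mul, map_intCast]
          exact ⟨ih.1, by push_cast; ring_nf⟩
      rw [(h6 m).2, (h r hr).1.1, (h r hr).1.2, h5]; simp
    · rw [hx.toIsSt.out r (not_lt.1 hr), iterate_map_one]
  · by_cases hr : r < D.nroots
    · exact (congrFun (Equiv.Perm.coe_pow _ m) r).trans (h r hr).1.1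
    · exact (congrFun (Equiv.Perm.coe_pow _ m) r).trans (Function.iterate_fixed (h4 r (not_lt.1 hr)) m)
  · by_cases hr : r < D.nroots
    · by_cases hs : s < D.nroots
      · exact (h r hr).2.2.2.1 s hs
      · simp [A, h4 s (not_lt.1 hs), hD.wt_ge s (not_lt.1 hs)]
    · simp [A, h4 r (not_lt.1 hr), hD.cor_ge r (not_lt.1 hr)]

theorem refl_eq {a r s : ℕ} (h : 2 ≤ A D s r - A D a r * A D s a) : refl D a r = s :=
  eq_of_A (by rw [A, wt_refl, dotProduct_sub, dotProduct_smul]; exact h)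

theorem sm_of_A {b g r : ℕ} (hb : b < D.nroots) (hg : g < D.nroots) (h1 : A D b g = -1) (h2 : 2 ≤ A D r g + A D r b) :
    Sm D b g r := refl_eq (D := D) (a := b) (r := g) (s := r) (by rw [h1]; omega) ▸ exists_sm hb hg h1

theorem TwChk.c_rho {m : ℕ} {ρ : Equiv.Perm ℕ} {ε : ℕ → ℤ} {c : Fin D.rank → ℤ} (h1 : ∀ r, ρ r < D.nroots ↔ r < D.nroots)
    (h : TwChk D.nroots m (A D) (fun r => c ⬝ᵥ wt D r) ρ ε) (r : ℕ) : c ⬝ᵥ wt D (ρ r) = c ⬝ᵥ wt D r := by
  by_cases hr : r < D.nroots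
  · exact (h r hr).2.2.1
  · rw [hD.wt_ge r (not_lt.1 hr), hD.wt_ge _ (not_lt.1 (mt (h1 r).1 hr))]

theorem finrank_le_one_of_comm {Γ V : Type*} [Group Γ] [AddCommGroup V] [Module ℂ V] [FiniteDimensional ℂ V]
    (ρ : Representation ℂ Γ V) (hρ : ρ.IsIrreducible) (h : ∀ a b, Commute (ρ a) (ρ b)) : finrank ℂ V ≤ 1 := by
  by_cases h0 : ∃ v : V, v ≠ 0
  · obtain ⟨v, hv⟩ := h0
    rcases hρ.eq_bot_or_eq_top ⟨ℂ ∙ v, fun g w hw => by
      obtain ⟨c, hc⟩ := exists_eq_smul_of_commute ρ hρ (ρ g) (h g)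
      rw [hc]; exact Submodule.smul_mem _ c hw⟩ with e | e
    · exact absurd (Submodule.span_singleton_eq_bot.1 (congrArg Subrepresentation.toSubmodule e)) hv
    · rw [← finrank_top, ← show (ℂ ∙ v) = ⊤ from congrArg Subrepresentation.toSubmodule e, finrank_span_singleton hv]
  · push Not at h0
    rw [finrank_zero_iff_forall_zero.2 h0]; omega

namespace MD

variable [Finite G] {k : Type*} [Field k] [Finite k] {M : MD D K G k} {r s a b g : ℕ} {V : Type*} [AddCommGroup V]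
  [Module ℂ V] [FiniteDimensional ℂ V] {R : M.S →* Module.End ℂ V} {w : Equiv.Perm ℕ}

theorem conj_X {n : M.S} (hn : NRep D M.x n w) {u : M.S} (hu : u ∈ M.X r) : n * u * n⁻¹ ∈ M.X (w r) :=
  hn.conj_XS st (T := orb M.ρ (w r)) (fun _ e => Exists.imp (fun i e => by
    rw [← e, ← Equiv.Perm.mul_apply, ((commute_of_rep hn).zpow_left i).eq]; rfl) e) hu

variable (R) in
/-- Inclusion of the images of root subgroups. -/
def Le (r s : ℕ) : Prop := ∀ u ∈ M.X r, ∃ u' ∈ M.X s, R u = R u'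

theorem Le.trans (h : Le R r s) (h' : Le R s g) : Le R r g := fun u hu =>
  let ⟨_, h1, h2⟩ := h u hu; let ⟨_, h3, h4⟩ := h' _ h1; ⟨_, h3, h2.trans h4⟩

theorem le_rho : Le R r (M.ρ r) := fun u hu => ⟨u, (X_orb (Equiv.Perm.SameCycle.refl _ _).apply_right).ge hu, rfl⟩

theorem mem_of_orb {L : List ℕ} (h : ∀ r ∈ L, M.ρ r ∈ L ∧ M.ρ⁻¹ r ∈ L) (hr : r ∈ L) (e : s ∈ orb M.ρ r) : s ∈ L :=
  (inv_of (· ∈ L) (fun r => propext ⟨fun h1 => by simpa using (h _ h1).2, fun h1 => (h r h1).1⟩) e).mpr hr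

theorem triv_neg (ha : M.Fx a) (h : ∀ t, R (M.z a t) = 1) : ∀ t, R (M.z (D.neg a) t) = 1 :=
  let ⟨_, hn⟩ := exists_nE ha; refl_self ha.1 ▸ triv_conj hn ha h

theorem le_refl_of (ha : M.Fx a) (h : ∀ t, R (M.z a t) = 1) (h1 : 2 ≤ A D s r - A D a r * A D s a) : Le R r s := fun u hu => by
  have h2 : R (M.z a 1 * M.z (D.neg a) (-1) * M.z a 1) = 1 := by simp [h, triv_neg ha h]
  refine ⟨_, refl_eq h1 ▸ conj_X (n := M.z a 1 * M.z (D.neg a) (-1) * M.z a 1) (by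
    simpa [z_val ha, z_val ha.neg, nE] using NRep.nE (x := M.x) st ha.1 one_ne_zero) hu, ?_⟩
  rw [map_mul, map_mul, h2, one_mul, ← one_mul (R _⁻¹), ← h2, ← map_mul, mul_inv_cancel, map_one, mul_one]

theorem le_fx (ha : M.Fx a) (h : ∀ t, R (M.z a t) = 1) : Le R a s := fun _ hu =>
  let ⟨t, e⟩ := exists_z ha hu; ⟨1, one_mem _, by rw [e, h, map_one]⟩

theorem triv_of_comm (hr : M.Fx r) (e : Sm D b g r) (h : Le R g b) (t : k) : R (M.z r t) = 1 := by
  obtain ⟨u, hu, h0⟩ := exists_ne_one (M := M) e.1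
  obtain ⟨y, hy, h1⟩ := heis' hr e hu h0 t
  obtain ⟨y', h2, h3⟩ := h y hy
  have h4 := commute_Y (T := orb M.ρ b) (U := orb M.ρ b) (fun _ h1 _ h2 => ⟨(lt_orb h1).2 e.1, (lt_orb h2).2 e.1,
    M.orth _ _ (h1.symm.trans h2)⟩) h2 hu
  rw [← h1, mul_assoc, ← _root_.mul_inv_rev, map_mul, map_mul, h3, ← map_mul, h4.eq, map_mul, ← h3, ← map_mul, ← map_mul,
    mul_inv_cancel, map_one]

theorem comm_all {Wd : Set (List (ℕ × K))} (hW : M.S = twS M.x Wd) {T : Set ℕ}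
    (h1 : ∀ r ∈ T, ∀ s ∈ T, ∀ u ∈ M.X r, ∀ u' ∈ M.X s, Commute (R u) (R u'))
    (h2 : ∀ l ∈ Wd, ∃ r, ev M.x l ∈ XS M.x (orb M.ρ r) ∧ ∃ s ∈ T, Le R r s) (a b : M.S) :
    Commute (R a) (R b) := by
  have h3 : ∀ b : M.S, (∀ s ∈ T, ∀ u ∈ M.X s, Commute (R u) (R b)) → ∀ a, Commute (R a) (R b) := fun b h a => by
    obtain ⟨a', h4, e⟩ := twS_le (M := ((Subgroup.centralizer {R.toHomUnits b}).comap R.toHomUnits).map M.S.subtype).2
      (fun l hl => let ⟨r, h5, s, hs, h7⟩ := h2 l hl; have h6 := hW.ge (ev_mem_twS hl); let ⟨u, h8, h9⟩ := h7 ⟨_, h6⟩ h5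
        ⟨⟨_, h6⟩, Subgroup.mem_centralizer_singleton_iff.2 (Units.ext (by simpa [h9] using (h s hs u h8).eq)), rfl⟩) (hW.le a.2)
    obtain rfl := Subtype.ext e
    exact congrArg Units.val (Subgroup.mem_centralizer_singleton_iff.1 h4)
  exact h3 b (fun s hs u hu => (h3 u (fun r hr v hv => h1 r hr s hs v hv u hu) b).symm) a

end MD

end Cfsg.Agent.H2
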