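import Cfsg.Agent.H2.MinUn
import Cfsg.Agent.H8.TwCard

/-! The data attached to a twisted group. -/

set_option autoImplicit false
set_option linter.unusedSectionVars false

namespace Cfsg.Agent.H2

open Cfsg.Lie Cfsg.Agent.H1 Cfsg.Agent.H7 Cfsg.Agent.H8 Matrix Module

section nm
variable {G : Type*} [Group G] (σ : G →* G) {m : ℕ} {a b g : G}

/-- The product of the images of an element. -/
def nm (m : ℕ) (g : G) : G := ((List.range m).map fun i => σ^[i] g).prod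

theorem nm_succ (m : ℕ) (g : G) : nm σ (m + 1) g = nm σ m g * σ^[m] g := by simp [nm, List.range_succ]

theorem nm_succ' (m : ℕ) (g : G) : nm σ (m + 1) g = g * σ (nm σ m g) := by
  induction m with
  | zero => simp [nm]
  | succ m ih => rw [nm_succ, nm_succ _ m, map_mul, ← mul_assoc, ← ih, nm_succ, Function.iterate_succ_apply']

variable {σ}

theorem nm_mem {H : Subgroup G} (h : ∀ i < m, σ^[i] g ∈ H) : nm σ m g ∈ H :=
  H.list_prod_mem fun _ hy => let ⟨i, hi, e⟩ := List.mem_map.1 hy; e ▸ h i (List.mem_range.1 hi)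

theorem commute_nm (h : ∀ i < m, Commute a (σ^[i] g)) : Commute a (nm σ m g) :=
  Commute.list_prod_right _ _ fun _ hy => let ⟨i, hi, e⟩ := List.mem_map.1 hy; e ▸ h i (List.mem_range.1 hi)

theorem commute_iter (h : Commute a b) (i : ℕ) : Commute (σ^[i] a) (σ^[i] b) := by
  induction i with
  | zero => exact h
  | succ i ih => simpa only [Function.iterate_succ_apply'] using ih.map σ

theorem nm_mul (h : ∀ i < m, i ≠ 0 → Commute b (σ^[i] a)) : nm σ m (a * b) = nm σ m a * nm σ m b := by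
  induction m with
  | zero => simp [nm]
  | succ m ih =>
    have h1 : Commute (σ^[m] a) (nm σ m b) := commute_nm fun i hi => by
      have := commute_iter (σ := σ) (h (m - i) (by omega) (by omega)) i
      rw [← Function.iterate_add_apply, Nat.add_sub_cancel' hi.le] at this
      exact this.symm
    rw [nm_succ, nm_succ, nm_succ, ih fun i hi => h i (by omega), iterate_map_mul, mul_assoc, mul_assoc, ← mul_assoc (nm σ m b),
      ← h1.eq, mul_assoc]

theorem nm_fix (hm : σ^[m] g = g) (h : ∀ i < m, i ≠ 0 → Commute g (σ^[i] g)) : σ (nm σ m g) = nm σ m g := by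
  have h1 := (nm_succ σ m g).symm.trans (nm_succ' σ m g)
  rw [hm, ← (commute_nm fun i hi => if e : i = 0 then by rw [e]; rfl else h i hi e).eq] at h1
  exact (mul_left_cancel h1).symm

end nm

variable {D : ChevalleyDatum} {K : Type*} [Field K] {G : Type*} [Group G] [hD : RootFacts D] [hN : NFacts D]
  [hS : SLFacts D]

variable (D) in
/-- A twisting endomorphism of finite order with commuting orbits. -/
structure TH (x : ℕ → K → G) (σ : G →* G) (ρ : Equiv.Perm ℕ) (π : Fin D.rank → Fin D.rank) (f : ℕ → K → K)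
    (S : Subgroup G) (O : Fin D.rank → Set ℕ) (φ : K →+* K) (m : ℕ) : Prop where
  sub : TwSub D x σ π S O
  tw : Twist D x σ ρ π f
  faith : IsFaith D x
  fx : ∀ r < D.nroots, ρ r = r → ∀ t, f r t = φ t
  per : ∀ r t, σ^[m] (x r t) = x r t
  rho : ρ ^ m = 1
  phi : ∀ t, φ^[m] t = t
  A_rho : ∀ r s, A D (ρ r) (ρ s) = A D r s
  orth : ∀ r < D.nroots, ρ r ≠ r → ∀ i < m, i ≠ 0 → A D r (ρ^[i] r) = 0
  tr : ∃ a, ∑ i ∈ Finset.range m, φ^[i] a ≠ 0
  nrm : ∃ l, ∏ i ∈ Finset.range m, φ^[i] l = 1 ∧ l ^ 2 ≠ 1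

namespace TH

variable {x : ℕ → K → G} {σ : G →* G} {ρ : Equiv.Perm ℕ} {π : Fin D.rank → Fin D.rank} {f : ℕ → K → K} {S : Subgroup G}
  {O : Fin D.rank → Set ℕ} {φ : K →+* K} {m : ℕ} (h : TH D x σ ρ π f S O φ m) {r s b g : ℕ} {T : Set ℕ} {y : G}

theorem cyc_iter (r i : ℕ) : ρ.SameCycle r (ρ^[i] r) := ⟨i, by rw [zpow_natCast, Equiv.Perm.coe_pow]⟩

include h

theorem m_pos : 0 < m := Nat.pos_of_ne_zero fun e => by obtain ⟨a, ha⟩ := h.tr; simp [e] at ha

theorem exists_iter (e : ρ.SameCycle r s) : ∃ i < m, ρ^[i] r = s := by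
  obtain ⟨i, rfl⟩ := e
  have := h.m_pos
  have := Int.emod_nonneg i (b := m) (by omega)
  have := Int.emod_lt_of_pos i (b := m) (by omega)
  refine ⟨(i % m).toNat, by omega, ?_⟩
  rw [zpow_eq_zpow_emod' i h.rho, ← Equiv.Perm.coe_pow, ← zpow_natCast, Int.toNat_of_nonneg (by omega)]

theorem iter_XS {U : Set ℕ} (i : ℕ) (hy : y ∈ XS x T) (hU : ∀ r ∈ T, ρ^[i] r ∈ U) : σ^[i] y ∈ XS x U := by
  induction i generalizing U with
  | zero => exact XS_mono _ hU hy
  | succ i ih =>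
    rw [Function.iterate_succ_apply']
    exact h.tw.map_XS (fun _ h => h) (ih (U := ρ ⁻¹' U) fun r hr => by simpa only [Function.iterate_succ_apply'] using! hU r hr)

theorem lt_iter (i : ℕ) : ρ^[i] r < D.nroots ↔ r < D.nroots := by
  induction i with
  | zero => rfl
  | succ i ih => rw [Function.iterate_succ_apply', h.tw.lt, ih]

theorem pos_iter (i : ℕ) : D.IsPosRoot (ρ^[i] r) ↔ D.IsPosRoot r := by
  induction i with
  | zero => rfl
  | succ i ih => rw [Function.iterate_succ_apply', h.tw.pos, ih]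

theorem neg_iter (hr : r < D.nroots) (i : ℕ) : ρ^[i] (D.neg r) = D.neg (ρ^[i] r) := by
  induction i with
  | zero => rfl
  | succ i ih => rw [Function.iterate_succ_apply', Function.iterate_succ_apply', ih, h.tw.neg _ ((h.lt_iter i).2 hr)]

theorem A_iter (i r s : ℕ) : A D (ρ^[i] r) (ρ^[i] s) = A D r s := by
  induction i with
  | zero => rfl
  | succ i ih => rw [Function.iterate_succ_apply', Function.iterate_succ_apply', h.A_rho, ih]

theorem iter_x (hr : r < D.nroots) (e : ρ r = r) (i : ℕ) (t : K) : σ^[i] (x r t) = x r (φ^[i] t) := by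
  induction i with
  | zero => rfl
  | succ i ih => rw [Function.iterate_succ_apply', Function.iterate_succ_apply', ih, h.tw.map, e, h.fx r hr e]

theorem nm_x (hr : r < D.nroots) (e : ρ r = r) (n : ℕ) (t : K) : nm σ n (x r t) = x r (∑ i ∈ Finset.range n, φ^[i] t) := by
  induction n with
  | zero => simp [nm, h.faith.toIsSt.zero]
  | succ n ih => rw [nm_succ, ih, h.iter_x hr e, Finset.sum_range_succ, h.faith.toIsSt.add]

theorem orth' (e : ρ.SameCycle r s) : 0 ≤ A D r s := by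
  by_cases hr : r < D.nroots
  · obtain ⟨i, hi, rfl⟩ := h.exists_iter e
    by_cases h1 : ρ r = r
    · rw [Function.iterate_fixed h1, A_self hr]; omega
    by_cases h2 : i = 0
    · rw [h2, Function.iterate_zero_apply, A_self hr]; omega
    · exact (h.orth r hr h1 i hi h2).ge
  · simp [A, hD.cor_ge r (not_lt.1 hr)]

theorem lt_orb (hr : r < D.nroots) (e : ρ.SameCycle r s) : s < D.nroots :=
  let ⟨i, _, e⟩ := h.exists_iter e; e ▸ (h.lt_iter i).2 hr

theorem closed (hr : r < D.nroots) (hT : T ⊆ orb ρ r) : IsClosed D T :=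
  (Nrm.of_nonneg fun _ h1 _ h2 => ⟨h.lt_orb hr (hT h1), h.lt_orb hr (hT h2), h.orth' ((hT h1).symm.trans (hT h2))⟩).1

theorem exists_w (hr : r < D.nroots) : ∃ w ∈ W D, ∀ s ∈ orb ρ r, D.IsPosRoot (w s) := by
  rcases pos_or_neg hr with h1 | h1
  · exact ⟨1, one_mem _, fun s e => let ⟨i, _, e⟩ := h.exists_iter e; e ▸ (h.pos_iter i).2 h1⟩
  · exact ⟨_, w0_mem, fun s e => let ⟨i, _, e⟩ := h.exists_iter e; e ▸ w0_pos_of_neg
      (negRoot_of_not_pos ((h.lt_iter i).2 hr) fun h2 => not_neg_of_pos ((h.pos_iter i).1 h2) h1)⟩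

theorem inter (hr : r < D.nroots) {U : Set ℕ} (hT : T ⊆ orb ρ r) (hU : U ⊆ orb ρ r) (h1 : y ∈ XS x T) (h2 : y ∈ XS x U) :
    y ∈ XS x (T ∩ U) :=
  let ⟨_, hw, h3⟩ := h.exists_w hr
  h.faith.mem_XS_inter hw (h.closed hr hT) (h.closed hr hU) (fun s hs => h3 s (hT hs)) (fun s hs => h3 s (hU hs)) h1 h2

theorem mem_S (hr : r < D.nroots) (hy : y ∈ XS x (orb ρ r)) (e : σ y = y) : y ∈ S := by
  rcases pos_or_neg hr with h1 | h1
  · exact h.sub.mem_of_UU h.tw h.faith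
      (XS_mono _ (fun s e => let ⟨i, _, e⟩ := h.exists_iter e; e ▸ (h.pos_iter i).2 h1) hy) e
  · exact h.sub.mem_of_VV h.tw h.faith (XS_mono _ (fun s e => let ⟨i, _, e⟩ := h.exists_iter e; e ▸
      negRoot_of_not_pos ((h.lt_iter i).2 hr) fun h2 => not_neg_of_pos ((h.pos_iter i).1 h2) h1) hy) e

omit h in
variable (D ρ m) in
/-- Sets of roots commuting with their images. -/
def Ind (T : Set ℕ) : Prop := ∀ r ∈ T, r < D.nroots ∧ ∀ s ∈ T, ∀ i < m, i ≠ 0 → 0 ≤ A D r (ρ^[i] s)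

theorem comm_iter (hT : Ind D ρ m T) {a b : G} (ha : a ∈ XS x T) (hb : b ∈ XS x T) (i : ℕ) (hi : i < m) (h0 : i ≠ 0) :
    Commute a (σ^[i] b) := by
  refine Subgroup.mem_centralizer_singleton_iff.1 ((XS_le (H := Subgroup.centralizer {σ^[i] b})).2 (fun r hr t => ?_) ha)
  refine Subgroup.mem_centralizer_singleton_iff.2 (Subgroup.mem_centralizer_singleton_iff.1
    ((XS_le (H := Subgroup.centralizer {x r t})).2 (fun s hs u => ?_) (h.iter_XS i hb fun s => Set.mem_image_of_mem _))).symm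
  obtain ⟨s, hs, rfl⟩ := hs
  exact Subgroup.mem_centralizer_singleton_iff.2 (h.faith.toIsSt.commute_of_A (hT r hr).1 ((hT r hr).2 s hs i hi h0) _ _).symm

/-- The norm homomorphism. -/
def nmH (hT : Ind D ρ m T) : XS x T →* G := MonoidHom.mk' (fun a => nm σ m a) fun a b => nm_mul (h.comm_iter hT b.2 a.2)

theorem ind_one (hr : r < D.nroots) : Ind D ρ m {r} := by
  rintro _ rfl
  exact ⟨hr, by rintro _ rfl i _ _; exact h.orth' (cyc_iter _ i)⟩

theorem nm_orb (r n : ℕ) (t : K) : nm σ n (x r t) ∈ XS x (orb ρ r) :=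
  nm_mem fun i _ => h.iter_XS i (x_mem_XS (Set.mem_singleton r) t) fun _ e => e ▸ cyc_iter _ i

theorem nm_S (hr : r < D.nroots) (t : K) : nm σ m (x r t) ∈ S :=
  h.mem_S hr (h.nm_orb r m t) (nm_fix (h.per r t) (h.comm_iter (h.ind_one hr) (x_mem_XS (Set.mem_singleton r) t)
    (x_mem_XS (Set.mem_singleton r) t)))

theorem nmH_S (hT : Ind D ρ m T) (a : XS x T) : h.nmH hT a ∈ S := by
  obtain ⟨a, ha⟩ := a
  induction ha using Subgroup.closure_induction with
  | mem y hy => obtain ⟨r, hr, t, rfl⟩ := hy; exact h.nm_S (hT r hr).1 t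
  | one => exact (map_one (h.nmH hT)).symm ▸ one_mem _
  | mul a b ha hb h1 h2 => exact (map_mul (h.nmH hT) ⟨a, ha⟩ ⟨b, hb⟩).symm ▸ mul_mem h1 h2
  | inv a ha h1 => exact (map_inv (h.nmH hT) ⟨a, ha⟩).symm ▸ inv_mem h1

theorem nm_eq (hr : r < D.nroots) (h1 : ρ r ≠ r) (t : K) : (x r t)⁻¹ * nm σ m (x r t) ∈ XS x (orb ρ r ∩ {r}ᶜ) := by
  obtain ⟨n, rfl⟩ := Nat.exists_eq_add_one.2 h.m_pos
  rw [nm_succ', inv_mul_cancel_left]
  refine Subgroup.mem_comap.1 (nm_mem fun i hi => Subgroup.mem_comap.2 ?_)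
  rw [← Function.iterate_succ_apply' σ]
  refine h.iter_XS _ (x_mem_XS (Set.mem_singleton r) t) ?_
  rintro r rfl
  refine ⟨cyc_iter _ _, fun e => ?_⟩
  have := h.orth r hr h1 (i + 1) (by omega) (by omega)
  rw [show ρ^[i + 1] r = r from e, A_self hr] at this
  omega

theorem exists_nm (hr : r < D.nroots) (h1 : ρ r ≠ r) (hy : y ∈ XS x (orb ρ r)) (h2 : y ∈ S) : ∃ t, y = nm σ m (x r t) := by
  obtain ⟨w, hw, h3⟩ := h.exists_w hr
  obtain ⟨a, ha, v, hv, e⟩ := h.faith.toIsSt.exists_mul (S₁ := {r}) (S₂ := {r}ᶜ) (h.closed hr subset_rfl) hw h3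
    (fun _ _ => em _) hy
  obtain ⟨t, rfl⟩ := h.faith.toIsSt.mem_XS_singleton (XS_mono _ Set.inter_subset_right ha)
  have h4 : (nm σ m (x r t))⁻¹ * y ∈ XS x (orb ρ r ∩ {r}ᶜ) := by
    simpa [e, mul_assoc] using mul_mem (inv_mem (h.nm_eq hr h1 t)) hv
  have h5 := h.sub.fix _ (mul_mem (inv_mem (h.nm_S hr t)) h2)
  have h6 : ∀ i, (nm σ m (x r t))⁻¹ * y ∈ XS x {s | s ∈ orb ρ r ∧ ∀ j ≤ i, s ≠ ρ^[j] r} := fun i => by
    induction i with
    | zero => exact XS_mono _ (fun s hs => And.intro hs.1 fun j hj => by rw [Nat.le_zero.1 hj]; exact hs.2) h4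
    | succ i ih =>
      refine XS_mono _ (fun s hs => And.intro hs.1.1 fun j hj => ?_) (h.inter hr Set.inter_subset_left (U := {s | s ∈ orb ρ r ∧
        ∀ j ≤ i, s ≠ ρ^[j + 1] r}) (fun _ h => h.1) h4 (h5 ▸ h.tw.map_XS (fun s hs => And.intro hs.1.apply_right fun j hj => ?_) ih))
      · rcases j with _ | j
        exacts [hs.1.2, hs.2.2 j (by omega)]
      · rw [Function.iterate_succ_apply']; exact ρ.injective.ne (hs.2 j hj)
  have h7 := XS_mono x (T := ∅) (fun s hs => let ⟨i, hi, e⟩ := h.exists_iter hs.1; hs.2 i hi.le e.symm) (h6 m)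
  rw [XS_empty, Subgroup.mem_bot, inv_mul_eq_one] at h7
  exact ⟨t, h7.symm⟩

theorem nm_inj (hr : r < D.nroots) (h1 : ρ r ≠ r) {t u : K} (e : nm σ m (x r t) = nm σ m (x r u)) : t = u := by
  have h2 := mul_mem (h.nm_eq hr h1 t) (inv_mem (h.nm_eq hr h1 u))
  rw [e, _root_.mul_inv_rev, inv_inv, mul_assoc, mul_inv_cancel_left] at h2
  have h3 := XS_mono x (T := ∅) (fun s hs => hs.1.2 hs.2) (h.inter hr (T := orb ρ r ∩ {r}ᶜ) Set.inter_subset_left (U := {r})
    (fun _ e => e ▸ .refl _ _) h2 (mul_mem (inv_mem (x_mem_XS (Set.mem_singleton r) t)) (x_mem_XS (Set.mem_singleton r) u)))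
  rw [XS_empty, Subgroup.mem_bot, inv_mul_eq_one] at h3
  exact h.faith.x_inj hr h3

theorem heis (hr : ρ r = r) (hb : ρ b ≠ b) (e : Sm D b g r) {u : S} (hu : u ∈ XO x S ρ b) (h1 : u ≠ 1) {t : K}
    (ht : φ t = t) : ∃ y ∈ XO x S ρ g, (y * u * y⁻¹ * u⁻¹ : G) = x r t := by
  obtain ⟨t₀, h2⟩ := h.exists_nm (y := u) e.1 hb hu u.2
  have h3 : t₀ ≠ 0 := fun e => h1 (Subtype.ext (by rw [h2, e, h.faith.toIsSt.zero]; simp [nm]))
  obtain ⟨δ, h4, h5⟩ := h.faith.toIsSt.comm_sum e.2.1 e.1 e.2.2.1 e.symm.2.2.2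
  obtain ⟨a, ha⟩ := h.tr
  have h6 : ∀ i < m, i ≠ 0 → 0 ≤ A D g (ρ^[i] b) := fun i hi h0 => by
    have h6 := e.add (ρ^[i] b)
    have h7 := h.A_iter i b r
    rw [Function.iterate_fixed hr, A_symm b, e.A_left] at h7
    rw [h7, A_symm _ b, h.orth b e.1 hb i hi h0, A_symm] at h6
    omega
  have hT : Ind D ρ m {g, b} := by
    rintro c (rfl | rfl)
    · exact ⟨e.2.1, by rintro _ (rfl | rfl) i hi h0; exacts [h.orth' (cyc_iter _ i), h6 i hi h0]⟩
    · refine ⟨e.1, ?_⟩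
      rintro d (rfl | rfl) i hi h0
      · rw [← h.A_iter (m - i), ← Function.iterate_add_apply, Nat.sub_add_cancel hi.le, ← Equiv.Perm.coe_pow _ m, h.rho, A_symm]
        exact h6 _ (by omega) (by omega)
      · exact h.orth' (cyc_iter _ i)
  have h7 : φ (∑ i ∈ Finset.range m, φ^[i] a) = ∑ i ∈ Finset.range m, φ^[i] a := by
    have := (Finset.sum_range_succ (φ^[·] a) m).symm.trans (Finset.sum_range_succ' _ m)
    simp only [Function.iterate_succ_apply', h.phi, Function.iterate_zero_apply, add_left_inj] at this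
    rw [map_sum, ← this]
  set c := t / ∑ i ∈ Finset.range m, φ^[i] a with hc
  refine ⟨⟨_, h.nm_S e.2.1 (δ * (c * a) / t₀)⟩, h.nm_orb _ _ _, ?_⟩
  have h8 := map_commutatorElement (h.nmH hT) ⟨_, x_mem_XS (Or.inl rfl) (δ * (c * a) / t₀)⟩ ⟨_, x_mem_XS (Or.inr rfl) t₀⟩
  rw [Subgroup.coe_inv, Subgroup.coe_inv, h2]
  refine h8.symm.trans ((congrArg (nm σ m) (h5 _ _)).trans ?_)
  rw [h.nm_x e.2.2.1 hr, mul_assoc, div_mul_cancel₀ _ h3, ← mul_assoc, h4, one_mul]
  simp only [iterate_map_mul, Function.iterate_fixed (show φ c = c by rw [hc, map_div₀, h7, ht])]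
  rw [← Finset.mul_sum, div_mul_cancel₀ _ ha]

theorem ind_pm (hr : r < D.nroots) (h1 : ρ r ≠ r) : Ind D ρ m {r, D.neg r} := by
  rintro c (rfl | rfl)
  · refine ⟨hr, ?_⟩
    rintro _ (rfl | rfl) i hi h0
    · exact h.orth' (cyc_iter _ i)
    · rw [h.neg_iter hr, A_neg_right _ ((h.lt_iter i).2 hr), h.orth _ hr h1 i hi h0]; rfl
  · refine ⟨neg_lt hr, ?_⟩
    rintro _ (rfl | rfl) i hi h0
    · rw [A_neg_left hr, h.orth _ hr h1 i hi h0]; rfl
    · exact h.orth' (cyc_iter _ i)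

theorem hE_mem (r : ℕ) (l : K) : hE D x r l ∈ XS x {r, D.neg r} :=
  have h1 := fun t => x_mem_XS (x := x) (S := {r, D.neg r}) (Or.inl rfl) t
  have h2 := fun t => x_mem_XS (x := x) (S := {r, D.neg r}) (Or.inr rfl) t
  mul_mem (mul_mem (mul_mem (h1 _) (h2 _)) (h1 _)) (mul_mem (mul_mem (h1 _) (h2 _)) (h1 _))

theorem nm_HH (hy : y ∈ HH D x) (n : ℕ) : nm σ n y ∈ HH D x := nm_mem fun i hi => by
  clear hi
  induction i with
  | zero => exact hy
  | succ i ih => rw [Function.iterate_succ_apply']; exact h.tw.map_HH h.faith.toIsSt ih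

theorem nm_conj [Finite K] (hs : s < D.nroots) (e : ρ s = s) {c : K} (hy : ∀ t, y * x s t * y⁻¹ = x s (c * t)) (n : ℕ) (t : K) :
    nm σ n y * x s t * (nm σ n y)⁻¹ = x s ((∏ i ∈ Finset.range n, φ^[i] c) * t) := by
  induction n generalizing t with
  | zero => simp [nm]
  | succ n ih =>
    obtain ⟨t, rfl⟩ := (Finite.injective_iff_surjective.1 φ.injective).iterate n t
    have h1 := congrArg σ^[n] (hy t)
    rw [iterate_map_mul, iterate_map_mul, iterate_map_inv, h.iter_x hs e, h.iter_x hs e, iterate_map_mul] at h1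
    rw [nm_succ, Finset.prod_range_succ, mul_assoc (Finset.prod _ _), ← ih, ← h1]
    group

theorem tor [Finite K] (hr : r < D.nroots) (h1 : ρ r ≠ r) : ∃ n : S, ∃ e, Acts x n 1 e ∧ (∀ s < D.nroots, ρ s = s → e s = 1) ∧
    ∀ u ∈ XO x S ρ r, ∃ y ∈ XO x S ρ r, u = n * y * n⁻¹ * y⁻¹ := by
  obtain ⟨l, h2, h3⟩ := h.nrm
  have h4 : l ≠ 0 := fun e => by
    rw [e, Finset.prod_eq_zero (Finset.mem_range.2 h.m_pos) rfl] at h2
    exact zero_ne_one h2
  have hT := h.ind_pm hr h1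
  obtain ⟨a, ha⟩ := h.faith.toIsSt.acts_of_mem_HH (h.nm_HH (hE_mem_HH x hr h4) m)
  refine ⟨⟨_, h.nmH_S hT ⟨_, h.hE_mem r l⟩⟩, _, ha, fun s hs e => h.faith.x_inj hs ?_, fun u hu => ?_⟩
  · have h5 := (ha s 1).symm.trans (h.nm_conj hs e (h.faith.toIsSt.hE_conj hr h4 s) m 1)
    rw [Finset.prod_congr rfl fun i _ => show φ^[i] (l ^ A D r s) = φ^[i] l ^ A D r s by
      simpa only [RingHom.coe_pow] using map_zpow₀ (φ ^ i) l (A D r s), Finset.prod_zpow, h2] at h5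
    simpa using h5
  · obtain ⟨t, ht⟩ := h.exists_nm (y := u) hr h1 hu u.2
    refine ⟨⟨_, h.nm_S hr (t / (l ^ 2 - 1))⟩, h.nm_orb _ _ _, Subtype.ext (ht.trans (Eq.trans (congrArg (nm σ m) ?_)
      (map_commutatorElement (h.nmH hT) ⟨_, h.hE_mem r l⟩ ⟨_, x_mem_XS (Or.inl rfl) (t / (l ^ 2 - 1))⟩)))⟩
    show _ = _ * _ * _ * _
    simp only [Subgroup.coe_mul, Subgroup.coe_inv]
    rw [h.faith.toIsSt.hE_conj hr h4, A_self hr, ← h.faith.toIsSt.sub, ← sub_one_mul, zpow_ofNat,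
      mul_div_cancel₀ _ (sub_ne_zero.2 h3)]

/-- The data of the twisted group. -/
noncomputable def md [Finite K] [Finite G] (c : Fin D.rank → ℤ) (h1 : ∀ r, c ⬝ᵥ wt D (ρ r) = c ⬝ᵥ wt D r)
    (h2 : ∀ r, D.IsPosRoot r → 0 < c ⬝ᵥ wt D r) (h3 : Nat.card (φ.eqLocusField (RingHom.id K)) ^ m = Nat.card K) :
    MD D K G (φ.eqLocusField (RingHom.id K)) where
  x := x
  σ := σ
  ρ := ρ
  π := π
  f := f
  S := S
  O := O
  ι := Subfield.subtype _
  c := c
  sub := h.sub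
  tw := h.tw
  faith := h.faith
  A_rho := h.A_rho
  c_rho := h1
  c_pos := h2
  orth _ _ := h.orth'
  fix r hr e t := by rw [h.fx r hr e]; exact ⟨fun h => ⟨⟨t, h⟩, rfl⟩, fun ⟨u, hu⟩ => hu ▸ u.2⟩
  card r hr e s hs := by
    refine le_trans (Nat.pow_le_pow_right Nat.card_pos ((Finset.card_le_card (t := (Finset.range m).image (ρ^[·] r))
      fun b hb => ?_).trans (Finset.card_image_le.trans (Finset.card_range m).le))) (h3.le.trans
      (Nat.card_le_card_of_injective (fun t => ⟨⟨_, h.nm_S hr t⟩, h.nm_orb _ _ _⟩) fun _ _ e' =>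
        h.nm_inj hr e (congrArg (fun y => y.1.1) e')))
    simpa using h.exists_iter (hs b hb)
  heis _ _ _ hr hb e _ hu h1 t := h.heis hr hb e hu h1 t.2
  tor _ := h.tor

end TH

end Cfsg.Agent.H2
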