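import Cfsg.Agent.H2.MinRep
import Cfsg.Agent.H8.Tw
import Cfsg.Agent.H8.LiftE
import Cfsg.Agent.H7.Parab

/-! Root subgroups of possibly twisted groups of simply laced type. -/

set_option autoImplicit false
set_option linter.unusedSectionVars false

namespace Cfsg.Agent.H2

open Cfsg.Lie Cfsg.Agent.H7 Cfsg.Agent.H8 Matrix

variable {D : ChevalleyDatum} {K : Type*} [Field K] {G : Type*} [Group G] [hD : RootFacts D] [hN : NFacts D]

omit hN in
theorem comm_mem_XS {x : ℕ → K → G} {T U : Set ℕ} {Z : Subgroup G} (hT : XS x T ≤ Subgroup.normalizer (Z : Set G))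
    (hU : XS x U ≤ Subgroup.normalizer (Z : Set G))
    (h : ∀ r ∈ T, ∀ s ∈ U, ∀ t u, x r t * x s u * (x r t)⁻¹ * (x s u)⁻¹ ∈ Z) {g y : G} (hg : g ∈ XS x T)
    (hy : y ∈ XS x U) : g * y * g⁻¹ * y⁻¹ ∈ Z := by
  have h1 : ∀ r ∈ T, ∀ t, x r t * y * (x r t)⁻¹ * y⁻¹ ∈ Z := fun r hr t => by
    induction hy using Subgroup.closure_induction with
    | mem y hy => obtain ⟨s, hs, u, rfl⟩ := hy; exact h r hr s hs t u
    | one => simp
    | mul a b ha _ h1 h2 =>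
      simpa [mul_assoc] using mul_mem h1 ((Subgroup.mem_normalizer_iff.1 (hU ha) _).1 h2)
    | inv a ha h1 => simpa [mul_assoc] using (Subgroup.mem_normalizer_iff.1 (hU (inv_mem ha)) _).1 (inv_mem h1)
  induction hg using Subgroup.closure_induction with
  | mem g hg => obtain ⟨s, hs, u, rfl⟩ := hg; exact h1 s hs u
  | one => simp
  | mul a b ha _ h1 h2 =>
    simpa [mul_assoc] using mul_mem ((Subgroup.mem_normalizer_iff.1 (hT ha) _).1 h2) h1
  | inv a ha h1 => simpa [mul_assoc] using (Subgroup.mem_normalizer_iff.1 (hT (inv_mem ha)) _).1 (inv_mem h1)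

variable (D) in
/-- `k = r + s`. -/
def Sm (r s k : ℕ) : Prop := r < D.nroots ∧ s < D.nroots ∧ k < D.nroots ∧ wt D k = wt D r + wt D s

variable (D) in
/-- The roots of `T` normalise the group of `U`. -/
def Nrm (T U : Set ℕ) : Prop := IsIdealFor D T U ∧ ∀ r ∈ T, ∀ s ∈ U, s ≠ D.neg r

omit hD hN in
theorem Nrm.mono {T T' U : Set ℕ} (h : Nrm D T U) (h' : T' ⊆ T) : Nrm D T' U :=
  ⟨fun r hr => h.1 r (h' hr), fun r hr => h.2 r (h' hr)⟩

omit hD hN in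
theorem Sm.symm {r s k : ℕ} (h : Sm D r s k) : Sm D s r k := ⟨h.2.1, h.1, h.2.2.1, by rw [h.2.2.2, add_comm]⟩

omit hD hN in
theorem Sm.add {r s k : ℕ} (h : Sm D r s k) (c : ℕ) : A D c k = A D c r + A D c s := by
  unfold A; rw [h.2.2.2, dotProduct_add]

omit hN in
theorem Sm.pos {r s k : ℕ} (h : Sm D r s k) (hr : D.IsPosRoot r) (hs : D.IsPosRoot s) : D.IsPosRoot k :=
  (pos_comb (i := 1) (j := 1) hr hs le_rfl le_rfl (by simpa using h.2.2.2)).1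

omit hN in
theorem Sm.ne_simple {r s k : ℕ} (h : Sm D r s k) (hr : D.IsPosRoot r) (hs : D.IsPosRoot s) (i : Fin D.rank) :
    k ≠ D.simple i := fun e => by
  have h1 := ht_comb (i := 1) (j := 1) (k := k) (r := r) (s := s) (by simpa using h.2.2.2)
  have := ht_pos hr
  have := ht_pos hs
  rw [e, ht_simple] at h1
  omega

omit hN in
theorem Sm.eq {r s s' k : ℕ} (h : Sm D r s k) (h' : Sm D r s' k) : s = s' :=
  wt_inj h.2.1 h'.2.1 (add_left_cancel (h.2.2.2.symm.trans h'.2.2.2))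

omit hN in
theorem ne_neg_pos {r s : ℕ} (hr : D.IsPosRoot r) (hs : D.IsPosRoot s) : s ≠ D.neg r := ne_neg_of_pos (one_mem _) hr hs

variable (D) in
/-- The root `r - s`. -/
noncomputable def cpl (r s : ℕ) : ℕ := D.neg (refl D r s)

omit hN in
theorem sm_cpl {r s : ℕ} (hr : r < D.nroots) (hs : s < D.nroots) (h : A D r s = 1) : Sm D s (cpl D r s) r :=
  ⟨hs, neg_lt (W_lt (refl_mem r) hs), hr, by rw [cpl, wt_neg (W_lt (refl_mem r) hs), wt_refl, h]; simp⟩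

section SL
variable [hS : SLFacts D]
omit hN

theorem Sm.A_eq {r s k : ℕ} (h : Sm D r s k) : A D r s = -1 := A_of_sum h.1 h.2.1 h.2.2.1 h.2.2.2

theorem Sm.A_left {r s k : ℕ} (h : Sm D r s k) : A D k r = 1 := by
  have := h.add r
  rw [A_self h.1, h.A_eq] at this
  rw [A_symm, this]; rfl

theorem A_le {r s : ℕ} (hr : r < D.nroots) (hs : s < D.nroots) : s = r ∨ A D r s ≤ 1 := by
  rcases A_cases hr hs with h | rfl | h | h | h
  · exact Or.inl h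
  · rw [A_neg_right r hr, A_self hr]; omega
  all_goals omega

theorem A_le_two (r s : ℕ) : A D r s ≤ 2 := by
  by_cases hr : r < D.nroots
  · by_cases hs : s < D.nroots
    · rcases A_le hr hs with rfl | h
      · exact (A_self hr).le
      · omega
    · simp [A, hD.wt_ge s (not_lt.1 hs)]
  · simp [A, hD.cor_ge r (not_lt.1 hr)]

theorem eq_of_A {r s : ℕ} (h : 2 ≤ A D r s) : s = r := by
  by_cases hr : r < D.nroots
  · by_cases hs : s < D.nroots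
    · exact (A_le hr hs).resolve_right (by omega)
    · simp [A, hD.wt_ge s (not_lt.1 hs)] at h
  · simp [A, hD.cor_ge r (not_lt.1 hr)] at h

theorem exists_sm {r s : ℕ} (hr : r < D.nroots) (hs : s < D.nroots) (h : A D r s = -1) : Sm D r s (refl D r s) :=
  ⟨hr, hs, W_lt (refl_mem r) hs, by rw [wt_refl, h]; simp [add_comm]⟩

theorem sm_of_comb {r s k i j : ℕ} (hr : r < D.nroots) (hs : s < D.nroots) (hk : k < D.nroots) (hn : s ≠ D.neg r)
    (hi : 1 ≤ i) (hj : 1 ≤ j) (e : wt D k = (i : ℤ) • wt D r + (j : ℤ) • wt D s) : Sm D r s k := by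
  have h1 := norm_comb hr hs hk e
  have h2 : -1 ≤ A D r s := by
    rcases A_cases hr hs with rfl | h | h | h | h
    · rw [A_self hr]; omega
    · exact absurd h hn
    all_goals omega
  have h3 : (1 : ℤ) ≤ i := by exact_mod_cast hi
  have h4 : (1 : ℤ) ≤ j := by exact_mod_cast hj
  have h7 : 0 ≤ (i : ℤ) * j * (A D r s + 1) := mul_nonneg (by positivity) (by omega)
  have h5 : (i : ℤ) = 1 := by nlinarith [sq_nonneg ((i : ℤ) - 2 * j)]
  have h6 : (j : ℤ) = 1 := by nlinarith [sq_nonneg (2 * (i : ℤ) - j)]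
  exact ⟨hr, hs, hk, by simpa [h5, h6] using e⟩

theorem Nrm.of_sm {T U : Set ℕ}
    (h : ∀ r ∈ T, ∀ s ∈ U, r < D.nroots ∧ s < D.nroots ∧ s ≠ D.neg r ∧ ∀ k, Sm D r s k → k ∈ U) : Nrm D T U :=
  ⟨fun r hr s hs k hk _ _ hi hj e => let ⟨h1, h2, h3, h4⟩ := h r hr s hs; h4 k (sm_of_comb h1 h2 hk h3 hi hj e),
    fun r hr s hs => (h r hr s hs).2.2.1⟩

theorem Nrm.of_nonneg {T U : Set ℕ} (h : ∀ r ∈ T, ∀ s ∈ U, r < D.nroots ∧ s < D.nroots ∧ 0 ≤ A D r s) : Nrm D T U :=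
  Nrm.of_sm fun r hr s hs => let ⟨h1, h2, h3⟩ := h r hr s hs
    ⟨h1, h2, ne_neg_of_A h1 (by omega), fun k hk => absurd hk.A_eq (by omega)⟩

theorem comm_x {x : ℕ → K → G} (hx : IsSt D x) {r s : ℕ} (hr : r < D.nroots) (hs : s < D.nroots) (hn : s ≠ D.neg r)
    {U : Set ℕ} (h : ∀ k, Sm D r s k → k ∈ U) (t u : K) : x r t * x s u * (x r t)⁻¹ * (x s u)⁻¹ ∈ XS x U := by
  by_cases h1 : A D r s = -1
  · obtain ⟨δ, -, h2⟩ := hx.comm_sum hr hs (exists_sm hr hs h1).2.2.1 (exists_sm hr hs h1).2.2.2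
    rw [← commutatorElement_def, h2]
    exact x_mem_XS (h _ (exists_sm hr hs h1)) _
  · have h2 : 0 ≤ A D r s := by
      rcases A_cases hr hs with rfl | h | h | h | h
      · rw [A_self hr]; omega
      · exact absurd h hn
      all_goals omega
    rw [(hx.commute_of_A hr h2 t u).eq]; simp

end SL

/-- The orbit of a root. -/
def orb (ρ : Equiv.Perm ℕ) (r : ℕ) : Set ℕ := {s | ρ.SameCycle r s}

/-- The root subgroup of an orbit. -/
def XO (x : ℕ → K → G) (S : Subgroup G) (ρ : Equiv.Perm ℕ) (r : ℕ) : Subgroup S := (XS x (orb ρ r)).subgroupOf S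

variable (D K G) in
/-- A simply laced group or a twisted form of it with commuting orbits. -/
structure MD (k : Type*) [Field k] where
  x : ℕ → K → G
  σ : G →* G
  ρ : Equiv.Perm ℕ
  π : Fin D.rank → Fin D.rank
  f : ℕ → K → K
  S : Subgroup G
  O : Fin D.rank → Set ℕ
  ι : k →+* K
  c : Fin D.rank → ℤ
  sub : TwSub D x σ π S O
  tw : Twist D x σ ρ π f
  faith : IsFaith D x
  A_rho : ∀ r s, A D (ρ r) (ρ s) = A D r s
  c_rho : ∀ r, c ⬝ᵥ wt D (ρ r) = c ⬝ᵥ wt D r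
  c_pos : ∀ r, D.IsPosRoot r → 0 < c ⬝ᵥ wt D r
  orth : ∀ r s, ρ.SameCycle r s → 0 ≤ A D r s
  fix : ∀ r < D.nroots, ρ r = r → ∀ t, f r t = t ↔ ∃ u, ι u = t
  card : ∀ r < D.nroots, ρ r ≠ r → ∀ s : Finset ℕ, (∀ b ∈ s, ρ.SameCycle r b) →
    Nat.card k ^ s.card ≤ Nat.card (XO x S ρ r)
  heis : ∀ r b g, ρ r = r → ρ b ≠ b → Sm D b g r → ∀ u ∈ XO x S ρ b, u ≠ 1 → ∀ t, ∃ y ∈ XO x S ρ g,
    (y * u * y⁻¹ * u⁻¹ : G) = x r (ι t)
  tor : ∀ r < D.nroots, ρ r ≠ r → ∃ h : S, ∃ e, Acts x h 1 e ∧ (∀ s < D.nroots, ρ s = s → e s = 1) ∧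
    ∀ u ∈ XO x S ρ r, ∃ y ∈ XO x S ρ r, u = h * y * h⁻¹ * y⁻¹

namespace MD

variable {k : Type*} [Field k] (M : MD D K G k) {r s a b g : ℕ} {T U Ψ : Set ℕ} {w : Equiv.Perm ℕ}

/-- The group of a set of roots. -/
def Y (T : Set ℕ) : Subgroup M.S := (XS M.x T).subgroupOf M.S

/-- The root subgroups. -/
def X (r : ℕ) : Subgroup M.S := M.Y (orb M.ρ r)

/-- Fixed roots. -/
def Fx (r : ℕ) : Prop := r < D.nroots ∧ M.ρ r = r

/-- The invariant functional. -/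
def F (r : ℕ) : ℤ := M.c ⬝ᵥ wt D r

open Classical in
/-- The long root elements. -/
noncomputable def z (r : ℕ) (t : k) : M.S := if h : M.x r (M.ι t) ∈ M.S then ⟨_, h⟩ else 1

/-- Invariant sets of roots. -/
def Inv (T : Set ℕ) : Prop := ∀ r s, M.ρ.SameCycle r s → r ∈ T → s ∈ T

variable {M}

theorem st : IsSt D M.x := M.faith.toIsSt

theorem inv_of {α : Type*} (p : ℕ → α) (h : ∀ r, p (M.ρ r) = p r) (e : M.ρ.SameCycle r s) : p s = p r := by
  obtain ⟨i, rfl⟩ := e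
  induction i using Int.induction_on with
  | zero => rfl
  | succ i ih => rw [add_comm, _root_.zpow_add, zpow_one, Equiv.Perm.mul_apply, h, ih]
  | pred i ih => rw [← ih, ← h, ← Equiv.Perm.mul_apply, ← _root_.zpow_one_add]; simp

theorem A_orb (h : M.Fx a) (e : M.ρ.SameCycle r s) : A D a s = A D a r :=
  inv_of (A D a) (fun r => by rw [← M.A_rho a r, h.2]) e

theorem lt_orb (e : M.ρ.SameCycle r s) : s < D.nroots ↔ r < D.nroots :=
  (inv_of (· < D.nroots) (fun r => propext (M.tw.lt r)) e).to_iff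

theorem pos_orb (e : M.ρ.SameCycle r s) : D.IsPosRoot s ↔ D.IsPosRoot r :=
  (inv_of D.IsPosRoot (fun r => propext (M.tw.pos r)) e).to_iff

theorem F_orb (e : M.ρ.SameCycle r s) : M.F s = M.F r := inv_of M.F M.c_rho e

theorem eq_orb (h : M.Fx a) (e : M.ρ.SameCycle r s) : s = a ↔ r = a :=
  (inv_of (· = a) (fun r => propext (by nth_rewrite 1 [← h.2]; exact M.ρ.apply_eq_iff_eq)) e).to_iff

theorem orb_fx (h : M.Fx r) : orb M.ρ r = {r} :=
  Set.ext fun _ => ⟨fun e => (eq_orb h e).2 rfl, fun e => e ▸ Equiv.Perm.SameCycle.refl _ _⟩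

theorem mem_orb (r : ℕ) : r ∈ orb M.ρ r := Equiv.Perm.SameCycle.refl _ _

theorem X_orb (e : M.ρ.SameCycle r s) : M.X s = M.X r :=
  congrArg M.Y (Set.ext fun _ => ⟨fun h => e.trans h, fun h => e.symm.trans h⟩)

theorem F_add (h : Sm D r s g) : M.F g = M.F r + M.F s := by unfold F; rw [h.2.2.2, dotProduct_add]

theorem F_neg (h : r < D.nroots) : M.F (D.neg r) = - M.F r := by unfold F; rw [wt_neg h, dotProduct_neg]

theorem F_pos (h : D.IsPosRoot r) : 0 < M.F r := M.c_pos r h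

theorem pos_of_F (h : r < D.nroots) (h1 : 0 ≤ M.F r) : D.IsPosRoot r := pos_of_not_neg h fun h2 => by
  have := F_pos (M := M) ((neg_pos_iff h).2 h2)
  rw [F_neg h] at this; omega

theorem mem_Y {y : M.S} : y ∈ M.Y T ↔ (y : G) ∈ XS M.x T := Subgroup.mem_subgroupOf

theorem Y_mono (h : T ⊆ U) : M.Y T ≤ M.Y U := fun _ hy => XS_mono _ h hy

theorem X_le (h : M.Inv T) (hr : r ∈ T) : M.X r ≤ M.Y T := Y_mono fun _ e => h _ _ e hr

theorem X_fx (h : M.Fx r) : M.X r = M.Y {r} := by rw [X, orb_fx h]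

theorem Y_empty : M.Y ∅ = ⊥ := by rw [Y, XS_empty, Subgroup.bot_subgroupOf]

theorem Fx.neg (h : M.Fx r) : M.Fx (D.neg r) := ⟨neg_lt h.1, by rw [M.tw.neg r h.1, h.2]⟩

theorem mem_S {y : G} (hr : r < D.nroots) (hy : y ∈ XS M.x (orb M.ρ r)) (h : M.σ y = y) : y ∈ M.S := by
  rcases pos_or_neg hr with h1 | h1
  · exact M.sub.mem_of_UU M.tw M.faith (XS_mono _ (fun s e => (pos_orb e).2 h1) hy) h
  · exact M.sub.mem_of_VV M.tw M.faith (XS_mono _ (fun s e => negRoot_of_not_pos ((lt_orb e).2 hr)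
      fun h2 => not_neg_of_pos ((pos_orb e).1 h2) h1) hy) h

theorem z_val (h : M.Fx r) (t : k) : (M.z r t : G) = M.x r (M.ι t) := by
  rw [z, dif_pos (mem_S h.1 (x_mem_XS (mem_orb r) _) (by rw [M.tw.map, h.2, (M.fix r h.1 h.2 _).2 ⟨t, rfl⟩]))]

theorem z_add (h : M.Fx r) (t u : k) : M.z r (t + u) = M.z r t * M.z r u :=
  Subtype.ext (by simp only [z_val h, Subgroup.coe_mul, map_add, st.add])

theorem z_zero (h : M.Fx r) : M.z r 0 = 1 := add_fam_zero (z_add h)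

theorem z_mem (h : M.Fx r) (t : k) : M.z r t ∈ M.X r := by
  rw [X, mem_Y, z_val h]; exact x_mem_XS (mem_orb r) _

theorem z_mem' (h : M.Fx r) (hr : r ∈ T) (t : k) : M.z r t ∈ M.Y T := by
  rw [mem_Y, z_val h]; exact x_mem_XS hr _

theorem z_inj (h : M.Fx r) : Function.Injective (M.z r) := fun t u e => by
  have := congrArg Subtype.val e
  rw [z_val h, z_val h] at this
  exact M.ι.injective (M.faith.x_inj h.1 this)

theorem exists_of_mem (h : M.Fx r) {t : K} (ht : M.x r t ∈ M.S) : ∃ u, M.ι u = t := by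
  have := M.sub.fix _ ht
  rw [M.tw.map, h.2] at this
  exact (M.fix r h.1 h.2 t).1 (M.faith.x_inj h.1 this)

theorem exists_z (h : M.Fx r) {y : M.S} (hy : y ∈ M.X r) : ∃ t, y = M.z r t := by
  rw [X_fx h] at hy
  obtain ⟨t, ht⟩ := st.mem_XS_singleton hy
  obtain ⟨u, rfl⟩ := exists_of_mem h (t := t) (ht ▸ y.2)
  exact ⟨u, Subtype.ext (ht.trans (z_val h u).symm)⟩

theorem conj_Y (h : Nrm D T U) {y y' : M.S} (hy : y ∈ M.Y T) (hy' : y' ∈ M.Y U) : y * y' * y⁻¹ ∈ M.Y U :=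
  st.conj_mem h.1 h.2 hy hy'

variable [hS : SLFacts D]

theorem comm_Y (hT : Nrm D T Ψ) (hU : Nrm D U Ψ)
    (h : ∀ r ∈ T, ∀ s ∈ U, r < D.nroots ∧ s < D.nroots ∧ s ≠ D.neg r ∧ ∀ k, Sm D r s k → k ∈ Ψ)
    {y y' : M.S} (hy : y ∈ M.Y T) (hy' : y' ∈ M.Y U) : y * y' * y⁻¹ * y'⁻¹ ∈ M.Y Ψ :=
  comm_mem_XS (st.XS_le_normalizer hT.1 hT.2) (st.XS_le_normalizer hU.1 hU.2)
    (fun r hr s hs => let ⟨h1, h2, h3, h4⟩ := h r hr s hs; comm_x st h1 h2 h3 h4) hy hy'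

theorem commute_Y (h : ∀ r ∈ T, ∀ s ∈ U, r < D.nroots ∧ s < D.nroots ∧ 0 ≤ A D r s)
    {y y' : M.S} (hy : y ∈ M.Y T) (hy' : y' ∈ M.Y U) : Commute y y' := by
  have := comm_Y (Ψ := ∅) ⟨fun _ _ _ h => h.elim, fun _ _ _ h => h.elim⟩ ⟨fun _ _ _ h => h.elim, fun _ _ _ h => h.elim⟩
    (fun r hr s hs => let ⟨h1, h2, h3⟩ := h r hr s hs
      ⟨h1, h2, ne_neg_of_A h1 (by omega), fun k hk => absurd hk.A_eq (by omega)⟩) hy hy'
  rw [Y_empty, Subgroup.mem_bot, mul_inv_eq_one, mul_inv_eq_iff_eq_mul] at this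
  exact this

theorem nrm_orb (h : r < D.nroots) : Nrm D (orb M.ρ r) (orb M.ρ r) :=
  Nrm.of_nonneg fun _ h1 _ h2 => ⟨(lt_orb h1).2 h, (lt_orb h2).2 h, M.orth _ _ (h1.symm.trans h2)⟩

/-- The group of a closed invariant set is generated by the root subgroups. -/
theorem gen (h1 : IsClosed D T) (h2 : ∀ r ∈ T, D.IsPosRoot r) (h3 : M.Inv T) {H : Subgroup M.S}
    (h : ∀ r ∈ T, M.X r ≤ H) : M.Y T ≤ H := by
  have hf : ∀ T : Set ℕ, (∀ r ∈ T, D.IsPosRoot r) → T.Finite := fun T h =>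
    (Set.finite_lt_nat D.nroots).subset fun r hr => (h r hr).1
  generalize hn : T.ncard = n
  induction n using Nat.strong_induction_on generalizing T with
  | _ n ih =>
  rcases T.eq_empty_or_nonempty with rfl | hne
  · rw [Y_empty]; exact bot_le
  obtain ⟨r, hr, hm⟩ := Set.exists_min_image T M.F (hf T h2) hne
  have h4 : IsClosed D (T ∩ (orb M.ρ r)ᶜ) := fun s hs s' hs' g hg i j hi hj e => by
    refine ⟨h1 s hs.1 s' hs'.1 g hg i j hi hj e, fun h5 => ?_⟩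
    have h6 := F_add (M := M) (sm_of_comb (h2 s hs.1).1 (h2 s' hs'.1).1 hg (ne_neg_pos (h2 s hs.1) (h2 s' hs'.1)) hi hj e)
    have := F_orb h5
    have := hm s hs.1
    have := F_pos (M := M) (h2 s' hs'.1)
    omega
  have h5 : M.Inv (T ∩ (orb M.ρ r)ᶜ) := fun s s' e hs => ⟨h3 s s' e hs.1, fun h => hs.2 (h.trans e.symm)⟩
  intro y hy
  obtain ⟨u, hu, v, hv, e⟩ := st.exists_mul (S₁ := orb M.ρ r) (S₂ := (orb M.ρ r)ᶜ) h1 (one_mem _) h2 (fun s _ => em _) hy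
  replace hu := XS_mono _ Set.inter_subset_right hu
  replace e : (y : G) = u * v := e
  have h6 : u⁻¹ * M.σ u = v * (M.σ v)⁻¹ := by
    rw [eq_mul_inv_iff_mul_eq, mul_assoc, ← map_mul, ← e, M.sub.fix _ y.2, e, inv_mul_cancel_left]
  have h7 := M.faith.mem_XS_inter (one_mem _) (nrm_orb (h2 r hr).1).1 h4 (fun s e => (pos_orb e).2 (h2 r hr))
    (fun s hs => h2 s hs.1) (mul_mem (inv_mem hu) (M.tw.map_XS (fun s e => e.apply_right) hu))
    (h6 ▸ mul_mem hv (inv_mem (M.tw.map_XS (fun s hs => h5 _ _ (Equiv.Perm.SameCycle.refl _ _).apply_right hs) hv)))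
  rw [show orb M.ρ r ∩ (T ∩ (orb M.ρ r)ᶜ) = ∅ from Set.eq_empty_of_forall_notMem fun _ h => h.2.2 h.1, XS_empty,
    Subgroup.mem_bot, inv_mul_eq_one] at h7
  have h8 := mem_S (h2 r hr).1 hu h7.symm
  have h9 : v ∈ M.S := by simpa only [e, inv_mul_cancel_left] using mul_mem (inv_mem h8) y.2
  rw [show y = ⟨u, h8⟩ * ⟨v, h9⟩ from Subtype.ext e]
  refine mul_mem (h r hr hu) (ih _ ?_ h4 (fun s hs => h2 s hs.1) h5 (fun s hs => h s hs.1) rfl hv)
  rw [← hn]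
  exact Set.ncard_lt_ncard ⟨Set.inter_subset_left, fun h => (h hr).2 (mem_orb r)⟩ (hf T h2)

theorem commute_of_rep {n : M.S} (hn : NRep D M.x n w) : Commute M.ρ w :=
  M.tw.commute_of_cell M.faith hn.mem_cell (M.sub.fix _ n.2)

theorem exists_rep (hw : w ∈ W D) (h : Commute M.ρ w) : ∃ n : M.S, NRep D M.x n w :=
  let ⟨n, hn, h1⟩ := M.sub.exists_rep M.tw M.faith hw h; ⟨⟨n, hn⟩, h1⟩

theorem Fx.map (h : M.Fx r) {n : M.S} (hn : NRep D M.x n w) : M.Fx (w r) :=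
  ⟨W_lt hn.mem_W h.1, by rw [← Twist.comm_apply (commute_of_rep hn), h.2]⟩

theorem conj_z {n : M.S} (hn : NRep D M.x n w) (h : M.Fx r) :
    ∃ c : k, c ≠ 0 ∧ ∀ t, n * M.z r t * n⁻¹ = M.z (w r) (c * t) := by
  obtain ⟨e, he, ha⟩ := hn.acts st
  obtain ⟨c, hc⟩ := exists_of_mem (h.map hn) (t := e r * M.ι 1) (by
    rw [← ha, ← z_val h]; exact (n * M.z r 1 * n⁻¹).2)
  rw [map_one, mul_one] at hc
  refine ⟨c, fun h0 => he.ne_zero h.1 (by rw [← hc, h0, map_zero]), fun t => Subtype.ext ?_⟩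
  rw [z_val (h.map hn), map_mul, hc, ← ha, ← z_val h]; rfl

theorem exists_nE (h : M.Fx r) : ∃ n : M.S, NRep D M.x n (refl D r) :=
  ⟨M.z r 1 * M.z (D.neg r) (-1) * M.z r 1, by
    simpa [z_val h, z_val h.neg, nE] using NRep.nE (x := M.x) st h.1 one_ne_zero⟩

theorem Fx.refl (h : M.Fx r) (h' : M.Fx s) : M.Fx (refl D r s) := let ⟨_, hn⟩ := exists_nE h; h'.map hn

theorem rho_cpl (h : M.Fx r) (hs : s < D.nroots) : M.ρ (cpl D r s) = cpl D r (M.ρ s) := by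
  obtain ⟨n, hn⟩ := exists_nE h
  rw [cpl, M.tw.neg _ (W_lt (refl_mem r) hs), ← Twist.comm_apply (commute_of_rep hn), cpl]

theorem exists_hE (h : M.Fx r) {c : k} (hc : c ≠ 0) :
    ∃ n : M.S, NRep D M.x n 1 ∧ ∀ s, M.Fx s → ∀ t, n * M.z s t * n⁻¹ = M.z s (c ^ A D r s * t) := by
  have h1 : M.ι c ≠ 0 := (map_ne_zero _).2 hc
  have h2 : ((M.z r c * M.z (D.neg r) (-c⁻¹) * M.z r c * (M.z r (-1) * M.z (D.neg r) 1 * M.z r (-1)) : M.S) : G) =
      hE D M.x r (M.ι c) := by simp [z_val h, z_val h.neg, hE, nE]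
  refine ⟨_, h2 ▸ NRep.of_mem_HH (hE_mem_HH _ h.1 h1), fun s hs t => Subtype.ext ?_⟩
  rw [Subgroup.coe_mul, Subgroup.coe_mul, Subgroup.coe_inv, h2, z_val hs, z_val hs, st.hE_conj h.1 h1, map_mul, map_zpow₀]

theorem Fx.of_sm (h : M.Fx r) (hb : M.ρ b = b) (e : Sm D b g r) : M.Fx g := by
  rw [e.eq (sm_cpl h.1 e.1 e.A_left)]
  exact ⟨(sm_cpl h.1 e.1 e.A_left).2.1, by rw [rho_cpl h e.1, hb]⟩

theorem heis' (h : M.Fx r) (e : Sm D b g r) {u : M.S} (hu : u ∈ M.X b) (h1 : u ≠ 1) (t : k) :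
    ∃ y ∈ M.X g, y * u * y⁻¹ * u⁻¹ = M.z r t := by
  by_cases hb : M.ρ b = b
  · obtain ⟨t₀, rfl⟩ := exists_z ⟨e.1, hb⟩ hu
    have h2 : t₀ ≠ 0 := fun h0 => h1 (h0 ▸ z_zero ⟨e.1, hb⟩)
    have hg := h.of_sm hb e
    obtain ⟨δ, h3, h4⟩ := (st (M := M)).comm_sum e.2.1 e.1 e.2.2.1 e.symm.2.2.2
    obtain ⟨d, rfl⟩ : ∃ d, M.ι d = δ := by
      rcases mul_self_eq_one_iff.1 h3 with rfl | rfl
      exacts [⟨1, map_one _⟩, ⟨-1, by simp⟩]
    refine ⟨M.z g (d * t * t₀⁻¹), z_mem hg _, Subtype.ext ?_⟩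
    simp only [Subgroup.coe_mul, Subgroup.coe_inv, z_val hg, z_val h, z_val (⟨e.1, hb⟩ : M.Fx b)]
    refine (h4 _ _).trans (congrArg _ ?_)
    rw [map_mul, map_mul, ← mul_assoc, ← mul_assoc, h3, one_mul, mul_assoc, ← map_mul, inv_mul_cancel₀ h2, map_one, mul_one]
  · obtain ⟨y, hy, h2⟩ := M.heis r b g h.2 hb e u hu h1 t
    exact ⟨y, hy, Subtype.ext (h2.trans (z_val h t).symm)⟩

theorem card_X [Finite G] (h : r < D.nroots) (P : Finset ℕ) (hP : ∀ b ∈ P, M.ρ.SameCycle r b) :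
    Nat.card k ^ P.card ≤ Nat.card (M.X r) := by
  by_cases hr : M.ρ r = r
  · rcases P.eq_empty_or_nonempty with rfl | hne
    · exact Nat.card_pos
    · rw [Finset.card_eq_one.2 ⟨r, Finset.eq_singleton_iff_nonempty_unique_mem.2
        ⟨hne, fun b hb => (eq_orb ⟨h, hr⟩ (hP b hb)).2 rfl⟩⟩, pow_one]
      exact Nat.card_le_card_of_injective (fun t => ⟨_, z_mem ⟨h, hr⟩ t⟩)
        fun t u e => z_inj ⟨h, hr⟩ (congrArg Subtype.val e)
  · exact M.card r h hr P hP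

theorem exists_ne_one [Finite G] [Finite k] (h : r < D.nroots) : ∃ u ∈ M.X r, u ≠ 1 := by
  have h1 := card_X (M := M) h {r} (by simp [Equiv.Perm.SameCycle.refl])
  rw [Finset.card_singleton, pow_one] at h1
  have := Finite.one_lt_card_iff_nontrivial.1 (Finite.one_lt_card.trans_le h1)
  obtain ⟨u, hu⟩ := exists_ne (1 : M.X r)
  exact ⟨u, u.2, fun e => hu (Subtype.ext e)⟩

end MD

end Cfsg.Agent.H2
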