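import Cfsg.Agent.H2.MinC
import Cfsg.Agent.H2.MinNT
import Cfsg.Agent.H1.SLMin
import Cfsg.Agent.H8.Order

/-! The untwisted groups. -/

set_option autoImplicit false
set_option linter.unusedSectionVars false

namespace Cfsg.Agent.H2

open Cfsg.Lie Cfsg.Agent.H1 Cfsg.Agent.H7 Cfsg.Agent.H8 Matrix Module

theorem dvd_index_fix {Γ H k V : Type*} [Group Γ] [Finite Γ] [Group H] [Finite H] [Field k] [Finite k] [AddCommGroup V]
    [Module ℂ V] [FiniteDimensional ℂ V] (R : Representation ℂ Γ V) (hR : R.IsIrreducible) (φ : H →* Γ) {A : Subgroup H}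
    (z : k → A) (hz : Function.Bijective z) (h0 : φ (z 0) = 1) (h1 : ∀ t ≠ 0, ∃ g, g * φ (z 1) * g⁻¹ = φ (z t)) :
    (finrank ℂ V : ℤ) ∣ (Subgroup.centralizer {φ (z 1)}).index * (Nat.card k * finrank ℂ (Fix (R.comp φ) A)) := by
  classical
  have := Fintype.ofFinite k
  have := Fintype.ofFinite A
  have h7 := (Fintype.sum_bijective z hz (fun t => R.character (φ (z t))) _ fun t => rfl).trans (sum_character (R.comp φ) A)
  rw [← Nat.card_congr (Equiv.ofBijective z hz), ← Finset.add_sum_erase _ _ (Finset.mem_univ 0), h0, Representation.char_one,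
    Finset.sum_congr rfl (g := fun _ => R.character (φ (z 1))) fun t ht => by
      obtain ⟨g, hg⟩ := h1 t (Finset.ne_of_mem_erase ht); rw [← hg, R.char_conj],
    Finset.sum_const, nsmul_eq_mul] at h7
  have h9 := finrank_dvd_index R hR _ (b := Nat.card k * finrank ℂ (Fix (R.comp φ) A) - finrank ℂ V)
    (by push_cast; exact eq_sub_of_add_eq' h7)
  rwa [mul_sub, dvd_sub_left (dvd_mul_left _ _)] at h9

variable {D : ChevalleyDatum} [hD : RootFacts D] [hN : NFacts D] [hS : SLFacts D]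

namespace MD

variable {K : Type*} [Field K] {G : Type*} [Group G] [Finite G] {k : Type*} [Field k] [Finite k] {M : MD D K G k}
  {r : ℕ} {V : Type*} [AddCommGroup V] [Module ℂ V] [FiniteDimensional ℂ V] {R : M.S →* Module.End ℂ V}
  {i : Fin D.rank} {dep : ℕ → ℕ} {N : ℕ} {E : List ℕ} {w : Equiv.Perm ℕ}

theorem triv_conj {n : M.S} (hn : NRep D M.x n w) (hr : M.Fx r) (h : ∀ t, R (M.z r t) = 1) (t : k) :
    R (M.z (w r) t) = 1 := by
  obtain ⟨c, hc, h1⟩ := conj_z hn hr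
  rw [← mul_inv_cancel_left₀ hc t, ← h1, map_mul, map_mul, h, mul_one, ← map_mul, mul_inv_cancel, map_one]

theorem triv_simple (h : MinChk D.nroots D.rank (A D) M.F M.ρ D.simple dep i N E) (h0 : ∀ t, R (M.z (D.simple i) t) = 1)
    (j : Fin D.rank) (hj : M.Fx (D.simple j)) : ∀ t, R (M.z (D.simple j) t) = 1 := by
  generalize hn : dep j = n
  induction n using Nat.strong_induction_on generalizing j with
  | _ n ih =>
  obtain ⟨-, -, h1 | ⟨j', h1, h2, h3, h4⟩⟩ := h.2.1 j j.2 hj.2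
  · exact h1 ▸ h0
  have h5 : M.Fx (D.simple (⟨j', h1⟩ : Fin D.rank)) := ⟨simple_lt _, h2⟩
  obtain ⟨n, hn'⟩ := exists_nE h5
  obtain ⟨n', hn''⟩ := exists_nE hj
  have e := exists_sm h5.1 hj.1 h3
  have e' := exists_sm hj.1 h5.1 (A_symm (D := D) _ _ ▸ h3)
  have := triv_conj hn' (hj.refl h5) (triv_conj hn'' h5 (ih _ (hn ▸ h4) ⟨j', h1⟩ h5 rfl))
  rwa [wt_inj e'.2.2.1 e.2.2.1 (e'.symm.2.2.2.trans e.2.2.2.symm), refl_refl] at this

theorem card_X_fx (hr : M.Fx r) : Nat.card (M.X r) = Nat.card k :=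
  (Nat.card_congr (Equiv.ofBijective (fun t => (⟨_, z_mem hr t⟩ : M.X r)) ⟨fun _ _ e => z_inj hr (congrArg Subtype.val e),
    fun y => let ⟨t, ht⟩ := exists_z hr y.2; ⟨t, Subtype.ext ht.symm⟩⟩)).symm

end MD

variable [MatFacts D] [ChainFacts D] (F : Type*) [Field F] {TW TC : ℕ} (c : List ℤ) (hT : chkTables D TW TC = true)
  (hc : ∀ r < D.nroots, D.IsPosRoot r → 0 < ordOf D TW c r)

/-- The untwisted data. -/
noncomputable def mdU : MD D F (D.group F) F where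
  x := xg D F
  σ := MonoidHom.id _
  ρ := 1
  π := id
  f _ t := t
  S := ⊤
  O i := {i.1}
  ι := RingHom.id F
  c i := c.getD i 0
  sub := ⟨H7.GG_xg.ge, fun _ _ => rfl, fun _ => rfl, fun _ _ h => ⟨0, Fin.ext h.symm⟩,
    fun _ => let ⟨n, hn⟩ := NRep.exists_rep _ (wJ_mem_W _); ⟨n, trivial, hn⟩, fun _ _ _ _ => trivial⟩
  tw := ⟨fun _ _ => rfl, fun _ => Iff.rfl, fun _ => Iff.rfl, fun _ _ => rfl, fun _ => rfl, fun _ _ _ h => h, fun _ _ _ _ => rfl⟩
  faith := H7.isChev_xg.toIsFaith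
  A_rho _ _ := rfl
  c_rho _ := rfl
  c_pos r hr := (ord_eq_pk hT c hr.1).symm ▸ hc r hr.1 hr
  orth r s h := by
    rw [← Equiv.Perm.sameCycle_one.1 h]
    by_cases h : r < D.nroots
    · rw [A_self h]; omega
    · simp [A, hD.wt_ge r (not_lt.1 h)]
  fix _ _ _ t := iff_of_true rfl ⟨t, rfl⟩
  card _ _ h := absurd rfl h
  heis _ _ _ _ h := absurd rfl h
  tor _ _ h := absurd rfl h

variable {F c} [Finite F] {V : Type*} [AddCommGroup V] [Module ℂ V] [FiniteDimensional ℂ V]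
  (R : Representation ℂ (D.group F) V)

include hT hc in
theorem boundU {i : Fin D.rank} {dep : ℕ → ℕ} {N g : ℕ} {E : List ℕ}
    (h : MinChk D.nroots D.rank (fun r s => if r < D.nroots ∧ s < D.nroots then pkA D TW TC r s else 0)
      (fun r => if r < D.nroots then ordOf D TW c r else 0) id D.simple dep i N E ∧ g < D.nroots ∧
      pkA D TW TC (D.nroots - 1) g = 0 ∧ pkA D TW TC (D.simple i) g = -1)
    (hR : R.IsIrreducible) (h2 : 2 ≤ finrank ℂ V)
    (hd : finrank ℂ V < 2 * (Nat.card F - 1) * (Nat.card F ^ (N + 1) + Nat.card F ^ N)) :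
    ∃ d, (Nat.card F - 1) * (E.map (Nat.card F ^ ·)).sum ≤ d ∧ d + (Nat.card F - 1) * Nat.card F ^ (N + 1) ≤ finrank ℂ V ∧
      (finrank ℂ V : ℤ) ∣ (Subgroup.centralizer {xg D F (D.nroots - 1) 1}).index * (Nat.card F * d) := by
  classical
  have := H7.isChev_xg.finite_G (H7.GG_xg (D := D) (F := F))
  obtain ⟨h, hg, h3, h4⟩ := h
  rw [← A_tab hT, ← F_tab hT] at h
  have hθ := (MD.base_of (M := mdU F c hT hc) h).hθ
  have hz : ∀ r < D.nroots, ∀ t, ((mdU F c hT hc).z r t : D.group F) = xg D F r t := fun r hr => MD.z_val ⟨hr, rfl⟩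
  obtain ⟨h5, h6⟩ := MD.boundE (M := mdU F c hT hc) (R := R.comp (Subgroup.subtype ⊤)) h ⟨hg, rfl⟩
    ((A_eq_pk hT hθ.1 hg).trans h3) ((A_eq_pk hT (simple_lt i) hg).trans h4) (by
      by_contra h5
      push Not at h5
      refine absurd (finrank_le_one_of_trivial R hR fun y => (XS_le (H := R.ker)).2 (fun r _ t => ?_)
        (H7.GG_xg.ge (Subgroup.mem_top y))) (by omega)
      by_cases hr : r < D.nroots
      · obtain ⟨w, hw, j, rfl⟩ := exists_W_simple hr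
        obtain ⟨n, hn⟩ := (mdU F c hT hc).exists_rep hw (Commute.one_left w)
        rw [← hz _ hr]
        exact MD.triv_conj hn ⟨simple_lt j, rfl⟩ (MD.triv_simple h h5 j ⟨simple_lt j, rfl⟩) t
      · rw [H7.isChev_xg.out r (not_lt.1 hr)]; exact one_mem _) hd
  refine ⟨_, h5, h6, hz _ hθ.1 1 ▸ dvd_index_fix R hR (Subgroup.subtype ⊤) (fun t => (⟨_, MD.z_mem hθ t⟩ : (mdU F c hT hc).X (D.nroots - 1)))
    ⟨fun _ _ e => MD.z_inj hθ (congrArg Subtype.val e), fun y => let ⟨t, ht⟩ := MD.exists_z hθ y.2; ⟨t, Subtype.ext ht.symm⟩⟩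
    ((hz _ hθ.1 0).trans (H7.isChev_xg.toIsSt.zero _)) fun t ht => ⟨hE D (xg D F) (D.simple i) t, ?_⟩⟩
  refine Eq.trans ?_ (hz _ hθ.1 t).symm
  rw [show Subgroup.subtype ⊤ _ = _ from hz _ hθ.1 1, H7.isChev_xg.toIsSt.hE_conj (simple_lt i) ht, A_symm,
    h.1.2.2.1, zpow_one, mul_one]

theorem finrank_dvd_order {ds : List ℕ} (hR : R.IsIrreducible) (h : (Nat.card (D.group F) : ℤ) * Nat.card (zker D F) =
    Nat.card F ^ (D.nroots / 2) * (ds.map fun d : ℕ => (Nat.card F : ℤ) ^ d - 1).prod) :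
    (finrank ℂ V : ℤ) ∣ Nat.card F ^ (D.nroots / 2) * (ds.map fun d : ℕ => (Nat.card F : ℤ) ^ d - 1).prod :=
  have := H7.isChev_xg.finite_G (H7.GG_xg (D := D) (F := F))
  h ▸ (Int.natCast_dvd_natCast.2 (finrank_dvd_card R hR)).mul_right _

end Cfsg.Agent.H2
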