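import Cfsg.Agent.H2.R3a

/-! Rank 3 groups with a Frobenius suborbit: the complement has even order. -/

set_option autoImplicit false

namespace Cfsg.Agent.H2

open Subgroup MulAction
open scoped Classical

theorem exists_fixed_of_pgroup {G X : Type*} [Group G] [Finite G] [MulAction G X] [Fintype X] {p : ℕ}
    [hp : Fact p.Prime] {P : Subgroup G} (hP : IsPGroup p P) (T : Finset X)
    (hinv : ∀ g ∈ P, ∀ x ∈ T, g • x ∈ T) (h : ¬ p ∣ T.card) : ∃ x ∈ T, ∀ g ∈ P, g • x = x := by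
  by_contra h1
  push Not at h1
  refine h (dvd_card_of_orbits P p T hinv (fun x hx => ?_))
  obtain ⟨n, hn⟩ := hP.exists_card_eq
  obtain ⟨j, -, hj⟩ := (Nat.dvd_prime_pow hp.out).mp (hn ▸ Dvd.intro _ (orbF_card P x))
  rcases j with _ | j
  · obtain ⟨g, hg, hg'⟩ := h1 x hx
    rw [pow_zero] at hj
    exact absurd (Finset.card_le_one.mp hj.le _ (mem_orbF.mpr ⟨g, hg, rfl⟩) _
      (mem_orbF.mpr ⟨1, P.one_mem, one_smul _ _⟩)) hg'
  · exact hj ▸ dvd_pow_self p (Nat.succ_ne_zero j)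

theorem four_types {p0 p1 p2 p3 q0 q1 q2 q3 : Prop} (e1 : ¬ ((p0 ↔ p1) ∧ (q0 ↔ q1)))
    (e2 : ¬ ((p0 ↔ p2) ∧ (q0 ↔ q2))) (e3 : ¬ ((p0 ↔ p3) ∧ (q0 ↔ q3))) (e4 : ¬ ((p2 ↔ p1) ∧ (q2 ↔ q1)))
    (e5 : ¬ ((p3 ↔ p1) ∧ (q3 ↔ q1))) (e6 : ¬ ((p3 ↔ p2) ∧ (q3 ↔ q2))) (f0 : ¬ (p0 ∧ q0))
    (f1 : ¬ (p1 ∧ q1)) (f2 : ¬ (p2 ∧ q2)) (f3 : ¬ (p3 ∧ q3)) : False := by
  by_cases p0 <;> by_cases p1 <;> by_cases p2 <;> by_cases p3 <;> by_cases q0 <;> by_cases q1 <;>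
    by_cases q2 <;> by_cases q3 <;> simp_all

namespace R3

variable {G X : Type*} [Group G] [MulAction G X] {adj : X → X → Prop} (R : R3 G adj)
include R

theorem even_of_matching (F : Finset X) (h1 : ∀ x ∈ F, ∃ y ∈ F, adj x y)
    (h2 : ∀ x ∈ F, ∀ y ∈ F, ∀ y' ∈ F, adj x y → adj x y' → y = y') : Even F.card := by
  choose! f hf hf' using h1
  exact even_card_of_invol F f hf (fun x hx => h2 _ (hf x hx) _ (hf _ (hf x hx)) _ hx (hf' _ (hf x hx))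
    (R.symm (hf' x hx))) (fun x hx => (R.ne_of_adj (hf' x hx)).symm)

variable [Finite G] [Fintype X]

/-- `Ω₁ Z` of the Frobenius kernel -/
def ZZ (a : X) : Subgroup G := Z1 2 (R.Ker a)

omit [Fintype X] in
theorem ZZ_conj {a : X} {z : G} (h : z ∈ R.ZZ a) (t : G) : t * z * t⁻¹ ∈ R.ZZ (t • a) := by
  refine ⟨R.Ker_conj h.1 t, by rw [conj_pow, h.2.1]; simp, fun y hy => ?_⟩
  have h1 := R.Ker_conj hy t⁻¹
  rw [inv_smul_smul, inv_inv] at h1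
  have h2 := h.2.2 _ h1
  calc t * z * t⁻¹ * y = t * (z * (t⁻¹ * y * t)) * t⁻¹ := by group
    _ = y * (t * z * t⁻¹) := by rw [h2]; group

section Odd

variable {a0 b0 : X} (h0 : adj a0 b0) (hodd : Odd (Nat.card (St2 G a0 b0)))
include h0 hodd

omit [Fintype X] in
theorem exists_swap {x y : X} (h : adj x y) : ∃ t : G, t * t = 1 ∧ t • x = y ∧ t • y = x := by
  obtain ⟨t, h1, h2⟩ := R.tE h (R.symm h)
  have h3 : t * t ∈ St2 G x y := ⟨by change (t * t) • x = x; rw [mul_smul, h1, h2],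
    by change (t * t) • y = y; rw [mul_smul, h2, h1]⟩
  obtain ⟨j, hj⟩ := hodd
  have h4 := pow_card_of_mem h3
  rw [← R.card_St2_adj h0 h, hj] at h4
  have h5 : (t * t) ^ j ∈ St2 G x y := pow_mem h3 j
  refine ⟨t * (t * t) ^ j, ?_, by rw [mul_smul, h5.1, h1], by rw [mul_smul, h5.2, h2]⟩
  rw [← h4, ← pow_two t, ← pow_mul, ← pow_mul, ← pow_succ', ← pow_add]
  congr 1; ring

omit [Fintype X] in
theorem mem_Ker_two {x : X} {g : G} (hg : g • x = x) {n : ℕ} (e : g ^ 2 ^ n = 1) : g ∈ R.Ker x :=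
  R.mem_Ker_of_pow h0 hg (Nat.Coprime.pow_right n (Nat.coprime_two_right.mpr hodd)) e

theorem even_k : 2 ∣ (nbF adj a0).card := by
  by_contra h
  have hk : Odd (nbF adj a0).card := Nat.not_even_iff_odd.mp (fun e => h e.two_dvd)
  obtain ⟨t, ht, h1, h2⟩ := R.exists_swap h0 hodd h0
  obtain ⟨c, hc⟩ := R.exists_non a0
  have h3 : Odd (Nat.card (stabilizer G a0)) := by rw [← R.nb_mul h0]; exact hk.mul hodd
  have h4 : Odd (nonF adj a0).card := by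
    rw [← R.non_mul hc] at h3
    exact (Nat.odd_mul.mp h3).1
  have h5 := even_card_of_invol Finset.univ (fun x : X => t • x) (fun _ _ => Finset.mem_univ _)
    (fun x _ => by rw [← mul_smul, ht, one_smul]) (fun x _ e => by
      have h6 := R.Ker_pow (R.mem_Ker_two h0 hodd e (n := 1) (by rw [pow_one, pow_two, ht])) a0
      have h7 : t = 1 := eq_one_of_coprime (Nat.coprime_two_right.mpr hk) h6 (by rw [pow_two, ht])
      rw [h7, one_smul] at h1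
      exact R.ne_of_adj h0 h1)
  rw [Finset.card_univ, R.card_eq a0] at h5
  obtain ⟨i, hi⟩ := hk
  obtain ⟨j, hj⟩ := h4
  obtain ⟨l, hl⟩ := h5
  omega

theorem St2_le_Ker {a c : X} (hc : a ≠ c ∧ ¬ adj a c) : St2 G a c ≤ R.Ker a := by
  intro g hg
  refine ⟨hg.1, fun b hb e => ?_⟩
  by_contra hg1
  obtain ⟨p, hp, hpd⟩ := Nat.exists_prime_and_dvd (fun h => hg1 (orderOf_eq_one_iff.mp h))
  have := Fact.mk hp
  have hph : p ∣ Nat.card (St2 G a b) := hpd.trans ((St2 G a b).orderOf_dvd_natCard ⟨hg.1, e⟩)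
  have hpk : ∀ x, ¬ p ∣ (nbF adj x).card := fun x h =>
    hp.ne_one (Nat.eq_one_of_dvd_coprimes (R.coprime hb x) hph h)
  obtain ⟨P, hP, -⟩ := exists_sylIn (IsPGroup.of_bot (p := p)) (bot_le (a := St2 G a c))
  have hP0 : P ≠ ⊥ := by
    intro e
    apply hP.toSylow.ne_bot_of_dvd_card (hpd.trans ((St2 G a c).orderOf_dvd_natCard hg))
    rw [SylIn.toSylow_coe, e, bot_subgroupOf]
  obtain ⟨⟨y, hy⟩, hy1⟩ := (ne_bot_iff_exists_ne_one).mp hP0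
  have hy1' : y ≠ 1 := fun e => hy1 (Subtype.ext e)
  let F := Finset.univ.filter (fun x : X => ∀ g ∈ P, g • x = x)
  have hF : ∀ x, x ∈ F ↔ ∀ g ∈ P, g • x = x := fun x => by simp [F]
  have hpart : ∀ x ∈ F, ∃ y ∈ F, adj x y := by
    intro x hx
    obtain ⟨z, hz, hz'⟩ := exists_fixed_of_pgroup hP.2.1 (nbF adj x) (fun g hg z hz =>
      mem_nbF.mpr (R.adj_smul ((hF x).mp hx g hg) (mem_nbF.mp hz))) (hpk x)
    exact ⟨z, (hF z).mpr hz', mem_nbF.mp hz⟩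
  have huniq : ∀ x ∈ F, ∀ z ∈ F, ∀ z' ∈ F, adj x z → adj x z' → z = z' := by
    intro x hx z hz z' hz' h1 h2
    by_contra h3
    exact hy1' (R.frob h1 h2 h3 ((hF _).mp hx y hy) ((hF _).mp hz y hy) ((hF _).mp hz' y hy))
  have hev := R.even_of_matching F hpart huniq
  have haF : a ∈ F := (hF a).mpr (fun g hg => (hP.1 hg).1)
  obtain ⟨b', hb'F, hb'⟩ := hpart a haF
  let N : Subgroup G := stabilizer G a ⊓ normalizer (P : Set G)
  have hNF : ∀ g ∈ N, ∀ x ∈ F, g • x ∈ F := by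
    intro g hg x hx
    rw [hF] at hx ⊢
    intro u hu
    have := hx _ ((mem_normalizer_iff''.mp hg.2 u).mp hu)
    rwa [mul_smul, mul_smul, inv_smul_eq_iff] at this
  have hN : N ≤ St2 G a b' := fun g hg =>
    ⟨hg.1, huniq a haF _ (hNF g hg b' hb'F) _ hb'F (R.adj_smul hg.1 hb') hb'⟩
  have horb : orbF N c = F ∩ nonF adj a := by
    ext x
    rw [mem_orbF, Finset.mem_inter, mem_nonF]
    constructor
    · rintro ⟨g, hg, rfl⟩
      exact ⟨hNF g hg c ((hF c).mpr (fun g hg => (hP.1 hg).2)), R.non_smul hg.1 hc⟩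
    · rintro ⟨hx, hx'⟩
      obtain ⟨g, h1, h2⟩ := R.tN hc.1 hc.2 hx'.1 hx'.2
      let P' := P.map (MulAut.conj g⁻¹).toMonoidHom
      have hP'1 : P' ≤ St2 G a c := by
        rintro _ ⟨u, hu, rfl⟩
        have h3 : u • a = a := (hP.1 hu).1
        have h4 := (hF x).mp hx u hu
        refine ⟨?_, ?_⟩
        · change (g⁻¹ * u * g⁻¹⁻¹) • a = a
          rw [inv_inv, mul_smul, mul_smul, h1, h3, inv_smul_eq_iff, h1]
        · change (g⁻¹ * u * g⁻¹⁻¹) • c = c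
          rw [inv_inv, mul_smul, mul_smul, h2, h4, inv_smul_eq_iff, h2]
      obtain ⟨T, hT, hT'⟩ := exists_sylIn (hP.2.1.map _) hP'1
      have hTe : P' = T := eq_of_le_of_card_ge hT' (by
        rw [hT.card_eq, ← hP.card_eq, card_map_of_injective (MulAut.conj g⁻¹).injective])
      obtain ⟨r, hr, hr'⟩ := hP.conj hT
      refine ⟨g * r, mem_inf.mpr ⟨by change (g * r) • a = a; rw [mul_smul, hr.1, h1], ?_⟩,
        by rw [mul_smul, hr.2, h2]⟩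
      rw [mem_normalizer_iff'']
      intro u
      rw [show (g * r)⁻¹ * u * (g * r) = r⁻¹ * (g⁻¹ * u * g) * r by group, ← hr', ← hTe]
      constructor
      · intro hu
        exact ⟨u, hu, by simp⟩
      · rintro ⟨u', hu', e⟩
        have : u' = u := by simpa using e
        exact this ▸ hu'
  have hoddJ : Odd (F ∩ nonF adj a).card := by
    rw [← horb]
    refine Odd.of_dvd_nat hodd ((Dvd.intro _ (orbF_card N c)).trans ?_)
    rw [R.card_St2_adj h0 hb']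
    exact card_dvd_of_le hN
  have hFe : F = insert a (insert b' (F ∩ nonF adj a)) := by
    ext x
    simp only [Finset.mem_insert, Finset.mem_inter, mem_nonF]
    constructor
    · intro hx
      by_cases e : x = a
      · exact Or.inl e
      · by_cases e' : adj a x
        · exact Or.inr (Or.inl (huniq a haF x hx b' hb'F e' hb'))
        · exact Or.inr (Or.inr ⟨hx, fun h => e h.symm, e'⟩)
    · rintro (rfl | rfl | h)
      · exact haF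
      · exact hb'F
      · exact h.1
  rw [hFe, Finset.card_insert_of_notMem (by simp [mem_nonF, R.ne_of_adj hb']),
    Finset.card_insert_of_notMem (by simp [mem_nonF, hb'])] at hev
  obtain ⟨i, hi⟩ := hev
  obtain ⟨j, hj⟩ := hoddJ
  omega

theorem exists_ZZ (a : X) : ∃ z ∈ R.ZZ a, z ≠ 1 := by
  obtain ⟨b, hb⟩ := R.exists_adj a
  obtain ⟨r, hr, hrd⟩ := Nat.exists_prime_and_dvd (n := Nat.card (St2 G a b))
    (by have := R.two_le_St2 hb; omega)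
  have := Fact.mk hr
  obtain ⟨g, hg⟩ := exists_prime_orderOf_dvd_card' r hrd
  have hg1 : (g : G) ≠ 1 := fun e => by
    rw [← orderOf_coe, e, orderOf_one] at hg
    exact hr.ne_one hg.symm
  let φ := Fpf.res (MulAut.conj (g : G)).toMonoidHom (R.Ker a) (fun x hx => R.Ker_conj' hx g.2.1)
  have hφ : Fpf r φ := by
    constructor
    · intro x
      apply Subtype.ext
      refine (Fpf.res_iter _ _ r x).trans ?_
      have : ∀ i (y : G), (MulAut.conj (g : G)).toMonoidHom^[i] y = (g : G) ^ i * y * ((g : G) ^ i)⁻¹ := by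
        intro i
        induction i with
        | zero => intro y; simp
        | succ i ih => intro y; rw [Function.iterate_succ_apply, ih, pow_succ]; simp [mul_assoc]
      rw [this, ← hg, ← orderOf_coe, pow_orderOf_eq_one]; simp
    · intro x e
      by_contra hx
      have e' : (g : G) * x * (g : G)⁻¹ = x := congrArg Subtype.val e
      exact hg1 ((R.mem_Ker_of_commute g.2.1 x.2 (fun h => hx (Subtype.ext h))
        (mul_inv_eq_iff_eq_mul.mp e')).2 b hb g.2.2)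
  obtain ⟨z, hz1, hz2, hz3⟩ := hφ.exists_central_invol hr (by
    rw [R.card_Ker, R.card_nb a a0]; exact R.even_k h0 hodd)
  exact ⟨z, ⟨z.2, congrArg Subtype.val hz2, fun y hy => congrArg Subtype.val (hz3 ⟨y, hy⟩)⟩,
    fun e => hz1 (Subtype.ext e)⟩

theorem exists_ZZ_move {a c : X} (hc : a ≠ c ∧ ¬ adj a c) : ∃ z ∈ R.ZZ a, z • c ≠ c := by
  by_contra h
  push Not at h
  obtain ⟨z, hz, hz1⟩ := R.exists_ZZ h0 hodd a
  obtain ⟨c', hc'⟩ := Finset.card_pos.mp (R.nb_non_pos' hc)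
  rw [Finset.mem_inter, mem_nbF, mem_nonF] at hc'
  obtain ⟨g, h1, h2⟩ := R.tN hc.1 hc.2 hc'.2.1 hc'.2.2
  have h3 := R.ZZ_conj hz g⁻¹
  rw [inv_smul_eq_iff.mpr h1.symm] at h3
  have h4 := h _ h3
  rw [inv_inv, mul_smul, mul_smul, inv_smul_eq_iff, h2] at h4
  exact R.not_adj_of_Ker hz.1 hz1 (h z hz) h4 hc'.1

omit h0 hodd R [Finite G] [Fintype X] in
/-- the 2-elements of a two-point stabilizer -/
def UU (G : Type*) [Group G] [MulAction G X] (a c : X) : Set G :=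
  {u | u • a = a ∧ u • c = c ∧ ∃ n, u ^ 2 ^ n = 1}

omit h0 hodd [Fintype X] in
theorem fix_UU {a c x : X} (hc : a ≠ c ∧ ¬ adj a c) {z : G} (hz : z ∈ R.ZZ a) (hzc : z • c ≠ c)
    (hx : ∀ u ∈ UU G a c, u • x = x) (hzx : z • x = x) : x = a := by
  by_contra hxa
  have hz1 : z ≠ 1 := fun e => hzc (by rw [e, one_smul])
  obtain ⟨g, h1, h2⟩ := R.tN hc.1 hc.2 (fun e => hxa e.symm) (fun h => hz1 (hz.1.2 x h hzx))
  have h3 : UU G a c ⊆ UU G a x := fun u hu => ⟨hu.1, hx u hu, hu.2.2⟩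
  have h4 : (UU G a x).ncard ≤ (UU G a c).ncard := by
    refine Set.ncard_le_ncard_of_injOn (fun u => g⁻¹ * u * g) (fun u hu => ?_)
      (fun u _ v _ e => by simpa using e)
    obtain ⟨h5, h6, n, h7⟩ := hu
    refine ⟨by rw [mul_smul, mul_smul, h1, h5, inv_smul_eq_iff, h1],
      by rw [mul_smul, mul_smul, h2, h6, inv_smul_eq_iff, h2], n, ?_⟩
    have := conj_pow (a := g⁻¹) (b := u) (i := 2 ^ n)
    rw [inv_inv] at this
    rw [this, h7]; simp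
  have h5 := Set.eq_of_subset_of_ncard_le h3 h4
  have h6 : z ∈ UU G a x := ⟨hz.1.1, hzx, 1, by rw [pow_one, hz.2.1]⟩
  rw [← h5] at h6
  exact hzc h6.2.1

omit [Fintype X] in
theorem exists_refl {a c : X} (hc : a ≠ c ∧ ¬ adj a c) {z z' : G} (hz : z ∈ R.ZZ a) (hzc : z • c ≠ c)
    (hz' : z' ∈ R.ZZ c) (hza : z' • a ≠ a) : ∃ w : G, w • a = c ∧ w • c = a ∧ w * w = 1 ∧
      (∀ u ∈ UU G a c, w * u = u * w) ∧ (w * z' * w⁻¹) • c = z • c := by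
  have hc' : c ≠ a ∧ ¬ adj c a := ⟨hc.1.symm, fun h => hc.2 (R.symm h)⟩
  let Φ : Set X := {x | ∀ u ∈ UU G a c, u • x = x}
  let C := centralizer (UU G a c)
  have hzC : z ∈ C := fun u hu => by
    obtain ⟨n, hn⟩ := hu.2.2
    exact (hz.2.2 u (R.mem_Ker_two h0 hodd hu.1 hn)).symm
  have hzC' : z' ∈ C := fun u hu => by
    obtain ⟨n, hn⟩ := hu.2.2
    exact (hz'.2.2 u (R.mem_Ker_two h0 hodd hu.2.1 hn)).symm
  have hΦ : ∀ g ∈ C, ∀ x ∈ Φ, g • x ∈ Φ := fun g hg x hx u hu => by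
    rw [← mul_smul, hg u hu, mul_smul, hx u hu]
  have ha : a ∈ Φ := fun u hu => hu.1
  have hcΦ : c ∈ Φ := fun u hu => hu.2.1
  have hfa : ∀ x ∈ Φ, z • x = x → x = a := fun x hx e => R.fix_UU hc hz hzc hx e
  have hfc : ∀ x ∈ Φ, z' • x = x → x = c := fun x hx e =>
    R.fix_UU hc' hz' hza (fun u hu => hx u ⟨hu.2.1, hu.1, hu.2.2⟩) e
  have hzz : z * z = 1 := by rw [← pow_two]; exact hz.2.1
  have hzz' : z' * z' = 1 := by rw [← pow_two]; exact hz'.2.1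
  have hzi : z⁻¹ = z := inv_eq_of_mul_eq_one_right hzz
  have hzi' : z'⁻¹ = z' := inv_eq_of_mul_eq_one_right hzz'
  set ρ := z * z' with hρ
  have hρC : ρ ∈ C := mul_mem hzC hzC'
  have i1 : ∀ j : ℕ, z * ρ ^ j = (ρ ^ j)⁻¹ * z := by
    intro j
    have : z * ρ * z⁻¹ = ρ⁻¹ := by rw [hρ, mul_inv_rev, hzi, hzi', ← mul_assoc, hzz, one_mul]
    rw [← inv_pow, ← this, conj_pow]; simp
  have i2 : ∀ j : ℕ, z' * ρ ^ j = (ρ ^ j)⁻¹ * z' := by
    intro j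
    have : z' * ρ * z'⁻¹ = ρ⁻¹ := by
      rw [hρ, mul_inv_rev, hzi, hzi', mul_assoc, mul_assoc, hzz', mul_one]
    rw [← inv_pow, ← this, conj_pow]; simp
  let T := fixingSubgroup G Φ
  have hT : ∀ g, g ∈ T ↔ ∀ x ∈ Φ, g • x = x := fun g => mem_fixingSubgroup_iff G
  have hex : ∃ j, 0 < j ∧ ρ ^ j ∈ T := ⟨orderOf ρ, orderOf_pos ρ, by rw [pow_orderOf_eq_one]; exact one_mem _⟩
  obtain ⟨hn0, hn⟩ := Nat.find_spec hex
  rcases Nat.even_or_odd' (Nat.find hex) with ⟨i, hi | hi⟩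
  · exfalso
    refine Nat.find_min hex (m := i) (by omega) ⟨by omega, ?_⟩
    rw [hi, mul_comm, pow_mul] at hn
    have hinv : ∀ x ∈ Φ, (ρ ^ i)⁻¹ • x = ρ ^ i • x := fun x hx => by
      rw [inv_smul_eq_iff, ← mul_smul, ← pow_two, (hT _).mp hn x hx]
    have h1 : ρ ^ i • a = a := hfa _ (hΦ _ (pow_mem hρC i) a ha) (by
      rw [← mul_smul, i1, mul_smul, hz.1.1, hinv a ha])
    have h2 : ρ ^ i • c = c := hfc _ (hΦ _ (pow_mem hρC i) c hcΦ) (by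
      rw [← mul_smul, i2, mul_smul, hz'.1.1, hinv c hcΦ])
    obtain ⟨s, m, hm, e⟩ := Nat.exists_eq_two_pow_mul_odd (orderOf_pos (ρ ^ i)).ne'
    have h3 : (ρ ^ i) ^ m ∈ T := (hT _).mpr (fun x hx => hx _
      ⟨(stabilizer G a).pow_mem h1 m, (stabilizer G c).pow_mem h2 m, s, by
        rw [← pow_mul, mul_comm, ← e, pow_orderOf_eq_one]⟩)
    obtain ⟨j, rfl⟩ := hm
    have h4 := mul_mem (inv_mem (pow_mem hn j)) h3
    rwa [← pow_mul _ 2 j, pow_succ, inv_mul_cancel_left] at h4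
  · rw [hi] at hn
    have hρc : ρ • c = z • c := by rw [hρ, mul_smul, hz'.1.1]
    have hww : ρ ^ (i + 1) * z' * (ρ ^ (i + 1) * z') = 1 := by
      rw [mul_assoc, ← mul_assoc z', i2, mul_assoc, hzz', mul_one, mul_inv_cancel]
    have h1 : (ρ ^ (i + 1) * z') • c = a := by
      rw [mul_smul, hz'.1.1]
      refine hfa _ (hΦ _ (pow_mem hρC _) c hcΦ) ?_
      rw [← mul_smul, i1, mul_smul, ← hρc, inv_smul_eq_iff, ← mul_smul, ← pow_add,
        show i + 1 + (i + 1) = 1 + (2 * i + 1) by ring, pow_add, mul_smul (ρ ^ 1), (hT _).mp hn c hcΦ,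
        pow_one]
    refine ⟨ρ ^ (i + 1) * z', by rw [← h1, ← mul_smul, hww, one_smul], h1, hww,
      fun u hu => (mul_mem (pow_mem hρC _) hzC' u hu).symm, ?_⟩
    have e : ρ ^ (i + 1) * z' * z' * (ρ ^ (i + 1) * z')⁻¹ = ρ * ρ ^ (2 * i + 1) * z' := by
      rw [inv_eq_of_mul_eq_one_right hww, mul_assoc (ρ ^ (i + 1)), hzz', mul_one, ← mul_assoc, ← pow_add,
        ← pow_succ']
      congr 2; ring
    rw [e, mul_smul, mul_smul, hz'.1.1, (hT _).mp hn c hcΦ, hρc]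

theorem ZZ_of_fix {a c : X} (hc : a ≠ c ∧ ¬ adj a c) {y : G} (hy : y ∈ R.ZZ a) (hyc : y • c = c) :
    y ∈ R.ZZ c := by
  obtain ⟨z, hz, hzc⟩ := R.exists_ZZ_move h0 hodd hc
  obtain ⟨z', hz', hza⟩ := R.exists_ZZ_move h0 hodd (⟨hc.1.symm, fun h => hc.2 (R.symm h)⟩ :
    c ≠ a ∧ ¬ adj c a)
  obtain ⟨w, h1, -, -, h2, -⟩ := R.exists_refl h0 hodd hc hz hzc hz' hza
  have h3 := R.ZZ_conj hy w
  rwa [h1, h2 y ⟨hy.1.1, hyc, 1, by rw [pow_one, hy.2.1]⟩, mul_inv_cancel_right] at h3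

theorem ZZ_smul_eq {a c : X} (hc : a ≠ c ∧ ¬ adj a c) {z1 z2 : G} (h1 : z1 ∈ R.ZZ a) (h2 : z2 ∈ R.ZZ a)
    (h1' : z1 • c ≠ c) (h2' : z2 • c ≠ c) : z1 • c = z2 • c := by
  obtain ⟨z', hz', hza⟩ := R.exists_ZZ_move h0 hodd (⟨hc.1.symm, fun h => hc.2 (R.symm h)⟩ :
    c ≠ a ∧ ¬ adj c a)
  obtain ⟨w, a1, a2, -, -, a5⟩ := R.exists_refl h0 hodd hc h1 h1' hz' hza
  obtain ⟨w', b1, b2, -, -, b5⟩ := R.exists_refl h0 hodd hc h2 h2' hz' hza
  have h3 : w * w'⁻¹ ∈ St2 G a c := ⟨by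
    change (w * w'⁻¹) • a = a
    rw [mul_smul, inv_smul_eq_iff.mpr b2.symm, a2], by
    change (w * w'⁻¹) • c = c
    rw [mul_smul, inv_smul_eq_iff.mpr b1.symm, a1]⟩
  have h4 := R.ZZ_conj hz' w'
  rw [b2] at h4
  have h5 := h4.2.2 _ (R.St2_le_Ker h0 hodd hc h3)
  rw [← a5, ← b5]
  congr 1
  calc w * z' * w⁻¹ = (w * w'⁻¹ * (w' * z' * w'⁻¹)) * (w * w'⁻¹)⁻¹ := by group
    _ = w' * z' * w'⁻¹ := by rw [← h5]; group

theorem ZZ_iff {a c : X} (hc : a ≠ c ∧ ¬ adj a c) {z1 z2 : G} (h1 : z1 ∈ R.ZZ a) (h2 : z2 ∈ R.ZZ a)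
    (h : z1 • c = c ↔ z2 • c = c) : (z1⁻¹ * z2) • c = c := by
  rw [mul_smul, inv_smul_eq_iff]
  by_cases h3 : z1 • c = c
  · rw [h3, h.mp h3]
  · exact (R.ZZ_smul_eq h0 hodd hc h1 h2 h3 (fun e => h3 (h.mpr e))).symm

theorem ZZ_ext {a c c' : X} (hc : a ≠ c ∧ ¬ adj a c) (hc' : a ≠ c' ∧ ¬ adj a c') (hcc : adj c c')
    {z1 z2 : G} (h1 : z1 ∈ R.ZZ a) (h2 : z2 ∈ R.ZZ a) (h : z1 • c = c ↔ z2 • c = c)
    (h' : z1 • c' = c' ↔ z2 • c' = c') : z1 = z2 := by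
  by_contra h3
  exact R.not_adj_of_Ker (mul_mem (inv_mem h1) h2).1 (fun e => h3 (inv_mul_eq_one.mp e))
    (R.ZZ_iff h0 hodd hc h1 h2 h) (R.ZZ_iff h0 hodd hc' h1 h2 h') hcc

theorem ZZ_uniq {a c : X} (hc : a ≠ c ∧ ¬ adj a c) {z1 z2 : G} (h1 : z1 ∈ R.ZZ a) (h2 : z2 ∈ R.ZZ a)
    (h1' : z1 ≠ 1) (h2' : z2 ≠ 1) (e1 : z1 • c = c) (e2 : z2 • c = c) : z1 = z2 := by
  obtain ⟨c', hc'⟩ := Finset.card_pos.mp (R.nb_non_pos' hc)
  rw [Finset.mem_inter, mem_nbF, mem_nonF] at hc'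
  exact R.ZZ_ext h0 hodd hc hc'.2 hc'.1 h1 h2 (iff_of_true e1 e2) (iff_of_false
    (fun e => R.not_adj_of_Ker h1.1 h1' e1 e hc'.1) (fun e => R.not_adj_of_Ker h2.1 h2' e2 e hc'.1))

omit [Fintype X] in
theorem exists_elt {a b : X} (h : adj a b) : ∃ g ∈ St2 G a b, ∀ y ∈ R.Ker a, y ≠ 1 →
    g * y * g⁻¹ ≠ y ∧ g * (g * y * g⁻¹) * g⁻¹ ≠ y := by
  obtain ⟨⟨g, hg⟩, hg1⟩ := (ne_bot_iff_exists_ne_one).mp
    ((one_lt_card_iff_ne_bot _).mp (R.two_le_St2 h))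
  have hg1' : g ≠ 1 := fun e => hg1 (Subtype.ext e)
  refine ⟨g, hg, fun y hy hy1 => ⟨fun e => hg1' ((R.mem_Ker_of_commute hg.1 hy hy1
    (mul_inv_eq_iff_eq_mul.mp e)).2 b h hg.2), fun e => hg1' ?_⟩⟩
  have h1 := mul_mem hg hg
  have h2 := (R.mem_Ker_of_commute h1.1 hy hy1 (by
    rw [← mul_inv_eq_iff_eq_mul]
    conv_rhs => rw [← e]
    group)).2 b h h1.2
  refine eq_one_of_coprime (Nat.coprime_two_right.mpr hodd) ?_ (by rw [pow_two, h2])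
  rw [R.card_St2_adj h0 h]
  exact pow_card_of_mem hg

theorem exists_ZZ_fix {a c : X} (hc : a ≠ c ∧ ¬ adj a c) : ∃ y ∈ R.ZZ a, y ≠ 1 ∧ y • c = c := by
  obtain ⟨z, hz, hz1⟩ := R.exists_ZZ h0 hodd a
  obtain ⟨b, hb⟩ := R.exists_adj a
  obtain ⟨g, hg, hg'⟩ := R.exists_elt h0 hodd hb
  have h1 := R.ZZ_conj hz g
  rw [hg.1] at h1
  by_cases h2 : z • c = c
  · exact ⟨z, hz, hz1, h2⟩
  by_cases h3 : (g * z * g⁻¹) • c = c
  · exact ⟨_, h1, by simpa using hz1, h3⟩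
  exact ⟨_, mul_mem (inv_mem hz) h1, fun e => (hg' z hz.1 hz1).1 (inv_mul_eq_one.mp e).symm,
    R.ZZ_iff h0 hodd hc hz h1 (iff_of_false h2 h3)⟩

theorem odd_false : False := by
  obtain ⟨a, c, x, h1, h2, h3, h4, hcx⟩ := R.coconn
  let S := nonF adj c ∩ nonF adj x
  have hS : ∀ y, y ∈ S ↔ (c ≠ y ∧ ¬ adj c y) ∧ (x ≠ y ∧ ¬ adj x y) := fun y => by
    simp only [S, Finset.mem_inter, mem_nonF]
  have sy : ∀ {u v : X}, u ≠ v ∧ ¬ adj u v → v ≠ u ∧ ¬ adj v u :=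
    fun h => ⟨h.1.symm, fun e => h.2 (R.symm e)⟩
  have haS : a ∈ S := (hS a).mpr ⟨sy ⟨h1, h2⟩, sy ⟨h3, h4⟩⟩
  obtain ⟨t, ht, htc, htx⟩ := R.exists_swap h0 hodd hcx
  have hev : Even S.card := by
    refine even_card_of_invol S (fun y => t • y) (fun y hy => ?_)
      (fun y _ => by rw [← mul_smul, ht, one_smul]) (fun y hy e => ?_)
    · rw [hS] at hy ⊢
      refine ⟨⟨fun e => hy.2.1 (smul_left_cancel t (htx.trans e)), fun e => hy.2.2 ?_⟩,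
        fun e => hy.1.1 (smul_left_cancel t (htc.trans e)), fun e => hy.1.2 ?_⟩
      · rwa [← htx, R.inv_iff] at e
      · rwa [← htc, R.inv_iff] at e
    · obtain ⟨u, hu, hu1, huc⟩ := R.exists_ZZ_fix h0 hodd (sy ((hS y).mp hy).1)
      have h5 := hu.2.2 t (R.mem_Ker_two h0 hodd e (n := 1) (by rw [pow_one, pow_two, ht]))
      exact R.not_adj_of_Ker hu.1 hu1 huc (by rw [← htc, ← mul_smul, h5, mul_smul, huc]) hcx
  obtain ⟨y1, hy1, hy1', hy1a⟩ := R.exists_ZZ_fix h0 hodd (sy ⟨h1, h2⟩)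
  obtain ⟨g, hg, hg'⟩ := R.exists_elt h0 hodd hcx
  have hZg : ∀ y ∈ R.ZZ c, g * y * g⁻¹ ∈ R.ZZ c := fun y hy => by
    have := R.ZZ_conj hy g
    rwa [hg.1] at this
  set y2 := g * y1 * g⁻¹ with hy2e
  set y3 := g * y2 * g⁻¹ with hy3e
  have hy2 := hZg y1 hy1
  have hy3 := hZg y2 hy2
  have hy2' : y2 ≠ 1 := by simpa [hy2e] using hy1'
  have hy3' : y3 ≠ 1 := by simpa [hy3e] using hy2'
  have n12 : y2 ≠ y1 := (hg' y1 hy1.1 hy1').1
  have n13 : y3 ≠ y1 := (hg' y1 hy1.1 hy1').2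
  have n23 : y3 ≠ y2 := (hg' y2 hy2.1 hy2').1
  have hall : ∀ y ∈ R.ZZ c, y ≠ 1 → y = y1 ∨ y = y2 ∨ y = y3 := by
    intro y hy hy'
    obtain ⟨c', hc'⟩ := Finset.card_pos.mp (R.nb_non_pos' (sy ⟨h1, h2⟩))
    rw [Finset.mem_inter, mem_nbF, mem_nonF] at hc'
    have e := fun {z1 z2 : G} => R.ZZ_ext h0 hodd (sy ⟨h1, h2⟩) hc'.2 hc'.1 (z1 := z1) (z2 := z2)
    have f : ∀ z ∈ R.ZZ c, z ≠ 1 → ¬ (z • a = a ∧ z • c' = c') :=
      fun z hz hz' h => R.not_adj_of_Ker hz.1 hz' h.1 h.2 hc'.1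
    by_contra hcon
    push Not at hcon
    have e1 := mt (fun h : _ ∧ _ => e hy hy1 h.1 h.2) hcon.1
    have e2 := mt (fun h : _ ∧ _ => e hy hy2 h.1 h.2) hcon.2.1
    have e3 := mt (fun h : _ ∧ _ => e hy hy3 h.1 h.2) hcon.2.2
    have e4 := mt (fun h : _ ∧ _ => e hy2 hy1 h.1 h.2) n12
    have e5 := mt (fun h : _ ∧ _ => e hy3 hy1 h.1 h.2) n13
    have e6 := mt (fun h : _ ∧ _ => e hy3 hy2 h.1 h.2) n23
    have f0 := f _ hy hy'
    have f1 := f _ hy1 hy1'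
    have f2 := f _ hy2 hy2'
    have f3 := f _ hy3 hy3'
    exact four_types e1 e2 e3 e4 e5 e6 f0 f1 f2 f3
  let Sy : G → Finset X := fun y => S.filter (fun u => y • u = u)
  have hSg : ∀ y, (Sy y).card = (Sy (g * y * g⁻¹)).card := by
    intro y
    refine card_eq_of_smul g (fun u => ?_)
    simp only [Sy, Finset.mem_filter, hS]
    rw [mul_smul, mul_smul, inv_smul_smul, smul_left_cancel_iff]
    have e1 : g • c = c := hg.1
    have e2 : g • x = x := hg.2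
    conv_rhs => rw [← e1, ← e2, R.inv_iff, R.inv_iff, ne_eq, ne_eq, smul_left_cancel_iff, smul_left_cancel_iff]
  have hdisj : ∀ y ∈ R.ZZ c, ∀ y' ∈ R.ZZ c, y ≠ 1 → y' ≠ 1 → y ≠ y' → Disjoint (Sy y) (Sy y') := by
    intro y hy y' hy' h5 h6 h7
    rw [Finset.disjoint_left]
    intro u hu hu'
    rw [Finset.mem_filter] at hu hu'
    exact h7 (R.ZZ_uniq h0 hodd ((hS u).mp hu.1).1 hy hy' h5 h6 hu.2 hu'.2)
  have hSe : S = Sy y1 ∪ Sy y2 ∪ Sy y3 := by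
    ext u
    simp only [Sy, Finset.mem_union, Finset.mem_filter]
    constructor
    · intro hu
      obtain ⟨y, hy, hy', hyu⟩ := R.exists_ZZ_fix h0 hodd ((hS u).mp hu).1
      rcases hall y hy hy' with rfl | rfl | rfl
      · exact Or.inl (Or.inl ⟨hu, hyu⟩)
      · exact Or.inl (Or.inr ⟨hu, hyu⟩)
      · exact Or.inr ⟨hu, hyu⟩
    · rintro ((h | h) | h) <;> exact h.1
  rw [hSe, Finset.card_union_of_disjoint (Finset.disjoint_union_left.mpr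
    ⟨hdisj _ hy1 _ hy3 hy1' hy3' n13.symm, hdisj _ hy2 _ hy3 hy2' hy3' n23.symm⟩),
    Finset.card_union_of_disjoint (hdisj _ hy1 _ hy2 hy1' hy2' n12.symm), ← hSg y2, ← hSg y1] at hev
  obtain ⟨u, hu, hu1, hux⟩ := R.exists_ZZ_fix h0 hodd ⟨h3, h4⟩
  have hy1Z := R.ZZ_of_fix h0 hodd (sy ⟨h1, h2⟩) hy1 hy1a
  have hcomm : u * y1 = y1 * u := hu.2.2 y1 hy1Z.1
  obtain ⟨n, hn⟩ := even_card_sub_fixed (Sy y1) (fun v => u • v) (fun v hv => by
    simp only [Sy, Finset.mem_filter, hS] at hv ⊢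
    have h5 : y1 • u • v = u • v := by rw [← mul_smul, ← hcomm, mul_smul, hv.2]
    have h6 := R.non_smul hux hv.1.2
    exact ⟨⟨⟨fun e => h6.2 (e ▸ R.symm hcx), R.not_adj_of_Ker hy1.1 hy1' hy1.1.1 h5⟩, h6⟩, h5⟩)
    (fun v _ => by rw [← mul_smul, ← pow_two, hu.2.1, one_smul])
  have h7 : (Sy y1).filter (fun v => u • v = v) = {a} := by
    refine Finset.eq_singleton_iff_unique_mem.mpr ⟨Finset.mem_filter.mpr
      ⟨Finset.mem_filter.mpr ⟨haS, hy1a⟩, hu.1.1⟩, fun v hv => ?_⟩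
    by_contra hva
    simp only [Sy, Finset.mem_filter] at hv
    have h8 := R.ZZ_uniq h0 hodd ⟨fun e => hva e.symm,
      R.not_adj_of_Ker hy1.1 hy1' hy1a hv.1.2⟩ hu hy1Z hu1 hy1' hv.2 hv.1.2
    exact R.not_adj_of_Ker hy1.1 hy1' hy1.1.1 (h8 ▸ hux) hcx
  rw [h7, Finset.card_singleton] at hn
  obtain ⟨m, hm⟩ := hev
  omega

end Odd

end R3

end Cfsg.Agent.H2
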