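import Cfsg.Agent.H7.TT0
import Cfsg.Agent.H2.R3b

/-! Rank three actions: permutation characters and eigenvalues of class sums. -/

set_option autoImplicit false
set_option linter.unusedSectionVars false

namespace Cfsg.Agent.H2.PL

open MulAction Finset Cfsg.Agent.H1 Cfsg.Agent.H4
open scoped Classical ComplexConjugate

section
variable {G X Y : Type*} [Group G] [MulAction G X] [MulAction G Y]

theorem card_orbits_eq {T : Type*} (f : Y → T) (hs : Function.Surjective f)
    (h : ∀ a b, f a = f b ↔ ∃ g : G, g • a = b) : Nat.card (orbitRel.Quotient G Y) = Nat.card T := by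
  refine Nat.card_congr (Equiv.ofBijective (Quotient.lift f fun a b hab => ?_) ⟨fun a b => ?_, fun t => ?_⟩)
  · obtain ⟨g, hg⟩ := hab
    exact ((h b a).2 ⟨g, hg⟩).symm
  · induction a using Quotient.inductionOn with | _ a =>
    induction b using Quotient.inductionOn with | _ b =>
    intro e
    obtain ⟨g, hg⟩ := (h b a).1 e.symm
    exact Quotient.sound ⟨g, hg⟩
  · obtain ⟨a, rfl⟩ := hs t
    exact ⟨Quotient.mk _ a, rfl⟩

/-- the number of orbits of a point stabilizer -/
noncomputable def ro (G : Type*) {X : Type*} [Group G] [MulAction G X] (x : X) (Y : Type*) [MulAction G Y] : ℕ :=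
  Nat.card (orbitRel.Quotient (stabilizer G x) Y)

theorem mk_eq_iff {x : X} {a b : Y} : (Quotient.mk _ a : orbitRel.Quotient (stabilizer G x) Y) = Quotient.mk _ b ↔
    ∃ h : G, h • x = x ∧ h • a = b := by
  rw [eq_comm, Quotient.eq]
  exact ⟨fun ⟨h, e⟩ => ⟨h, h.2, e⟩, fun ⟨h, h1, e⟩ => ⟨⟨h, h1⟩, e⟩⟩

theorem le_ro [Finite Y] (x : X) {m : ℕ} (f : Fin m → Y) (h : ∀ i j, (∃ h : G, h • x = x ∧ h • f i = f j) → i = j) :
    m ≤ ro G x Y := by
  have := Nat.card_le_card_of_injective (β := orbitRel.Quotient (stabilizer G x) Y)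
    (fun i => Quotient.mk _ (f i)) fun i j e => h i j (mk_eq_iff.1 e)
  simpa [ro] using this

theorem ro_pos [Finite Y] [Nonempty Y] (x : X) : 1 ≤ ro G x Y :=
  le_ro x (fun _ => Classical.arbitrary Y) fun i j _ => Subsingleton.elim i j

theorem ro_le [Finite Y] (x : X) {m : ℕ} (f : Fin m → Y) (h : ∀ y, ∃ i, ∃ h : G, h • x = x ∧ h • f i = y) :
    ro G x Y ≤ m := by
  have := Nat.card_le_card_of_surjective (β := orbitRel.Quotient (stabilizer G x) Y)
    (fun i => Quotient.mk _ (f i)) fun y => by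
      induction y using Quotient.inductionOn with | _ y =>
      obtain ⟨i, hi⟩ := h y
      exact ⟨i, mk_eq_iff.2 hi⟩
  simpa [ro] using this

theorem tr_of_ro [Finite Y] {x : X} (h : ro G x Y ≤ 1) (a b : Y) : ∃ h : G, h • x = x ∧ h • a = b := by
  by_contra hc
  have := le_ro (G := G) x ![a, b] fun i j ⟨k, h1, h2⟩ => by
    fin_cases i <;> fin_cases j
    · rfl
    · exact absurd ⟨k, h1, h2⟩ hc
    · exact absurd ⟨k⁻¹, inv_smul_eq_iff.2 h1.symm, inv_smul_eq_iff.2 h2.symm⟩ hc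
    · rfl
  omega

/-- same orbit under the stabilizer -/
def Sm (G : Type*) {X Y : Type*} [Group G] [MulAction G X] [MulAction G Y] (x : X) (a b : Y) : Prop :=
  ∃ h : G, h • x = x ∧ h • a = b

theorem Sm.refl (x : X) (a : Y) : Sm G x a a := ⟨1, one_smul _ _, one_smul _ _⟩

theorem Sm.symm {x : X} {a b : Y} (h : Sm G x a b) : Sm G x b a := by
  obtain ⟨k, h1, h2⟩ := h
  exact ⟨k⁻¹, inv_smul_eq_iff.2 h1.symm, inv_smul_eq_iff.2 h2.symm⟩

theorem Sm.trans {x : X} {a b c : Y} (h : Sm G x a b) (h' : Sm G x b c) : Sm G x a c := by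
  obtain ⟨k, h1, h2⟩ := h
  obtain ⟨l, h3, h4⟩ := h'
  exact ⟨l * k, by rw [mul_smul, h1, h3], by rw [mul_smul, h2, h4]⟩

theorem three_of_ro [Finite Y] {x : X} (h : ro G x Y ≤ 2) (a b c : Y) : Sm G x a b ∨ Sm G x a c ∨ Sm G x b c := by
  by_contra hc
  push Not at hc
  have := le_ro (G := G) x ![a, b, c] fun i j (e : Sm G x _ _) => by
    have e' := e.symm
    fin_cases i <;> fin_cases j <;> simp_all
  omega

theorem four_of_ro [Finite Y] {x : X} (h : ro G x Y ≤ 3) (a b c d : Y) :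
    Sm G x a b ∨ Sm G x a c ∨ Sm G x a d ∨ Sm G x b c ∨ Sm G x b d ∨ Sm G x c d := by
  by_contra hc
  push Not at hc
  have := le_ro (G := G) x ![a, b, c, d] fun i j (e : Sm G x _ _) => by
    have e' := e.symm
    fin_cases i <;> fin_cases j <;> simp_all
  omega

theorem inner_ro [Fintype G] [Finite X] [Finite Y] (x : X) (tr : ∀ y, ∃ g : G, g • x = y) :
    classInner (pch G X) (pch G Y) = ro G x Y := by
  rw [H7.inner_pch]
  congr 1
  choose s hs using tr
  refine card_orbits_eq (fun p => Quotient.mk _ ((s p.1)⁻¹ • p.2)) (fun y => ?_) fun a b => ?_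
  · induction y using Quotient.inductionOn with | _ y =>
    exact ⟨(x, s x • y), by simp⟩
  · rw [mk_eq_iff]
    constructor
    · rintro ⟨h, h1, h2⟩
      refine ⟨s b.1 * h * (s a.1)⁻¹, Prod.ext ?_ ?_⟩
      · rw [Prod.smul_fst, mul_smul, mul_smul, inv_smul_eq_iff.2 (hs a.1).symm, h1, hs]
      · rw [Prod.smul_snd, mul_smul, mul_smul, h2, smul_inv_smul]
    · rintro ⟨g, rfl⟩
      refine ⟨(s (g • a).1)⁻¹ * g * s a.1, ?_, by simp [mul_smul]⟩
      rw [mul_smul, mul_smul, hs, inv_smul_eq_iff, hs]; rfl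

/-- primitive actions of rank three -/
structure RK (G : Type*) {X : Type*} [Group G] [MulAction G X] (x : X) : Prop where
  tr : ∀ y, ∃ g : G, g • x = y
  max : ∀ K : Subgroup G, stabilizer G x ≤ K → K = stabilizer G x ∨ K = ⊤
  rk : ro G x X = 3

theorem Sm.eq_of_self {x y : X} (h : Sm G x x y) : y = x := by
  obtain ⟨k, h1, h2⟩ := h
  exact h2.symm.trans h1

variable {x : X} (R : RK G x)
include R

theorem RK.smul (g : G) : RK G (g • x) := by
  refine ⟨fun y => ?_, fun K hK => ?_, ?_⟩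
  · obtain ⟨k, rfl⟩ := R.tr y
    exact ⟨k * g⁻¹, by simp [mul_smul]⟩
  · rcases R.max (K.comap (MulAut.conj g).toMonoidHom) (fun k hk => hK (by
      change (g * k * g⁻¹) • g • x = g • x
      rw [mul_smul, inv_smul_smul, mul_smul, hk])) with h | h
    · refine .inl (le_antisymm (fun k hk => ?_) hK)
      have : g⁻¹ * k * g ∈ stabilizer G x := by rw [← h]; simpa [mul_assoc] using hk
      rw [mem_stabilizer_iff, mul_smul, mul_smul, inv_smul_eq_iff] at this
      exact this
    · refine .inr (eq_top_iff.2 fun k _ => ?_)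
      have : g⁻¹ * k * g ∈ K.comap (MulAut.conj g).toMonoidHom := by rw [h]; trivial
      simpa [mul_assoc] using this
  · rw [← R.rk]
    refine card_orbits_eq (fun y => Quotient.mk _ (g⁻¹ • y)) (fun y => ?_) fun a b => ?_
    · induction y using Quotient.inductionOn with | _ y =>
      exact ⟨g • y, by simp⟩
    · rw [mk_eq_iff]
      constructor
      · rintro ⟨h, h1, h2⟩
        refine ⟨⟨g * h * g⁻¹, ?_⟩, ?_⟩
        · rw [mem_stabilizer_iff, mul_smul, inv_smul_smul, mul_smul, h1]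
        · change (g * h * g⁻¹) • a = b
          rw [mul_smul, mul_smul, h2, smul_inv_smul]
      · rintro ⟨⟨h, h1⟩, rfl⟩
        refine ⟨g⁻¹ * h * g, ?_, by simp [mul_smul]⟩
        rw [mul_smul, mul_smul, h1, inv_smul_smul]

variable [Finite X]

theorem RK.exists_two : ∃ y z : X, y ≠ x ∧ z ≠ x ∧ ¬ Sm G x y z ∧ ∀ w, w = x ∨ Sm G x y w ∨ Sm G x z w := by
  have h1 : ∃ y, y ≠ x := by
    by_contra h
    push Not at h
    have := ro_le (G := G) x ![x] fun y => ⟨0, 1, one_smul _ _, by simp [h y]⟩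
    have := R.rk
    omega
  obtain ⟨y, hy⟩ := h1
  have h2 : ∃ z, z ≠ x ∧ ¬ Sm G x y z := by
    by_contra h
    push Not at h
    have := ro_le (G := G) x ![x, y] fun w => by
      by_cases e : w = x
      · exact ⟨0, 1, one_smul _ _, by simp [e]⟩
      · exact ⟨1, h w e⟩
    have := R.rk
    omega
  obtain ⟨z, hz, h3⟩ := h2
  refine ⟨y, z, hy, hz, h3, fun w => ?_⟩
  rcases four_of_ro R.rk.le x y z w with h | h | h | h | h | h
  exacts [absurd h.eq_of_self hy, absurd h.eq_of_self hz, .inl h.eq_of_self, absurd h h3, .inr (.inl h), .inr (.inr h)]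

theorem RK.three {a b c : X} (ha : a ≠ x) (hb : b ≠ x) (hc : c ≠ x) : Sm G x a b ∨ Sm G x a c ∨ Sm G x b c := by
  rcases four_of_ro R.rk.le x a b c with h | h | h | h
  exacts [absurd h.eq_of_self ha, absurd h.eq_of_self hb, absurd h.eq_of_self hc, h]

theorem RK.not_two (h : ∀ g g' : G, g • x ≠ x → g' • x ≠ x → Sm G x (g • x) (g' • x)) : False := by
  obtain ⟨y, z, h1, h2, h3, -⟩ := R.exists_two
  obtain ⟨g, rfl⟩ := R.tr y
  obtain ⟨g', rfl⟩ := R.tr z
  exact h3 (h g g' h1 h2)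

theorem RK.ne_top (h : ∀ g : G, g • x = x) : False := R.not_two fun g _ h1 => absurd (h g) h1

variable [Fintype G]

theorem RK.decomp : ∃ χ ψ, IsIrrCharacter G χ ∧ IsIrrCharacter G ψ ∧ χ ≠ ψ ∧ χ ≠ (fun _ => 1) ∧ ψ ≠ (fun _ => 1) ∧
    pch G X = (fun _ => 1) + χ + ψ := by
  have : IsPretransitive G X := ⟨fun a b => by
    obtain ⟨g, rfl⟩ := R.tr a
    obtain ⟨k, rfl⟩ := R.tr b
    exact ⟨k * g⁻¹, by simp [mul_smul]⟩⟩
  have : Nonempty X := ⟨x⟩
  have hπ : IsCharacter G (pch G X) := isCharacter_fixedBy X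
  have h1 : classInner (pch G X) (fun _ => 1) = 1 := by rw [inner_pch_one, card_orbits_one]; simp
  have h1' : classInner (fun _ => 1) (pch G X) = 1 := by rw [IsCharacter.classInner_comm isCharacter_one hπ, h1]
  have h0 := IsIrrCharacter.classInner_self (isIrrCharacter_one (G := G))
  obtain ⟨χ, ψ, h2, h3, h4, h5⟩ := IsCharacter.exists_of_norm_two
    (IsCharacter.sub_irr hπ isIrrCharacter_one (by rw [h1]; simp)) (by
      rw [classInner_sub_left, classInner_sub_right, classInner_sub_right, inner_ro x R.tr, R.rk, h1, h1', h0]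
      norm_num)
  have h6 : classInner (χ + ψ) (fun _ => 1) = 0 := by rw [← h5, classInner_sub_left, h1, h0, sub_self]
  rw [classInner_add_left, IsIrrCharacter.classInner_eq h2 isIrrCharacter_one,
    IsIrrCharacter.classInner_eq h3 isIrrCharacter_one] at h6
  refine ⟨χ, ψ, h2, h3, h4, fun e => ?_, fun e => ?_, by rw [add_assoc, ← h5]; abel⟩
  · rw [if_pos e] at h6; split_ifs at h6 <;> norm_num at h6
  · rw [if_pos e] at h6; split_ifs at h6 <;> norm_num at h6

theorem RK.inner_cases {θ : G → ℂ} (hθ : IsIrrCharacter G θ) (h1 : θ ≠ fun _ => 1) :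
    classInner (pch G X) θ = 0 ∨ classInner (pch G X) θ = 1 ∧
      ∃ ψ, IsIrrCharacter G ψ ∧ pch G X = (fun _ => 1) + θ + ψ := by
  obtain ⟨χ, ψ, h2, h3, h4, h5, h6, e⟩ := R.decomp
  rw [e, classInner_add_left, classInner_add_left, IsIrrCharacter.classInner_of_ne isIrrCharacter_one hθ h1.symm,
    IsIrrCharacter.classInner_eq h2 hθ, IsIrrCharacter.classInner_eq h3 hθ]
  by_cases a : χ = θ
  · subst a
    exact .inr ⟨by simp [h4.symm], ψ, h3, rfl⟩
  by_cases b : ψ = θ
  · subst b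
    exact .inr ⟨by simp [h4], χ, h2, by abel⟩
  simp [a, b]

theorem RK.eq_of_two {θ η : G → ℂ} (hθ : IsIrrCharacter G θ) (h1 : θ ≠ fun _ => 1) (hη : IsIrrCharacter G η)
    (h2 : η ≠ fun _ => 1) (h3 : θ ≠ η) (h4 : classInner (pch G X) θ ≠ 0) (h5 : classInner (pch G X) η ≠ 0) :
    pch G X = (fun _ => 1) + θ + η := by
  obtain ⟨-, ψ, h6, e⟩ := (R.inner_cases hθ h1).resolve_left h4
  rw [e, classInner_add_left, classInner_add_left, IsIrrCharacter.classInner_of_ne isIrrCharacter_one hη h2.symm,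
    IsIrrCharacter.classInner_of_ne hθ hη h3, zero_add, zero_add] at h5
  rw [e, IsIrrCharacter.eq_of_classInner_ne_zero h6 hη h5]

end

section
variable {G : Type*} [Group G] [Fintype G] {D : Finset G}

/-- central character of a class sum -/
noncomputable def omD (D : Finset G) (χ : G → ℂ) : ℂ := (∑ t ∈ D, χ t) / χ 1

theorem sum_omD (hD : ∀ g, ∀ t ∈ D, g * t * g⁻¹ ∈ D) {χ : G → ℂ} (hχ : IsIrrCharacter G χ) (g : G) :
    ∑ t ∈ D, χ (t * g) = omD D χ * χ g := by
  have := IsIrrCharacter.sum_mul_mul hχ (f := fun t => if t ∈ D then 1 else 0) (fun t k => if_congr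
    ⟨fun h => by simpa [mul_assoc] using hD k⁻¹ _ h, hD k t⟩ rfl rfl) g
  simpa [omD, ite_mul, sum_ite_mem] using this

theorem isIntegral_omD (hD : ∀ g, ∀ t ∈ D, g * t * g⁻¹ ∈ D) {χ : G → ℂ} (hχ : IsIrrCharacter G χ) :
    IsIntegral ℤ (omD D χ) := by
  refine isIntegral_of_smul_mem_submodule (Submodule.span ℤ (Set.range χ)) ?_
    (Submodule.fg_span (Set.finite_range χ)) _ ?_
  · intro h
    exact IsIrrCharacter.one_ne_zero hχ ((Submodule.span_eq_bot.1 h) _ ⟨1, rfl⟩)
  · intro a ha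
    induction ha using Submodule.span_induction with
    | mem a h =>
      obtain ⟨g, rfl⟩ := h
      rw [smul_eq_mul, ← sum_omD hD hχ]
      exact Submodule.sum_mem _ fun t _ => Submodule.subset_span ⟨_, rfl⟩
    | zero => simp
    | add a b _ _ h1 h2 => rw [smul_add]; exact add_mem h1 h2
    | smul c a _ h => rw [smul_comm]; exact Submodule.smul_mem _ _ h

theorem sum_hom {A : Type*} [Group A] [Fintype A] (φ : A →* G) {χ : G → ℂ} (hχ : IsCharacter G χ) :
    ∃ m : ℕ, ∑ a, χ (φ a) = Fintype.card A * m := by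
  obtain ⟨m, hm⟩ := IsCharacter.classInner_nat (IsCharacter.comp hχ φ) isCharacter_one
  refine ⟨m, ?_⟩
  rw [← hm, classInner, Nat.card_eq_fintype_card, mul_inv_cancel_left₀ (by exact_mod_cast Fintype.card_ne_zero)]
  simp

variable {X : Type*} [MulAction G X] [Fintype X]

theorem pch_eq (g : G) : pch G X g = ∑ y : X, if g • y = y then 1 else 0 := by
  rw [pch, sum_boole, Nat.card_eq_fintype_card, Fintype.card_subtype]
  simp

theorem eigen (hD : ∀ g, ∀ t ∈ D, g * t * g⁻¹ ∈ D) {χ ψ : G → ℂ} (hχ : IsIrrCharacter G χ)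
    (hψ : IsIrrCharacter G ψ) (e : pch G X = (fun _ => 1) + χ + ψ) (u : X → ℂ) (ω : ℂ)
    (hu : ∀ y, ∑ t ∈ D, u (t • y) = ω * u y) {y : X} (hy : u y ≠ 0) :
    ω = D.card ∨ ω = omD D χ ∨ ω = omD D ψ := by
  let T : Module.End ℂ (G → ℂ) :=
    { toFun := fun w h => ∑ t ∈ D, w (t * h)
      map_add' := fun a b => by ext; simp [sum_add_distrib]
      map_smul' := fun a b => by ext; simp [mul_sum] }
  let P : Module.End ℂ (G → ℂ) := (T - (D.card : ℂ) • 1) * (T - omD D χ • 1) * (T - omD D ψ • 1)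
  have hP : ∀ (w : G → ℂ) (a : ℂ), (∀ h, ∑ t ∈ D, w (t * h) = a * w h) →
      P w = ((a - D.card) * (a - omD D χ) * (a - omD D ψ)) • w := fun w a h => by
    have h1 : T w = a • w := funext h
    have h2 : ∀ c : ℂ, (T - c • 1) w = (a - c) • w := fun c => by
      rw [LinearMap.sub_apply, h1, sub_smul]; rfl
    simp only [P, Module.End.mul_apply, h2, map_smul, smul_smul]
    congr 1; ring
  let c : G → ℂ := fun h => P (Pi.single h 1) 1
  have hc : ∀ w, P w 1 = ∑ h, c h * w h := fun w => by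
    conv_lhs => rw [← univ_sum_single w]
    rw [map_sum, Finset.sum_apply]
    refine sum_congr rfl fun h _ => ?_
    rw [show Pi.single h (w h) = w h • (Pi.single h 1 : G → ℂ) by rw [← Pi.single_smul]; simp, map_smul]
    simp [c, mul_comm]
  let M : X → X → ℂ := fun a b => ∑ h, if h • b = a then c h else 0
  have h1 : ∀ g : G, ∑ b, M (g • b) b = 0 := fun g => by
    have a1 : P (fun h => pch G X (h * g⁻¹)) = 0 := by
      have : (fun h => pch G X (h * g⁻¹)) = (fun _ => 1) + (fun h => χ (h * g⁻¹)) + fun h => ψ (h * g⁻¹) := by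
        rw [e]; rfl
      rw [this, map_add, map_add, hP _ D.card (by simp), hP _ (omD D χ) (fun h => by
        simp only [mul_assoc, sum_omD hD hχ]), hP _ (omD D ψ) (fun h => by simp only [mul_assoc, sum_omD hD hψ])]
      simp
    have a2 := hc (fun h => pch G X (h * g⁻¹))
    rw [a1, Pi.zero_apply] at a2
    rw [a2, sum_comm]
    refine sum_congr rfl fun h _ => ?_
    rw [pch_eq, mul_sum, ← Equiv.sum_comp (toPerm g) (fun y => c h * if (h * g⁻¹) • y = y then 1 else 0)]
    simp [mul_smul]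
  have h2 : ∑ b, ∑ a, M a b * conj (M a b) = 0 := by
    have : ∀ b, ∑ a, M a b * conj (M a b) = ∑ h, conj (c h) * M (h • b) b := fun b => by
      have a1 : ∀ a, M a b * conj (M a b) = ∑ h, M a b * conj (if h • b = a then c h else 0) := fun a => by
        rw [← mul_sum, ← map_sum]
      simp only [a1]
      rw [sum_comm]
      refine sum_congr rfl fun h _ => ?_
      rw [sum_eq_single (h • b) (fun a _ ha => by rw [if_neg ha.symm]; simp) (by simp), if_pos rfl, mul_comm]
    simp only [this]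
    rw [sum_comm]
    simp only [← mul_sum, h1, mul_zero, sum_const_zero]
  have h3 : ∀ a, M a y = 0 := fun a => by
    simp only [Complex.mul_conj] at h2
    have h4 : ∑ b, ∑ a, Complex.normSq (M a b) = 0 := by exact_mod_cast h2
    rw [sum_eq_zero_iff_of_nonneg fun _ _ => sum_nonneg fun _ _ => Complex.normSq_nonneg _] at h4
    have h5 := h4 y (mem_univ _)
    rw [sum_eq_zero_iff_of_nonneg fun _ _ => Complex.normSq_nonneg _] at h5
    exact Complex.normSq_eq_zero.1 (h5 a (mem_univ _))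
  have h4 := hc (fun h => u (h • y))
  rw [hP _ ω (fun h => by simp only [mul_smul, hu])] at h4
  have h5 : ∑ h, c h * u (h • y) = ∑ a, M a y * u a := by
    simp only [M, sum_mul]
    rw [sum_comm]
    simp
  simp only [h5, h3, zero_mul, sum_const_zero, Pi.smul_apply, one_smul, smul_eq_mul, mul_eq_zero, hy, or_false,
    sub_eq_zero] at h4
  tauto

/-- the number of elements of `D` moving `x` to `y` -/
noncomputable def nD (D : Finset G) (x y : X) : ℕ := #{t ∈ D | t • x = y}

theorem nD_smul (hD : ∀ g, ∀ t ∈ D, g * t * g⁻¹ ∈ D) (g : G) (x y : X) : nD D (g • x) (g • y) = nD D x y := by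
  refine card_bij (fun t _ => g⁻¹ * t * g) (fun t ht => ?_) (fun a _ b _ e => by simpa using e) fun t ht => ?_
  · rw [mem_filter] at ht ⊢
    exact ⟨by simpa using hD g⁻¹ t ht.1, by rw [mul_smul, mul_smul, ht.2, inv_smul_smul]⟩
  · rw [mem_filter] at ht
    exact ⟨g * t * g⁻¹, mem_filter.2 ⟨hD g t ht.1, by rw [mul_smul, mul_smul, inv_smul_smul, ht.2]⟩, by group⟩

theorem sum_nD (x : X) : ∑ y, nD D x y = D.card :=
  (card_eq_sum_card_fiberwise (fun _ _ => mem_univ _)).symm

theorem trace_two (hD : ∀ g, ∀ t ∈ D, g * t * g⁻¹ ∈ D) (hi : ∀ t ∈ D, t⁻¹ ∈ D) {x : X}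
    (tr : ∀ y, ∃ g : G, g • x = y) :
    ∑ t ∈ D, ∑ u ∈ D, pch G X (t * u) = Fintype.card X * ((∑ y, nD D x y ^ 2 : ℕ) : ℂ) := by
  have h1 : ∀ y : X, ∑ t ∈ D, ∑ u ∈ D, (if (t * u) • y = y then 1 else 0 : ℂ) = ((∑ z, nD D x z ^ 2 : ℕ) : ℂ) := by
    intro y
    obtain ⟨g, rfl⟩ := tr y
    rw [← Equiv.sum_comp (toPerm g⁻¹)]
    have : ∀ z, nD D x (toPerm g⁻¹ z) = nD D (g • x) z := fun z => by rw [← nD_smul hD g]; simp
    simp only [this]
    generalize g • x = y
    have h2 : ∀ t : G, ∑ u ∈ D, (if (t * u) • y = y then 1 else 0 : ℂ) = nD D y (t⁻¹ • y) := fun t => by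
      simp only [sum_boole, nD, mul_smul, eq_inv_smul_iff]
    simp only [h2]
    rw [sum_bij' (t := D) (g := fun t => (nD D y (t • y) : ℂ)) (fun t _ => t⁻¹) (fun t _ => t⁻¹) hi hi (by simp)
      (by simp) (by simp), ← sum_fiberwise (g := fun t => t • y)]
    push_cast
    refine sum_congr rfl fun z _ => ?_
    rw [sum_congr rfl (g := fun _ => (nD D y z : ℂ)) fun t ht => by rw [(mem_filter.1 ht).2]]
    simp [nD, sq]
  simp only [pch_eq]
  rw [sum_congr rfl fun t _ => sum_comm, sum_comm]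
  simp only [h1, sum_const, card_univ, nsmul_eq_mul]

theorem RK.nD_cases {x : X} (R : RK G x) (hD : ∀ g, ∀ t ∈ D, g * t * g⁻¹ ∈ D) (h0 : ∀ t ∈ D, t • x ≠ x) :
    Fintype.card X ≤ D.card + 1 ∨ ∃ m, ∑ y, nD D x y ^ 2 = m * D.card := by
  obtain ⟨y, z, -, -, -, h⟩ := R.exists_two
  have h1 : ∀ {a b}, Sm G x a b → nD D x b = nD D x a := by
    rintro a b ⟨k, h1, rfl⟩
    conv_lhs => rw [← h1, nD_smul hD]
  have h2 : nD D x x = 0 := card_eq_zero.2 (filter_eq_empty_iff.2 h0)
  have h3 : ∀ m, (∀ w, nD D x w = 0 ∨ nD D x w = m) → ∑ y, nD D x y ^ 2 = m * D.card := fun m hm => by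
    rw [← sum_nD x, mul_sum]
    exact sum_congr rfl fun w _ => by rcases hm w with e | e <;> simp [e, sq]
  by_cases a : nD D x y = 0
  · refine .inr ⟨nD D x z, h3 _ fun w => ?_⟩
    rcases h w with rfl | e | e
    exacts [.inl h2, .inl (by rw [h1 e, a]), .inr (h1 e)]
  by_cases b : nD D x z = 0
  · refine .inr ⟨nD D x y, h3 _ fun w => ?_⟩
    rcases h w with rfl | e | e
    exacts [.inl h2, .inr (h1 e), .inl (by rw [h1 e, b])]
  left
  rw [← sum_nD x, ← card_univ, ← card_erase_add_one (mem_univ x), ← sum_erase_add _ _ (mem_univ x), h2, card_eq_sum_ones]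
  refine Nat.succ_le_succ (sum_le_sum fun w hw => ?_)
  rcases h w with rfl | e | e
  · simp at hw
  · rw [h1 e]; omega
  · rw [h1 e]; omega

end

end Cfsg.Agent.H2.PL
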