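import Cfsg.Agent.H2.PLa

/-! Transvections of `SL(V)`: the class sum and its eigenvalues in a rank three action. -/

set_option autoImplicit false
set_option linter.unusedSectionVars false

namespace Cfsg.Agent.H2.PL

open MulAction Finset Module Cfsg.Agent.H1 Cfsg.Agent.H4
open scoped Classical Pointwise

/-- the number of points of a projective space -/
def br (q j : ℕ) : ℕ := ∑ i ∈ range j, q ^ i

theorem br_succ (q j : ℕ) : br q (j + 1) = q * br q j + 1 := by
  simp only [br, sum_range_succ', pow_succ', mul_sum, pow_zero, mul_one]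

theorem br_succ' (q j : ℕ) : br q (j + 1) = br q j + q ^ j := sum_range_succ _ _

theorem br_zero (q : ℕ) : br q 0 = 0 := rfl

theorem br_mul {q : ℕ} (hq : 1 ≤ q) (j : ℕ) : (q - 1) * br q j + 1 = q ^ j := by
  obtain ⟨s, rfl⟩ := Nat.exists_eq_add_of_le' hq
  induction j with
  | zero => simp [br]
  | succ j ih => rw [br_succ', pow_succ, ← ih]; simp only [Nat.add_sub_cancel]; ring

theorem br_mul_int (q j : ℕ) : ((q : ℤ) - 1) * br q j + 1 = q ^ j := by
  induction j with
  | zero => simp [br]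
  | succ j ih => rw [br_succ', pow_succ]; push_cast; rw [← ih]; ring

theorem br_mono {q : ℕ} {i j : ℕ} (h : i ≤ j) : br q i ≤ br q j :=
  sum_le_sum_of_subset (range_subset_range.2 h)

theorem br_lt {q : ℕ} (hq : 2 ≤ q) (j : ℕ) : br q j < q ^ j := by
  have := br_mul (q := q) (by omega) j
  have : br q j ≤ (q - 1) * br q j := Nat.le_mul_of_pos_left _ (by omega)
  omega

theorem nat_of_integral {z : ℂ} (hz : IsIntegral ℤ z) {f m : ℕ} (hf : 0 < f) (h : z * f = m) :
    ∃ k : ℕ, z = k ∧ k * f = m := by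
  have hf' : (f : ℂ) ≠ 0 := by exact_mod_cast hf.ne'
  have h1 : z = algebraMap ℚ ℂ (m / f) := by simp [eq_div_iff hf', h]
  rw [h1, isIntegral_algebraMap_iff (algebraMap ℚ ℂ).injective, IsIntegrallyClosed.isIntegral_iff] at hz
  obtain ⟨k, hk⟩ := hz
  rw [← hk] at h1
  have h2 : z = k := by simpa using h1
  have h3 : k * f = m := by rw [h2] at h; exact_mod_cast h
  have h4 : 0 ≤ k := by
    by_contra h4
    have : (0 : ℤ) < f := by exact_mod_cast hf
    have : (0 : ℤ) ≤ m := by positivity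
    nlinarith
  lift k to ℕ using h4
  exact ⟨k, by simpa using h2, by exact_mod_cast h3⟩

variable {F : Type*} [Field F] {V : Type*} [AddCommGroup V] [Module F V] [FiniteDimensional F V]

local notation "𝔾" => SpecialLinearGroup F V

theorem act_eq (g : 𝔾) (x : V) : slAct g x = g • x := rfl

theorem g_ext {g h : 𝔾} (e : ∀ x : V, g • x = h • x) : g = h := sl_ext e

theorem g_smul (g : 𝔾) (c : F) (x : V) : g • c • x = c • g • x := smul_comm _ _ _

theorem tv_ap {w : V} {f : Dual F V} (h : f w = 0) (x : V) : tv w f • x = x + f x • w := tv_apply h x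

theorem dual_ap (g : 𝔾) (f : Dual F V) (x : V) : slDual g f x = f (g⁻¹ • x) := rfl

theorem dual_smul (g : 𝔾) (f : Dual F V) (x : V) : slDual g f (g • x) = f x := slDual_slAct g f x

theorem dual_ne (g : 𝔾) {f : Dual F V} (h : f ≠ 0) : slDual g f ≠ 0 := fun e => h (by
  ext x; rw [← dual_smul g, e]; rfl)

theorem conj_tv (g : 𝔾) {w : V} {f : Dual F V} (h : f w = 0) : g * tv w f * g⁻¹ = tv (g • w) (slDual g f) := by
  rw [tv_conj g h, mul_inv_cancel_right]; rfl

theorem mem_smul_iff {g : 𝔾} {U : Submodule F V} {x : V} : x ∈ g • U ↔ g⁻¹ • x ∈ U :=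
  (Submodule.mem_smul_pointwise_iff_exists x g U).trans
    ⟨fun ⟨y, h1, h2⟩ => by rwa [← h2, inv_smul_smul], fun h => ⟨_, h, smul_inv_smul _ _⟩⟩

theorem smul_mem {g : 𝔾} {U : Submodule F V} {x : V} : g • x ∈ g • U ↔ x ∈ U := by
  rw [mem_smul_iff, inv_smul_smul]

theorem finrank_smul (g : 𝔾) (U : Submodule F V) : finrank F ↥(g • U) = finrank F U :=
  LinearEquiv.finrank_map_eq g.1 U

theorem smul_le {g : 𝔾} {U W : Submodule F V} : g • U ≤ g • W ↔ U ≤ W :=
  ⟨fun h _ hx => smul_mem.1 (h (smul_mem.2 hx)), fun h _ hx => mem_smul_iff.2 (h (mem_smul_iff.1 hx))⟩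

theorem smul_inf (g : 𝔾) (U W : Submodule F V) : g • (U ⊓ W) = g • U ⊓ g • W := by
  ext x; simp only [mem_smul_iff, Submodule.mem_inf]

theorem smul_sup (g : 𝔾) (U W : Submodule F V) : g • (U ⊔ W) = g • U ⊔ g • W := Submodule.smul_sup' _ _ _

theorem smul_span (g : 𝔾) (s : Set V) : g • Submodule.span F s = Submodule.span F (g • s) :=
  Submodule.smul_span _ _

theorem smul_span1 (g : 𝔾) (v : V) : g • (F ∙ v) = F ∙ (g • v) := by rw [smul_span, Set.smul_set_singleton]

theorem smul_eq_of_le {g : 𝔾} {U : Submodule F V} (h : ∀ x ∈ U, g • x ∈ U) : g • U = U :=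
  Submodule.eq_of_le_of_finrank_eq (fun x hx => by simpa using h _ (mem_smul_iff.1 hx)) (finrank_smul g U)

theorem mem_of_smul_eq {g : 𝔾} {U : Submodule F V} (h : g • U = U) {x : V} (hx : x ∈ U) : g • x ∈ U :=
  h ▸ smul_mem.2 hx

theorem exists_ne_zero {f : Dual F V} (h : f ≠ 0) : ∃ x, f x = 1 := by
  obtain ⟨x, hx⟩ := DFunLike.ne_iff.mp h
  exact ⟨(f x)⁻¹ • x, by simp [inv_mul_cancel₀ hx]⟩

theorem mem_of_mem_span {a c : V} {U : Submodule F V} (hc : c ≠ 0) (h : c ∈ F ∙ a) (hU : c ∈ U) : a ∈ U := by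
  obtain ⟨m, rfl⟩ := Submodule.mem_span_singleton.1 h
  exact (U.smul_mem_iff (left_ne_zero_of_smul hc)).1 hU

theorem exists_tv {g : 𝔾} {w : V} (hw : w ≠ 0) (h : ∀ x, g • x - x ∈ F ∙ w) : ∃ f : Dual F V, f w = 0 ∧ g = tv w f := by
  obtain ⟨u, hu, -⟩ := sep_vec (F := F) ⊥ w (by simpa using hw)
  let f : Dual F V := u ∘ₗ (slAct g - 1)
  have h1 : ∀ x, g • x = x + f x • w := fun x => by
    obtain ⟨c, hc⟩ := Submodule.mem_span_singleton.1 (h x)
    have : f x = c := by
      change u (g • x - x) = c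
      rw [← hc, map_smul, hu, smul_eq_mul, mul_one]
    rw [this, hc]; abel
  have h2 : slAct g = LinearMap.transvection f w := LinearMap.ext h1
  have h3 : LinearMap.det (slAct g) = 1 := by
    have := congrArg Units.val g.2
    rwa [LinearEquiv.coe_det] at this
  rw [h2, LinearMap.transvection.det, add_eq_left] at h3
  exact ⟨f, h3, g_ext fun x => by rw [h1, tv_ap h3]⟩

theorem tv_eq {w w' : V} {f f' : Dual F V} (h : f w = 0) (h' : f' w' = 0) (hw : w ≠ 0) (hf : f ≠ 0)
    (e : tv w f = tv w' f') : ∃ c : F, c ≠ 0 ∧ w = c • w' ∧ f = c⁻¹ • f' := by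
  have h1 : ∀ x, f x • w = f' x • w' := fun x => by
    have := congrArg (· • x) e
    simpa [tv_ap h, tv_ap h'] using this
  obtain ⟨x, hx⟩ := exists_ne_zero hf
  have h2 := h1 x
  rw [hx, one_smul] at h2
  have h3 : f' x ≠ 0 := fun e => hw (by rw [h2, e, zero_smul])
  refine ⟨f' x, h3, h2, LinearMap.ext fun y => ?_⟩
  have h4 := h1 y
  rw [h2, smul_smul] at h4
  have h5 : f y * f' x = f' y := smul_left_injective F (fun e => hw (by rw [h2, e, smul_zero]) : w' ≠ 0) h4
  rw [LinearMap.smul_apply, ← h5, smul_eq_mul]; field_simp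

theorem tv_ne_one {w : V} {f : Dual F V} (h : f w = 0) (hw : w ≠ 0) (hf : f ≠ 0) : tv w f ≠ 1 := fun e => by
  obtain ⟨c, -, h1, -⟩ := tv_eq h (map_zero f) hw hf (e.trans (tv_zero_left f).symm)
  exact hw (by rw [h1, smul_zero])

theorem tv_smul_eq_iff {c : V} {f : Dual F V} (h : f c = 0) {U : Submodule F V} :
    tv c f • U = U ↔ (∀ u ∈ U, f u = 0) ∨ c ∈ U := by
  constructor
  · intro e
    by_contra hc
    push Not at hc
    obtain ⟨⟨u, h1, h2⟩, h3⟩ := hc
    have := mem_of_smul_eq e h1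
    rw [tv_ap h, U.add_mem_iff_right h1, U.smul_mem_iff h2] at this
    exact h3 this
  · intro e
    refine smul_eq_of_le fun u hu => ?_
    rw [tv_ap h]
    rcases e with e | e
    · simpa [e u hu] using hu
    · exact add_mem hu (U.smul_mem _ e)

theorem exists_frame {m : ℕ} (hm : m < finrank F V) (e e' : Fin m → V) (he : LinearIndependent F e)
    (he' : LinearIndependent F e') : ∃ g : 𝔾, ∀ i, g • e i = e' i := by
  induction m with
  | zero => exact ⟨1, fun i => i.elim0⟩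
  | succ m ih =>
    obtain ⟨h1, h2⟩ := linearIndependent_finSucc.1 he
    obtain ⟨h3, h4⟩ := linearIndependent_finSucc.1 he'
    obtain ⟨g, hg⟩ := ih (by omega) _ _ h1 h3
    have h5 : g • e 0 ∉ Submodule.span F (Set.range (Fin.tail e')) := by
      rw [← show g • Set.range (Fin.tail e) = Set.range (Fin.tail e') by
        rw [Set.smul_set_range]; simp only [hg], ← smul_span, smul_mem]
      exact h2
    obtain ⟨k, h6, h7⟩ := move_vec (F := F) (fixSub _) (Submodule.span F (Set.range (Fin.tail e'))) ⊤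
      (fun _ _ _ h1 h2 => tv_mem_fixSub h1 h2) h5 h4 Submodule.mem_top (by
        rw [finrank_top, finrank_span_eq_card h3, Fintype.card_fin]; omega)
    refine ⟨k * g, fun i => Fin.cases ?_ (fun j => ?_) i⟩
    · rw [mul_smul]; exact h7
    · rw [mul_smul]
      exact (congrArg _ (hg j)).trans (h6 _ (Submodule.subset_span ⟨j, rfl⟩))

variable [Fintype F]

local notation "q" => Fintype.card F
local notation "n" => finrank F V

theorem two_le_q : 2 ≤ q := Fintype.one_lt_card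

theorem card_SL (hn : 1 ≤ n) : Nat.card 𝔾 * (q - 1) = ∏ i ∈ range n, (q ^ n - q ^ i) := by
  have : Nonempty (Fin n) := ⟨⟨0, hn⟩⟩
  have h1 : (Matrix.GeneralLinearGroup.det : GL (Fin n) F →* Fˣ).ker =
      (Matrix.SpecialLinearGroup.toGL : Matrix.SpecialLinearGroup (Fin n) F →* GL (Fin n) F).range := by
    ext g
    constructor
    · intro h
      exact ⟨⟨g, congrArg Units.val h⟩, Units.ext rfl⟩
    · rintro ⟨g, rfl⟩
      exact Units.ext g.2
  rw [← Fin.prod_univ_eq_prod_range (fun i => q ^ n - q ^ i), ← Matrix.card_GL_field,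
    ← Subgroup.card_mul_index (Matrix.GeneralLinearGroup.det : GL (Fin n) F →* Fˣ).ker,
    Subgroup.index_ker, MonoidHom.range_eq_top.2 Matrix.GeneralLinearGroup.det_surjective,
    Subgroup.card_top, Nat.card_units, Nat.card_eq_fintype_card (α := F), h1,
    ← Nat.card_congr (MonoidHom.ofInjective Matrix.SpecialLinearGroup.toGL_injective).toEquiv,
    Nat.card_congr (Matrix.SpecialLinearGroup.toLin_equiv (finBasis F V)).toEquiv]

theorem card_sub {M : Type*} [AddCommGroup M] [Module F M] [Fintype M] (U : Submodule F M) :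
    #{x | x ∈ U} = q ^ finrank F U := by
  rw [← Fintype.card_subtype, card_eq_pow_finrank (K := F)]

theorem card_diff {M : Type*} [AddCommGroup M] [Module F M] [Fintype M] {U W : Submodule F M} (h : U ≤ W) :
    #{x | x ∈ W ∧ x ∉ U} + q ^ finrank F U = q ^ finrank F W := by
  rw [← card_sub, ← card_sub, ← card_filter_add_card_filter_not (s := {x | x ∈ W}) (· ∈ U), add_comm, filter_filter,
    filter_filter]
  congr 2
  ext x
  simp only [mem_filter, mem_univ, true_and]
  exact ⟨fun h1 => ⟨h h1, h1⟩, fun h1 => h1.2⟩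

theorem card_not_mem {M : Type*} [AddCommGroup M] [Module F M] [Fintype M] (U : Submodule F M) :
    #{x | x ∉ U} + q ^ finrank F U = q ^ finrank F M := by
  have := card_diff (le_top (a := U))
  simpa using this

theorem card_ne {M : Type*} [AddCommGroup M] [Module F M] [Fintype M] :
    #{x : M | x ≠ 0} + 1 = q ^ finrank F M := by
  have := card_not_mem (F := F) (⊥ : Submodule F M)
  simpa using this

variable [Fintype V] [Fintype (Dual F V)] [Fintype (SpecialLinearGroup F V)]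

variable (F V) in
/-- the class of transvections -/
noncomputable def DD : Finset 𝔾 := {g | ∃ (w : V) (f : Dual F V), w ≠ 0 ∧ f ≠ 0 ∧ f w = 0 ∧ g = tv w f}

theorem mem_DD {g : 𝔾} : g ∈ DD F V ↔ ∃ (w : V) (f : Dual F V), w ≠ 0 ∧ f ≠ 0 ∧ f w = 0 ∧ g = tv w f := by
  simp [DD]

theorem tv_mem_DD {w : V} {f : Dual F V} (hw : w ≠ 0) (hf : f ≠ 0) (h : f w = 0) : tv w f ∈ DD F V :=
  mem_DD.2 ⟨w, f, hw, hf, h, rfl⟩

theorem DD_conj (g t : 𝔾) (ht : t ∈ DD F V) : g * t * g⁻¹ ∈ DD F V := by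
  obtain ⟨w, f, h1, h2, h3, rfl⟩ := mem_DD.1 ht
  rw [conj_tv g h3]
  exact tv_mem_DD (smul_ne_zero_iff_ne g |>.2 h1) (dual_ne g h2) (by rw [dual_smul, h3])

theorem DD_inv (t : 𝔾) (ht : t ∈ DD F V) : t⁻¹ ∈ DD F V := by
  obtain ⟨w, f, h1, h2, h3, rfl⟩ := mem_DD.1 ht
  rw [tv_inv h3]
  exact tv_mem_DD h1 (neg_ne_zero.2 h2) (by simp [h3])

theorem sum_DD (θ : 𝔾 → ℂ) : ∑ f : Dual F V with f ≠ 0, ∑ w with f w = 0, θ (tv w f) =
    (q - 1) * ∑ t ∈ DD F V, θ t + (q ^ n - 1) * θ 1 := by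
  have h1 : ∀ f : Dual F V, ∑ w with f w = 0, θ (tv w f) = ∑ w with w ≠ 0 ∧ f w = 0, θ (tv w f) + θ 1 := fun f => by
    rw [← sum_erase_add _ _ (a := 0) (by simp), tv_zero_left]
    congr 2
    ext; simp
  have h2 := card_ne (F := F) (M := Dual F V)
  rw [Subspace.dual_finrank_eq] at h2
  simp only [h1, sum_add_distrib, sum_const, nsmul_eq_mul]
  congr 1
  swap
  · rw [eq_sub_of_add_eq (by exact_mod_cast h2 : (#{x : Dual F V | x ≠ 0} : ℂ) + 1 = q ^ n)]
  rw [sum_sigma', ← sum_fiberwise_of_maps_to (t := DD F V) (g := fun p => tv p.2 p.1) (fun p hp => by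
    simp only [mem_sigma, mem_filter, mem_univ, true_and] at hp
    exact tv_mem_DD hp.2.1 hp.1 hp.2.2), mul_sum]
  refine sum_congr rfl fun t ht => ?_
  obtain ⟨w, f, a1, a2, a3, rfl⟩ := mem_DD.1 ht
  rw [sum_congr rfl (g := fun _ => θ (tv w f)) fun p hp => by rw [(mem_filter.1 hp).2], sum_const, nsmul_eq_mul]
  congr 1
  have h3 := card_ne (F := F) (M := F)
  rw [finrank_self, pow_one] at h3
  rw [← eq_sub_of_add_eq (by exact_mod_cast h3 : (#{x : F | x ≠ 0} : ℂ) + 1 = q), Nat.cast_inj, eq_comm]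
  refine card_bij (fun c _ => ⟨c⁻¹ • f, c • w⟩) (fun c hc => ?_) (fun a _ b _ e => ?_) fun p hp => ?_
  · have hc' : c ≠ 0 := (mem_filter.1 hc).2
    simp only [mem_filter, mem_sigma, mem_univ, true_and]
    refine ⟨⟨smul_ne_zero (inv_ne_zero hc') a2, smul_ne_zero hc' a1, by simp [a3]⟩, ?_⟩
    rw [tv_smul (by simp [a3]), smul_inv_smul₀ hc']
  · exact smul_left_injective F a1 (eq_of_heq (Sigma.mk.inj_iff.1 e).2)
  · simp only [mem_filter, mem_sigma, mem_univ, true_and] at hp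
    obtain ⟨c, b1, b2, b3⟩ := tv_eq hp.1.2.2 a3 hp.1.2.1 hp.1.1 hp.2
    exact ⟨c, by simpa using b1, Sigma.ext b3.symm (heq_of_eq b2.symm)⟩

theorem card_ker {f : Dual F V} (h : f ≠ 0) : #{w | f w = 0} = q ^ (n - 1) := by
  have := card_sub (LinearMap.ker f)
  rw [← finrank_ker_dual h, Nat.add_sub_cancel, ← this]
  rfl

theorem q_sub_ne : (q : ℂ) - 1 ≠ 0 := by
  have := two_le_q (F := F)
  rw [sub_ne_zero]
  exact_mod_cast (by omega : q ≠ 1)

theorem pow_sub_eq (j : ℕ) : (q : ℂ) ^ j - 1 = (q - 1) * br q j := by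
  have : (((q : ℤ) - 1) * br q j + 1 : ℤ) = q ^ j := br_mul_int q j
  have h : ((q : ℂ) - 1) * br q j + 1 = q ^ j := by exact_mod_cast this
  rw [← h]; ring

theorem card_DD : (DD F V).card + br q n = q ^ (n - 1) * br q n := by
  have h1 := sum_DD (F := F) (V := V) (fun _ => 1)
  have h2 := card_ne (F := F) (M := Dual F V)
  rw [Subspace.dual_finrank_eq] at h2
  rw [sum_congr rfl (g := fun _ => (q : ℂ) ^ (n - 1)) fun f hf => by
    rw [sum_const, card_ker (mem_filter.1 hf).2]; simp] at h1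
  simp only [sum_const, nsmul_eq_mul, mul_one] at h1
  rw [eq_sub_of_add_eq (by exact_mod_cast h2 : (#{x : Dual F V | x ≠ 0} : ℂ) + 1 = q ^ n), pow_sub_eq] at h1
  have h3 : ((DD F V).card : ℂ) + br q n = q ^ (n - 1) * br q n :=
    mul_left_cancel₀ q_sub_ne (by linear_combination -h1)
  exact_mod_cast h3

/-- the elation group with a given axis -/
noncomputable def axHom (f : Dual F V) : Multiplicative (LinearMap.ker f) →* 𝔾 where
  toFun w := tv w.toAdd.1 f
  map_one' := tv_zero_left f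
  map_mul' a b := tv_add_left a.toAdd.2 b.toAdd.2

theorem omD_nat (hn : 2 ≤ n) {χ : 𝔾 → ℂ} (hχ : IsIrrCharacter _ χ) : ∃ f x : ℕ, 0 < f ∧ χ 1 = f ∧
    omD (DD F V) χ = x - br q n ∧ q ^ (n - 1) ∣ x * f := by
  obtain ⟨f, h1, h2⟩ := IsIrrCharacter.exists_one_eq hχ
  have h3 : ∀ u : Dual F V, ∑ w with u w = 0, χ (tv w u) = ∑ a, χ (axHom u a) := fun u => by
    rw [sum_subtype (p := (· ∈ LinearMap.ker u)) (F := inferInstance) _ (by simp)]
    exact Fintype.sum_equiv Multiplicative.ofAdd _ _ fun _ => rfl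
  have : Nontrivial (Dual F V) := by
    rw [← Module.finrank_pos_iff (R := F), Subspace.dual_finrank_eq]; omega
  obtain ⟨u, hu⟩ := exists_ne (0 : Dual F V)
  obtain ⟨m, hm⟩ := sum_hom (axHom u) (IsIrrCharacter.isCharacter hχ)
  rw [← h3, Fintype.card_multiplicative, Fintype.card_subtype] at hm
  have h4 : ∀ u' : Dual F V, u' ≠ 0 → ∑ w with u' w = 0, χ (tv w u') = q ^ (n - 1) * m := fun u' hu' => by
    obtain ⟨g, rfl⟩ := exists_move_one_dual hn hu hu'
    rw [← Nat.cast_pow, ← card_ker hu]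
    refine Eq.trans (Eq.symm ?_) hm
    refine sum_bij (fun w _ => g • w) (fun w hw => by simpa [dual_smul] using hw)
      (fun a _ b _ e => smul_left_cancel g e) (fun w hw => ⟨g⁻¹ • w, mem_filter.2 ⟨mem_univ _, (mem_filter.1 hw).2⟩, by simp⟩) fun w hw => ?_
    rw [← conj_tv g (mem_filter.1 hw).2, IsCharacter.isClassFunction (IsIrrCharacter.isCharacter hχ)]
  have h5 := sum_DD χ
  have h6 := card_ne (F := F) (M := Dual F V)
  rw [Subspace.dual_finrank_eq] at h6
  rw [sum_congr rfl fun f hf => h4 f (mem_filter.1 hf).2, sum_const, nsmul_eq_mul,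
    eq_sub_of_add_eq (by exact_mod_cast h6 : (#{x : Dual F V | x ≠ 0} : ℂ) + 1 = q ^ n), pow_sub_eq] at h5
  have hf : (f : ℂ) ≠ 0 := by exact_mod_cast h1.ne'
  obtain ⟨k, h7, h8⟩ := nat_of_integral ((isIntegral_omD DD_conj hχ).add (isIntegral_natCast (br q n))) h1
    (m := q ^ (n - 1) * (br q n * m)) (by
      refine mul_left_cancel₀ (q_sub_ne (F := F)) ?_
      rw [add_mul, omD, h2, div_mul_cancel₀ _ hf]
      rw [h2] at h5
      push_cast
      linear_combination -h5)
  exact ⟨f, k, h1, h2, eq_sub_of_add_eq h7, h8 ▸ dvd_mul_right _ _⟩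

end Cfsg.Agent.H2.PL
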