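import Cfsg.Agent.H2.PLb

/-! The permutation characters of `SL(V)` on points, lines and flags. -/

set_option autoImplicit false
set_option linter.unusedSectionVars false

namespace Cfsg.Agent.H2.PL

open MulAction Finset Module Cfsg.Agent.H1 Cfsg.Agent.H4
open scoped Classical Pointwise

variable {F : Type*} [Field F] {V : Type*} [AddCommGroup V] [Module F V] [FiniteDimensional F V]

local notation "𝔾" => SpecialLinearGroup F V

variable (F V) in
/-- flags of two subspaces -/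
def Fl (a b : ℕ) : SubMulAction 𝔾 (Submodule F V × Submodule F V) where
  carrier := {z | z.1 ≤ z.2 ∧ finrank F z.1 = a ∧ finrank F z.2 = b}
  smul_mem' g _ h := ⟨smul_le.2 h.1, (finrank_smul g _).trans h.2.1, (finrank_smul g _).trans h.2.2⟩

theorem Fl_ext {a b : ℕ} {z w : Fl F V a b} (h1 : z.1.1 = w.1.1) (h2 : z.1.2 = w.1.2) : z = w :=
  Subtype.ext (Prod.ext h1 h2)

theorem Fl_smul_eq {a b : ℕ} {g : 𝔾} {z w : Fl F V a b} : g • z = w ↔ g • z.1.1 = w.1.1 ∧ g • z.1.2 = w.1.2 :=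
  ⟨fun h => h ▸ ⟨rfl, rfl⟩, fun h => Fl_ext h.1 h.2⟩

theorem exists_mem_not {S T : Submodule F V} (h : finrank F S < finrank F T) : ∃ z ∈ T, z ∉ S :=
  exists_not_mem_of_finrank_lt h

theorem exists_ne_mem {T : Submodule F V} (h : 0 < finrank F T) : ∃ z ∈ T, z ≠ 0 := by
  simpa using exists_mem_not (S := ⊥) (T := T) (by simpa using h)

theorem finrank_pair_le (a b : V) : finrank F (Submodule.span F {a, b}) ≤ 2 := by
  rw [Submodule.span_insert, sup_comm]
  have := finrank_sup_span_le (F ∙ b) a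
  have := finrank_span_le (F := F) b
  omega

theorem finrank_three_le (a b c : V) : finrank F (Submodule.span F {a, b, c}) ≤ 3 := by
  rw [Submodule.span_insert, sup_comm]
  have := finrank_sup_span_le (Submodule.span F {b, c}) a
  have := finrank_pair_le (F := F) b c
  omega

theorem finrank_sup_span {U : Submodule F V} {w : V} (h : w ∉ U) : finrank F ↥(U ⊔ F ∙ w) = finrank F U + 1 := by
  refine le_antisymm (finrank_sup_span_le U w) (Submodule.finrank_lt_finrank_of_lt (lt_of_le_of_ne le_sup_left fun e => h ?_))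
  rw [e]
  exact Submodule.mem_sup_right (Submodule.mem_span_singleton_self w)

theorem finrank_pair {a b : V} (ha : a ≠ 0) (hb : b ∉ F ∙ a) : finrank F (Submodule.span F {a, b}) = 2 := by
  rw [Submodule.span_insert, finrank_sup_span hb, finrank_span_singleton ha]

theorem span1_le {a : V} {U : Submodule F V} (h : a ∈ U) : (F ∙ a) ≤ U := (Submodule.span_singleton_le_iff_mem _ _).2 h

theorem span2_le {a b : V} {U : Submodule F V} (h : a ∈ U) (h' : b ∈ U) : Submodule.span F {a, b} ≤ U := by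
  rw [Submodule.span_le, Set.insert_subset_iff, Set.singleton_subset_iff]
  exact ⟨h, h'⟩

theorem mem_span2_left (a b : V) : a ∈ Submodule.span F {a, b} := Submodule.subset_span (by simp)

theorem mem_span2_right (a b : V) : b ∈ Submodule.span F {a, b} := Submodule.subset_span (by simp)

theorem eq_span1 {a : V} {U : Submodule F V} (hU : finrank F U = 1) (ha : a ≠ 0) (h : a ∈ U) : U = F ∙ a :=
  (Submodule.eq_of_le_of_finrank_eq (span1_le h) (by rw [hU, finrank_span_singleton ha])).symm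

theorem eq_span2 {a b : V} {U : Submodule F V} (hU : finrank F U = 2) (ha : a ≠ 0) (hb : b ∉ F ∙ a) (h : a ∈ U)
    (h' : b ∈ U) : U = Submodule.span F {a, b} :=
  (Submodule.eq_of_le_of_finrank_eq (span2_le h h') (by rw [hU, finrank_pair ha hb])).symm

theorem li4 {a b c d : V} (ha : a ≠ 0) (hb : b ∉ F ∙ a) (hc : c ∉ Submodule.span F {a, b})
    (hd : d ∉ Submodule.span F {a, b, c}) : LinearIndependent F ![a, b, c, d] := by
  have h : LinearIndependent F ![d, c, b, a] := by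
    refine linearIndependent_finCons.2 ⟨linearIndependent_finCons.2 ⟨linearIndependent_finCons.2
      ⟨linearIndependent_unique_iff.2 ha, by simpa using hb⟩, ?_⟩, ?_⟩
    · convert hc using 2
      ext; simp
    · convert hd using 2
      ext; simp
  convert h.comp Fin.rev Fin.rev_injective using 1
  ext i; fin_cases i <;> rfl

/-- coordinate subspaces -/
def sp (F : Type*) [Field F] {V : Type*} [AddCommGroup V] [Module F V] (e : Fin 4 → V) (S : Finset (Fin 4)) :
    Submodule F V := Submodule.span F (e '' S)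

theorem finrank_sp {e : Fin 4 → V} (he : LinearIndependent F e) (S : Finset (Fin 4)) : finrank F (sp F e S) = S.card := by
  rw [sp, Set.image_eq_range]
  exact (finrank_span_eq_card (he.comp (fun i : (S : Set (Fin 4)) => i.1) Subtype.val_injective)).trans (by simp)

theorem sp_mono (e : Fin 4 → V) {S T : Finset (Fin 4)} (h : S ⊆ T) : sp F e S ≤ sp F e T :=
  Submodule.span_mono (Set.image_mono (coe_subset.2 h))

theorem finrank_sp_inf {e : Fin 4 → V} (he : LinearIndependent F e) (S T : Finset (Fin 4)) :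
    finrank F ↥(sp F e S ⊓ sp F e T) = (S ∩ T).card := by
  have h1 := Submodule.finrank_sup_add_finrank_inf_eq (sp F e S) (sp F e T)
  have h2 : sp F e S ⊔ sp F e T = sp F e (S ∪ T) := by simp [sp, Set.image_union, Submodule.span_union]
  rw [h2, finrank_sp he, finrank_sp he, finrank_sp he, ← card_union_add_card_inter] at h1
  omega

theorem eq_sp {e : Fin 4 → V} (he : LinearIndependent F e) {S : Finset (Fin 4)} {U : Submodule F V}
    (hU : finrank F U = S.card) (h : ∀ i ∈ S, e i ∈ U) : U = sp F e S :=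
  (Submodule.eq_of_le_of_finrank_eq (Submodule.span_le.2 (by rintro _ ⟨i, hi, rfl⟩; exact h i hi))
    (by rw [hU]; exact finrank_sp he S)).symm

theorem smul_sp {g : 𝔾} {e e' : Fin 4 → V} (σ : Equiv.Perm (Fin 4)) (h : ∀ i, g • e i = e' (σ i)) (S : Finset (Fin 4)) :
    g • sp F e S = sp F e' (S.image σ) := by
  rw [sp, smul_span, sp, coe_image, Set.image_image, ← Set.image_smul, Set.image_image]
  simp only [h]

/-- the standard flag -/
def S0 : Fin 3 → Finset (Fin 4) := ![∅, {0}, {0, 1}]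

/-- the seven relative positions of two flags -/
def TT : Fin 7 → Fin 3 → Finset (Fin 4) := ![![∅, {0}, {0, 1}], ![∅, {1}, {0, 1}], ![∅, {0}, {0, 2}],
  ![∅, {2}, {0, 2}], ![∅, {1}, {1, 2}], ![∅, {2}, {1, 2}], ![∅, {2}, {2, 3}]]

theorem lemA (hn : 4 ≤ finrank F V) {p l p' l' : Submodule F V} (h : p ≤ l) (h' : p' ≤ l') (hp : finrank F p = 1)
    (hl : finrank F l = 2) (hp' : finrank F p' = 1) (hl' : finrank F l' = 2) :
    ∃ (i : Fin 7) (e : Fin 4 → V), LinearIndependent F e ∧ (∀ j, ![⊥, p, l] j = sp F e (S0 j)) ∧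
      ∀ j, ![⊥, p', l'] j = sp F e (TT i j) := by
  have fin : ∀ (i : Fin 7) (e : Fin 4 → V), LinearIndependent F e → e 0 ∈ p → e 1 ∈ l → (∀ k ∈ TT i 1, e k ∈ p') →
      (∀ k ∈ TT i 2, e k ∈ l') → ∃ (i : Fin 7) (e : Fin 4 → V), LinearIndependent F e ∧
        (∀ j, ![⊥, p, l] j = sp F e (S0 j)) ∧ ∀ j, ![⊥, p', l'] j = sp F e (TT i j) := fun i e he a1 a2 a3 a4 => by
    refine ⟨i, e, he, fun j => ?_, fun j => ?_⟩
    · fin_cases j
      · simp [sp, S0]
      · exact eq_sp he hp (by simpa [S0] using a1)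
      · exact eq_sp he hl (by simpa [S0] using ⟨h a1, a2⟩)
    · fin_cases j
      · have : ∀ i, TT i 0 = ∅ := by decide
        simp [sp, this]
      · exact eq_sp he (hp'.trans ((by decide : ∀ i, 1 = #(TT i 1)) i)) a3
      · exact eq_sp he (hl'.trans ((by decide : ∀ i, 2 = #(TT i 2)) i)) a4
  have e3 : ∀ {a b c : V}, a ≠ 0 → b ∉ F ∙ a → c ∉ Submodule.span F {a, b} → ∃ d, LinearIndependent F ![a, b, c, d] :=
    fun {a b c} ha hb hc => by
      obtain ⟨d, -, hd⟩ := exists_mem_not (S := Submodule.span F {a, b, c}) (T := ⊤) (by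
        have := finrank_three_le (F := F) a b c
        rw [finrank_top]; omega)
      exact ⟨d, li4 ha hb hc hd⟩
  have e2 : ∀ {a b : V}, a ≠ 0 → b ∉ F ∙ a → ∃ c d, LinearIndependent F ![a, b, c, d] := fun {a b} ha hb => by
    obtain ⟨c, -, hc⟩ := exists_mem_not (S := Submodule.span F {a, b}) (T := ⊤) (by
      have := finrank_pair_le (F := F) a b
      rw [finrank_top]; omega)
    exact ⟨c, e3 ha hb hc⟩
  obtain ⟨a, ha, ha0⟩ := exists_ne_mem (T := p) (by omega)
  obtain ⟨c, hc, hc0⟩ := exists_ne_mem (T := p') (by omega)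
  obtain ⟨b, hb, hb0⟩ := exists_mem_not (S := F ∙ a) (T := l) (by rw [finrank_span_singleton ha0]; omega)
  by_cases h1 : l' ≤ l
  · have h2 : l' = l := Submodule.eq_of_le_of_finrank_eq h1 (by omega)
    subst h2
    by_cases h3 : c ∈ F ∙ a
    · obtain ⟨c', d, he⟩ := e2 ha0 hb0
      exact fin 0 _ he ha hb (by simpa [TT] using mem_of_mem_span hc0 h3 hc) (by simpa [TT] using ⟨h ha, hb⟩)
    · obtain ⟨c', d, he⟩ := e2 ha0 h3
      exact fin 1 _ he ha (h' hc) (by simpa [TT] using hc) (by simpa [TT] using ⟨h ha, h' hc⟩)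
  obtain ⟨d, hd, hd0⟩ := SetLike.not_le_iff_exists.1 h1
  by_cases h2 : c ∈ l
  · by_cases h3 : c ∈ F ∙ a
    · obtain ⟨d', he⟩ := e3 ha0 hb0 fun e => hd0 (span2_le (h ha) hb e)
      have := mem_of_mem_span hc0 h3 hc
      exact fin 2 _ he ha hb (by simpa [TT] using this) (by simpa [TT] using ⟨h' this, hd⟩)
    · obtain ⟨d', he⟩ := e3 ha0 h3 fun e => hd0 (span2_le (h ha) h2 e)
      exact fin 4 _ he ha h2 (by simpa [TT] using hc) (by simpa [TT] using ⟨h' hc, hd⟩)
  by_cases h3 : ∃ u ∈ l, u ∈ l' ∧ u ≠ 0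
  · obtain ⟨u, a1, a2, a3⟩ := h3
    by_cases h4 : u ∈ F ∙ a
    · obtain ⟨d', he⟩ := e3 ha0 hb0 fun e => h2 (span2_le (h ha) hb e)
      exact fin 3 _ he ha hb (by simpa [TT] using hc) (by simpa [TT] using ⟨mem_of_mem_span a3 h4 a2, h' hc⟩)
    · obtain ⟨d', he⟩ := e3 ha0 h4 fun e => h2 (span2_le (h ha) a1 e)
      exact fin 5 _ he ha a1 (by simpa [TT] using hc) (by simpa [TT] using ⟨a2, h' hc⟩)
  obtain ⟨d', a1, a2⟩ := exists_mem_not (S := F ∙ c) (T := l') (by rw [finrank_span_singleton hc0]; omega)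
  refine fin 6 _ (li4 ha0 hb0 (fun e => h2 (span2_le (h ha) hb e)) (d := d') fun e => ?_) ha hb
    (by simpa [TT] using hc) (by simpa [TT] using ⟨h' hc, a1⟩)
  obtain ⟨x, y, z, rfl⟩ := Submodule.mem_span_triple.1 e
  refine h3 ⟨x • a + y • b, add_mem (l.smul_mem _ (h ha)) (l.smul_mem _ hb),
    (l'.add_mem_iff_left (l'.smul_mem z (h' hc))).1 a1, fun e => a2 ?_⟩
  rw [e, zero_add]
  exact Submodule.smul_mem _ _ (Submodule.mem_span_singleton_self c)

theorem exists_full (hn : 2 ≤ finrank F V) {a b : Fin 3} (z : Fl F V a b) : ∃ p l : Submodule F V, p ≤ l ∧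
    finrank F p = 1 ∧ finrank F l = 2 ∧ z.1.1 = ![⊥, p, l] a ∧ z.1.2 = ![⊥, p, l] b := by
  obtain ⟨⟨A, B⟩, h1, h2, h3⟩ := z
  simp only at h1 h2 h3 ⊢
  have h4 := Submodule.finrank_mono h1
  have up : ∀ p : Submodule F V, finrank F p = 1 → ∃ l : Submodule F V, p ≤ l ∧ finrank F l = 2 := fun p hp => by
    obtain ⟨w, -, hw⟩ := exists_mem_not (S := p) (T := ⊤) (by rw [finrank_top]; omega)
    exact ⟨_, le_sup_left, by rw [finrank_sup_span hw, hp]⟩
  have down : ∀ l : Submodule F V, 0 < finrank F l → ∃ p : Submodule F V, p ≤ l ∧ finrank F p = 1 := fun l hl => by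
    obtain ⟨w, hw, h0⟩ := exists_ne_mem hl
    exact ⟨_, span1_le hw, finrank_span_singleton h0⟩
  fin_cases a <;> fin_cases b <;> simp only [Fin.zero_eta, Fin.mk_one, Fin.reduceFinMk, Fin.isValue, Fin.val_zero,
    Fin.val_one, Fin.val_two] at h2 h3 <;> try omega
  · obtain ⟨p, -, hp⟩ := down ⊤ (by rw [finrank_top]; omega)
    obtain ⟨l, hl⟩ := up p hp
    exact ⟨p, l, hl.1, hp, hl.2, Submodule.finrank_eq_zero.1 h2, Submodule.finrank_eq_zero.1 h3⟩
  · obtain ⟨l, hl⟩ := up B h3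
    exact ⟨B, l, hl.1, h3, hl.2, Submodule.finrank_eq_zero.1 h2, rfl⟩
  · obtain ⟨p, hp⟩ := down B (by omega)
    exact ⟨p, B, hp.1, hp.2, h3, Submodule.finrank_eq_zero.1 h2, rfl⟩
  · obtain ⟨l, hl⟩ := up B h3
    exact ⟨B, l, hl.1, h3, hl.2, Submodule.eq_of_le_of_finrank_eq h1 (h2.trans h3.symm), rfl⟩
  · exact ⟨A, B, h1, h2, h3, rfl, rfl⟩
  · obtain ⟨p, hp⟩ := down B (by omega)
    exact ⟨p, B, hp.1, hp.2, h3, Submodule.eq_of_le_of_finrank_eq h1 (h2.trans h3.symm), rfl⟩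

/-- combinatorial invariants -/
def invC (a b c d : Fin 3) (i : Fin 7) : ℕ × ℕ × ℕ × ℕ :=
  ((S0 a ∩ TT i c).card, (S0 a ∩ TT i d).card, (S0 b ∩ TT i c).card, (S0 b ∩ TT i d).card)

/-- the invariants separate the orbits -/
def Good (a b c d : Fin 3) : Prop := ∀ i j, invC a b c d i = invC a b c d j → ∃ σ : Equiv.Perm (Fin 4),
  (S0 a).image σ = S0 a ∧ (S0 b).image σ = S0 b ∧ (TT i c).image σ = TT j c ∧ (TT i d).image σ = TT j d

instance (a b c d : Fin 3) : Decidable (Good a b c d) := by unfold Good; infer_instance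

instance finite_submodule [Finite V] : Finite (Submodule F V) :=
  Finite.of_injective (fun U => (U : Set V)) SetLike.coe_injective

theorem gram [Finite V] [Fintype 𝔾] (hn : 5 ≤ finrank F V) (a b c d : Fin 3) (hab : a ≤ b) (hcd : c ≤ d)
    (hG : Good a b c d) : classInner (pch 𝔾 (Fl F V a b)) (pch 𝔾 (Fl F V c d)) =
      ((univ.image (invC a b c d)).card : ℕ) := by
  rw [H7.inner_pch]
  congr 1
  let inv : Fl F V a b × Fl F V c d → ℕ × ℕ × ℕ × ℕ := fun z => (finrank F ↥(z.1.1.1 ⊓ z.2.1.1),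
    finrank F ↥(z.1.1.1 ⊓ z.2.1.2), finrank F ↥(z.1.1.2 ⊓ z.2.1.1), finrank F ↥(z.1.1.2 ⊓ z.2.1.2))
  let Co : Fl F V a b × Fl F V c d → Fin 7 → (Fin 4 → V) → Prop := fun z i e => LinearIndependent F e ∧
    z.1.1.1 = sp F e (S0 a) ∧ z.1.1.2 = sp F e (S0 b) ∧ z.2.1.1 = sp F e (TT i c) ∧ z.2.1.2 = sp F e (TT i d)
  have hA : ∀ z, ∃ i e, Co z i e := fun z => by
    obtain ⟨p, l, a1, a2, a3, a4, a5⟩ := exists_full (by omega) z.1
    obtain ⟨p', l', b1, b2, b3, b4, b5⟩ := exists_full (by omega) z.2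
    obtain ⟨i, e, c1, c2, c3⟩ := lemA (by omega) a1 b1 a2 a3 b2 b3
    exact ⟨i, e, c1, a4.trans (c2 a), a5.trans (c2 b), b4.trans (c3 c), b5.trans (c3 d)⟩
  have hinv : ∀ z i e, Co z i e → inv z = invC a b c d i := fun z i e ⟨he, h1, h2, h3, h4⟩ => by
    simp only [inv, invC]
    rw [h1, h2, h3, h4]
    simp only [finrank_sp_inf he]
  rw [← Nat.card_eq_finsetCard]
  refine card_orbits_eq (fun z => (⟨inv z, by
    obtain ⟨i, e, h⟩ := hA z
    exact mem_image.2 ⟨i, mem_univ _, (hinv z i e h).symm⟩⟩ : univ.image (invC a b c d))) (fun t => ?_) fun z w => ?_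
  · obtain ⟨t, ht⟩ := t
    obtain ⟨i, -, rfl⟩ := mem_image.1 ht
    obtain ⟨e, he⟩ := exists_linearIndependent_of_le_finrank (R := F) (M := V) (n := 4) (by omega)
    have h1 : ∀ a b : Fin 3, a ≤ b → S0 a ⊆ S0 b ∧ (S0 a).card = a ∧ (S0 b).card = b := by decide
    have h2 : ∀ i, ∀ a b : Fin 3, a ≤ b → TT i a ⊆ TT i b ∧ (TT i a).card = a ∧ (TT i b).card = b := by decide
    refine ⟨(⟨(sp F e (S0 a), sp F e (S0 b)), sp_mono e (h1 a b hab).1, (finrank_sp he _).trans (h1 a b hab).2.1,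
      (finrank_sp he _).trans (h1 a b hab).2.2⟩, ⟨(sp F e (TT i c), sp F e (TT i d)), sp_mono e (h2 i c d hcd).1,
      (finrank_sp he _).trans (h2 i c d hcd).2.1, (finrank_sp he _).trans (h2 i c d hcd).2.2⟩),
      Subtype.ext (hinv _ i e ⟨he, rfl, rfl, rfl, rfl⟩)⟩
  · rw [Subtype.mk.injEq]
    constructor
    · intro h
      obtain ⟨i, e, h1⟩ := hA z
      obtain ⟨j, e', h2⟩ := hA w
      obtain ⟨σ, a1, a2, a3, a4⟩ := hG i j (by rw [← hinv z i e h1, h, hinv w j e' h2])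
      obtain ⟨g, hg⟩ := exists_frame (by omega) e (e' ∘ σ) h1.1 (h2.1.comp σ σ.injective)
      have h3 := smul_sp σ hg
      refine ⟨g, Prod.ext (Fl_smul_eq.2 ⟨?_, ?_⟩) (Fl_smul_eq.2 ⟨?_, ?_⟩)⟩
      · rw [h1.2.1, h3, a1, h2.2.1]
      · rw [h1.2.2.1, h3, a2, h2.2.2.1]
      · rw [h1.2.2.2.1, h3, a3, h2.2.2.2.1]
      · rw [h1.2.2.2.2, h3, a4, h2.2.2.2.2]
    · rintro ⟨g, rfl⟩
      have : ∀ A B : Submodule F V, finrank F ↥(g • A ⊓ g • B) = finrank F ↥(A ⊓ B) := fun A B => by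
        rw [← smul_inf, finrank_smul]
      exact Prod.ext (this _ _).symm (Prod.ext (this _ _).symm (Prod.ext (this _ _).symm (this _ _).symm))

theorem pch_zero : pch 𝔾 (Fl F V 0 0) = fun _ => 1 := by
  ext g
  have : Subsingleton (Fl F V 0 0) := ⟨fun z w => Fl_ext
    ((Submodule.finrank_eq_zero.1 z.2.2.1).trans (Submodule.finrank_eq_zero.1 w.2.2.1).symm)
    ((Submodule.finrank_eq_zero.1 z.2.2.2).trans (Submodule.finrank_eq_zero.1 w.2.2.2).symm)⟩
  rw [pch, Nat.card_eq_one_iff_unique.2 ⟨inferInstance, ⟨⟨⟨(⊥, ⊥), le_rfl, finrank_bot _ _, finrank_bot _ _⟩,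
    Subsingleton.elim _ _⟩⟩⟩, Nat.cast_one]

theorem gram_all [Finite V] [Fintype 𝔾] (hn : 5 ≤ finrank F V) {P1 P2 P3 : 𝔾 → ℂ} (h1 : P1 = pch 𝔾 (Fl F V 1 1))
    (h2 : P2 = pch 𝔾 (Fl F V 2 2)) (h3 : P3 = pch 𝔾 (Fl F V 1 2)) :
    (classInner P1 (fun _ => 1) = 1 ∧ classInner P2 (fun _ => 1) = 1 ∧ classInner P3 (fun _ => 1) = 1) ∧
    (classInner (fun _ => 1) P1 = 1 ∧ classInner (fun _ => 1) P2 = 1 ∧ classInner (fun _ => 1) P3 = 1) ∧
    (classInner P1 P1 = 2 ∧ classInner P1 P2 = 2 ∧ classInner P1 P3 = 3) ∧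
    (classInner P2 P1 = 2 ∧ classInner P2 P2 = 3 ∧ classInner P2 P3 = 4) ∧
    (classInner P3 P1 = 3 ∧ classInner P3 P2 = 4 ∧ classInner P3 P3 = 7) := by
  subst h1 h2 h3
  rw [← pch_zero]
  have key : ∀ (a b c d : Fin 3) (m : ℕ), (a ≤ b ∧ c ≤ d ∧ Good a b c d ∧ (univ.image (invC a b c d)).card = m) →
      classInner (pch 𝔾 (Fl F V a b)) (pch 𝔾 (Fl F V c d)) = m := fun a b c d m h => by
    rw [gram hn a b c d h.1 h.2.1 h.2.2.1, h.2.2.2]
  refine ⟨⟨(key 1 1 0 0 1 (by decide +kernel)).trans (by simp), (key 2 2 0 0 1 (by decide +kernel)).trans (by simp),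
    (key 1 2 0 0 1 (by decide +kernel)).trans (by simp)⟩, ⟨(key 0 0 1 1 1 (by decide +kernel)).trans (by simp),
    (key 0 0 2 2 1 (by decide +kernel)).trans (by simp), (key 0 0 1 2 1 (by decide +kernel)).trans (by simp)⟩,
    ⟨key 1 1 1 1 2 (by decide +kernel), key 1 1 2 2 2 (by decide +kernel), key 1 1 1 2 3 (by decide +kernel)⟩,
    ⟨key 2 2 1 1 2 (by decide +kernel), key 2 2 2 2 3 (by decide +kernel), key 2 2 1 2 4 (by decide +kernel)⟩,
    ⟨key 1 2 1 1 3 (by decide +kernel), key 1 2 2 2 4 (by decide +kernel), key 1 2 1 2 7 (by decide +kernel)⟩⟩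

end Cfsg.Agent.H2.PL
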