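import Cfsg.Agent.H2.PLc

/-! Degrees and values on transvections of the small unipotent characters of `SL(V)`. -/

set_option autoImplicit false
set_option linter.unusedSectionVars false

namespace Cfsg.Agent.H2.PL

open MulAction Finset Module Cfsg.Agent.H1 Cfsg.Agent.H4
open scoped Classical Pointwise

variable {F : Type*} [Field F] {V : Type*} [AddCommGroup V] [Module F V] [FiniteDimensional F V] [Fintype F]
  [Fintype V] [Fintype (Submodule F V)]

local notation "𝔾" => SpecialLinearGroup F V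
local notation "q" => Fintype.card F
local notation "n" => finrank F V

theorem fc {α : Type*} [Fintype α] (Q : α → Prop) {P : α → Prop} [DecidablePred P] [DecidablePred Q]
    (h : ∀ v, P v ↔ Q v) : filter P univ = filter Q univ := filter_congr fun v _ => h v

/-- the number of flags with a given property -/
noncomputable def cF (a b : ℕ) (P : Submodule F V × Submodule F V → Prop) : ℕ := #{z | z ∈ Fl F V a b ∧ P z}

theorem pch_Fl (a b : ℕ) (g : 𝔾) : pch 𝔾 (Fl F V a b) g =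
    cF a b fun z : Submodule F V × Submodule F V => g • z.1 = z.1 ∧ g • z.2 = z.2 := by
  rw [pch, cF, ← Fintype.card_subtype, ← Nat.card_eq_fintype_card]
  congr 1
  exact Nat.card_congr ⟨fun z => ⟨z.1.1, z.1.2, Fl_smul_eq.1 z.2⟩, fun z => ⟨⟨z.1, z.2.1⟩, Fl_smul_eq.2 z.2.2⟩,
    fun _ => rfl, fun _ => rfl⟩

theorem card_diff' {U W : Submodule F V} (h : U ≤ W) :
    (#{x | x ∈ W ∧ x ∉ U} : ℤ) = q ^ finrank F W - q ^ finrank F U := by
  have := card_diff h
  rw [eq_sub_iff_add_eq]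
  exact_mod_cast this

theorem card_ne' (W : Submodule F V) : (#{x | x ∈ W ∧ x ≠ 0} : ℤ) = q ^ finrank F W - 1 := by
  have := card_diff' (bot_le (a := W))
  simpa using this

theorem count_pairs (a : ℕ) (f : V → V → Submodule F V) (hf : ∀ v w, v ≠ 0 → w ∉ F ∙ v →
      (f v w, Submodule.span F {v, w}) ∈ Fl F V a 2 ∧ v ∈ f v w)
    (hf' : ∀ z ∈ Fl F V a 2, ∀ v w, v ≠ 0 → w ∉ F ∙ v → v ∈ z.1 → z.2 = Submodule.span F {v, w} → z.1 = f v w)
    (P : Submodule F V × Submodule F V → Prop) :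
    (cF a 2 P : ℤ) * ((q ^ a - 1) * (q ^ 2 - q)) =
      ∑ v with v ≠ 0, (#{w | w ∉ F ∙ v ∧ P (f v w, Submodule.span F {v, w})} : ℤ) := by
  rw [cF, ← Nat.cast_sum, ← card_sigma, card_eq_sum_card_fiberwise (t := {z | z ∈ Fl F V a 2 ∧ P z})
    (f := fun p : (_ : V) × V => (f p.1 p.2, Submodule.span F {p.1, p.2})) (fun p hp => by
      simp only [coe_sigma, coe_filter, mem_univ, true_and, Set.mem_sigma_iff, Set.mem_ofPred_eq, Set.mem_univ] at hp ⊢
      exact ⟨(hf _ _ hp.1 hp.2.1).1, hp.2.2⟩), Nat.cast_sum, ← nsmul_eq_mul, ← sum_const]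
  refine sum_congr rfl fun z hz => ?_
  obtain ⟨h1, h2⟩ := (mem_filter.1 hz).2
  have h3 : ∀ v ∈ ({v | v ∈ z.1 ∧ v ≠ 0} : Finset V), (#{w | w ∈ z.2 ∧ w ∉ F ∙ v} : ℤ) = q ^ 2 - q := fun v hv => by
    obtain ⟨h4, h5⟩ := (mem_filter.1 hv).2
    rw [card_diff' (span1_le (h1.1 h4)), h1.2.2, finrank_span_singleton h5, pow_one]
  rw [← h1.2.1, ← card_ne', ← nsmul_eq_mul, ← sum_const, ← sum_congr rfl h3, ← Nat.cast_sum, ← card_sigma]
  congr 2
  ext ⟨v, w⟩
  simp only [mem_sigma, mem_filter, mem_univ, true_and]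
  constructor
  · rintro ⟨⟨a1, a2⟩, a3, a4⟩
    have a5 := eq_span2 h1.2.2 a2 a4 (h1.1 a1) a3
    have a6 : (f v w, Submodule.span F {v, w}) = z := Prod.ext (hf' z h1 v w a2 a4 a1 a5).symm a5.symm
    exact ⟨⟨a2, a4, a6 ▸ h2⟩, a6⟩
  · rintro ⟨⟨a1, a2, -⟩, rfl⟩
    exact ⟨⟨(hf _ _ a1 a2).2, a1⟩, mem_span2_right _ _, a2⟩

theorem count12 (P : Submodule F V × Submodule F V → Prop) :
    (cF 1 2 P : ℤ) * ((q ^ 1 - 1) * (q ^ 2 - q)) =
      ∑ v with v ≠ 0, (#{w | w ∉ F ∙ v ∧ P (F ∙ v, Submodule.span F {v, w})} : ℤ) :=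
  count_pairs 1 (fun v _ => F ∙ v) (fun v w h1 h2 => ⟨⟨span1_le (mem_span2_left _ _), finrank_span_singleton h1,
    finrank_pair h1 h2⟩, Submodule.mem_span_singleton_self v⟩) (fun z hz v w h1 _ h3 _ => eq_span1 hz.2.1 h1 h3) P

theorem count22 (P : Submodule F V × Submodule F V → Prop) :
    (cF 2 2 P : ℤ) * ((q ^ 2 - 1) * (q ^ 2 - q)) =
      ∑ v with v ≠ 0, (#{w | w ∉ F ∙ v ∧ P (Submodule.span F {v, w}, Submodule.span F {v, w})} : ℤ) :=
  count_pairs 2 (fun v w => Submodule.span F {v, w}) (fun v w h1 h2 => ⟨⟨le_rfl, finrank_pair h1 h2,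
    finrank_pair h1 h2⟩, mem_span2_left _ _⟩) (fun z hz v w _ _ _ h4 =>
      (Submodule.eq_of_le_of_finrank_eq hz.1 (hz.2.1.trans hz.2.2.symm)).trans h4) P

theorem count1 (P : Submodule F V → Prop) :
    (#{U : Submodule F V | finrank F U = 1 ∧ P U} : ℤ) * (q - 1) = #{v : V | v ≠ 0 ∧ P (F ∙ v)} := by
  rw [card_eq_sum_card_fiberwise (s := {v : V | v ≠ 0 ∧ P (F ∙ v)}) (t := {U : Submodule F V | finrank F U = 1 ∧ P U})
    (f := fun v => F ∙ v) (fun v hv => by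
      simp only [coe_filter, mem_univ, true_and, Set.mem_ofPred_eq] at hv ⊢
      exact ⟨finrank_span_singleton hv.1, hv.2⟩), Nat.cast_sum, ← nsmul_eq_mul, ← sum_const]
  refine sum_congr rfl fun U hU => ?_
  obtain ⟨h1, h2⟩ := (mem_filter.1 hU).2
  rw [← pow_one (q : ℤ), ← h1, ← card_ne']
  congr 2
  ext v
  simp only [mem_filter, mem_univ, true_and]
  exact ⟨fun h => ⟨⟨h.2, eq_span1 h1 h.2 h.1 ▸ h2⟩, (eq_span1 h1 h.2 h.1).symm⟩,
    fun h => ⟨h.2 ▸ Submodule.mem_span_singleton_self v, h.1.1⟩⟩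

theorem count11 (P : Submodule F V → Prop) :
    (cF 1 1 (fun z => P z.1 ∧ P z.2) : ℤ) * (q - 1) = #{v : V | v ≠ 0 ∧ P (F ∙ v)} := by
  rw [← count1]
  congr 2
  refine card_bij (fun z _ => z.1) (fun z hz => ?_) (fun z hz w hw e => ?_) fun U hU => ?_
  · simp only [mem_filter, mem_univ, true_and] at hz ⊢
    exact ⟨hz.1.2.1, hz.2.1⟩
  · simp only [mem_filter, mem_univ, true_and] at hz hw
    have h : ∀ z ∈ Fl F V 1 1, z.2 = z.1 := fun z hz =>
      (Submodule.eq_of_le_of_finrank_eq hz.1 (hz.2.1.trans hz.2.2.symm)).symm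
    exact Prod.ext e (by rw [h z hz.1, h w hw.1, e])
  · simp only [mem_filter, mem_univ, true_and] at hU ⊢
    exact ⟨(U, U), ⟨⟨le_rfl, hU.1, hU.1⟩, hU.2, hU.2⟩, rfl⟩

theorem card_not' (U : Submodule F V) : (#{x | x ∉ U} : ℤ) = q ^ n - q ^ finrank F U := by
  have := card_diff' (le_top (a := U))
  simpa using this

theorem cancel_q {a b : ℤ} (h : a * (q - 1) = b * (q - 1)) : a = b := by
  have := two_le_q (F := F)
  exact mul_right_cancel₀ (by omega) h

theorem cancel_q' {a b : ℤ} (h : a * q = b * q) : a = b := by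
  have := two_le_q (F := F)
  exact mul_right_cancel₀ (by omega) h

theorem degs {m : ℕ} (hm : n = m + 2) : ∃ N1 N2 N3 : ℕ, pch 𝔾 (Fl F V 1 1) 1 = N1 ∧ pch 𝔾 (Fl F V 2 2) 1 = N2 ∧
    pch 𝔾 (Fl F V 1 2) 1 = N3 ∧ N1 = br q (m + 2) ∧ N2 * (q + 1) = br q (m + 2) * br q (m + 1) ∧
      N3 = br q (m + 2) * br q (m + 1) := by
  refine ⟨_, _, _, pch_Fl _ _ _, pch_Fl _ _ _, pch_Fl _ _ _, ?_⟩
  have h1 := count11 (F := F) (V := V) (fun U => (1 : 𝔾) • U = U)
  have h2 := count22 (F := F) (V := V) (fun z => (1 : 𝔾) • z.1 = z.1 ∧ (1 : 𝔾) • z.2 = z.2)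
  have h3 := count12 (F := F) (V := V) (fun z => (1 : 𝔾) • z.1 = z.1 ∧ (1 : 𝔾) • z.2 = z.2)
  have h4 : ∑ v : V with v ≠ 0, (#{w | w ∉ F ∙ v} : ℤ) = (q ^ n - 1) * (q ^ n - q) := by
    rw [sum_congr rfl fun v hv => by rw [card_not', finrank_span_singleton (mem_filter.1 hv).2, pow_one], sum_const,
      nsmul_eq_mul, ← finrank_top F V, ← card_ne']
    simp
  have h5 := card_ne' (⊤ : Submodule F V)
  simp only [one_smul, and_true, Submodule.mem_top, true_and, finrank_top] at h1 h2 h3 h5 ⊢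
  rw [h4] at h2 h3
  rw [h5] at h1
  have a1 := br_mul_int q (m + 2)
  have a2 := br_mul_int q (m + 1)
  have a3 : (q : ℤ) ^ (m + 2) = q * q ^ (m + 1) := by ring
  rw [hm] at h1 h2 h3
  zify
  refine ⟨cancel_q (F := F) (by rw [h1, ← a1]; ring), cancel_q (F := F) (cancel_q (F := F) (cancel_q' (F := F) ?_)),
    cancel_q (F := F) (cancel_q (F := F) (cancel_q' (F := F) ?_))⟩
  · rw [← a1] at h2 a3; rw [← a2] at a3
    linear_combination h2 + (q - 1) * br q (m + 2) * a3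
  · rw [← a1] at h3 a3; rw [← a2] at a3
    linear_combination h3 + (q - 1) * br q (m + 2) * a3

theorem vals {m : ℕ} (hm : n = m + 2) {c : V} {f : Dual F V} (hc : c ≠ 0) (hf : f ≠ 0) (h : f c = 0) :
    ∃ N1 N2 N3 : ℕ, pch 𝔾 (Fl F V 1 1) (tv c f) = N1 ∧ pch 𝔾 (Fl F V 2 2) (tv c f) = N2 ∧
    pch 𝔾 (Fl F V 1 2) (tv c f) = N3 ∧ N1 = br q (m + 1) ∧ N2 * (q + 1) = br q (m + 1) * br q m + (q + 1) * q ^ m ∧
      N3 = br q (m + 1) * br q m + q ^ m := by
  refine ⟨_, _, _, pch_Fl _ _ _, pch_Fl _ _ _, pch_Fl _ _ _, ?_⟩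
  have h1 := count11 (F := F) (V := V) (fun U => tv c f • U = U)
  have h2 := count22 (F := F) (V := V) (fun z => tv c f • z.1 = z.1 ∧ tv c f • z.2 = z.2)
  have h3 := count12 (F := F) (V := V) (fun z => tv c f • z.1 = z.1 ∧ tv c f • z.2 = z.2)
  have hk : finrank F (LinearMap.ker f) = m + 1 := by have := finrank_ker_dual hf; omega
  have b1 : ∀ v, tv c f • (F ∙ v) = (F ∙ v) ↔ f v = 0 := fun v => by
    rw [tv_smul_eq_iff h]
    refine ⟨fun e => e.elim (fun e => e v (Submodule.mem_span_singleton_self v)) fun e => ?_,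
      fun e => .inl fun u hu => span1_le (U := LinearMap.ker f) e hu⟩
    exact mem_of_mem_span (U := LinearMap.ker f) hc e h
  have b2 : ∀ v w, tv c f • Submodule.span F {v, w} = Submodule.span F {v, w} ↔
      (f v = 0 ∧ f w = 0) ∨ c ∈ Submodule.span F {v, w} := fun v w => by
    rw [tv_smul_eq_iff h]
    exact or_congr_left ⟨fun e => ⟨e v (mem_span2_left _ _), e w (mem_span2_right _ _)⟩,
      fun e u hu => span2_le (U := LinearMap.ker f) e.1 e.2 hu⟩
  let cnt : V → ℤ := fun v => #{w | w ∉ F ∙ v ∧ ((f v = 0 ∧ f w = 0) ∨ c ∈ Submodule.span F {v, w})}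
  have c1 : ∀ v ∈ ({v | v ∈ F ∙ c ∧ v ≠ 0} : Finset V), cnt v = q ^ n - q := fun v hv => by
    obtain ⟨a1, a2⟩ := (mem_filter.1 hv).2
    have := card_not' (F ∙ v)
    rw [finrank_span_singleton a2, pow_one] at this
    rw [← this]
    refine congrArg (fun s : Finset V => (#s : ℤ)) (fc _ fun w => ?_)
    simp only [and_iff_left_iff_imp]
    exact fun _ => .inr (mem_of_mem_span a2 a1 (mem_span2_left _ _))
  have key : ∀ {v w : V}, v ≠ 0 → c ∉ F ∙ v → w ∉ F ∙ v → (c ∈ Submodule.span F {v, w} ↔ w ∈ Submodule.span F {v, c}) :=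
    fun {v w} a1 a2 a3 => ⟨fun e => eq_span2 (finrank_pair a1 a3) a1 a2 (mem_span2_left _ _) e ▸ mem_span2_right _ _,
      fun e => eq_span2 (finrank_pair a1 a2) a1 a3 (mem_span2_left _ _) e ▸ mem_span2_right _ _⟩
  have c2 : ∀ v ∈ ({v | v ∈ LinearMap.ker f ∧ v ∉ F ∙ c} : Finset V), cnt v = q ^ (m + 1) - q := fun v hv => by
    obtain ⟨a1, a2⟩ := (mem_filter.1 hv).2
    have a3 : v ≠ 0 := fun e => a2 (e ▸ zero_mem _)
    have a4 : c ∉ F ∙ v := fun e => a2 (mem_of_mem_span hc e (Submodule.mem_span_singleton_self c))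
    have := card_diff' (span1_le a1)
    rw [finrank_span_singleton a3, pow_one, hk] at this
    rw [← this]
    refine congrArg (fun s : Finset V => (#s : ℤ)) (fc _ fun w => ?_)
    rw [and_comm]
    refine and_congr_left fun a5 => ⟨fun e => e.elim (·.2) fun e => ?_, fun e => .inl ⟨a1, e⟩⟩
    exact span2_le a1 (show c ∈ LinearMap.ker f from h) ((key a3 a4 a5).1 e)
  have c3 : ∀ v ∈ ({v | v ∉ LinearMap.ker f} : Finset V), cnt v = q ^ 2 - q := fun v hv => by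
    have a1 := (mem_filter.1 hv).2
    have a3 : v ≠ 0 := fun e => a1 (e ▸ zero_mem _)
    have a4 : c ∉ F ∙ v := fun e => a1 (mem_of_mem_span hc e h)
    have := card_diff' (span1_le (mem_span2_left (F := F) v c))
    rw [finrank_span_singleton a3, pow_one, finrank_pair a3 a4] at this
    rw [← this]
    refine congrArg (fun s : Finset V => (#s : ℤ)) (fc _ fun w => ?_)
    rw [and_comm]
    exact and_congr_left fun a5 => ⟨fun e => e.elim (fun e => absurd e.1 a1) (key a3 a4 a5).1,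
      fun e => .inr ((key a3 a4 a5).2 e)⟩
  have d1 : ∑ v with v ∈ LinearMap.ker f ∧ v ≠ 0, cnt v = (q - 1) * (q ^ n - q) + (q ^ (m + 1) - q) ^ 2 := by
    rw [← sum_filter_add_sum_filter_not _ (· ∈ F ∙ c), filter_filter, filter_filter,
      fc (fun v => v ∈ F ∙ c ∧ v ≠ 0) (P := fun v => (v ∈ LinearMap.ker f ∧ v ≠ 0) ∧ v ∈ F ∙ c) fun v =>
        ⟨fun e => ⟨e.2, e.1.2⟩, fun e => ⟨⟨span1_le (U := LinearMap.ker f) h e.1, e.2⟩, e.1⟩⟩,
      fc (fun v => v ∈ LinearMap.ker f ∧ v ∉ F ∙ c) (P := fun v => (v ∈ LinearMap.ker f ∧ v ≠ 0) ∧ v ∉ F ∙ c) fun v =>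
        ⟨fun e => ⟨e.1.1, e.2⟩, fun e => ⟨⟨e.1, fun e' => e.2 (e' ▸ zero_mem _)⟩, e.2⟩⟩,
      sum_congr rfl c1, sum_congr rfl c2, sum_const, sum_const, nsmul_eq_mul, nsmul_eq_mul, card_ne',
      card_diff' (span1_le (U := LinearMap.ker f) h), hk, finrank_span_singleton hc]
    ring
  have d2 : ∑ v with v ≠ 0, cnt v = (q - 1) * (q ^ n - q) + (q ^ (m + 1) - q) ^ 2 +
      (q ^ n - q ^ (m + 1)) * (q ^ 2 - q) := by
    rw [← sum_filter_add_sum_filter_not _ (· ∈ LinearMap.ker f), filter_filter, filter_filter,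
      fc (fun v => v ∈ LinearMap.ker f ∧ v ≠ 0) fun v => and_comm, d1,
      fc (fun v => v ∉ LinearMap.ker f) fun v =>
        ⟨fun e => e.2, fun e => ⟨fun e' => e (e' ▸ zero_mem _), e⟩⟩, sum_congr rfl c3, sum_const, nsmul_eq_mul,
      card_not', hk]
  have d3 : ∑ v with v ≠ 0, (#{w | w ∉ F ∙ v ∧ (f v = 0 ∧ ((f v = 0 ∧ f w = 0) ∨ c ∈ Submodule.span F {v, w}))} : ℤ) =
      (q - 1) * (q ^ n - q) + (q ^ (m + 1) - q) ^ 2 := by
    rw [← d1, ← sum_filter_add_sum_filter_not _ (· ∈ LinearMap.ker f), filter_filter, filter_filter,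
      fc (fun v => v ∈ LinearMap.ker f ∧ v ≠ 0) fun v => and_comm,
      sum_eq_zero (s := filter (fun a => a ≠ 0 ∧ a ∉ LinearMap.ker f) univ) fun v hv => by
        have : ¬ f v = 0 := (mem_filter.1 hv).2.2
        simp [this], add_zero]
    refine sum_congr rfl fun v hv => ?_
    have : f v = 0 := (mem_filter.1 hv).2.1
    simp [cnt, this]
  have d4 : (#{v : V | v ≠ 0 ∧ f v = 0} : ℤ) = q ^ (m + 1) - 1 := by
    rw [← hk, ← card_ne']
    congr 2
    ext; simp [and_comm]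
  simp only [b1, b2, and_self] at h1 h2 h3
  rw [d4] at h1
  rw [d3] at h3
  erw [d2] at h2
  have a1 := br_mul_int q m
  have a2 := br_mul_int q (m + 1)
  have a3 : (q : ℤ) ^ (m + 2) = q * q * q ^ m := by ring
  have a4 : (q : ℤ) ^ (m + 1) = q * q ^ m := by ring
  have a5 : (br q (m + 1) : ℤ) = q * br q m + 1 := by rw [br_succ]; push_cast; ring
  rw [hm, a3, a4, ← a1] at h2 h3
  zify
  refine ⟨cancel_q (F := F) (by rw [h1, ← a2]; ring),
    cancel_q (F := F) (cancel_q (F := F) (cancel_q' (F := F) ?_)),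
    cancel_q (F := F) (cancel_q (F := F) (cancel_q' (F := F) ?_))⟩
  · rw [← a1, a5]
    linear_combination h2
  · rw [← a1, a5]
    linear_combination h3

end Cfsg.Agent.H2.PL
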