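import Cfsg.Agent.H2.PLd

/-! Rank three actions of `SL(V)`: the small unipotent constituents. -/

set_option autoImplicit false
set_option linter.unusedSectionVars false

namespace Cfsg.Agent.H2.PL

open MulAction Finset Module Cfsg.Agent.H1 Cfsg.Agent.H4
open scoped Classical Pointwise

theorem no_between {m a W C : ℤ} (hW : 0 < W) (h : m * W = C) (h1 : a * W < C) (h2 : C < (a + 1) * W) : False := by
  have a1 : a < m := lt_of_mul_lt_mul_right (h ▸ h1) hW.le
  have a2 : m < a + 1 := lt_of_mul_lt_mul_right (h ▸ h2) hW.le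
  omega

set_option maxHeartbeats 2000000 in
theorem numA {q a b2 b1 N T Q v f g x y S d : ℤ} (hq : 2 ≤ q) (ha : q + 1 ≤ a) (e2 : b2 = q * a + 1)
    (e1 : b1 = q * b2 + 1) (eN : N = q * b1 + 1) (eT : T = (q - 1) * a + 1) (eQ : Q = q * q * T)
    (ed : d + N = Q * N) (T0 : 1 + f + g = v) (T1 : Q * N + f * x + g * y = v * N)
    (T2 : v * (S + (x - N) * (y - N)) = (Q * N - x) * (Q * N - y)) (hy : y = 0 ∨ y = Q)
    (hS : v ≤ d + 1 ∨ ∃ m, S = m * d)
    (h : (f * (q + 1) = q ^ 2 * N * a ∧ x = q * T * (b1 + q)) ∨ (f * (q + 1) = q ^ 3 * b1 * b2 ∧ x = N * T)) :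
    False := by
  obtain ⟨s, rfl⟩ := Int.le.dest hq
  obtain ⟨u, rfl⟩ := Int.le.dest ha
  generalize hq' : (2 + s : ℤ) = q at *
  generalize ha' : q + 1 + u = a at *
  have p0 : 0 < q - 1 := by omega
  have pq : 0 < q := by omega
  have pa : 0 < a := by omega
  have p1 : 0 < T := by rw [eT]; positivity
  have p2 : 0 < b2 := by rw [e2]; positivity
  have p3 : 0 < b1 := by rw [e1]; positivity
  have p4 : 0 < N := by rw [eN]; positivity
  have p5 : 0 < Q := by rw [eQ]; positivity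
  have p6 : Q - 1 = (q - 1) * b1 := by rw [eQ, eT, e1, e2]; ring
  have big : ∀ W, v * (q + 1) = Q * W → (q + 1) * N < W → ¬ v ≤ d + 1 := fun W h1 h2 h3 => by
    have a1 : v * (q + 1) ≤ Q * N * (q + 1) := mul_le_mul_of_nonneg_right (by omega) (by omega)
    nlinarith
  have ed' : d = (q - 1) * b1 * N := by rw [← p6]; linear_combination ed
  obtain rfl : g = v - 1 - f := by omega
  rcases h with ⟨h1, h2⟩ | ⟨h1, h2⟩ <;> rcases hy with rfl | rfl
  · have hv : v * (q + 1) = Q * (b1 * b2) := mul_left_cancel₀ p4.ne' (by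
      subst h2 eQ; rw [e1, e2] at *; linear_combination (-(q + 1)) * T1 + (q * T * (q * (q * a + 1) + 1 + q)) * h1)
    rcases hS with hS | ⟨m, rfl⟩
    · exact big _ hv (by subst eN e1 e2 ha' hq'; rw [← sub_pos]; ring_nf; positivity) hS
    · refine no_between (m := m - b2) (a := 0) (W := b1 * b2) (C := q * T * (q + 1) ^ 2) (by positivity)
        (mul_left_cancel₀ (a := Q * N * ((q - 1) * b1)) (by positivity) ?_) (by rw [zero_mul]; positivity)
        (by subst eT e1 e2 ha' hq'; rw [← sub_pos]; ring_nf; positivity)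
      have a1 : x - N = (q - 1) * b1 * b2 := by subst h2 eN eT e1 e2; ring
      have a2 : Q * N - x = (q - 1) * b1 * (q * T * (q + 1)) := by subst h2 eQ eN eT e1 e2; ring
      rw [a1, a2, ed'] at T2
      linear_combination (q + 1) * T2 - (m - b2) * ((q - 1) * b1 * N) * hv
  · have a0 : x - y = q * T * b1 := by subst h2; rw [eQ]; ring
    have a3 : N - y = b1 := by rw [eQ, eN, eT, e1, e2]; ring
    have hv : v * (q + 1) = y * (q * (q + 1 + N * a)) := mul_left_cancel₀ p3.ne' (by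
      have : v * b1 = y * q * b1 + f * (q * T * b1) := by
        rw [← a0]; linear_combination (-v) * a3 - T1 + y * eN
      linear_combination (q + 1) * this + q * T * b1 * h1 - q * N * a * b1 * eQ)
    rcases hS with hS | ⟨m, rfl⟩
    · exact big _ hv (by subst eN e1 e2 ha' hq'; rw [← sub_pos]; ring_nf; positivity) hS
    · refine no_between (m := m) (a := a) (W := q + 1 + N * a) (C := b1 * (q + 1 + b2 * a)) (by positivity)
        (mul_left_cancel₀ (a := y * q * N * ((q - 1) * b1)) (by positivity) ?_)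
        (by subst eN e1 e2 ha' hq'; rw [← sub_pos]; ring_nf; positivity)
        (by subst eN e1 e2 ha' hq'; rw [← sub_pos]; ring_nf; positivity)
      have a1 : x - N = (q - 1) * b1 * b2 := by subst h2 eN eT e1 e2; ring
      have a2 : y * N - x = (q - 1) * b1 * (q * T * (q + 1)) := by subst h2 eQ eN eT e1 e2; ring
      have a4 : y * N - y = y * q * b1 := by rw [eN]; ring
      have a5 : y - N = -b1 := by omega
      have a6 : (q + 1 + N * a) * b2 + q * T * (q + 1) ^ 2 = N * (q + 1 + b2 * a) := by subst eN eT e1 e2; ring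
      rw [a1, a2, ed', a4, a5] at T2
      linear_combination (q + 1) * T2 - (m * N - b2 * b1) * ((q - 1) * b1) * hv + y * q * (q - 1) * b1 * b1 * a6
  · have hv : v * (q + 1) = Q * (q + 1 + q * b1 * b2) := mul_left_cancel₀ p4.ne' (by
      subst h2 eQ; linear_combination (-(q + 1)) * T1 + N * T * h1)
    rcases hS with hS | ⟨m, rfl⟩
    · exact big _ hv (by subst eN e1 e2 ha' hq'; rw [← sub_pos]; ring_nf; positivity) hS
    · refine no_between (m := m) (a := a * q) (W := b1 * (q + 1 + q * b1 * b2))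
        (C := N * (a * (q + 1 + q * b1 * b2) + (q + 1) ^ 2 * T)) (by positivity)
        (mul_left_cancel₀ (a := Q * N * (q - 1)) (by positivity) ?_)
        (by subst eN eT e1 e2 ha' hq'; rw [← sub_pos]; ring_nf; positivity)
        (by subst eN eT e1 e2 ha' hq'; rw [← sub_pos]; ring_nf; positivity)
      have a1 : x - N = (q - 1) * N * a := by subst h2 eT; ring
      have a2 : Q * N - x = (q - 1) * (q + 1) * T * N := by subst h2 eQ; ring
      rw [a1, a2, ed'] at T2
      linear_combination (q + 1) * T2 - (m * b1 - a * N) * ((q - 1) * N) * hv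
  · have a0 : x - y = T * (N - q ^ 2) := by subst h2; rw [eQ]; ring
    have a3 : N - y = b1 := by rw [eQ, eN, eT, e1, e2]; ring
    have hv : v * (q + 1) = y * (q * (q + 1 + b2 * (N - q ^ 2))) := mul_left_cancel₀ p3.ne' (by
      have : v * b1 = y * q * b1 + f * (T * (N - q ^ 2)) := by
        rw [← a0]; linear_combination (-v) * a3 - T1 + y * eN
      linear_combination (q + 1) * this + T * (N - q ^ 2) * h1 - q * b1 * b2 * (N - q ^ 2) * eQ)
    rcases hS with hS | ⟨m, rfl⟩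
    · exact big _ hv (by subst eN e1 e2 ha' hq'; rw [← sub_pos]; ring_nf; positivity) hS
    · refine no_between (m := m - a) (a := 0) (W := q + 1 + b2 * (N - q ^ 2)) (C := (q + 1) ^ 2 * T)
        (by subst eN e1 e2 ha' hq'; ring_nf; positivity)
        (mul_left_cancel₀ (a := y * q * N * ((q - 1) * b1)) (by positivity) ?_) (by rw [zero_mul]; positivity)
        (by subst eN eT e1 e2 ha' hq'; rw [← sub_pos]; ring_nf; positivity)
      have a1 : x - N = (q - 1) * N * a := by subst h2 eT; ring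
      have a2 : y * N - x = (q - 1) * (q + 1) * T * N := by subst h2 eQ; ring
      have a4 : y * N - y = y * q * b1 := by rw [eN]; ring
      have a5 : y - N = -b1 := by omega
      rw [a1, a2, ed', a4, a5] at T2
      linear_combination (q + 1) * T2 - (m - a) * ((q - 1) * b1 * N) * hv

theorem neg_cases {p k N Q v f g x y : ℕ} (hp : p.Prime) (eQ : Q = p ^ (k + 1)) (hN : N < 2 * Q) (h1 : Q ∣ x * f)
    (h2 : Q ∣ y * g) (hv : Q ∣ v) (T0 : 1 + f + g = v) (T1 : Q * N + f * x + g * y = v * N) (hx : ¬ Q ∣ x)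
    (hN0 : 0 < N) (hNx : N ≤ x) : y = 0 ∨ y = Q := by
  subst eQ
  have a1 : p ∣ f := by
    by_contra h
    exact hx ((Nat.Coprime.pow_left _ ((hp.coprime_iff_not_dvd).2 h)).dvd_of_dvd_mul_right h1)
  have a2 : ¬ p ∣ g := fun h => by
    have := (dvd_pow_self p (Nat.succ_ne_zero k)).trans hv
    rw [← T0, add_assoc, Nat.dvd_add_left (dvd_add a1 h)] at this
    exact hp.one_lt.ne' (Nat.dvd_one.1 this)
  obtain ⟨c, rfl⟩ := (Nat.Coprime.pow_left _ ((hp.coprime_iff_not_dvd).2 a2)).dvd_of_dvd_mul_right h2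
  have a3 : 1 < p ^ (k + 1) := Nat.one_lt_pow (by omega) hp.one_lt
  generalize p ^ (k + 1) = Q at *
  have a4 : Q * c < N := by
    by_contra h
    have b1 := Nat.mul_le_mul_left g (not_lt.1 h)
    have b2 := Nat.mul_le_mul_left f hNx
    have b3 := Nat.mul_lt_mul_of_pos_right a3 hN0
    subst T0
    nlinarith
  have a5 : c < 2 := by
    by_contra h
    have := Nat.mul_le_mul_left Q (not_lt.1 h)
    omega
  interval_cases c <;> simp

variable {F : Type*} [Field F] {V : Type*} [AddCommGroup V] [Module F V] [FiniteDimensional F V] [Fintype F]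
  [Fintype V] [Fintype (Submodule F V)] [Fintype (Dual F V)] [Fintype (SpecialLinearGroup F V)]
  {X : Type*} [Fintype X] [MulAction (SpecialLinearGroup F V) X] {x : X}

local notation "𝔾" => SpecialLinearGroup F V
local notation "q" => Fintype.card F
local notation "n" => finrank F V

theorem exists_q_pow (k : ℕ) : ∃ p j : ℕ, p.Prime ∧ CharP F p ∧ q ^ (k + 1) = p ^ (j + 1) := by
  obtain ⟨p, _, ⟨e, he⟩, hp, h⟩ := FiniteField.card' F
  refine ⟨p, e * (k + 1) - 1, hp, inferInstance, ?_⟩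
  rw [h, ← pow_mul, Nat.sub_add_cancel (Nat.mul_pos he (by omega))]
  rfl

theorem free_all (R : RK 𝔾 x) (h0 : ∀ t ∈ DD F V, t • x ≠ x) (y : X) (t : 𝔾) (ht : t ∈ DD F V) : t • y ≠ y := by
  obtain ⟨g, rfl⟩ := R.tr y
  intro e
  refine h0 _ (DD_conj g⁻¹ t ht) ?_
  rw [inv_inv, mul_smul, mul_smul, e, inv_smul_smul]

theorem exists_tvdata (hn : 2 ≤ n) : ∃ (c : V) (f : Dual F V), c ≠ 0 ∧ f ≠ 0 ∧ f c = 0 := by
  obtain ⟨c, -, hc⟩ := exists_ne_mem (T := (⊤ : Submodule F V)) (by rw [finrank_top]; omega)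
  obtain ⟨w, -, hw⟩ := exists_mem_not (S := F ∙ c) (T := ⊤) (by rw [finrank_top, finrank_span_singleton hc]; omega)
  obtain ⟨f, h1, h2⟩ := sep_vec _ w hw
  exact ⟨c, f, hc, fun e => by simp [e] at h1, h2 c (Submodule.mem_span_singleton_self c)⟩

theorem spec (hn : 3 ≤ n) (R : RK 𝔾 x) (h0 : ∀ t ∈ DD F V, t • x ≠ x) {χ ψ : 𝔾 → ℂ} (hχ : IsIrrCharacter _ χ)
    (hψ : IsIrrCharacter _ ψ) (e : pch 𝔾 X = (fun _ => 1) + χ + ψ) : ∃ f g a b : ℕ, χ 1 = f ∧
      omD (DD F V) χ = a - br q n ∧ omD (DD F V) ψ = b - br q n ∧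
      (∀ {a' b' f' g' : ℕ}, (a' = a ∧ b' = b ∧ f' = f ∧ g' = g) ∨ (a' = b ∧ b' = a ∧ f' = g ∧ g' = f) →
        ¬ q ^ (n - 1) ∣ a' → br q n ≤ a' → b' = 0 ∨ b' = q ^ (n - 1)) ∧
      1 + f + g = Fintype.card X ∧ q ^ (n - 1) * br q n + f * a + g * b = Fintype.card X * br q n ∧
      (Fintype.card X : ℤ) * ((∑ y, nD (DD F V) x y ^ 2 : ℕ) + (a - br q n) * (b - br q n)) =
        (q ^ (n - 1) * br q n - a) * (q ^ (n - 1) * br q n - b) := by
  obtain ⟨f, a, -, h1, h2, h3⟩ := omD_nat (by omega) hχ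
  obtain ⟨g, b, -, h4, h5, h6⟩ := omD_nat (by omega) hψ
  have hD := card_DD (F := F) (V := V)
  have hD' : ((DD F V).card : ℂ) = q ^ (n - 1) * br q n - br q n := by
    rw [eq_sub_iff_add_eq]; exact_mod_cast hD
  have T0 : 1 + f + g = Fintype.card X := by
    have := congrFun e 1
    rw [pch_eq] at this
    simp only [one_smul, if_true, sum_const, card_univ, nsmul_eq_mul, mul_one, Pi.add_apply, h1, h4] at this
    exact_mod_cast this.symm
  have s1 : ∀ k, ∑ t ∈ DD F V, pch 𝔾 X (t * k) = (DD F V).card + (a - br q n) * χ k + (b - br q n) * ψ k := fun k => by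
    simp only [e, Pi.add_apply, sum_add_distrib, sum_omD DD_conj hχ, sum_omD DD_conj hψ, h2, h5]
    simp
  have T1 : (0 : ℂ) = (DD F V).card + (a - br q n) * f + (b - br q n) * g := by
    rw [← h1, ← h4, ← s1, eq_comm]
    refine sum_eq_zero fun t ht => ?_
    rw [mul_one, pch_eq]
    exact sum_eq_zero fun y _ => if_neg (free_all R h0 y t ht)
  have T2 := trace_two DD_conj DD_inv R.tr
  have s2 := sum_omD DD_conj hχ 1
  have s3 := sum_omD DD_conj hψ 1
  simp only [mul_one] at s2 s3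
  rw [sum_comm, sum_congr rfl fun k _ => s1 k, sum_add_distrib, sum_add_distrib, ← mul_sum, ← mul_sum, s2, s3, h1, h2,
    h4, h5, sum_const, nsmul_eq_mul, hD'] at T2
  have T0' : (Fintype.card X : ℂ) = 1 + f + g := by exact_mod_cast T0.symm
  rw [hD'] at T1
  have T1' : q ^ (n - 1) * br q n + f * a + g * b = Fintype.card X * br q n := by
    have : (q : ℂ) ^ (n - 1) * br q n + f * a + g * b = Fintype.card X * br q n := by
      rw [T0']; linear_combination -T1
    exact_mod_cast this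
  have hv : q ^ (n - 1) ∣ Fintype.card X := by
    obtain ⟨c, u, a1, a2, a3⟩ := exists_tvdata (F := F) (V := V) (by omega)
    have := tv_fixed_dvd (X := X) hn a3 a1 a2
    have a4 : IsEmpty (fixedBy X (tv c u)) := ⟨fun y => free_all R h0 _ _ (tv_mem_DD a1 a2 a3) y.2⟩
    simpa using this
  refine ⟨f, g, a, b, h1, h2, h5, fun h a1 a2 => ?_, T0, T1', ?_⟩
  · obtain ⟨p, j, hp, -, e1⟩ := exists_q_pow (F := F) (n - 2)
    rw [show n - 2 + 1 = n - 1 by omega] at e1
    have a3 : br q n < 2 * q ^ (n - 1) := by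
      have := br_lt (two_le_q (F := F)) (n - 1)
      have := br_succ' q (n - 1)
      rw [show n - 1 + 1 = n by omega] at this
      omega
    have a4 : 0 < br q n := by
      have := br_succ q (n - 1)
      rw [show n - 1 + 1 = n by omega] at this
      omega
    rcases h with ⟨rfl, rfl, rfl, rfl⟩ | ⟨rfl, rfl, rfl, rfl⟩
    · exact neg_cases hp e1 a3 h3 h6 hv T0 T1' a1 a4 a2
    · exact neg_cases hp e1 a3 h6 h3 hv (by omega) (by omega) a1 a4 a2
  · have : (Fintype.card X : ℂ) * ((∑ y, nD (DD F V) x y ^ 2 : ℕ) + (a - br q n) * (b - br q n)) =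
        (q ^ (n - 1) * br q n - a) * (q ^ (n - 1) * br q n - b) := by
      rw [mul_add, ← T2, T0']
      linear_combination ((a - br q n) + (b - br q n) : ℂ) * (-T1)
    exact_mod_cast this

theorem ne_of_inner {G : Type*} [Group G] [Fintype G] {θ η : G → ℂ} (h : IsIrrCharacter G θ) (e : classInner θ η = 0) :
    θ ≠ η := fun e' => by
  rw [← e', IsIrrCharacter.classInner_self h] at e
  exact one_ne_zero e

set_option maxHeartbeats 1000000 in
theorem no_bg {m : ℕ} (hm : n = m + 3) (h2 : 2 ≤ m) (R : RK 𝔾 x) (h0 : ∀ t ∈ DD F V, t • x ≠ x) {χ ψ : 𝔾 → ℂ}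
    (hχ : IsIrrCharacter _ χ) (hψ : IsIrrCharacter _ ψ) (e : pch 𝔾 X = (fun _ => 1) + χ + ψ)
    (h : χ = pch 𝔾 (Fl F V 2 2) - pch 𝔾 (Fl F V 1 1) ∨
      χ = pch 𝔾 (Fl F V 1 2) - pch 𝔾 (Fl F V 2 2) - pch 𝔾 (Fl F V 1 1) + fun _ => 1) : False := by
  obtain ⟨f, g, a, b, h1, h3, -, h4, T0, T1, T2⟩ := spec (by omega) R h0 hχ hψ e
  obtain ⟨c, u, a1, a2, a3⟩ := exists_tvdata (F := F) (V := V) (by omega)
  obtain ⟨N1, N2, N3, b1, b2, b3, b4, b5, b6⟩ := degs (F := F) (V := V) (m := m + 1) hm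
  obtain ⟨M1, M2, M3, c1, c2, c3, c4, c5, c6⟩ := vals (m := m + 1) hm a1 a2 a3
  have hD := card_DD (F := F) (V := V)
  have hf : (f : ℂ) ≠ 0 := h1 ▸ IsIrrCharacter.one_ne_zero hχ
  have h5 : ((a : ℂ) - br q n) * f = (DD F V).card * χ (tv c u) := by
    rw [← h3, omD, h1, div_mul_cancel₀ _ hf, sum_congr rfl (g := fun _ => χ (tv c u)) fun t ht => ?_, sum_const,
      nsmul_eq_mul]
    obtain ⟨w, u', d1, d2, d3, rfl⟩ := mem_DD.1 ht
    obtain ⟨k, hk⟩ := tv_isConj (by omega) a3 d3 a1 d1 a2 d2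
    rw [← hk, IsCharacter.isClassFunction (IsIrrCharacter.isCharacter hχ)]
  have hq := two_le_q (F := F)
  have ha : q + 1 ≤ br q m := by simpa [br, sum_range_succ, add_comm] using br_mono («q» := q) h2
  have e2 : (br q (m + 1) : ℤ) = q * br q m + 1 := by rw [br_succ]; push_cast; ring
  have e1 : (br q (m + 1 + 1) : ℤ) = q * br q (m + 1) + 1 := by rw [br_succ]; push_cast; ring
  have eN : (br q (m + 1 + 2) : ℤ) = q * br q (m + 1 + 1) + 1 := by rw [br_succ]; push_cast; ring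
  have eT := (br_mul_int q m).symm
  have eQ : (q : ℤ) ^ (m + 2) = q * q * q ^ m := by ring
  have eQ' : (q : ℤ) ^ (m + 1) = q * q ^ m := by ring
  rw [hm, show m + 3 - 1 = m + 2 from rfl, show m + 3 = m + 1 + 2 from rfl] at *
  have hf' : (0 : ℤ) < f := by
    have : f ≠ 0 := by exact_mod_cast hf
    omega
  have hS := R.nD_cases DD_conj h0
  zify at b4 b5 b6 c4 c5 c6 hD T0 T1 ha hq
  have hT : (0 : ℤ) < q ^ m := by positivity
  have ha0 : (0 : ℤ) < br q m := by omega
  have hN : (0 : ℤ) < br q (m + 1 + 2) := by rw [eN]; positivity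
  have key : (f * (q + 1) = (q : ℤ) ^ 2 * br q (m + 1 + 2) * br q m ∧ (a : ℤ) = q * q ^ m * (br q (m + 1 + 1) + q)) ∨
      (f * (q + 1) = (q : ℤ) ^ 3 * br q (m + 1 + 1) * br q (m + 1) ∧ (a : ℤ) = br q (m + 1 + 2) * q ^ m) := by
    rcases h with rfl | rfl
    · simp only [Pi.sub_apply, b1, b2, c1, c2] at h1 h5
      have d1 : (N2 : ℤ) - N1 = f := by exact_mod_cast h1
      have d2 : ((a : ℤ) - br q (m + 1 + 2)) * f = (DD F V).card * (M2 - M1) := by exact_mod_cast h5
      have d3 : f * (q + 1) = (q : ℤ) ^ 2 * br q (m + 1 + 2) * br q m := by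
        rw [← d1, sub_mul, b5, b4, e1, e2]; ring
      have d4 : ((M2 : ℤ) - M1) * (q + 1) = q ^ 2 * br q (m + 1) * br q m := by
        rw [sub_mul, c5, c4, eQ', eT, e1, e2]; ring
      refine .inl ⟨d3, mul_right_cancel₀ (b := (q : ℤ) ^ 2 * br q (m + 1 + 2) * br q m) (by positivity) ?_⟩
      have d5 : (q : ℤ) * q ^ m * (br q (m + 1 + 1) + q) - br q (m + 1 + 2) = (q ^ (m + 2) - 1) * br q (m + 1) := by
        rw [eQ, eT, eN, e1, e2]; ring
      linear_combination (q + 1 : ℤ) * d2 - ((a : ℤ) - br q (m + 1 + 2)) * d3 + ((DD F V).card : ℤ) * d4 +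
        (q : ℤ) ^ 2 * br q (m + 1) * br q m * hD - (q : ℤ) ^ 2 * br q (m + 1 + 2) * br q m * d5
    · simp only [Pi.sub_apply, Pi.add_apply, b1, b2, b3, c1, c2, c3] at h1 h5
      have d1 : (N3 : ℤ) - N2 - N1 + 1 = f := by exact_mod_cast h1
      have d2 : ((a : ℤ) - br q (m + 1 + 2)) * f = (DD F V).card * (M3 - M2 - M1 + 1) := by exact_mod_cast h5
      have d3 : f * (q + 1) = (q : ℤ) ^ 3 * br q (m + 1 + 1) * br q (m + 1) := by
        rw [← d1, add_mul, sub_mul, sub_mul, b5, b4, b6, eN, e1]; ring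
      have d4 : ((M3 : ℤ) - M2 - M1 + 1) * (q + 1) = q ^ 3 * br q (m + 1) * br q m := by
        rw [add_mul, sub_mul, sub_mul, c5, c4, c6, e1, e2]; ring
      have hb : (0 : ℤ) < br q (m + 1) := by rw [e2]; positivity
      have hb' : (0 : ℤ) < br q (m + 1 + 1) := by rw [e1]; positivity
      refine .inr ⟨d3, mul_right_cancel₀ (b := (q : ℤ) ^ 3 * br q (m + 1 + 1) * br q (m + 1)) (by positivity) ?_⟩
      have d5 : (q : ℤ) ^ (m + 2) - 1 = (q - 1) * br q (m + 1 + 1) := by rw [eQ, eT, e1, e2]; ring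
      linear_combination (q + 1 : ℤ) * d2 - ((a : ℤ) - br q (m + 1 + 2)) * d3 + ((DD F V).card : ℤ) * d4 +
        (q : ℤ) ^ 3 * br q (m + 1) * br q m * hD + (q : ℤ) ^ 3 * br q (m + 1 + 2) * br q (m + 1) * br q m * d5 -
        (q : ℤ) ^ 3 * br q (m + 1 + 2) * br q (m + 1) * br q (m + 1 + 1) * eT
  have hq1 : ∀ z : ℤ, ¬ (q : ℤ) ∣ q * z + 1 := fun z h => by
    have := Int.le_of_dvd one_pos ((dvd_add_right (dvd_mul_right _ _)).1 h)
    omega
  refine numA hq ha e2 e1 eN eT eQ hD T0 T1 T2 (by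
    refine (h4 (.inl ⟨rfl, rfl, rfl, rfl⟩) (fun h => ?_) ?_).imp (fun h => by exact_mod_cast h) fun h => by exact_mod_cast h
    · zify at h
      rcases key with ⟨-, k⟩ | ⟨-, k⟩
      · rw [k, eQ, show (q : ℤ) * q * q ^ m = q * q ^ m * q by ring, mul_dvd_mul_iff_left (by positivity), e1] at h
        exact hq1 _ ((dvd_add_left dvd_rfl).1 h)
      · rw [k, eQ, mul_dvd_mul_iff_right hT.ne', eN] at h
        exact hq1 _ ((dvd_mul_right _ _).trans h)
    · zify
      rcases key with ⟨-, k⟩ | ⟨-, k⟩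
      · rw [k, eN]
        have : (0 : ℤ) ≤ br q (m + 1 + 1) := by positivity
        nlinarith [mul_pos hT (by omega : (0 : ℤ) < q), mul_nonneg (mul_nonneg (by omega : (0 : ℤ) ≤ q) this)
          (by omega : (0 : ℤ) ≤ q ^ m - 1)]
      · rw [k]; nlinarith) (hS.imp (fun h => by exact_mod_cast h) fun ⟨k, h⟩ => ⟨k, by exact_mod_cast h⟩) key

theorem main_cases (hn : 5 ≤ n) (R : RK 𝔾 x) : Fintype.card X * (q + 1) = br q n * br q (n - 1) ∨
    (ro 𝔾 x (Fl F V 1 1) = 2 ∧ ro 𝔾 x (Fl F V 2 2) = 2 ∧ (ro 𝔾 x (Fl F V 1 2) = 3 ∨ ∃ k, Fintype.card X = q * k + 1)) ∨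
    (ro 𝔾 x (Fl F V 1 1) = 1 ∧ ((∀ t ∈ DD F V, t • x ≠ x) → ro 𝔾 x (Fl F V 1 2) = 1)) := by
  obtain ⟨m, hm⟩ : ∃ m, n = m + 3 := ⟨n - 3, by omega⟩
  obtain ⟨N1, N2, N3, b1, b2, b3, b4, b5, b6⟩ := degs (F := F) (V := V) (m := m + 1) hm
  obtain ⟨⟨g1, g2, g3⟩, ⟨g4, g5, g6⟩, ⟨g7, g8, g9⟩, ⟨g10, g11, g12⟩, g13, g14, g15⟩ :=
    gram_all (F := F) (V := V) hn rfl rfl rfl
  have g0 := IsIrrCharacter.classInner_self (isIrrCharacter_one (G := 𝔾))
  have r1 := inner_ro (G := 𝔾) (Y := Fl F V 1 1) x R.tr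
  have r2 := inner_ro (G := 𝔾) (Y := Fl F V 2 2) x R.tr
  have r3 := inner_ro (G := 𝔾) (Y := Fl F V 1 2) x R.tr
  have r0 := inner_ro (G := 𝔾) (Y := Fl F V 0 0) x R.tr
  have nb := fun h0 χ ψ => no_bg (χ := χ) (ψ := ψ) hm (by omega) R h0
  have c1 : IsGeneralizedCharacter 𝔾 (pch 𝔾 (Fl F V 1 1)) := IsCharacter.isGeneralized (isCharacter_fixedBy _)
  have c2 : IsGeneralizedCharacter 𝔾 (pch 𝔾 (Fl F V 2 2)) := IsCharacter.isGeneralized (isCharacter_fixedBy _)
  have c3 : IsGeneralizedCharacter 𝔾 (pch 𝔾 (Fl F V 1 2)) := IsCharacter.isGeneralized (isCharacter_fixedBy _)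
  have c0 : IsGeneralizedCharacter 𝔾 (fun _ => 1) := IsCharacter.isGeneralized isCharacter_one
  have r0' : classInner (pch 𝔾 X) (fun _ => 1) = 1 := by
    obtain ⟨χ, ψ, h1, h2, -, h3, h4, e⟩ := R.decomp
    rw [e, classInner_add_left, classInner_add_left, g0, IsIrrCharacter.classInner_of_ne h1 isIrrCharacter_one h3,
      IsIrrCharacter.classInner_of_ne h2 isIrrCharacter_one h4]
    simp
  have hv : pch 𝔾 X 1 = Fintype.card X := by simp [pch_eq]
  generalize pch 𝔾 (Fl F V 1 1) = P1 at *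
  generalize pch 𝔾 (Fl F V 2 2) = P2 at *
  generalize pch 𝔾 (Fl F V 1 2) = P3 at *
  have hq := two_le_q (F := F)
  have e2 := br_succ q (m + 1)
  have e3 := br_succ q m
  have e1 := br_succ q (m + 1 + 1)
  have ha : q + 1 ≤ br q m := by simpa [br, sum_range_succ, add_comm] using br_mono («q» := q) (show 2 ≤ m by omega)
  have l1 : 1 < N1 := by rw [b4, e1, e2]; nlinarith
  have l2 : N1 < N2 := lt_of_mul_lt_mul_right (a := q + 1) (by
    rw [b5, b4]; exact Nat.mul_lt_mul_of_pos_left (by rw [e2, e3]; nlinarith) (by omega)) (by omega)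
  have l3 : N3 = N2 * q + N2 := by rw [b6, ← b5]; ring
  have l4 : N2 + N1 < N3 + 1 := by nlinarith
  have ia : IsIrrCharacter 𝔾 (P1 - fun _ => 1) := IsGeneralizedCharacter.isIrr (IsGeneralizedCharacter.sub c1 c0)
    (by simp only [classInner_sub_left, classInner_sub_right, *]; norm_num) (by simpa [b1] using l1)
  have ib : IsIrrCharacter 𝔾 (P2 - P1) := IsGeneralizedCharacter.isIrr (IsGeneralizedCharacter.sub c2 c1)
    (by simp only [classInner_sub_left, classInner_sub_right, *]; norm_num) (by simpa [b1, b2] using l2)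
  have ic : IsIrrCharacter 𝔾 (P3 - P2 - P1 + fun _ => 1) := IsGeneralizedCharacter.isIrr
    (IsGeneralizedCharacter.add (IsGeneralizedCharacter.sub (IsGeneralizedCharacter.sub c3 c2) c1) c0)
    (by simp only [classInner_sub_left, classInner_sub_right, classInner_add_left, classInner_add_right, *]; norm_num)
    (by
      have : (N2 : ℝ) + N1 < N3 + 1 := by exact_mod_cast l4
      simp [b1, b2, b3]; linarith)
  have na := ne_of_inner ia (η := fun _ => 1) (by simp only [classInner_sub_left, *]; norm_num)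
  have nb' := ne_of_inner ib (η := fun _ => 1) (by simp only [classInner_sub_left, *]; norm_num)
  have nc := ne_of_inner ic (η := fun _ => 1) (by simp only [classInner_sub_left, classInner_add_left, *]; norm_num)
  have nab := ne_of_inner ia (η := P2 - P1) (by simp only [classInner_sub_left, classInner_sub_right, *]; norm_num)
  have nac := ne_of_inner ia (η := P3 - P2 - P1 + fun _ => 1) (by
    simp only [classInner_sub_left, classInner_sub_right, classInner_add_right, *]; norm_num)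
  have ja : classInner (pch 𝔾 X) (P1 - fun _ => 1) = ro 𝔾 x (Fl F V 1 1) - 1 := by rw [classInner_sub_right, r1, r0']
  have jb : classInner (pch 𝔾 X) (P2 - P1) = ro 𝔾 x (Fl F V 2 2) - ro 𝔾 x (Fl F V 1 1) := by
    rw [classInner_sub_right, r1, r2]
  have jc : classInner (pch 𝔾 X) (P3 - P2 - P1 + fun _ => 1) =
      ro 𝔾 x (Fl F V 1 2) - ro 𝔾 x (Fl F V 2 2) - ro 𝔾 x (Fl F V 1 1) + 1 := by
    rw [classInner_add_right, classInner_sub_right, classInner_sub_right, r1, r2, r3, r0']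
  have cast : ∀ {a b : ℕ}, (a : ℂ) = b → a = b := Nat.cast_inj.1
  rcases R.inner_cases ia na with ka | ⟨ka, -⟩
  · have s1 : ro 𝔾 x (Fl F V 1 1) = 1 := cast (by rw [ja] at ka; push_cast; linear_combination ka)
    refine .inr (.inr ⟨s1, fun h0 => ?_⟩)
    rcases R.inner_cases ib nb' with kb | ⟨-, ψ, h1, e⟩
    swap
    · exact (nb h0 _ _ ib h1 e (.inl rfl)).elim
    rcases R.inner_cases ic nc with kc | ⟨-, ψ, h1, e⟩
    swap
    · exact (nb h0 _ _ ic h1 e (.inr rfl)).elim
    rw [jb, s1] at kb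
    rw [jc, s1] at kc
    exact cast (by push_cast at kb kc ⊢; linear_combination kb + kc)
  have s1 : ro 𝔾 x (Fl F V 1 1) = 2 := cast (by rw [ja] at ka; push_cast; linear_combination ka)
  rcases R.inner_cases ib nb' with kb | ⟨kb, -⟩
  swap
  · left
    have := congrFun (R.eq_of_two ia na ib nb' nab (by simp [ka]) (by simp [kb])) 1
    simp only [hv, Pi.add_apply, Pi.sub_apply, b1, b2] at this
    rw [cast (a := Fintype.card X) (b := N2) (by linear_combination this), b5, hm]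
    rfl
  have s2 : ro 𝔾 x (Fl F V 2 2) = 2 := cast (by rw [jb, s1] at kb; linear_combination kb)
  refine .inr (.inl ⟨s1, s2, ?_⟩)
  rcases R.inner_cases ic nc with kc | ⟨kc, -⟩
  · exact .inl (cast (by rw [jc, s1, s2] at kc; push_cast at kc ⊢; linear_combination kc))
  · have := congrFun (R.eq_of_two ia na ic nc nac (by simp [ka]) (by simp [kc])) 1
    simp only [hv, Pi.add_apply, Pi.sub_apply, b1, b2, b3, l3] at this
    exact .inr ⟨N2, cast (by push_cast at this ⊢; linear_combination this)⟩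

end Cfsg.Agent.H2.PL
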