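import Cfsg.Agent.H2.PLe

/-! Rank three actions of `SL(V)`: point stabilizers with two orbits on points. -/

set_option autoImplicit false
set_option linter.unusedSectionVars false

namespace Cfsg.Agent.H2.PL

open MulAction Finset Module Cfsg.Agent.H1 Cfsg.Agent.H4
open scoped Classical Pointwise

variable {F : Type*} [Field F] {V : Type*} [AddCommGroup V] [Module F V] [FiniteDimensional F V] [Fintype F]
  [Fintype V] [Fintype (Submodule F V)] [Fintype (Dual F V)] [Fintype (SpecialLinearGroup F V)]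
  {X : Type*} [Fintype X] [MulAction (SpecialLinearGroup F V) X] {x : X}

local notation "𝔾" => SpecialLinearGroup F V
local notation "q" => Fintype.card F
local notation "n" => finrank F V

theorem mem_f {α : Type*} [Fintype α] {P : α → Prop} {h : DecidablePred P} {v : α} : v ∈ @filter _ P h univ ↔ P v := by
  simp

theorem cc {α : Type*} [Fintype α] {P Q : α → Prop} {h : DecidablePred P} {h' : DecidablePred Q} (e : ∀ v, P v ↔ Q v) :
    ((@filter _ P h univ).card : ℤ) = (@filter _ Q h' univ).card := by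
  congr 2
  ext v
  rw [mem_f, mem_f, e]

theorem of_card_zero {α : Type*} [Fintype α] {P : α → Prop} {h : DecidablePred P}
    (e : ((@filter _ P h univ).card : ℤ) = 0) (v : α) : ¬ P v := fun a => by
  rw [Nat.cast_eq_zero, card_eq_zero] at e
  simpa [e] using mem_f (h := h).2 a

theorem stab_eq (hn : 2 ≤ n) (R : RK 𝔾 x) {U : Submodule F V} (hU : ∀ h : 𝔾, h • x = x → h • U = U) {u w : V}
    (h1 : u ∈ U) (h2 : u ≠ 0) (h3 : w ∉ U) (g : 𝔾) (hg : g • U = U) : g • x = x := by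
  rcases R.max (stabilizer 𝔾 U) hU with e | e
  · exact (e ▸ hg : g ∈ stabilizer 𝔾 x)
  · obtain ⟨k, rfl⟩ := exists_move_one (F := F) hn h2 (fun e => h3 (e ▸ zero_mem _) : w ≠ 0)
    exact absurd (mem_of_smul_eq (e ▸ Subgroup.mem_top k : k ∈ stabilizer 𝔾 U) h1) h3

theorem smul_span1_eq {g : 𝔾} {v : V} (h : g • v ∈ F ∙ v) : g • (F ∙ v) = F ∙ v :=
  smul_eq_of_le fun u hu => by
    obtain ⟨c, rfl⟩ := Submodule.mem_span_singleton.1 hu
    rw [g_smul]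
    exact Submodule.smul_mem _ _ h

theorem fix_point (hn : 3 ≤ n) (R : RK 𝔾 x) {v : V} (hv : v ≠ 0) (h : ∀ h : 𝔾, h • x = x → h • v ∈ F ∙ v) : False := by
  obtain ⟨w, -, hw⟩ := exists_mem_not (S := F ∙ v) (T := ⊤) (by rw [finrank_top, finrank_span_singleton hv]; omega)
  have h1 := stab_eq (by omega) R (fun k hk => smul_span1_eq (h k hk)) (Submodule.mem_span_singleton_self v) hv hw
  have h2 : ∀ k : 𝔾, k • v = v → k • x = x := fun k hk =>
    h1 k (smul_span1_eq (hk.symm ▸ Submodule.mem_span_singleton_self v))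
  refine R.not_two fun g g' a1 a2 => ?_
  obtain ⟨k, a3, a4⟩ := exists_move_two hn v (fun e => a1 (h1 g (smul_span1_eq e)) : g • v ∉ F ∙ v)
    (fun e => a2 (h1 g' (smul_span1_eq e)) : g' • v ∉ F ∙ v)
  refine ⟨k, h2 k a3, ?_⟩
  rw [← inv_smul_eq_iff, ← mul_smul, ← mul_smul]
  exact h2 _ (by rw [mul_smul, mul_smul, inv_smul_eq_iff]; exact a4)

theorem smul_ker_eq {g : 𝔾} {f : Dual F V} (h : slDual g f ∈ F ∙ f) : g • LinearMap.ker f = LinearMap.ker f := by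
  rw [eq_comm, ← inv_smul_eq_iff]
  refine smul_eq_of_le fun u hu => ?_
  exact span1_le (U := ann F u) hu h

theorem fix_hyper (hn : 3 ≤ n) (R : RK 𝔾 x) {f : Dual F V} (hf : f ≠ 0)
    (h : ∀ h : 𝔾, h • x = x → h • LinearMap.ker f = LinearMap.ker f) : False := by
  obtain ⟨w, hw⟩ := exists_ne_zero hf
  obtain ⟨u, hu, hu0⟩ := exists_ne_mem (T := LinearMap.ker f) (by have := finrank_ker_dual hf; omega)
  have h1 := stab_eq (by omega) R h hu hu0 (w := w) (by simp [hw])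
  have h2 : ∀ k : 𝔾, slDual k f = f → k • x = x := fun k hk =>
    h1 k (smul_ker_eq (hk.symm ▸ Submodule.mem_span_singleton_self f))
  refine R.not_two fun g g' a1 a2 => ?_
  obtain ⟨k, a3, a4⟩ := exists_move_two_dual hn f (fun e => a1 (h1 g (smul_ker_eq e)) : slDual g f ∉ F ∙ f)
    (fun e => a2 (h1 g' (smul_ker_eq e)) : slDual g' f ∉ F ∙ f)
  refine ⟨k, h2 k a3, ?_⟩
  rw [← inv_smul_eq_iff, ← mul_smul, ← mul_smul]
  exact h2 _ (by rw [act_mul_apply, act_mul_apply, a4, act_inv_apply])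

theorem mem_swap {U : Submodule F V} {v w : V} (hv : v ∉ U) (hw : w ∉ U) (h : v ∈ U ⊔ F ∙ w) : U ⊔ F ∙ v = U ⊔ F ∙ w :=
  Submodule.eq_of_le_of_finrank_eq (sup_le le_sup_left (span1_le h)) (by rw [finrank_sup_span hv, finrank_sup_span hw])

theorem mem_sup_self (U : Submodule F V) (v : V) : v ∈ U ⊔ F ∙ v :=
  Submodule.mem_sup_right (Submodule.mem_span_singleton_self v)

/-- the number of nonzero coloured vectors of a subspace -/
noncomputable def cnt (c : V → Prop) (U : Submodule F V) : ℕ := #{v | (v ∈ U ∧ v ≠ 0) ∧ c v}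

theorem cnt_smul {c : V → Prop} {h : 𝔾} (hc : ∀ v, c (h • v) ↔ c v) (U : Submodule F V) : cnt c (h • U) = cnt c U :=
  (card_eq_of_smul h fun v => by simp [smul_mem, hc, smul_eq_zero_iff_eq]).symm

theorem cnt_dvd {c : V → Prop} (hc : ∀ (a : F) v, a ≠ 0 → c v → c (a • v)) (U : Submodule F V) :
    ∃ m : ℤ, (cnt c U : ℤ) = m * (q - 1) := by
  refine ⟨_, Eq.trans ?_ (count1 (fun p => p ≤ U ∧ ∀ v ∈ p, v ≠ 0 → c v)).symm⟩
  refine cc fun v => ⟨fun h => ⟨h.1.2, span1_le h.1.1, fun u hu h0 => ?_⟩,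
    fun h => ⟨⟨h.2.1 (Submodule.mem_span_singleton_self v), h.1⟩, h.2.2 v (Submodule.mem_span_singleton_self v) h.1⟩⟩
  obtain ⟨a, rfl⟩ := Submodule.mem_span_singleton.1 hu
  exact hc a v (left_ne_zero_of_smul h0) h.2

theorem cnt_line {c : V → Prop} (hc : ∀ (a : F) v, a ≠ 0 → c v → c (a • v)) {v : V} (h0 : v ≠ 0) (hv : c v)
    {U : Submodule F V} (hU : v ∈ U) : (cnt c U : ℤ) = q - 1 + #{u | (u ∈ U ∧ u ∉ F ∙ v) ∧ c u} := by
  have h1 := card_ne' (F ∙ v)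
  rw [finrank_span_singleton h0, pow_one] at h1
  rw [← h1, cnt, ← card_filter_add_card_filter_not (· ∈ F ∙ v), filter_filter, filter_filter]
  push_cast
  congr 1
  · refine cc fun u => ⟨fun h => ⟨h.2, h.1.1.2⟩, fun h => ⟨⟨⟨span1_le hU h.1, h.2⟩, ?_⟩, h.1⟩⟩
    obtain ⟨a, rfl⟩ := Submodule.mem_span_singleton.1 h.1
    exact hc a v (left_ne_zero_of_smul h.2) hv
  · exact cc fun u => ⟨fun h => ⟨⟨h.1.1.1, h.2⟩, h.1.2⟩, fun h => ⟨⟨⟨h.1.1, fun e => h.1.2 (e ▸ zero_mem _)⟩, h.2⟩, h.1.2⟩⟩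

theorem cnt_formula {c : V → Prop} (hc : ∀ (a : F) v, a ≠ 0 → c v → c (a • v)) {v : V} (h0 : v ≠ 0) (hv : c v) {M : ℤ}
    (hM : ∀ w, w ∉ F ∙ v → (cnt c ((F ∙ v) ⊔ F ∙ w) : ℤ) = M) {U : Submodule F V} (hU : v ∈ U) :
    (cnt c U - (q - 1) : ℤ) * (q ^ 2 - q) = (q ^ finrank F U - q) * (M - (q - 1)) := by
  have h1 := sum_card_bipartiteAbove_eq_sum_card_bipartiteBelow (s := {w | w ∈ U ∧ w ∉ F ∙ v})
    (t := {u | (u ∈ U ∧ u ∉ F ∙ v) ∧ c u}) (fun w u => u ∈ (F ∙ v) ⊔ F ∙ w)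
  have h2 := card_diff' (span1_le hU)
  rw [finrank_span_singleton h0, pow_one] at h2
  zify at h1
  rw [sum_congr rfl (g := fun _ => M - (q - 1)), sum_congr (s₁ := {u | (u ∈ U ∧ u ∉ F ∙ v) ∧ c u}) rfl
    (g := fun _ => (q : ℤ) ^ 2 - q), sum_const, sum_const, nsmul_eq_mul, nsmul_eq_mul, h2] at h1
  · rw [h1, cnt_line hc h0 hv hU]; ring
  · intro u hu
    obtain ⟨⟨a1, a2⟩, -⟩ := (mem_filter.1 hu).2
    have := card_diff' (le_sup_left : (F ∙ v) ≤ (F ∙ v) ⊔ F ∙ u)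
    rw [finrank_sup_span a2, finrank_span_singleton h0, pow_one] at this
    rw [← this, bipartiteBelow, filter_filter]
    refine congrArg (fun s : Finset V => (#s : ℤ)) (fc _ fun w => ⟨fun h => ⟨?_, h.1.2⟩, fun h => ⟨⟨?_, h.2⟩, ?_⟩⟩)
    · rw [mem_swap a2 h.1.2 h.2]; exact mem_sup_self _ _
    · exact sup_le (span1_le hU) (span1_le a1) h.1
    · rw [mem_swap h.2 a2 h.1]; exact mem_sup_self _ _
  · intro w hw
    obtain ⟨a1, a2⟩ := (mem_filter.1 hw).2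
    rw [← hM w a2, cnt_line hc h0 hv (Submodule.mem_sup_left (Submodule.mem_span_singleton_self v)), bipartiteAbove,
      filter_filter, add_sub_cancel_left]
    exact congrArg (fun s : Finset V => (#s : ℤ)) (fc _ fun u => ⟨fun h => ⟨⟨h.2, h.1.1.2⟩, h.1.2⟩,
      fun h => ⟨⟨⟨sup_le (span1_le hU) (span1_le a1) h.1.1, h.1.2⟩, h.2⟩, h.1.1⟩⟩)

/-- a line as a flag -/
def ln (L : Submodule F V) (h : finrank F L = 2) : Fl F V 2 2 := ⟨(L, L), le_rfl, h, h⟩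

theorem sm_ln {L L' : Submodule F V} {h : finrank F L = 2} {h' : finrank F L' = 2} :
    Sm 𝔾 x (ln L h) (ln L' h') ↔ ∃ k : 𝔾, k • x = x ∧ k • L = L' :=
  exists_congr fun _ => and_congr_right fun _ => Fl_smul_eq.trans and_self_iff

theorem mono (hn : 4 ≤ n) (R : RK 𝔾 x) (r2 : ro 𝔾 x (Fl F V 2 2) ≤ 2) {c : V → Prop}
    (h1 : ∀ h : 𝔾, h • x = x → ∀ v, c (h • v) ↔ c v) (hc : ∀ (a : F) v, a ≠ 0 → c v → c (a • v))
    (hc' : ∀ (a : F) v, a ≠ 0 → ¬ c v → ¬ c (a • v)) {L : Submodule F V}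
    (hL : finrank F L = 2) (h2 : ∀ v ∈ L, v ≠ 0 → ¬ c v) {v : V} (h0 : v ≠ 0) (hv : c v) : False := by
  have hq := two_le_q (F := F)
  have hvL : ∀ {u}, u ≠ 0 → c u → u ∉ L := fun a1 a2 a3 => h2 _ a3 a1 a2
  have h3 : ∀ {L' : Submodule F V} (h : finrank F L' = 2) {u}, u ∈ L' → u ≠ 0 → c u → ¬ Sm 𝔾 x (ln L hL) (ln L' h) :=
    fun h u a1 a2 a3 a4 => by
      obtain ⟨k, a5, rfl⟩ := sm_ln.1 a4
      refine h2 _ (mem_smul_iff.1 a1) ((smul_ne_zero_iff_ne _).2 a2) ?_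
      rwa [h1 _ (inv_smul_eq_iff.2 a5.symm)]
  obtain ⟨w0, -, hw0⟩ := exists_mem_not (S := F ∙ v) (T := ⊤) (by rw [finrank_top, finrank_span_singleton h0]; omega)
  have fr : ∀ {u w : V}, u ≠ 0 → w ∉ F ∙ u → finrank F ↥((F ∙ u) ⊔ F ∙ w) = 2 := fun a1 a2 => by
    rw [finrank_sup_span a2, finrank_span_singleton a1]
  obtain ⟨m, hm⟩ := cnt_dvd hc ((F ∙ v) ⊔ F ∙ w0)
  have h4 : ∀ {L' : Submodule F V}, finrank F L' = 2 → ∀ {u}, u ∈ L' → u ≠ 0 → c u → (cnt c L' : ℤ) = m * (q - 1) :=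
    fun h u a1 a2 a3 => by
      rcases three_of_ro r2 (ln L hL) (ln _ (fr h0 hw0)) (ln _ h) with e | e | e
      · exact absurd e (h3 _ (Submodule.mem_sup_left (Submodule.mem_span_singleton_self v)) h0 hv)
      · exact absurd e (h3 _ a1 a2 a3)
      · obtain ⟨k, a5, rfl⟩ := sm_ln.1 e
        rw [cnt_smul (h1 k a5), hm]
  have h5 : ∀ {u}, u ≠ 0 → c u → ∀ {U : Submodule F V}, u ∈ U →
      (cnt c U - (q - 1) : ℤ) * (q ^ 2 - q) = (q ^ finrank F U - q) * (m * (q - 1) - (q - 1)) := fun a1 a2 U a3 =>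
    cnt_formula hc a1 a2 (fun w hw => h4 (fr a1 hw) (Submodule.mem_sup_left (Submodule.mem_span_singleton_self _)) a1 a2) a3
  have h6 : ∀ {u}, u ≠ 0 → c u → (cnt c (L ⊔ F ∙ u) : ℤ) = (1 + (m - 1) * (q + 1)) * (q - 1) := fun a1 a2 => by
    have := h5 a1 a2 (mem_sup_self L _)
    rw [finrank_sup_span (hvL a1 a2), hL] at this
    exact cancel_q (F := F) (cancel_q' (F := F) (by linear_combination this))
  obtain ⟨w, -, hw⟩ := exists_mem_not (S := L ⊔ F ∙ v) (T := ⊤) (by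
    rw [finrank_top, finrank_sup_span (hvL h0 hv)]; omega)
  have h7 : (cnt c ((L ⊔ F ∙ v) ⊔ F ∙ w) : ℤ) = (1 + (m - 1) * (q ^ 2 + q + 1)) * (q - 1) := by
    have := h5 h0 hv (U := (L ⊔ F ∙ v) ⊔ F ∙ w) (Submodule.mem_sup_left (mem_sup_self L _))
    rw [finrank_sup_span hw, finrank_sup_span (hvL h0 hv), hL] at this
    exact cancel_q (F := F) (cancel_q' (F := F) (by linear_combination this))
  have h8 : (1 + (m - 1) * (q + 1)) * (q - 1) ∣ (cnt c ((L ⊔ F ∙ v) ⊔ F ∙ w) : ℤ) := by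
    generalize hU : (L ⊔ F ∙ v) ⊔ F ∙ w = U
    have hLU : L ≤ U := hU ▸ le_sup_left.trans le_sup_left
    rw [cnt, card_eq_sum_card_image (fun u => L ⊔ F ∙ u), Nat.cast_sum]
    refine dvd_sum fun P hP => ?_
    obtain ⟨u, hu, rfl⟩ := mem_image.1 hP
    obtain ⟨⟨a1, a2⟩, a3⟩ := (mem_filter.1 hu).2
    rw [← h6 a2 a3, filter_filter, cnt]
    refine dvd_of_eq (congrArg (fun s : Finset V => (#s : ℤ)) (fc _ fun z => ?_))
    exact ⟨fun h => ⟨⟨⟨sup_le hLU (span1_le a1) h.1.1, h.1.2⟩, h.2⟩, mem_swap (hvL h.1.2 h.2) (hvL a2 a3) h.1.1⟩,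
      fun h => ⟨⟨h.2 ▸ mem_sup_self _ _, h.1.1.2⟩, h.1.2⟩⟩
  zify at hq
  rw [h7, mul_dvd_mul_iff_right (by omega)] at h8
  have h9 : 1 + (m - 1) * (q + 1) ∣ q - m := by
    have := dvd_sub (dvd_mul_left _ (q : ℤ)) h8
    rwa [show (q : ℤ) * (1 + (m - 1) * (q + 1)) - (1 + (m - 1) * (q ^ 2 + q + 1)) = q - m by ring] at this
  have m1 : 1 ≤ m := by
    have := cnt_line hc h0 hv (U := (F ∙ v) ⊔ F ∙ w0) (Submodule.mem_sup_left (Submodule.mem_span_singleton_self v))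
    rw [hm] at this
    by_contra h
    nlinarith [Int.natCast_nonneg #{u | (u ∈ (F ∙ v) ⊔ F ∙ w0 ∧ u ∉ F ∙ v) ∧ c u}]
  by_cases m2 : m = 1
  · subst m2
    have a1 := h5 h0 hv (U := ⊤) trivial
    rw [cnt_line hc h0 hv (U := ⊤) trivial, one_mul, sub_self, mul_zero, add_sub_cancel_left, mul_eq_zero,
      Nat.cast_eq_zero, card_eq_zero, filter_eq_empty_iff] at a1
    refine fix_point (by omega) R h0 fun k hk => by_contra fun e => ?_
    exact a1.resolve_right (by nlinarith) (mem_univ _) ⟨⟨trivial, e⟩, (h1 k hk v).2 hv⟩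
  have m3 : m = q := by
    by_contra h
    have := Int.le_of_dvd (abs_pos.2 (sub_ne_zero.2 (Ne.symm h))) ((dvd_abs _ _).2 h9)
    rcases abs_cases ((q : ℤ) - m) with e | e <;> rw [e.1] at this <;> nlinarith [mul_nonneg (by omega : (0 : ℤ) ≤ m - 2) (by omega : (0 : ℤ) ≤ q)]
  subst m3
  have h10 : ∀ {L' : Submodule F V}, finrank F L' = 2 → ∀ {u}, u ∈ L' → u ≠ 0 → c u →
      (cnt (fun u => ¬ c u) L' : ℤ) = q - 1 := fun {L'} h u a1 a2 a3 => by
    have a4 := card_ne' L'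
    rw [← card_filter_add_card_filter_not c, filter_filter, filter_filter, h, Nat.cast_add] at a4
    have a5 := h4 h a1 a2 a3
    unfold cnt at a5 ⊢
    convert (by linear_combination a4 - a5 : (#{v | (v ∈ L' ∧ v ≠ 0) ∧ ¬ c v} : ℤ) = q - 1)
  have h11 : ∀ a b : V, a ≠ 0 → ¬ c a → b ≠ 0 → ¬ c b → a + b ≠ 0 → ¬ c (a + b) := fun a b a1 a2 a3 a4 a5 a6 => by
    by_cases e : b ∈ F ∙ a
    · obtain ⟨t, rfl⟩ := Submodule.mem_span_singleton.1 e
      rw [← one_smul F a, smul_smul, ← add_smul] at a5 a6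
      exact hc' _ _ (left_ne_zero_of_smul a5) a2 a6
    have a7 := h10 (finrank_pair a1 e) (add_mem (mem_span2_left _ _) (mem_span2_right _ _)) a5 a6
    rw [cnt_line hc' a1 a2 (mem_span2_left _ _), add_eq_left] at a7
    exact of_card_zero a7 b ⟨⟨mem_span2_right _ _, e⟩, a4⟩
  let W : Submodule F V :=
    { carrier := {u | u ≠ 0 → ¬ c u}
      zero_mem' := fun h => absurd rfl h
      add_mem' := fun {a b} ha hb e => by
        by_cases a1 : a = 0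
        · rw [a1, zero_add] at e ⊢; exact hb e
        by_cases a2 : b = 0
        · rw [a2, add_zero] at e ⊢; exact ha e
        exact h11 a b a1 (ha a1) a2 (hb a2) e
      smul_mem' := fun t a ha e => hc' _ _ (left_ne_zero_of_smul e) (ha (right_ne_zero_of_smul e)) }
  obtain ⟨f, f1, f2⟩ := sep_vec W v fun e => e h0 hv
  have hW : LinearMap.ker f = W := by
    refine le_antisymm (fun u hu a1 a2 => ?_) f2
    have a3 : v ∉ F ∙ u := fun e => by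
      have := span1_le hu e
      rw [LinearMap.mem_ker, f1] at this
      exact one_ne_zero this
    have a4 := h10 (finrank_pair a1 a3) (mem_span2_left _ _) a1 a2
    obtain ⟨z, hz⟩ := card_pos.1 (show 0 < cnt (fun u => ¬ c u) (Submodule.span F {u, v}) by omega)
    obtain ⟨⟨b1, b2⟩, b3⟩ := mem_f.1 hz
    obtain ⟨s, t, rfl⟩ := Submodule.mem_span_pair.1 b1
    have b4 := f2 _ fun _ => b3
    rw [map_add, map_smul, map_smul, f1, LinearMap.mem_ker.1 hu, smul_zero, zero_add, smul_eq_mul, mul_one] at b4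
    rw [b4, zero_smul, add_zero] at b2 b3
    exact b3 (hc _ _ (left_ne_zero_of_smul b2) a2)
  refine fix_hyper (by omega) R (f := f) (fun e => by simp [e] at f1) fun k hk => ?_
  rw [hW]
  exact smul_eq_of_le fun u hu e => (h1 k hk u).not.2 (hu ((smul_ne_zero_iff_ne _).1 e))

/-- a point as a flag -/
def pt (v : V) (h : v ≠ 0) : Fl F V 1 1 := ⟨(F ∙ v, F ∙ v), le_rfl, finrank_span_singleton h, finrank_span_singleton h⟩

theorem sm_pt {v w : V} {h : v ≠ 0} {h' : w ≠ 0} : Sm 𝔾 x (pt (F := F) v h) (pt w h') ↔ ∃ k : 𝔾, k • x = x ∧ k • v ∈ F ∙ w :=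
  exists_congr fun k => and_congr_right fun _ => Fl_smul_eq.trans (and_self_iff.trans
    ⟨fun e => (show k • (F ∙ v) = F ∙ w from e) ▸ smul_mem.2 (Submodule.mem_span_singleton_self v), fun e => by
      change k • (F ∙ v) = F ∙ w
      rw [smul_span1]
      exact (eq_span1 (finrank_span_singleton h') ((smul_ne_zero_iff_ne _).2 h) e).symm⟩)

theorem exists_pt (z : Fl F V 1 1) : ∃ v h, z = pt v h := by
  obtain ⟨v, h1, h2⟩ := exists_ne_mem (T := z.1.1) (by rw [z.2.2.1]; omega)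
  exact ⟨v, h2, Fl_ext (eq_span1 z.2.2.1 h2 h1) (eq_span1 z.2.2.2 h2 (z.2.1 h1))⟩

theorem exists_ln (z : Fl F V 2 2) : ∃ L h, z = ln L h :=
  ⟨z.1.2, z.2.2.2, Fl_ext (Submodule.eq_of_le_of_finrank_eq z.2.1 (z.2.2.1.trans z.2.2.2.symm)) rfl⟩

theorem exists_not_sm {Y : Type*} [Finite Y] [MulAction 𝔾 Y] (h : ro 𝔾 x Y = 2) : ∃ a b : Y, ¬ Sm 𝔾 x a b := by
  by_contra hc
  push Not at hc
  rcases isEmpty_or_nonempty Y with h1 | ⟨⟨a⟩⟩
  · have := ro_le (G := 𝔾) (Y := Y) x ![] fun y => h1.elim y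
    omega
  · have := ro_le (G := 𝔾) (Y := Y) x ![a] fun y => ⟨0, hc a y⟩
    omega

theorem exists_axis (hn : 2 ≤ n) (R : RK 𝔾 x) {k : ℕ} (h : Fintype.card X = q * k + 1) :
    ∃ f : Dual F V, f ≠ 0 ∧ ∀ w, f w = 0 → tv w f • x = x := by
  obtain ⟨c, f, -, hf, -⟩ := exists_tvdata (F := F) (V := V) hn
  obtain ⟨p, _, ⟨e, he⟩, hp, hq⟩ := FiniteField.card' F
  have := Fact.mk hp
  have h1 : IsPGroup p (axHom f).range := by
    refine IsPGroup.of_surjective (IsPGroup.of_card («n» := e * finrank F (LinearMap.ker f)) ?_) _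
      (axHom f).rangeRestrict_surjective
    rw [Nat.card_eq_fintype_card, Fintype.card_multiplicative, card_eq_pow_finrank (K := F), hq, ← pow_mul]
    rfl
  obtain ⟨y, -, hy⟩ := exists_fixed_of_pgroup h1 (univ : Finset X) (fun _ _ _ _ => mem_univ _) (by
    rw [card_univ, h, Nat.dvd_add_right (Dvd.dvd.mul_right (hq ▸ dvd_pow_self p he.ne') k), Nat.dvd_one]
    exact hp.one_lt.ne')
  obtain ⟨g, rfl⟩ := R.tr y
  refine ⟨slDual g⁻¹ f, dual_ne _ hf, fun w hw => ?_⟩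
  rw [dual_ap, inv_inv] at hw
  have := hy _ ⟨Multiplicative.ofAdd ⟨g • w, hw⟩, rfl⟩
  rw [← inv_smul_smul g w, ← conj_tv _ hw, inv_inv, mul_smul, mul_smul, inv_smul_eq_iff]
  exact this

theorem case1 (hn : 4 ≤ n) (R : RK 𝔾 x) (r1 : ro 𝔾 x (Fl F V 1 1) = 2) (r2 : ro 𝔾 x (Fl F V 2 2) = 2)
    (r3 : ro 𝔾 x (Fl F V 1 2) = 3 ∨ ∃ k, Fintype.card X = q * k + 1) : False := by
  obtain ⟨a, b, hab⟩ := exists_not_sm r1
  obtain ⟨a, ha, rfl⟩ := exists_pt a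
  obtain ⟨b, hb, rfl⟩ := exists_pt b
  let c : V → Prop := fun v => ∃ h : v ≠ 0, Sm 𝔾 x (pt (F := F) a ha) (pt v h)
  have h1 : ∀ h : 𝔾, h • x = x → ∀ v, c v → c (h • v) := fun h hh v ⟨a1, a2⟩ =>
    ⟨(smul_ne_zero_iff_ne _).2 a1, a2.trans (sm_pt.2 ⟨h, hh, Submodule.mem_span_singleton_self _⟩)⟩
  have h1' : ∀ h : 𝔾, h • x = x → ∀ v, c (h • v) ↔ c v := fun h hh v =>
    ⟨fun e => by simpa using h1 h⁻¹ (inv_smul_eq_iff.2 hh.symm) _ e, h1 h hh v⟩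
  have h2 : ∀ (t : F) v, t ≠ 0 → c v → c (t • v) := fun t v ht ⟨a1, a2⟩ =>
    ⟨smul_ne_zero ht a1, a2.trans (sm_pt.2 ⟨1, one_smul _ _, by
      rw [one_smul, Submodule.span_singleton_smul_eq (IsUnit.mk0 t ht)]; exact Submodule.mem_span_singleton_self _⟩)⟩
  have h3 : ∀ (t : F) v, t ≠ 0 → ¬ c v → ¬ c (t • v) := fun t v ht a1 a2 =>
    a1 (by simpa [ht] using h2 t⁻¹ _ (inv_ne_zero ht) a2)
  have ca : c a := ⟨ha, Sm.refl _ _⟩
  have cb : ¬ c b := fun ⟨_, e⟩ => hab e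
  suffices ∃ L : Submodule F V, finrank F L = 2 ∧ ((∀ v ∈ L, v ≠ 0 → ¬ c v) ∨ ∀ v ∈ L, v ≠ 0 → ¬ ¬ c v) by
    obtain ⟨L, hL, e | e⟩ := this
    · exact mono hn R r2.le h1' h2 h3 hL e ha ca
    · exact mono hn R r2.le (c := fun v => ¬ c v) (fun h hh v => (h1' h hh v).not) h3
        (fun t v ht e e' => e' (h2 t v ht (not_not.1 e))) hL e hb cb
  by_contra hc
  push Not at hc
  rcases r3 with r3 | ⟨k, r3⟩
  · obtain ⟨L, L', hL⟩ := exists_not_sm r2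
    obtain ⟨L, a1, rfl⟩ := exists_ln L
    obtain ⟨L', a2, rfl⟩ := exists_ln L'
    obtain ⟨⟨u, u1, u2, u3⟩, v, v1, v2, v3⟩ := hc L a1
    obtain ⟨⟨u', u4, u5, u6⟩, v', v4, v5, v6⟩ := hc L' a2
    let fl : ∀ (u : V) (L : Submodule F V), u ∈ L → u ≠ 0 → finrank F L = 2 → Fl F V 1 2 := fun u L a b c =>
      ⟨(F ∙ u, L), span1_le a, finrank_span_singleton b, c⟩
    have k1 : ∀ {u u' L L'} a b c a' b' c', Sm 𝔾 x (fl u L a b c) (fl u' L' a' b' c') →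
        Sm 𝔾 x (ln L c) (ln L' c') ∧ Sm 𝔾 x (pt (F := F) u b) (pt u' b') := fun _ _ _ _ _ _ ⟨k, e1, e2⟩ =>
      ⟨sm_ln.2 ⟨k, e1, (Fl_smul_eq.1 e2).2⟩, k, e1, Fl_smul_eq.2 ⟨(Fl_smul_eq.1 e2).1, (Fl_smul_eq.1 e2).1⟩⟩
    rcases four_of_ro r3.le (fl u L u1 u2 a1) (fl v L v1 v2 a1) (fl u' L' u4 u5 a2) (fl v' L' v4 v5 a2)
      with e | e | e | e | e | e
    exacts [v3 ⟨v2, u3.2.trans (k1 u1 u2 a1 v1 v2 a1 e).2⟩, hL (k1 u1 u2 a1 u4 u5 a2 e).1,
      hL (k1 u1 u2 a1 v4 v5 a2 e).1, hL (k1 v1 v2 a1 u4 u5 a2 e).1, hL (k1 v1 v2 a1 v4 v5 a2 e).1,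
      v6 ⟨v5, u6.2.trans (k1 u4 u5 a2 v4 v5 a2 e).2⟩]
  obtain ⟨f, hf, h4⟩ := exists_axis (by omega) R r3
  have h5 : ∀ u v, f u ≠ 0 → f v ≠ 0 → c u → c v := fun u v a1 a2 a3 => by
    have a4 : f ((f u / f v) • v - u) = 0 := by simp [a2]
    have a5 := h1 _ (h4 ((f u)⁻¹ • ((f u / f v) • v - u)) (by rw [map_smul, a4, smul_zero])) u a3
    rw [tv_ap (by rw [map_smul, a4, smul_zero]), smul_inv_smul₀ a1, add_sub_cancel] at a5
    exact by_contra fun e => h3 _ _ (div_ne_zero a1 a2) e a5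
  obtain ⟨z, hz⟩ := exists_ne_zero hf
  obtain ⟨u, u1, u2⟩ := exists_ne_mem (T := LinearMap.ker f) (by have := finrank_ker_dual hf; omega)
  obtain ⟨w, w1, w2⟩ := exists_mem_not (S := F ∙ u) (T := LinearMap.ker f) (by
    have := finrank_ker_dual hf
    rw [finrank_span_singleton u2]; omega)
  obtain ⟨⟨u, u1, u2, u3⟩, v, v1, v2, v3⟩ := hc _ (finrank_pair u2 w2)
  have h6 : ∀ {u}, u ≠ 0 → f u = 0 → ∀ v ∈ Submodule.span F {u, z}, v ≠ 0 → f v ≠ 0 ∨ ∃ t : F, t ≠ 0 ∧ v = t • u :=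
    fun a1 a2 v a3 a4 => by
      obtain ⟨s, t, rfl⟩ := Submodule.mem_span_pair.1 a3
      by_cases e : t = 0
      · rw [e, zero_smul, add_zero] at a4 ⊢
        exact .inr ⟨s, left_ne_zero_of_smul a4, rfl⟩
      · exact .inl (by simpa [a2, hz] using e)
  have h7 : ∀ {u}, f u = 0 → z ∉ F ∙ u := fun a e => by
    have := span1_le (U := LinearMap.ker f) a e
    rw [LinearMap.mem_ker, hz] at this
    exact one_ne_zero this
  have u4 : f u = 0 := span2_le (U := LinearMap.ker f) ‹_› w1 u1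
  have v4 : f v = 0 := span2_le (U := LinearMap.ker f) ‹_› w1 v1
  by_cases e : c z
  · obtain ⟨-, y, y1, y2, y3⟩ := hc _ (finrank_pair u2 (h7 u4))
    rcases h6 u2 u4 y y1 y2 with a | ⟨t, a, rfl⟩
    · exact y3 (h5 z y (by simp [hz]) a e)
    · exact y3 (h2 t u a u3)
  · obtain ⟨⟨y, y1, y2, y3⟩, -⟩ := hc _ (finrank_pair v2 (h7 v4))
    rcases h6 v2 v4 y y1 y2 with a | ⟨t, a, rfl⟩
    · exact e (h5 y z a (by simp [hz]) y3)
    · exact h3 t v a v3 y3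

end Cfsg.Agent.H2.PL
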