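import Cfsg.Agent.H2.PLf

/-! Rank three actions of `SL(V)`: the stabilizer does not preserve a null polarity. -/

set_option autoImplicit false
set_option linter.unusedSectionVars false

namespace Cfsg.Agent.H2.PL

open MulAction Finset Module Cfsg.Agent.H1 Cfsg.Agent.H4
open scoped Classical Pointwise

variable {F : Type*} [Field F] {V : Type*} [AddCommGroup V] [Module F V] [FiniteDimensional F V]

local notation "𝔾" => SpecialLinearGroup F V
local notation "n" => finrank F V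

theorem exists_ker {U : Submodule F V} (h : finrank F U + 1 = n) : ∃ f : Dual F V, f ≠ 0 ∧ LinearMap.ker f = U := by
  obtain ⟨w, -, hw⟩ := exists_mem_not (S := U) (T := ⊤) (by rw [finrank_top]; omega)
  obtain ⟨f, h1, h2⟩ := sep_vec U w hw
  have h3 : f ≠ 0 := fun e => by simp [e] at h1
  exact ⟨f, h3, (Submodule.eq_of_le_of_finrank_eq h2 (by have := finrank_ker_dual h3; omega)).symm⟩

theorem finrank_ker_ge (f : Dual F V) : n ≤ finrank F (LinearMap.ker f) + 1 := by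
  by_cases h : f = 0
  · rw [h, LinearMap.ker_zero, finrank_top]; omega
  · exact (finrank_ker_dual h).ge

theorem finrank_inf_ker (U : Submodule F V) (f : Dual F V) : finrank F U ≤ finrank F ↥(U ⊓ LinearMap.ker f) + 1 := by
  have h1 := Submodule.finrank_sup_add_finrank_inf_eq U (LinearMap.ker f)
  have h2 := finrank_ker_ge f
  have h3 := Submodule.finrank_le (U ⊔ LinearMap.ker f)
  omega

theorem exists_smul_of_ker {f g : Dual F V} (h : ∀ w, g w = 0 → f w = 0) : ∃ c : F, ∀ w, f w = c * g w := by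
  by_cases hg : g = 0
  · exact ⟨0, fun w => by simpa using h w (by simp [hg])⟩
  obtain ⟨z, hz⟩ := exists_ne_zero hg
  refine ⟨f z, fun w => ?_⟩
  have := h (w - g w • z) (by simp [hz])
  rw [map_sub, map_smul, smul_eq_mul] at this
  linear_combination this

theorem exists_form (hn : 1 ≤ n) (δ : V → Submodule F V) (h1 : ∀ v, v ≠ 0 → finrank F (δ v) + 1 = n)
    (h2 : ∀ v, v ≠ 0 → v ∈ δ v) (h3 : ∀ v w, v ≠ 0 → w ≠ 0 → w ∈ δ v → v ∈ δ w) :
    ∃ B : V →ₗ[F] Dual F V, (∀ v w, B v w = -B w v) ∧ ∀ v, v ≠ 0 → LinearMap.ker (B v) = δ v := by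
  choose! φ hφ0 hφ using fun v hv => exists_ker (h1 v hv)
  have hm : ∀ {v}, v ≠ 0 → ∀ w, φ v w = 0 ↔ w ∈ δ v := fun hv w => by rw [← hφ _ hv, LinearMap.mem_ker]
  obtain ⟨u, -, hu⟩ := exists_ne_mem (T := (⊤ : Submodule F V)) (by rw [finrank_top]; omega)
  have n0 : ∀ {v}, v ∉ δ u → v ≠ 0 := fun h e => h (e ▸ zero_mem _)
  have n1 : ∀ {v}, v ∉ δ u → φ u v ≠ 0 := fun h e => h ((hm hu _).1 e)
  have n2 : ∀ {v}, v ∉ δ u → φ v u ≠ 0 := fun h e => h (h3 _ _ (n0 h) hu ((hm (n0 h) _).1 e))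
  let β : V → Dual F V := fun v => (-φ u v / φ v u) • φ v
  have b1 : ∀ {v}, v ∉ δ u → β v u = -φ u v := fun h => by simp [β, n2 h]
  have b2 : ∀ {v}, v ∉ δ u → ∀ w, β v w = 0 ↔ w ∈ δ v := fun h w => by simp [β, n1 h, n2 h, hm (n0 h)]
  have b3 : ∀ v w, v ∉ δ u → w ∉ δ u → β v w = -β w v := fun v w hv hw => by
    have a0 := n1 hv
    have a1 : φ u u = 0 := (hm hu _).2 (h2 u hu)
    have a2 : β v v = 0 := (b2 hv _).2 (h2 v (n0 hv))
    have a3 : β w w = 0 := (b2 hw _).2 (h2 w (n0 hw))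
    obtain ⟨r, hr⟩ : ∃ r, r = w - (-β v w / φ u v) • u - (φ u w / φ u v) • v := ⟨_, rfl⟩
    have a4 : r ∈ δ u := (hm hu _).1 (by simp [hr, a1, a0])
    have a5 : r ∈ δ v := (b2 hv _).1 (by simp only [hr, map_sub, map_smul, a2, b1 hv, smul_eq_mul]; field_simp; ring)
    have a6 : β w r = 0 := by
      by_cases e : r = 0
      · simp [e]
      refine (b2 hw _).2 (h3 _ _ e (n0 hw) ?_)
      rw [show w = r + (-β v w / φ u v) • u + (φ u w / φ u v) • v by rw [hr]; abel]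
      exact add_mem (add_mem (h2 r e) (Submodule.smul_mem _ _ (h3 _ _ hu e a4)))
        (Submodule.smul_mem _ _ (h3 _ _ (n0 hv) e a5))
    simp only [hr, map_sub, map_smul, a3, b1 hw, smul_eq_mul] at a6
    have a7 := n1 hw
    field_simp at a6
    exact mul_left_cancel₀ a7 (by linear_combination -a6)
  obtain ⟨w0, -, hw0⟩ := exists_mem_not (S := δ u) (T := ⊤) (by rw [finrank_top, ← h1 u hu]; omega)
  have hs : ⊤ ≤ Submodule.span F {v | v ∉ δ u} := fun v _ => by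
    by_cases e : v ∈ δ u
    · rw [← add_sub_cancel_right v w0]
      exact sub_mem (Submodule.subset_span fun e' => hw0 ((Submodule.add_mem_iff_right _ e).1 e'))
        (Submodule.subset_span hw0)
    · exact Submodule.subset_span e
  let b := Basis.ofSpan hs
  have hb : ∀ i, b i ∉ δ u := fun i => Basis.ofSpan_subset hs ⟨i, rfl⟩
  let B : V →ₗ[F] Dual F V := b.constr F fun i => β (b i)
  have c1 : ∀ v w, w ∉ δ u → B v w = -β w v := fun v w hw =>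
    LinearMap.congr_fun (b.ext (f₁ := B.flip w) (f₂ := -β w) fun i => by simpa [B] using b3 _ _ (hb i) hw) v
  have c2 : ∀ v, v ∉ δ u → B v = β v := fun v hv => b.ext fun i => by rw [c1 _ _ (hb i), b3 _ _ hv (hb i)]
  refine ⟨B, fun v w => LinearMap.congr_fun (b.ext (f₁ := B v) (f₂ := -B.flip v) fun i => by
    simp [c1 _ _ (hb i), c2 _ (hb i)]) w, fun v hv => ?_⟩
  have c3 : ∀ w, w ∉ δ u → (w ∈ LinearMap.ker (B v) ↔ w ∈ δ v) := fun w hw => by
    rw [LinearMap.mem_ker, c1 _ _ hw, neg_eq_zero, b2 hw]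
    exact ⟨h3 _ _ (n0 hw) hv, h3 _ _ hv (n0 hw)⟩
  have c4 := finrank_ker_ge (B v)
  have c5 := h1 v hv
  have c6 := h1 u hu
  by_cases e : δ v ≤ δ u
  · rw [Submodule.eq_of_le_of_finrank_eq e (by omega)]
    exact Submodule.eq_of_le_of_finrank_le (fun w hw => by_contra fun e' => e' (e ((c3 w e').1 hw))) (by omega)
  obtain ⟨w1, a1, a2⟩ := SetLike.not_le_iff_exists.1 e
  have a3 : δ v ≤ LinearMap.ker (B v) := fun w hw => by
    by_cases e' : w ∈ δ u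
    · rw [← add_sub_cancel_right w w1]
      exact sub_mem ((c3 _ fun e'' => a2 ((Submodule.add_mem_iff_right _ e').1 e'')).2 (add_mem hw a1)) ((c3 _ a2).2 a1)
    · exact (c3 w e').2 hw
  refine (Submodule.eq_of_le_of_finrank_le a3 ?_).symm
  by_contra a4
  have a5 : LinearMap.ker (B v) = ⊤ := Submodule.eq_top_of_finrank_eq (by
    have := Submodule.finrank_le (LinearMap.ker (B v)); omega)
  have a6 : δ v = ⊤ := top_le_iff.1 (hs.trans (Submodule.span_le.2 fun w hw => (c3 w hw).1 (a5 ▸ trivial)))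
  rw [a6, finrank_top] at c5
  omega

theorem exists_hyp (B : V →ₗ[F] Dual F V) (hB : ∀ v w, B v w = -B w v) (hB0 : ∀ v, B v v = 0) {S : Submodule F V}
    (hS : ∀ v ∈ S, v ≠ 0 → ∃ w ∈ S, B v w ≠ 0) (h0 : 0 < finrank F S) : ∃ e ∈ S, ∃ f ∈ S, B e f = 1 ∧
      ∃ S' : Submodule F V, (∀ v ∈ S', v ∈ S ∧ B e v = 0 ∧ B f v = 0) ∧ (∀ v ∈ S', v ≠ 0 → ∃ w ∈ S', B v w ≠ 0) ∧
        finrank F S ≤ finrank F S' + 2 := by
  obtain ⟨e, h1, h2⟩ := exists_ne_mem h0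
  obtain ⟨f, h3, h4⟩ := hS e h1 h2
  obtain ⟨f, h3, h4⟩ : ∃ f ∈ S, B e f = 1 := ⟨(B e f)⁻¹ • f, S.smul_mem _ h3, by simp [h4]⟩
  refine ⟨e, h1, f, h3, h4, S ⊓ LinearMap.ker (B e) ⊓ LinearMap.ker (B f), fun v hv => ⟨hv.1.1, hv.1.2, hv.2⟩,
    fun v hv hv0 => ?_, ?_⟩
  · obtain ⟨w, a1, a2⟩ := hS v hv.1.1 hv0
    have a3 : B v e = 0 := by rw [hB, neg_eq_zero]; exact hv.1.2
    have a4 : B v f = 0 := by rw [hB, neg_eq_zero]; exact hv.2
    refine ⟨w + B f w • e - B e w • f, ⟨⟨sub_mem (add_mem a1 (S.smul_mem _ h1)) (S.smul_mem _ h3), ?_⟩, ?_⟩, ?_⟩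
    · simp [hB0, h4]
    · simp [hB0, h4, hB f e]
    · simpa [a3, a4] using a2
  · have := finrank_inf_ker S (B e)
    have := finrank_inf_ker (S ⊓ LinearMap.ker (B e)) (B f)
    omega

variable [Fintype F] [Fintype V] {X : Type*} [Fintype X] [MulAction (SpecialLinearGroup F V) X] {x : X}

theorem exists_irr_quad : ∃ c : F, ∀ l : F, (l - 1) * (l - 1 - c) - c ≠ 0 := by
  by_contra h
  push Not at h
  have := Fintype.card_le_of_surjective (fun l : Fˣ => (l : F) + (l : F)⁻¹ - 2) fun c => by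
    obtain ⟨l, hl⟩ := h c
    have h0 : l ≠ 0 := by rintro rfl; simp at hl
    refine ⟨Units.mk0 l h0, ?_⟩
    simp only [Units.val_mk0]
    field_simp
    linear_combination hl
  rw [Fintype.card_units] at this
  have := two_le_q (F := F)
  omega

theorem no_polarity (hn : 5 ≤ n) (R : RK 𝔾 x) (δ : V → Submodule F V) (h1 : ∀ v, v ≠ 0 → finrank F (δ v) + 1 = n)
    (h2 : ∀ v, v ≠ 0 → v ∈ δ v) (h3 : ∀ v w, v ≠ 0 → w ≠ 0 → w ∈ δ v → v ∈ δ w)
    (h4 : ∀ h : 𝔾, h • x = x → ∀ v, δ (h • v) = h • δ v) : False := by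
  obtain ⟨B, hB, hk⟩ := exists_form (by omega) δ h1 h2 h3
  have hB0 : ∀ v, B v v = 0 := fun v => by
    by_cases e : v = 0
    · simp [e]
    · exact (hk v e).ge (h2 v e)
  have nd : ∀ v, v ≠ 0 → ∃ w, B v w ≠ 0 := fun v hv => by
    obtain ⟨w, -, hw⟩ := exists_mem_not (S := δ v) (T := ⊤) (by rw [finrank_top, ← h1 v hv]; omega)
    exact ⟨w, fun e => hw ((hk v hv).le e)⟩
  have pres : ∀ h : 𝔾, h • x = x → ∀ v w, B (h • v) (h • w) = 0 ↔ B v w = 0 := fun h hh v w => by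
    by_cases e : v = 0
    · simp [e]
    · rw [← LinearMap.mem_ker, ← LinearMap.mem_ker, hk _ e, hk _ ((smul_ne_zero_iff_ne h).2 e), h4 h hh, smul_mem]
  obtain ⟨e1, -, f1, -, p1, S1, a1, a2, a3⟩ := exists_hyp B hB hB0 (S := ⊤) (fun v _ hv => by simpa using nd v hv)
    (by rw [finrank_top]; omega)
  rw [finrank_top] at a3
  obtain ⟨e2, q1, f2, q2, p2, S2, b1, b2, b3⟩ := exists_hyp B hB hB0 a2 (by omega)
  obtain ⟨e3, q3, f3, q4, p3, -⟩ := exists_hyp B hB hB0 b2 (by omega)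
  obtain ⟨-, t1, t2⟩ := a1 _ q1
  obtain ⟨-, t3, t4⟩ := a1 _ q2
  obtain ⟨q5, t5, t6⟩ := b1 _ q3
  obtain ⟨q6, t7, t8⟩ := b1 _ q4
  obtain ⟨-, t9, t10⟩ := a1 _ q5
  obtain ⟨-, t11, t12⟩ := a1 _ q6
  have sw : ∀ {a b : V}, B a b = 0 → B b a = 0 := fun h => by rw [hB, h, neg_zero]
  have sw1 : ∀ {a b : V}, B a b = 1 → B b a = -1 := fun h => by rw [hB, h]
  have u1 := sw t1; have u2 := sw t2; have u3 := sw t3; have u4 := sw t4; have u5 := sw t5; have u6 := sw t6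
  have u7 := sw t7; have u8 := sw t8; have u9 := sw t9; have u10 := sw t10; have u11 := sw t11; have u12 := sw t12
  have r1 := sw1 p1; have r2 := sw1 p2; have r3 := sw1 p3
  obtain ⟨c, hc⟩ := exists_irr_quad (F := F)
  let Φ : 𝔾 → Finset V := fun g => {v | ∀ w, B (g • v) (g • w) = 0 ↔ B v w = 0}
  have mΦ : ∀ {g v}, v ∈ Φ g ↔ ∀ w, B (g • v) (g • w) = 0 ↔ B v w = 0 := mem_f
  let Rad : 𝔾 → Prop := fun g => ∃ u ∈ Φ g, u ≠ 0 ∧ ∀ w ∈ Φ g, B u w = 0
  have inv : ∀ {g g' : 𝔾}, Sm 𝔾 x (g • x) (g' • x) → (Φ g').card = (Φ g).card ∧ (Rad g → Rad g') := by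
    rintro g g' ⟨h, k1, k2⟩
    obtain ⟨k, k3, rfl⟩ : ∃ k : 𝔾, k • x = x ∧ g' = h * g * k :=
      ⟨(h * g)⁻¹ * g', by rw [mul_smul, inv_smul_eq_iff, mul_smul, k2], by group⟩
    have k4 : ∀ v, v ∈ Φ (h * g * k) ↔ k • v ∈ Φ g := fun v => by
      simp only [mΦ, mul_smul, pres h k1]
      exact ⟨fun e w => by rw [← smul_inv_smul k w, e, pres k k3], fun e w => by rw [e, pres k k3]⟩
    refine ⟨card_eq_of_smul k k4, fun ⟨u, k5, k6, k7⟩ => ⟨k⁻¹ • u, (k4 _).2 (by simpa using k5),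
      (smul_ne_zero_iff_ne _).2 k6, fun w hw => ?_⟩⟩
    rw [← pres k k3, smul_inv_smul]
    exact k7 _ ((k4 w).1 hw)
  have lam : ∀ {g v}, v ∈ Φ g → ∃ l : F, ∀ w, B (g • v) (g • w) = l * B v w := fun {g v} hv =>
    exists_smul_of_ker (f := B (g • v) ∘ₗ slAct g) fun w hw => (mΦ.1 hv w).2 hw
  obtain ⟨g1, hg1⟩ : ∃ g : 𝔾, ∀ v, g • v = v + B v f2 • e1 := ⟨tv e1 (B.flip f2), tv_ap t3⟩
  obtain ⟨g2, hg2⟩ : ∃ g : 𝔾, ∀ v, g • v = v + B v f3 • e2 + (B v f2 + B v f3) • e1 :=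
    ⟨g1 * tv e2 (B.flip f3), fun v => by rw [mul_smul, hg1, tv_ap (f := B.flip f3) t7]; simp [p2]⟩
  obtain ⟨g3, hg3⟩ : ∃ g : 𝔾, ∀ v, g • v = v + (c * B v f1) • e2 + (B v f2 + c * B v f1) • e1 :=
    ⟨g1 * tv e2 (c • B.flip f1), fun v => by rw [mul_smul, hg1, tv_ap (f := c • B.flip f1) (by simp [u2])]; simp [p2]⟩
  have m1 : ∀ v, B v f2 = 0 → B v e1 = 0 → v ∈ Φ g1 := fun v k1 k2 => mΦ.2 fun w => by simp [hg1, k1, k2]
  have m2 : ∀ v ∈ Φ g2, B v f2 = 0 ∧ B v e1 = 0 := fun v hv => by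
    obtain ⟨l, hl⟩ := lam hv
    have k1 := hl f1
    have k2 := hl f2
    have k3 := hl f3
    have k4 := hl e1
    have k5 := hl e2
    simp only [hg2, map_add, map_smul, LinearMap.add_apply, LinearMap.smul_apply, smul_eq_mul, hB0, p1, p2, p3, r1, r2, r3, t1, t2, t3, t4, t5, t6, t7, t8, t9, t10, t11, t12, u1, u2, u3, u4, u5, u6, u7, u8, u9, u10, u11, u12] at k1 k2 k3 k4 k5
    by_cases e : l = 1
    · subst e
      exact ⟨by linear_combination k1 - k2, by linear_combination k5⟩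
    · have e' := sub_ne_zero.2 e
      have k6 : B v f3 = 0 := mul_left_cancel₀ e' (by linear_combination -k3)
      exact ⟨mul_left_cancel₀ e' (by linear_combination k6 - k2), mul_left_cancel₀ e' (by linear_combination -k4)⟩
  have m3 : ∀ v, v ∈ Φ g3 ↔ B v f1 = 0 ∧ B v f2 = 0 ∧ B v e1 = 0 ∧ B v e2 = 0 := fun v => by
    refine ⟨fun hv => ?_, fun ⟨k1, k2, k3, k4⟩ => mΦ.2 fun w => by simp [hg3, k1, k2, k3, k4]⟩
    obtain ⟨l, hl⟩ := lam hv
    have k1 := hl f1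
    have k2 := hl f2
    have k4 := hl e1
    have k5 := hl e2
    simp only [hg3, map_add, map_smul, LinearMap.add_apply, LinearMap.smul_apply, smul_eq_mul, hB0, p1, p2, p3, r1, r2, r3, t1, t2, t3, t4, t5, t6, t7, t8, t9, t10, t11, t12, u1, u2, u3, u4, u5, u6, u7, u8, u9, u10, u11, u12] at k1 k2 k4 k5
    have k6 : B v f1 = 0 := mul_left_cancel₀ (hc l) (by linear_combination -k2 - (l - 1) * k1)
    have k7 : B v e2 = 0 := mul_left_cancel₀ (hc l) (by linear_combination -k4 - (l - 1 - c) * k5)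
    exact ⟨k6, by linear_combination k1 + (l - 1 - c) * k6, by linear_combination k5 + (l - 1) * k7, k7⟩
  have s1 : (Φ g1).card < (Φ 1).card := card_lt_card ⟨fun v _ => mΦ.2 (by simp), fun h => by
    have := mΦ.1 (h (mΦ.2 (by simp) : e2 ∈ Φ 1)) f1
    simp [hg1, hB0, p1, p2, p3, r1, r2, r3, t1, t2, t3, t4, t5, t6, t7, t8, t9, t10, t11, t12, u1, u2, u3, u4, u5, u6, u7, u8, u9, u10, u11, u12] at this⟩
  have s2 : (Φ g2).card < (Φ g1).card := card_lt_card ⟨fun v hv => m1 v (m2 v hv).1 (m2 v hv).2, fun h => by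
    have := mΦ.1 (h (m1 f2 (hB0 _) u3)) e3
    simp [hg2, hB0, p1, p2, p3, r1, r2, r3, t1, t2, t3, t4, t5, t6, t7, t8, t9, t10, t11, t12, u1, u2, u3, u4, u5, u6, u7, u8, u9, u10, u11, u12] at this⟩
  have s3 : (Φ g3).card < (Φ g1).card := card_lt_card ⟨fun v hv => m1 v ((m3 v).1 hv).2.1 ((m3 v).1 hv).2.2.1,
    fun h => by
      have := ((m3 _).1 (h (m1 f2 (hB0 _) u3))).2.2.2
      simp [r2] at this⟩
  have s4 : Rad g2 := ⟨e1, mΦ.2 fun w => by simp [hg2, hB0, p1, p2, p3, r1, r2, r3, t1, t2, t3, t4, t5, t6, t7, t8, t9, t10, t11, t12, u1, u2, u3, u4, u5, u6, u7, u8, u9, u10, u11, u12], fun e => by simp [e] at p1, fun w hw => sw (m2 w hw).2⟩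
  have s5 : ¬ Rad g3 := fun ⟨u, k1, k2, k3⟩ => by
    obtain ⟨w, hw⟩ := nd u k2
    obtain ⟨k4, k5, k6, k7⟩ := (m3 u).1 k1
    have := k3 (w - B w f1 • e1 + B w e1 • f1 - B w f2 • e2 + B w e2 • f2) ((m3 _).2 (by simp [hB0, p1, p2, p3, r1, r2, r3, t1, t2, t3, t4, t5, t6, t7, t8, t9, t10, t11, t12, u1, u2, u3, u4, u5, u6, u7, u8, u9, u10, u11, u12]))
    simp [k4, k5, k6, k7, hw] at this
  have s6 := four_of_ro R.rk.le ((1 : 𝔾) • x) (g1 • x) (g2 • x) (g3 • x)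
  rcases s6 with e | e | e | e | e | e
  all_goals have := inv e
  · omega
  · omega
  · omega
  · omega
  · omega
  · exact s5 (this.2 s4)

end Cfsg.Agent.H2.PL
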