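import Cfsg.Agent.H2.PLg

/-! The subgroup of `SL(V)` acting trivially on `V / l`. -/

set_option autoImplicit false
set_option linter.unusedSectionVars false

namespace Cfsg.Agent.H2.PL

open MulAction Finset Module Cfsg.Agent.H1 Cfsg.Agent.H4
open scoped Classical Pointwise

variable {F : Type*} [Field F] {V : Type*} [AddCommGroup V] [Module F V] [FiniteDimensional F V]

local notation "𝔾" => SpecialLinearGroup F V
local notation "n" => finrank F V

theorem exists_sl (e : V →ₗ[F] V) (h : LinearMap.det e = 1) : ∃ g : 𝔾, ∀ v, g • v = e v :=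
  ⟨⟨LinearMap.equivOfIsUnitDet (f := e) (h ▸ isUnit_one), Units.ext (by simp [LinearEquiv.coe_det, h])⟩,
    fun v => LinearMap.equivOfIsUnitDet_apply (h ▸ isUnit_one) v⟩

theorem det_act (g : 𝔾) : LinearMap.det (slAct g) = 1 := by
  have := congrArg Units.val g.2
  rwa [LinearEquiv.coe_det] at this

theorem det_res {e : V →ₗ[F] V} {l : Submodule F V} (h : ∀ v, e v - v ∈ l) (σ : l →ₗ[F] l)
    (hσ : ∀ v : l, (σ v : V) = e v) : LinearMap.det e = LinearMap.det σ := by
  have h1 : l ≤ l.comap e := fun v hv => by simpa using add_mem (h v) hv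
  rw [LinearMap.det_eq_det_mul_det l e h1, show l.mapQ l e h1 = LinearMap.id from Submodule.linearMap_qext _
    (LinearMap.ext fun v => (Submodule.Quotient.eq _).2 (h v)), LinearMap.det_id, mul_one]
  exact congrArg _ (LinearMap.ext fun v => Subtype.ext (hσ v).symm)

/-- the elements acting trivially modulo `l` -/
def BB (l : Submodule F V) : Subgroup 𝔾 where
  carrier := {g | ∀ v, g • v - v ∈ l}
  one_mem' v := by simp
  mul_mem' {g h} hg hh v := by simpa [mul_smul] using add_mem (hg (h • v)) (hh v)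
  inv_mem' {g} hg v := by simpa using neg_mem (hg (g⁻¹ • v))

theorem mem_BB {l : Submodule F V} {g : 𝔾} : g ∈ BB l ↔ ∀ v, g • v - v ∈ l := Iff.rfl

variable [Fintype F]

local notation "q" => Fintype.card F

theorem card_BB (l : Submodule F V) :
    Nat.card (BB l) = Nat.card (SpecialLinearGroup F l) * q ^ ((n - finrank F l) * finrank F l) := by
  obtain ⟨W, hW⟩ := l.exists_isCompl
  have h1 : ∀ z : SpecialLinearGroup F l × (W →ₗ[F] l), ∃ g : BB l, (∀ v : l, g.1 • (v : V) = ↑(z.1 • v)) ∧
      ∀ w : W, g.1 • (w : V) = w + z.2 w := fun z => by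
    let e := LinearMap.ofIsCompl hW (l.subtype ∘ₗ slAct z.1) (W.subtype + l.subtype ∘ₗ z.2)
    have a1 : ∀ v : l, e v = ↑(z.1 • v) := fun v => LinearMap.ofIsCompl_apply_left hW v
    have a2 : ∀ w : W, e w = w + z.2 w := fun v => LinearMap.ofIsCompl_apply_right hW v
    have a3 : ∀ v, e v - v ∈ l := fun v => by
      obtain ⟨u, w, rfl, -⟩ := Submodule.existsUnique_add_of_isCompl hW v
      rw [map_add, a1, a2, show ↑(z.1 • u) + (↑w + ↑(z.2 w)) - (u + w : V) = ↑(z.1 • u + z.2 w - u) by
        push_cast; abel]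
      exact Subtype.prop _
    obtain ⟨g, hg⟩ := exists_sl e ((det_res a3 (slAct z.1) fun v => (a1 v).symm).trans (det_act _))
    exact ⟨⟨g, fun v => hg v ▸ a3 v⟩, fun v => (hg v).trans (a1 v), fun w => (hg w).trans (a2 w)⟩
  choose φ h2 h3 using h1
  have h4 : Function.Bijective φ := ⟨fun z z' e => Prod.ext (g_ext fun v => Subtype.ext (by rw [← h2, ← h2, e]))
    (LinearMap.ext fun w => Subtype.ext (add_left_cancel (a := (w : V)) (by rw [← h3, ← h3, e]))), fun g => by
      have a1 : ∀ v ∈ l, slAct g.1 v ∈ l := fun v hv => by simpa [act_eq] using add_mem (g.2 v) hv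
      obtain ⟨σ, hσ⟩ := exists_sl ((slAct g.1).restrict a1)
        ((det_res (e := slAct g.1) g.2 _ fun v => rfl).symm.trans (det_act _))
      refine ⟨(σ, LinearMap.codRestrict l ((slAct g.1 - 1) ∘ₗ W.subtype) fun w => g.2 w), Subtype.ext (g_ext fun v => ?_)⟩
      obtain ⟨u, w, rfl, -⟩ := Submodule.existsUnique_add_of_isCompl hW v
      rw [smul_add, smul_add, h2, h3, hσ]
      exact congrArg₂ _ rfl (add_sub_cancel _ _)⟩
  have : Finite V := Module.finite_of_finite F
  have : Finite (W →ₗ[F] l) := Module.finite_of_finite F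
  rw [← Nat.card_eq_of_bijective φ h4, Nat.card_prod, Module.natCard_eq_pow_finrank (K := F) (V := W →ₗ[F] l),
    Module.finrank_linearMap, Nat.card_eq_fintype_card (α := F), ← Submodule.finrank_add_eq_of_isCompl hW,
    Nat.add_sub_cancel_left]

theorem card_B {l : Submodule F V} (hl : finrank F l = 2) : Nat.card (BB l) = q ^ (2 * n - 3) * (q ^ 2 - 1) := by
  have h1 := card_SL (F := F) (V := l) (by omega)
  have h2 := two_le_q (F := F)
  have h3 : 2 ≤ n := hl ▸ Submodule.finrank_le l
  rw [hl, prod_range_succ, prod_range_one, show q ^ 2 - q ^ 1 = q * (q - 1) by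
    rw [Nat.mul_sub, mul_one, pow_one, sq], pow_zero, ← mul_assoc] at h1
  rw [card_BB, hl, Nat.eq_of_mul_eq_mul_right (by omega) h1, show 2 * n - 3 = (n - 2) * 2 + 1 by omega]
  ring

end Cfsg.Agent.H2.PL
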