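import Cfsg.Agent.H2.PLh

/-! Rank three actions of `SL(V)`: eigenfunctions of the class sum of transvections on subspaces. -/

set_option autoImplicit false
set_option linter.unusedSectionVars false

namespace Cfsg.Agent.H2.PL

open MulAction Finset Module Cfsg.Agent.H1 Cfsg.Agent.H4
open scoped Classical Pointwise

variable {F : Type*} [Field F] {V : Type*} [AddCommGroup V] [Module F V] [FiniteDimensional F V] [Fintype F]
  [Fintype V] [Fintype (Submodule F V)] [Fintype (Dual F V)] [Fintype (SpecialLinearGroup F V)]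
  {X : Type*} [Fintype X] [MulAction (SpecialLinearGroup F V) X] {x : X}

local notation "𝔾" => SpecialLinearGroup F V
local notation "q" => Fintype.card F
local notation "n" => finrank F V

theorem card_fib {M : Type*} [AddCommGroup M] [Module F M] [Fintype M] (A : Submodule F M) (φ : Dual F M) {u : M}
    (hu : u ∈ A) (h1 : φ u = 1) (c : F) : #{m | m ∈ A ∧ φ m = c} * q = q ^ finrank F A := by
  have h2 : ∀ d : F, #{m | m ∈ A ∧ φ m = d} = #{m | m ∈ A ∧ φ m = c} := fun d =>
    card_nbij' (fun m => m + (c - d) • u) (fun m => m - (c - d) • u)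
      (fun m hm => by
        obtain ⟨a, b⟩ := mem_f.1 hm
        exact mem_f.2 ⟨add_mem a (A.smul_mem _ hu), by simp [b, h1]⟩)
      (fun m hm => by
        obtain ⟨a, b⟩ := mem_f.1 hm
        exact mem_f.2 ⟨sub_mem a (A.smul_mem _ hu), by simp [b, h1]⟩) (fun m _ => by simp) fun m _ => by simp
  rw [← card_sub, card_eq_sum_card_fiberwise (f := φ) (t := univ) (s := {m | m ∈ A}) (fun _ _ => mem_univ _)]
  simp only [filter_filter, h2]
  simp [mul_comm]

theorem sum_aff {Φ : Submodule F V → ℂ} {U K : Submodule F V} {f : Dual F V} {u : V} (h1 : f u = 1)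
    (hU : U = K ⊔ F ∙ u) (hK : ∀ v ∈ K, f v = 0) :
    ∑ w with f w = 0, Φ (tv w f • U) = ∑ z, if f z = 1 then Φ (K ⊔ F ∙ z) else 0 := by
  rw [← sum_filter]
  refine sum_nbij' (fun w => u + w) (fun z => z - u) (fun w hw => mem_f.2 (by simp [h1, mem_f.1 hw]))
    (fun w hw => mem_f.2 (by simp [h1, mem_f.1 hw])) (fun w _ => by simp) (fun w _ => by simp) fun w hw => ?_
  replace hw : f w = 0 := (mem_filter.1 hw).2
  rw [hU, smul_sup, (tv_smul_eq_iff hw).2 (.inl hK), smul_span1, tv_ap hw, h1, one_smul]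

theorem sum_shift {Φ : Submodule F V → ℂ} {i : ℕ}
    (hΦ : ∀ K : Submodule F V, finrank F K = i → ∑ z with z ∉ K, Φ (K ⊔ F ∙ z) = 0) {U : Submodule F V}
    (hU : finrank F U = i + 1) {f : Dual F V} (hf : f ∉ U.dualAnnihilator) :
    (∑ h with h ∈ U.dualAnnihilator, ∑ w with (f + h) w = 0, Φ (tv w (f + h) • U)) * q =
      q ^ finrank F U.dualAnnihilator * q ^ i * Φ U := by
  obtain ⟨u, hu, h1⟩ : ∃ u ∈ U, f u = 1 := by
    simp only [Submodule.mem_dualAnnihilator, not_forall] at hf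
    obtain ⟨u, hu, h1⟩ := hf
    exact ⟨(f u)⁻¹ • u, U.smul_mem _ hu, by simp [h1]⟩
  obtain ⟨K, hK⟩ : ∃ K, K = U ⊓ LinearMap.ker f := ⟨_, rfl⟩
  have mK : ∀ {v}, v ∈ K ↔ v ∈ U ∧ f v = 0 := by simp [hK]
  have h2 : finrank F K = i := by
    have a1 := finrank_inf_ker U f
    have a2 : finrank F K < finrank F U := Submodule.finrank_lt_finrank_of_lt
      (lt_of_le_of_ne (fun v hv => (mK.1 hv).1) fun e => one_ne_zero (h1.symm.trans (mK.1 (e ▸ hu)).2))
    rw [← hK] at a1
    omega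
  have h3 : ∀ z ∈ U, z ∉ K → K ⊔ (F ∙ z) = U := fun z a1 a2 => Submodule.eq_of_le_of_finrank_eq
    (sup_le (fun v hv => (mK.1 hv).1) (span1_le a1)) (by rw [finrank_sup_span a2, h2, hU])
  have h4 := h3 u hu (by simp [mK, h1])
  obtain ⟨a, ha⟩ : ∃ a : ℂ, a = q ^ finrank F U.dualAnnihilator := ⟨_, rfl⟩
  have h5 : ∀ z, (∑ h with h ∈ U.dualAnnihilator, if (f + h) z = 1 then Φ (K ⊔ F ∙ z) else 0) * q =
      a * ((if z ∉ K then Φ (K ⊔ F ∙ z) else 0) - (if z ∈ U ∧ z ∉ K then Φ U else 0) +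
        (if z ∈ U ∧ f z = 1 then q * Φ U else 0)) := fun z => by
    rw [← sum_filter, sum_const, filter_filter, nsmul_eq_mul, mul_right_comm]
    by_cases hz : z ∈ U
    · have a1 : ∀ h : Dual F V, h ∈ U.dualAnnihilator ∧ (f + h) z = 1 ↔ h ∈ U.dualAnnihilator ∧ f z = 1 := fun h =>
        and_congr_right fun e => by rw [LinearMap.add_apply, (Submodule.mem_dualAnnihilator _).1 e z hz, add_zero]
      simp only [a1]
      by_cases a2 : f z = 1
      · have a3 : z ∉ K := by simp [mK, a2]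
        simp only [a2, and_true, hz, a3, not_false_eq_true, if_true, h3 z hz a3, card_sub, ha]
        push_cast
        ring
      · by_cases a3 : z ∈ K
        · simp [a2, a3]
        · simp [a2, a3, hz, h3 z hz a3]
    · obtain ⟨g, a1, a2⟩ := sep_vec U z hz
      have a3 := card_fib U.dualAnnihilator (Dual.eval F V z) ((Submodule.mem_dualAnnihilator _).2 a2) a1 (1 - f z)
      have a4 : z ∉ K := fun e => hz (mK.1 e).1
      rw [fc (fun h => h ∈ U.dualAnnihilator ∧ Dual.eval F V z h = 1 - f z) fun h => and_congr_right fun _ => by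
        simp [eq_sub_iff_add_eq'], ← Nat.cast_mul, a3, ha]
      simp [hz, a4]
  have h6 := card_fib U f hu h1 1
  have h7 := card_diff (U := K) (W := U) fun v hv => (mK.1 hv).1
  rw [hU] at h6
  rw [hU, h2] at h7
  rw [sum_congr rfl fun h hh => sum_aff (f := f + h) (K := K) (u := u) (by
      simp [h1, (Submodule.mem_dualAnnihilator _).1 (mem_f.1 hh) u hu]) h4.symm fun v hv => by
      simp [(mK.1 hv).2, (Submodule.mem_dualAnnihilator _).1 (mem_f.1 hh) v (mK.1 hv).1],
    sum_comm, sum_mul, sum_congr rfl fun z _ => h5 z, ← mul_sum, sum_add_distrib, sum_sub_distrib, ← sum_filter,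
    ← sum_filter, ← sum_filter, hΦ K h2, sum_const, sum_const, nsmul_eq_mul, nsmul_eq_mul, ← ha, ← mul_assoc _ (q : ℂ),
    ← Nat.cast_mul, h6, ← h7]
  push_cast
  ring

theorem sum_DD_sub {Φ : Submodule F V → ℂ} {i m : ℕ} (hn : n = i + 2 + m)
    (hΦ : ∀ K : Submodule F V, finrank F K = i + 1 → ∑ z with z ∉ K, Φ (K ⊔ F ∙ z) = 0) {U : Submodule F V}
    (hU : finrank F U = i + 2) : ∑ t ∈ DD F V, Φ (t • U) =
      ((q ^ (n - 1) * br q m + q ^ (n - 2) * br q (i + 2) : ℕ) - br q n) * Φ U := by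
  have h1 := sum_DD (F := F) (V := V) fun g => Φ (g • U)
  have h2 : finrank F U.dualAnnihilator = m := by
    have := Subspace.finrank_add_finrank_dualAnnihilator_eq U
    omega
  obtain ⟨I, hI⟩ : ∃ I : Dual F V → ℂ, ∀ f, I f = ∑ w with f w = 0, Φ (tv w f • U) := ⟨_, fun _ => rfl⟩
  have h3 : ∑ f with f ∉ U.dualAnnihilator, ∑ h with h ∈ U.dualAnnihilator, I (f + h) =
      q ^ m * ∑ f with f ∉ U.dualAnnihilator, I f := by
    have a1 : ∀ h ∈ U.dualAnnihilator, ∑ f with f ∉ U.dualAnnihilator, I (f + h) = ∑ f with f ∉ U.dualAnnihilator, I f :=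
      fun h hh => sum_nbij' (· + h) (· - h) (fun f hf => mem_filter.2 ⟨mem_univ _, fun e => (mem_filter.1 hf).2
          ((Submodule.add_mem_iff_left _ hh).1 e)⟩) (fun f hf => mem_filter.2 ⟨mem_univ _, fun e => (mem_filter.1 hf).2
          ((Submodule.sub_mem_iff_left _ hh).1 e)⟩) (fun _ _ => by simp) (fun _ _ => by simp) fun _ _ => rfl
    rw [sum_comm, sum_congr rfl fun h hh => a1 h (mem_filter.1 hh).2, sum_const, card_sub, h2, nsmul_eq_mul]
    push_cast
    rfl
  have h4 := congrArg (· * (q : ℂ)) h3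
  have h5 := card_not_mem (F := F) U.dualAnnihilator
  simp only [hI] at h4
  rw [sum_mul, sum_congr rfl fun f hf => sum_shift hΦ hU (mem_filter.1 hf).2, sum_const, h2, nsmul_eq_mul] at h4
  rw [h2, Subspace.dual_finrank_eq] at h5
  have h6 := card_diff (F := F) (bot_le (a := U.dualAnnihilator))
  rw [← sum_filter_add_sum_filter_not _ (· ∈ U.dualAnnihilator), filter_filter, filter_filter,
    sum_congr rfl (g := fun _ => (q : ℂ) ^ (n - 1) * Φ U) fun f hf => by
      rw [sum_congr rfl (g := fun _ => Φ U) fun w hw => by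
        rw [(tv_smul_eq_iff (mem_filter.1 hw).2).2 (.inl ((Submodule.mem_dualAnnihilator _).1 (mem_filter.1 hf).2.2))],
        sum_const, card_ker (mem_filter.1 hf).2.1, nsmul_eq_mul, Nat.cast_pow], sum_const,
    fc (fun f => f ∈ U.dualAnnihilator ∧ f ∉ (⊥ : Submodule F (Dual F V))) (fun f => by simp [and_comm]),
    fc (fun f => f ∉ U.dualAnnihilator) (P := fun f => f ≠ 0 ∧ f ∉ U.dualAnnihilator)
      (fun f => and_iff_right_of_imp fun a e => a (e ▸ zero_mem _)), one_smul, nsmul_eq_mul] at h1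
  rw [h2, finrank_bot, pow_zero] at h6
  have h5' := congrArg (Nat.cast : ℕ → ℂ) h5
  have h6' := congrArg (Nat.cast : ℕ → ℂ) h6
  have e1 := pow_sub_eq (F := F) m
  have e2 := pow_sub_eq (F := F) (i + 2)
  have e3 := pow_sub_eq (F := F) n
  have hq : (q : ℂ) ≠ 0 := by simp
  refine mul_left_cancel₀ (a := (q - 1 : ℂ) * (q ^ m * q)) (mul_ne_zero q_sub_ne (by simp)) ?_
  rw [hn, show i + 2 + m - 1 = i + m + 1 by omega] at *
  rw [show i + 2 + m - 2 = i + m by omega]
  push_cast at h5' h6' ⊢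
  linear_combination (-(q : ℂ) ^ m * q) * h1 - h4 + (q : ℂ) ^ m * q ^ (i + 1) * Φ U * h5' +
    (q : ℂ) ^ m * q * q ^ (i + m + 1) * Φ U * (h6' + e1) + (q : ℂ) ^ m * q * q ^ (i + m) * Φ U * e2 -
    (q : ℂ) ^ m * q * Φ U * e3

end Cfsg.Agent.H2.PL
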