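import Cfsg.Agent.H2.PLi

/-! Rank three actions of `SL(V)` whose stabilizers have no element of rank at most two. -/

set_option autoImplicit false
set_option linter.unusedSectionVars false

namespace Cfsg.Agent.H2.PL

open MulAction Finset Module Cfsg.Agent.H1 Cfsg.Agent.H4
open scoped Classical Pointwise

variable {F : Type*} [Field F] {V : Type*} [AddCommGroup V] [Module F V] [FiniteDimensional F V] [Fintype F]
  [Fintype V] [Fintype (Submodule F V)] [Fintype (Dual F V)] [Fintype (SpecialLinearGroup F V)]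
  {X : Type*} [Fintype X] [MulAction (SpecialLinearGroup F V) X] {x : X}

local notation "𝔾" => SpecialLinearGroup F V
local notation "q" => Fintype.card F
local notation "n" => finrank F V

theorem exists_ext (U : Submodule F V) {k : ℕ} (h1 : finrank F U ≤ k) (h2 : k ≤ n) :
    ∃ W : Submodule F V, U ≤ W ∧ finrank F W = k := by
  induction k, h1 using Nat.le_induction with
  | base => exact ⟨U, le_rfl, rfl⟩
  | succ k _ ih =>
    obtain ⟨W, h3, h4⟩ := ih (by omega)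
    obtain ⟨w, -, hw⟩ := exists_mem_not (S := W) (T := ⊤) (by rw [finrank_top]; omega)
    exact ⟨W ⊔ F ∙ w, h3.trans le_sup_left, by rw [finrank_sup_span hw, h4]⟩

variable (F V) in
/-- no nontrivial element of the stabilizer has rank at most two -/
def NoY (x : X) : Prop :=
  ∀ g : 𝔾, g • x = x → ∀ l : Submodule F V, finrank F l = 2 → (∀ v, g • v - v ∈ l) → g = 1

theorem NoY.smul (hY : NoY F V x) (g : 𝔾) : NoY F V (g • x) := fun k hk l hl h => by
  have := hY (g⁻¹ * k * g) (by rw [mul_smul, mul_smul, hk, inv_smul_smul]) (g⁻¹ • l) (by rw [finrank_smul, hl]) fun v => by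
    rw [mem_smul_iff, inv_inv, smul_sub, mul_smul, mul_smul, smul_inv_smul]
    exact h _
  rwa [mul_assoc, inv_mul_eq_one, eq_comm, mul_eq_right] at this

theorem NoY.inj (hY : NoY F V x) (hn : 2 ≤ n) {t u : 𝔾} (ht : t ∈ DD F V ∨ t = 1) (hu : u ∈ DD F V) (e : t • x = u • x) :
    t = u := by
  obtain ⟨w, f, h3, rfl⟩ : ∃ w f, f w = 0 ∧ t = tv w f := by
    rcases ht with ht | rfl
    · obtain ⟨w, f, -, -, h⟩ := mem_DD.1 ht
      exact ⟨w, f, h⟩
    · exact ⟨0, 0, rfl, (tv_zero_left 0).symm⟩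
  obtain ⟨w', f', -, -, h6, rfl⟩ := mem_DD.1 hu
  obtain ⟨l, h7, h8⟩ := exists_ext _ (finrank_pair_le (F := F) w w') hn
  refine (inv_mul_eq_one.1 (hY _ (by rw [mul_smul, e, inv_smul_smul]) l h8 fun v => ?_)).symm
  rw [mul_smul, tv_inv h6, tv_ap (by simp [h6]), tv_ap h3, add_assoc, add_sub_cancel_left]
  exact add_mem (l.smul_mem _ (h7 (mem_span2_left _ _))) (l.smul_mem _ (h7 (mem_span2_right _ _)))

theorem NoY.free (hY : NoY F V x) (hn : 2 ≤ n) (t : 𝔾) (ht : t ∈ DD F V) : t • x ≠ x := fun e => by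
  obtain rfl := hY.inj hn (.inr rfl) ht (by rw [e, one_smul])
  obtain ⟨w, f, h1, h2, h3, h4⟩ := mem_DD.1 ht
  exact tv_ne_one h3 h1 h2 h4.symm

theorem NoY.dvd (hY : NoY F V x) (R : RK 𝔾 x) (hn : 2 ≤ n) : q ^ (2 * n - 3) * (q ^ 2 - 1) ∣ Fintype.card X := by
  obtain ⟨l, -, hl⟩ := exists_ext (⊥ : Submodule F V) (k := 2) (by simp) hn
  rw [← card_B hl, ← Nat.card_eq_fintype_card (α := X), Nat.card_congr (selfEquivOrbitsQuotientProd (G := BB l) (X := X) fun y => by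
    obtain ⟨g, rfl⟩ := R.tr y
    exact eq_bot_iff.2 fun k hk => Subtype.ext (hY.smul g k hk l hl k.2)), Nat.card_prod]
  exact dvd_mul_left _ _

theorem NoY.sum_sq (hY : NoY F V x) (hn : 2 ≤ n) : ∑ y, nD (DD F V) x y ^ 2 = (DD F V).card := by
  rw [← sum_nD x]
  refine sum_congr rfl fun y _ => ?_
  have : nD (DD F V) x y ≤ 1 := card_le_one.2 fun t ht u hu =>
    hY.inj hn (.inl (mem_filter.1 ht).1) (mem_filter.1 hu).1 ((mem_filter.1 ht).2.trans (mem_filter.1 hu).2.symm)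
  interval_cases nD (DD F V) x y <;> rfl

theorem not_dvd_br {a : ℕ} (h : 2 ≤ a) (j : ℕ) : ¬ a ∣ br a (j + 1) := fun e => by
  rw [br_succ, Nat.dvd_add_right (dvd_mul_right _ _), Nat.dvd_one] at e
  omega

theorem card_sm_dvd {Y : Type*} [Fintype Y] [MulAction 𝔾 Y] (y : Y) {T : Finset Y} (h : ∀ w, w ∈ T ↔ Sm 𝔾 x y w) :
    T.card ∣ Nat.card (stabilizer 𝔾 x) := ⟨_, (orb_stab (stabilizer 𝔾 x) y T h).symm⟩

theorem NoY.orbits (hY : NoY F V x) (R : RK 𝔾 x) (hn : 3 ≤ n) : (DD F V).card ∣ Nat.card (stabilizer 𝔾 x) ∧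
    ∃ l, l ∣ Nat.card (stabilizer 𝔾 x) ∧ Fintype.card X = 1 + (DD F V).card + l := by
  obtain ⟨P, hP⟩ : ∃ P : Finset X, P = (DD F V).image (· • x) := ⟨_, rfl⟩
  have h1 : P.card = (DD F V).card := hP ▸ card_image_of_injOn fun t ht u hu => hY.inj (by omega) (.inl ht) hu
  have h2 : ∀ {a b}, Sm 𝔾 x a b → a ∈ P → b ∈ P := by
    rintro _ _ ⟨h, a1, rfl⟩ a2
    obtain ⟨t, a3, rfl⟩ := mem_image.1 (hP ▸ a2)
    exact hP ▸ mem_image.2 ⟨_, DD_conj h t a3, by rw [mul_smul, mul_smul, inv_smul_eq_iff.2 a1.symm]⟩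
  have h3 : x ∉ P := fun e => by
    obtain ⟨t, a3, a4⟩ := mem_image.1 (hP ▸ e)
    exact hY.free (by omega) t a3 a4
  have h4 : ∀ y z : X, z ≠ x → (∀ w, w = x ∨ Sm 𝔾 x y w ∨ Sm 𝔾 x z w) → y ∈ P → z ∉ P →
      (DD F V).card ∣ Nat.card (stabilizer 𝔾 x) ∧
      ∃ l, l ∣ Nat.card (stabilizer 𝔾 x) ∧ Fintype.card X = 1 + (DD F V).card + l := fun y z a1 a2 a3 a4 =>
    ⟨h1 ▸ card_sm_dvd y fun w => ⟨fun e => ((a2 w).resolve_left fun e' => h3 (e' ▸ e)).resolve_right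
      fun e' => a4 (h2 e'.symm e), fun e => h2 e a3⟩, (insert x P)ᶜ.card, card_sm_dvd z fun w => by
        rw [mem_compl, mem_insert, not_or]
        exact ⟨fun e => ((a2 w).resolve_left e.1).resolve_left fun e' => e.2 (h2 e' a3),
          fun e => ⟨fun e' => a1 (e' ▸ e).symm.eq_of_self, fun e' => a4 (h2 e.symm e')⟩⟩,
      by rw [← card_add_card_compl (insert x P), card_insert_of_notMem h3, h1, add_comm 1]⟩
  obtain ⟨y, z, a1, a2, -, a3⟩ := R.exists_two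
  by_cases hy : y ∈ P <;> by_cases hz : z ∈ P
  · have a4 : insert x P = univ := eq_univ_of_forall fun w =>
      mem_insert.2 ((a3 w).imp_right fun e => e.elim (h2 · hy) (h2 · hz))
    have a5 := hY.dvd R (by omega)
    have a6 := card_DD (F := F) (V := V)
    obtain ⟨m, hm⟩ : ∃ m, n = m + 3 := ⟨n - 3, by omega⟩
    rw [← card_univ (α := X), ← a4, card_insert_of_notMem h3, h1] at a5
    rw [hm, br_succ] at a6
    have a7 : q * q ∣ (DD F V).card + 1 := (Dvd.intro (q ^ (2 * m + 1) * (q ^ 2 - 1)) (by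
      rw [hm, show 2 * (m + 3) - 3 = 2 * m + 3 by omega]; ring)).trans a5
    have a8 : q * q ∣ (DD F V).card + 1 + q * br q (m + 1 + 1) := Dvd.intro (q ^ m * (q * br q (m + 2) + 1)) (by
      rw [add_assoc, add_comm 1, a6, show m + 3 - 1 = m + 2 from rfl]; ring)
    rw [Nat.dvd_add_right a7, Nat.mul_dvd_mul_iff_left Fintype.card_pos] at a8
    exact (not_dvd_br two_le_q _ a8).elim
  · exact h4 y z a2 a3 hy hz
  · exact h4 z y a1 (fun w => (a3 w).imp_right Or.symm) hz hy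
  · obtain ⟨c, f, b1, b2, b3⟩ := exists_tvdata (F := F) (V := V) (by omega)
    have b4 : tv c f • x ∈ P := hP ▸ mem_image_of_mem _ (tv_mem_DD b1 b2 b3)
    rcases a3 (tv c f • x) with e | e | e
    exacts [(h3 (e ▸ b4)).elim, (hy (h2 e.symm b4)).elim, (hz (h2 e.symm b4)).elim]

theorem br_add (a i j : ℕ) : br a (i + j) = br a i + a ^ i * br a j := by
  simp only [br, sum_range_add, mul_sum, pow_add]

theorem NoY.no_eigen (hY : NoY F V x) (R : RK 𝔾 x) {i m : ℕ} (hn : n = i + 2 + (m + 2)) (u : X → ℂ) {y : X} (hy : u y ≠ 0)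
    (hu : ∀ y, ∑ t ∈ DD F V, u (t • y) =
      ((q ^ (n - 1) * br q (m + 2) + q ^ (n - 2) * br q (i + 2) : ℕ) - br q n) * u y) : False := by
  obtain ⟨χ, ψ, hχ, hψ, -, -, -, e⟩ := R.decomp
  obtain ⟨f, g, a, b, -, h1, h2, h3, -, -, h4⟩ := spec (by omega) R (hY.free (by omega)) hχ hψ e
  have h5 := eigen DD_conj hχ hψ e u _ hu hy
  have hD := card_DD (F := F) (V := V)
  have hq := two_le_q (F := F)
  have hv : 0 < Fintype.card X := Fintype.card_pos_iff.2 ⟨x⟩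
  obtain ⟨k, hk⟩ : ∃ k, k = i + m + 2 := ⟨_, rfl⟩
  rw [hY.sum_sq (by omega)] at h4
  rw [h1, h2] at h5
  rw [show n = k + 2 by omega, show k + 2 - 1 = k + 1 from rfl] at *
  rw [show k + 2 - 2 = k from rfl] at *
  obtain ⟨A, hA⟩ : ∃ A, A = q ^ (k + 1) * br q (m + 2) + q ^ k * br q (i + 2) := ⟨_, rfl⟩
  rw [← hA] at h5
  have p1 : 0 < q ^ k := by positivity
  have p2 : q + 1 ≤ br q (m + 2) := by simpa [br, sum_range_succ, add_comm] using br_mono («q» := q) (show 2 ≤ m + 2 by omega)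
  have p3 : q + 1 ≤ br q (i + 2) := by simpa [br, sum_range_succ, add_comm] using br_mono («q» := q) (show 2 ≤ i + 2 by omega)
  have p4 : br q (k + 2) = br q k + q ^ k + q ^ k * q := by rw [br_succ', br_succ', pow_succ]
  have p5 := br_lt hq k
  have a1 : A < q ^ (k + 1) * br q (k + 2) := by
    have b1 := br_add q (i + 2) (m + 2)
    have b2 : 0 < q ^ (i + 2) := by positivity
    rw [show i + 2 + (m + 2) = k + 2 by omega] at b1
    rw [hA, b1, mul_add, add_comm]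
    exact Nat.add_lt_add_of_lt_of_le (Nat.mul_lt_mul_of_pos_right (Nat.pow_lt_pow_right hq (by omega)) (by omega))
      (Nat.mul_le_mul_left _ (Nat.le_mul_of_pos_left _ b2))
  have a2 : q * br q (k + 2) ≤ A := by
    have b1 := Nat.mul_le_mul_left (q ^ (k + 1)) p2
    have b2 := Nat.mul_le_mul_left (q ^ k) p3
    have b3 := Nat.mul_le_mul_left q p5.le
    rw [hA, p4]
    rw [pow_succ] at *
    linarith
  have a3 : ¬ q ^ (k + 1) ∣ A := fun h => by
    rw [hA, Nat.dvd_add_right (dvd_mul_right _ _), pow_succ, Nat.mul_dvd_mul_iff_left p1] at h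
    exact not_dvd_br hq _ h
  have a4 : br q (k + 2) ≤ A := le_trans (Nat.le_mul_of_pos_left _ (by omega)) a2
  have a5 : ∀ b : ℕ, b = 0 ∨ b = q ^ (k + 1) → (Fintype.card X : ℤ) * ((DD F V).card + (A - br q (k + 2)) * (b - br q (k + 2))) ≠
      (q ^ (k + 1) * br q (k + 2) - A) * (q ^ (k + 1) * br q (k + 2) - b) := fun b hb e => by
    have b1 : b ≤ q ^ (k + 1) := by omega
    have b2 := br_succ' q (k + 1)
    have b3 := br_mul_int q (k + 1)
    have b4 := br_succ q k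
    have b5 : q ^ (k + 1) < q ^ (k + 1) * br q (k + 2) := lt_mul_of_one_lt_right (by positivity) (by nlinarith)
    zify at a1 a2 b1 b2 b4 b5 hD hv hq a4
    have b6 := (mul_pos_iff_of_pos_left hv).1 (e ▸ mul_pos (sub_pos.2 a1) (by linarith))
    rw [show k + 1 + 1 = k + 2 from rfl] at b2
    have b7 := mul_le_mul_of_nonneg_left (show (b : ℤ) - br q (k + 2) ≤ -br q (k + 1) by omega) (sub_nonneg.2 a4)
    have b8 := mul_le_mul_of_nonneg_right a2 (show (0 : ℤ) ≤ br q (k + 1) by positivity)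
    have b9 : ((DD F V).card : ℤ) = (q - 1) * br q (k + 1) * br q (k + 2) := by
      linear_combination hD - (br q (k + 2) : ℤ) * b3
    nlinarith
  rcases h5 with h5 | h5 | h5
  · rw [sub_eq_iff_eq_add, ← Nat.cast_add, hD, Nat.cast_inj] at h5
    omega
  · obtain rfl : A = a := by exact_mod_cast sub_left_injective h5
    exact a5 b (h3 (.inl ⟨rfl, rfl, rfl, rfl⟩) a3 a4) h4
  · obtain rfl : A = b := by exact_mod_cast sub_left_injective h5
    exact a5 a (h3 (.inr ⟨rfl, rfl, rfl, rfl⟩) a3 a4) (by linear_combination h4)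

theorem NoY.step (hY : NoY F V x) (R : RK 𝔾 x) {i : ℕ} (hn : i + 4 ≤ n)
    (ht : ∀ K K' : Submodule F V, finrank F K = i + 1 → finrank F K' = i + 1 → Sm 𝔾 x K K') (U U' : Submodule F V)
    (hU : finrank F U = i + 2) (hU' : finrank F U' = i + 2) : Sm 𝔾 x U U' := by
  by_contra hU''
  obtain ⟨K0, -, h0⟩ := exists_ext (⊥ : Submodule F V) (k := i + 1) (by simp) (by omega)
  obtain ⟨c, hc⟩ : ∃ c : Submodule F V → ℕ, ∀ K, c K = #{z | z ∉ K ∧ Sm 𝔾 x U (K ⊔ F ∙ z)} := ⟨_, fun _ => rfl⟩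
  have h1 : ∀ h : 𝔾, h • x = x → ∀ W, Sm 𝔾 x U (h • W) ↔ Sm 𝔾 x U W := fun h hh W =>
    ⟨fun e => e.trans (Sm.symm ⟨h, hh, rfl⟩), fun e => e.trans ⟨h, hh, rfl⟩⟩
  have h2 : ∀ K : Submodule F V, finrank F K = i + 1 → c K = c K0 := fun K hK => by
    obtain ⟨h, a1, rfl⟩ := ht K K0 hK h0
    rw [hc, hc]
    exact card_eq_of_smul h fun z => by simp only [mem_f, smul_mem, ← smul_span1, ← smul_sup, h1 h a1]
  obtain ⟨κ, hκ⟩ : ∃ κ : ℂ, κ = c K0 / #{z | z ∉ K0} := ⟨_, rfl⟩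
  obtain ⟨Φ, hΦ⟩ : ∃ Φ : Submodule F V → ℂ, ∀ W, Φ W = (if Sm 𝔾 x U W then 1 else 0) - κ := ⟨_, fun _ => rfl⟩
  have h3 : ∀ K : Submodule F V, finrank F K = i + 1 → ∑ z with z ∉ K, Φ (K ⊔ F ∙ z) = 0 := fun K hK => by
    have a1 := card_not_mem K
    have a2 := card_not_mem K0
    have a3 : q ^ (i + 1) < q ^ n := Nat.pow_lt_pow_right two_le_q (by omega)
    rw [hK] at a1
    rw [h0] at a2
    simp only [hΦ, sum_sub_distrib, sum_boole, filter_filter, sum_const, nsmul_eq_mul]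
    rw [← hc, h2 K hK, hκ, show #{z | z ∉ K} = #{z | z ∉ K0} by omega, mul_div_cancel₀ _ (Nat.cast_ne_zero.2 (by omega)),
      sub_self]
  obtain ⟨W, hW, h4⟩ : ∃ W : Submodule F V, finrank F W = i + 2 ∧ Φ W ≠ 0 := by
    by_cases e : κ = 0
    · exact ⟨U, hU, by simp [hΦ, e, Sm.refl]⟩
    · exact ⟨U', hU', by rwa [hΦ, if_neg hU'', zero_sub, neg_ne_zero]⟩
  choose γ hγ using R.tr
  have h5 : ∀ g : 𝔾, Φ ((γ (g • x))⁻¹ • W) = Φ (g⁻¹ • W) := fun g => by
    rw [hΦ, hΦ, ← h1 (g⁻¹ * γ (g • x)) (by rw [mul_smul, hγ, inv_smul_smul]), mul_smul, smul_inv_smul]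
  refine hY.no_eigen ⟨fun y => ⟨_, hγ y⟩, R.max, R.rk⟩ (i := i) (m := n - i - 4) (by omega)
    (fun y => Φ ((γ y)⁻¹ • W)) (y := (1 : 𝔾) • x) (by rwa [h5, inv_one, one_smul]) fun y => ?_
  rw [← sum_DD_sub (by omega) h3 ((finrank_smul _ _).trans hW)]
  refine sum_nbij' (fun t => (γ y)⁻¹ * t⁻¹ * γ y) (fun t => γ y * t⁻¹ * (γ y)⁻¹)
    (fun t ht => by simpa using DD_conj (γ y)⁻¹ _ (DD_inv t ht)) (fun t ht => DD_conj _ _ (DD_inv t ht))
    (fun t _ => by group) (fun t _ => by group) fun t _ => ?_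
  conv_lhs => rw [← hγ y, ← mul_smul, h5]
  rw [← mul_smul]
  congr 2
  group

end Cfsg.Agent.H2.PL
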