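import Cfsg.Agent.H2.PLj
import Cfsg.Agent.H2.Zsig

/-! Rank three actions of `SL(V)`: primitive prime divisors of the order of the stabilizer. -/

set_option autoImplicit false
set_option linter.unusedSectionVars false

namespace Cfsg.Agent.H2.PL

open MulAction Finset Module Cfsg.Agent.H1 Cfsg.Agent.H4
open scoped Classical Pointwise

theorem card_modEq_fix {G α : Type*} [Group G] [MulAction G α] [Fintype α] {ρ : G} {r : ℕ} (hr : r.Prime) (h : ρ ^ r = 1)
    (P : α → Prop) (hP : ∀ y, P y → P (ρ • y)) : #{y | P y} ≡ #{y | P y ∧ ρ • y = y} [MOD r] := by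
  have := Fact.mk hr
  let f : Function.End {y // P y} := fun y => ⟨ρ • y, hP _ y.2⟩
  have h1 : ∀ (k : ℕ) y, ((f ^ k) y).1 = ρ ^ k • y.1 := fun k => by
    induction k with
    | zero => exact fun y => by rw [pow_zero, pow_zero, one_smul]; rfl
    | succ k ih => exact fun y => by rw [pow_succ', pow_succ', mul_smul, ← ih]; rfl
  have h2 := Equiv.Perm.card_fixedPoints_modEq (f := f) (p := r) (n := 1) (funext fun y => Subtype.ext (by
    rw [h1, pow_one, h, one_smul]; rfl))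
  rwa [Fintype.card_subtype, Fintype.card_congr (β := {y // P y ∧ ρ • y = y})
    ⟨fun y => ⟨y.1.1, y.1.2, congrArg Subtype.val y.2⟩, fun y => ⟨⟨y.1, y.2.1⟩, Subtype.ext y.2.2⟩, fun _ => rfl,
      fun _ => rfl⟩, Fintype.card_subtype] at h2

theorem num5 {q v D l h : ℕ} (hq : 2 ≤ q) (h1 : h * v * (q - 1) = ∏ i ∈ range 5, (q ^ 5 - q ^ i)) (h2 : l ∣ h)
    (h3 : v = 1 + D + l) (h4 : q ^ 7 * (q ^ 2 - 1) ∣ v) (h5 : D + br q 5 = q ^ 4 * br q 5)
    (hW : ∀ r : ℕ, r.Prime → r ∣ h → orderOf (q : ZMod r) ≠ 3) : False := by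
  obtain ⟨c, hc⟩ := h4
  have a0 : ∀ i ≤ 5, q ^ i ≤ q ^ 5 := fun i hi => Nat.pow_le_pow_right (by omega) hi
  have a1 : 1 ≤ q ^ 2 := Nat.one_le_pow _ _ (by omega)
  have a2 : 0 < c := Nat.pos_of_ne_zero (by rintro rfl; omega)
  simp only [prod_range_succ, prod_range_zero, br, sum_range_succ, sum_range_zero] at h1 h5
  zify [a0 0 (by omega), a0 1 (by omega), a0 2 (by omega), a0 3 (by omega), a0 4 (by omega), a1, (by omega : 1 ≤ q)]
    at h1 hc h3 h5
  have a3 : (l : ℤ) = q * (q * (q ^ 5 * (q ^ 2 - 1) * c - q ^ 2 * (1 + q + q ^ 2 + q ^ 3 + q ^ 4) + (1 + q + q ^ 2)) + 1) := by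
    linear_combination hc - h3 - h5
  obtain ⟨l, rfl⟩ : q ∣ l := by exact_mod_cast (Dvd.intro _ a3.symm : (q : ℤ) ∣ l)
  have a4 := mul_left_cancel₀ (by omega) ((Nat.cast_mul _ _).symm.trans a3)
  have a5 : (q : ℤ) * l + 1 = (q ^ 2 - 1) * (q ^ 7 * c - (q ^ 2 + 1) * (1 + q + q ^ 2 + q ^ 3 + q ^ 4)) := by
    rw [a4]; ring
  have a6 : IsCoprime (l : ℤ) q := ⟨1, -(q ^ 5 * (q ^ 2 - 1) * c - q ^ 2 * (1 + q + q ^ 2 + q ^ 3 + q ^ 4) +
    (1 + q + q ^ 2)), by linear_combination a4⟩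
  have a7 : IsCoprime (l : ℤ) ((q - 1) * (q + 1)) := ⟨-q, q ^ 7 * c - (q ^ 2 + 1) * (1 + q + q ^ 2 + q ^ 3 + q ^ 4), by
    linear_combination -a5⟩
  have a8 : IsCoprime (l : ℤ) (1 + q + q ^ 2 : ℕ) := Nat.isCoprime_iff_coprime.2 (Nat.coprime_of_dvd fun r hr b1 b2 => by
    have := Fact.mk hr
    have b3 := (ZMod.natCast_eq_zero_iff _ _).2 b1
    have b4 := (ZMod.natCast_eq_zero_iff _ _).2 b2
    have b5 := congrArg (Int.cast : ℤ → ZMod r) a5
    push_cast at b4 b5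
    rcases (Nat.dvd_prime Nat.prime_three).1 (orderOf_dvd_of_pow_eq_one (x := (q : ZMod r)) (n := 3) (by
      linear_combination (q - 1 : ZMod r) * b4)) with e | e
    · simp [orderOf_eq_one_iff.1 e, b3] at b5
    · exact hW r hr (b1.trans ((dvd_mul_left _ _).trans h2)) e)
  have a9 : (l : ℤ) ∣ (q : ℤ) ^ 10 * ((q - 1) ^ 4 * ((q + 1) ^ 2 * ((1 + q + q ^ 2 : ℕ) *
      ((q ^ 2 + 1) * (1 + q + q ^ 2 + q ^ 3 + q ^ 4) : ℕ)))) := by
    refine (Int.natCast_dvd_natCast.2 ((dvd_mul_left _ _).trans h2)).trans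
      ⟨v, mul_right_cancel₀ (b := (q : ℤ) - 1) (by omega) ?_⟩
    push_cast
    linear_combination -h1
  have b1 := Int.natCast_dvd_natCast.1 (a8.dvd_of_dvd_mul_left (a7.of_mul_right_right.pow_right.dvd_of_dvd_mul_left
    (a7.of_mul_right_left.pow_right.dvd_of_dvd_mul_left (a6.pow_right.dvd_of_dvd_mul_left a9))))
  have b2 := Nat.le_of_dvd (by positivity) b1
  rcases hq.eq_or_lt with rfl | hq
  · obtain rfl : l = 151 := by omega
    norm_num at b1
  · obtain ⟨s, rfl⟩ := Nat.exists_eq_add_of_le' hq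
    obtain ⟨c, rfl⟩ := Nat.exists_eq_add_of_le' a2
    zify at b2
    push_cast at a5
    have b3 := mul_le_mul_of_nonneg_left b2 (by positivity : (0 : ℤ) ≤ s + 3)
    have b4 : 0 < ((s + 3 : ℤ) ^ 2 - 1) * ((s + 3) ^ 7 * (c + 1) - ((s + 3) ^ 2 + 1) *
        (1 + (s + 3) + (s + 3) ^ 2 + (s + 3) ^ 3 + (s + 3) ^ 4)) - (s + 3) * (((s + 3) ^ 2 + 1) *
        (1 + (s + 3) + (s + 3) ^ 2 + (s + 3) ^ 3 + (s + 3) ^ 4)) - 1 := by
      clear * -
      ring_nf
      positivity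
    linarith

theorem num6 {v l h : ℕ} (h1 : h * v = 20158709760) (h2 : l ∣ h) (h3 : v = 1 + 1953 + l) (h4 : 1536 ∣ v) : False := by
  obtain ⟨c, hc⟩ := h4
  obtain ⟨l, rfl⟩ : 2 ∣ l := by omega
  have a1 : l ∣ 2 ^ 15 * (3 ^ 4 * 7595) := by
    rw [show 2 ^ 15 * (3 ^ 4 * 7595) = h * v by rw [h1]; norm_num]
    exact (dvd_mul_left l 2).trans (h2.trans (dvd_mul_right h v))
  have a2 : Nat.Coprime l 2 := (Nat.prime_two.coprime_iff_not_dvd.2 (by omega)).symm
  have a3 : Nat.Coprime l 3 := (Nat.prime_three.coprime_iff_not_dvd.2 (by omega)).symm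
  have a4 := (a3.pow_right _).dvd_of_dvd_mul_left ((a2.pow_right _).dvd_of_dvd_mul_left a1)
  have a5 := Nat.le_of_dvd (by omega) a4
  have a6 : l = 768 * c - 977 := by omega
  have a7 : c ≤ 11 := by omega
  rw [a6] at a4
  clear * - a4 a7 hc h3
  interval_cases c <;> omega

variable {F : Type*} [Field F] {V : Type*} [AddCommGroup V] [Module F V] [FiniteDimensional F V] [Fintype F]
  [Fintype V] [Fintype (Submodule F V)] [Fintype (Dual F V)] [Fintype (SpecialLinearGroup F V)]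
  {X : Type*} [Fintype X] [MulAction (SpecialLinearGroup F V) X] {x : X}

local notation "𝔾" => SpecialLinearGroup F V
local notation "q" => Fintype.card F
local notation "n" => finrank F V

theorem prime_dvd {r d i : ℕ} (hr : r.Prime) (hd : orderOf (q : ZMod r) = d) (h1 : n < 2 * d) (h2 : d ≤ n) (h3 : n < i + d)
    (h4 : i < d) (ht : ∀ U U' : Submodule F V, finrank F U = i → finrank F U' = i → Sm 𝔾 x U U') :
    r ∣ Nat.card (stabilizer 𝔾 x) := by
  have := Fact.mk hr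
  have hq := two_le_q (F := F)
  have a1 : ∀ {a b : ℕ}, q ^ a ≡ q ^ b [MOD r] ↔ a ≡ b [MOD d] := fun {a b} => by
    rw [← ZMod.natCast_eq_natCast_iff, Nat.cast_pow, Nat.cast_pow,
      (orderOf_pos_iff.1 (by omega)).pow_eq_pow_iff_modEq, hd]
  have a2 : r ∣ Nat.card 𝔾 := by
    refine (hr.dvd_mul.1 (?_ : r ∣ Nat.card 𝔾 * (q - 1))).resolve_right fun e => ?_
    · rw [card_SL (by omega)]
      exact ((Nat.modEq_iff_dvd' (Nat.pow_le_pow_right (by omega) (by omega))).1 (a1.2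
        ((Nat.modEq_iff_dvd' (by omega)).2 (by rw [Nat.sub_sub_self h2])))).trans
        (dvd_prod_of_mem (fun i => q ^ n - q ^ i) (mem_range.2 (show n - d < n by omega)))
    · have := Nat.le_of_dvd one_pos ((Nat.modEq_iff_dvd' (by omega)).1 ((a1 (a := 0) (b := 1)).1 (by
        simpa using (Nat.modEq_iff_dvd' (by omega)).2 e)))
      omega
  obtain ⟨ρ, hρ⟩ := exists_prime_orderOf_dvd_card' r a2
  have a3 : ρ ^ r = 1 := hρ ▸ pow_orderOf_eq_one ρ
  obtain ⟨C, hC⟩ : ∃ C : Submodule F V, ∀ v, v ∈ C ↔ ρ • v = v :=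
    ⟨LinearMap.ker (slAct ρ - 1), fun v => by simp [sub_eq_zero, act_eq]⟩
  have a4 : ∀ U : Submodule F V, ρ • U = U → d ∣ finrank F U - finrank F ↥(U ⊓ C) := fun U hU => by
    have b1 := card_modEq_fix hr a3 (· ∈ U) fun v => mem_of_smul_eq hU
    rw [card_sub, fc (· ∈ U ⊓ C) fun v => by simp [hC], card_sub] at b1
    exact (Nat.modEq_iff_dvd' (Submodule.finrank_mono inf_le_left)).1 (a1.1 b1).symm
  have a5 : finrank F C < n := Submodule.finrank_lt fun e => hr.ne_one (by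
    rw [← hρ, orderOf_eq_one_iff]
    exact g_ext fun v => by rw [(hC v).1 (e ▸ trivial), one_smul])
  have a6 := a4 ⊤ (smul_eq_of_le fun _ _ => trivial)
  rw [top_inf_eq, finrank_top] at a6
  have a7 := Nat.le_of_dvd (by omega) a6
  have a8 := card_modEq_fix hr a3 (fun U : Submodule F V => finrank F U = i) fun U hU => (finrank_smul _ _).trans hU
  have a9 := a8.trans (Eq.subst (motive := fun k => k ≡ 0 [MOD r]) (card_eq_zero.2 (eq_empty_of_forall_notMem fun U b0 => by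
    have b3 : finrank F ↥(U ⊓ C) ≤ finrank F C := Submodule.finrank_mono inf_le_right
    obtain ⟨b1, b2⟩ := mem_f.1 b0
    have := Nat.le_of_dvd (by omega) (a4 U b2)
    omega)).symm (Nat.ModEq.refl 0))
  obtain ⟨U, -, hU⟩ := exists_ext (⊥ : Submodule F V) (k := i) (by simp) (by omega)
  exact (Nat.modEq_zero_iff_dvd.1 a9).trans (card_sm_dvd U fun W => mem_f.trans ⟨ht U W hU, fun ⟨h, _, e⟩ => e ▸ (finrank_smul _ _).trans hU⟩)

theorem NoY.false (hn : 5 ≤ n) (hY : NoY F V x) (R : RK 𝔾 x)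
    (ht : ∀ U U' : Submodule F V, finrank F U = 1 → finrank F U' = 1 → Sm 𝔾 x U U')
    (hW : ∀ r d : ℕ, r.Prime → orderOf (q : ZMod r) = d → n < 2 * d → r ∣ Nat.card (stabilizer 𝔾 x) →
      ¬ ((3 ≤ q ∧ n = d + 2) ∨ (q = 2 ∧ Odd d ∧ (n = d + 2 ∨ n = d + 3)))) : False := by
  have hq := two_le_q (F := F)
  have t3 := hY.step R (i := 1) hn (hY.step R (i := 0) (by omega) ht)
  obtain ⟨-, l, h1, h2⟩ := hY.orbits R (by omega)
  have h3 := hY.dvd R (by omega)
  have h4 := card_DD (F := F) (V := V)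
  have h5 := card_SL (F := F) (V := V) (by omega)
  have h6 := orb_stab (⊤ : Subgroup 𝔾) x univ fun y => by simpa using R.tr y
  rw [top_inf_eq, Subgroup.card_top, card_univ, mul_comm] at h6
  rw [← h6] at h5
  by_cases e5 : n = 5
  · rw [e5] at h3 h4 h5
    exact num5 hq h5 h1 h2 h3 h4 fun r hr a1 a2 => hW r 3 hr a2 (by omega) a1 (by
      rcases hq.eq_or_lt with e | e
      exacts [.inr ⟨e.symm, by decide, .inl e5⟩, .inl ⟨e, e5⟩])
  by_cases e : 3 ≤ q ∨ Odd (n - 2)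
  · obtain ⟨r, hr, a1⟩ := zsigmondy hq (by omega) e
    refine hW r _ hr a1 (by omega) (prime_dvd hr a1 (by omega) (by omega) (by omega) (by omega) t3) ?_
    rcases hq.eq_or_lt with e' | e'
    exacts [.inr ⟨e'.symm, e.resolve_left (by omega), .inl (by omega)⟩, .inl ⟨e', by omega⟩]
  rw [not_or, Nat.odd_iff] at e
  have e2 : q = 2 := by omega
  by_cases e6 : n = 6
  · rw [e6, e2] at h3 h4 h5
    exact num6 ((mul_one _).symm.trans (h5.trans (by decide))) h1 (h2.trans (by norm_num [br, sum_range_succ] at h4; omega)) h3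
  have a0 : Odd (n - 3) := by rw [Nat.odd_iff]; omega
  obtain ⟨r, hr, a1⟩ := zsigmondy hq (by omega) (.inr a0)
  exact hW r _ hr a1 (by omega) (prime_dvd hr a1 (by omega) (by omega) (by omega) (by omega)
    (hY.step R (i := 2) (by omega) t3)) (.inr ⟨e2, a0, .inr (by omega)⟩)

end Cfsg.Agent.H2.PL
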