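import Cfsg.Agent.H2.PLg

/-! Rank three actions of `SL(V)`: point-transitive stabilizers contain no transvection. -/

set_option autoImplicit false
set_option linter.unusedSectionVars false

namespace Cfsg.Agent.H2.PL

open MulAction Finset Module Cfsg.Agent.H1 Cfsg.Agent.H4
open scoped Classical Pointwise

variable {F : Type*} [Field F] {V : Type*} [AddCommGroup V] [Module F V] [FiniteDimensional F V] [Fintype F]
  [Fintype V] [Fintype (Dual F V)] [Fintype (SpecialLinearGroup F V)]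
  {X : Type*} [Fintype X] [MulAction (SpecialLinearGroup F V) X] {x : X}

local notation "𝔾" => SpecialLinearGroup F V
local notation "q" => Fintype.card F
local notation "n" => finrank F V

theorem dual_bij (h : 𝔾) : Function.Bijective (slDual h : Dual F V → Dual F V) :=
  Function.bijective_iff_has_inverse.2 ⟨slDual h⁻¹, fun f => by ext v; simp [dual_ap], fun f => by ext v; simp [dual_ap]⟩

theorem cs_bij (h : 𝔾) {c : F} (hc : c ≠ 0) : Function.Bijective fun v : V => c • h • v :=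
  (smul_right_injective V hc).bijective_of_finite.comp (MulAction.bijective h)

theorem dcount {α β : Type*} [Fintype α] [Fintype β] (P : α → Prop) (Q : β → Prop) [DecidablePred P] [DecidablePred Q]
    (r : α → β → Prop) {a b : ℕ} (h1 : ∀ u, P u → #{w | Q w ∧ r u w} = a) (h2 : ∀ w, Q w → #{u | P u ∧ r u w} = b) :
    #{u | P u} * a = #{w | Q w} * b :=
  card_mul_eq_card_mul r (fun u hu => by rw [bipartiteAbove, filter_filter, ← h1 u (mem_f.1 hu)])
    fun w hw => by rw [bipartiteBelow, filter_filter, ← h2 w (mem_f.1 hw)]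

theorem hyp_trans (hn : 2 ≤ n) (hp : ∀ v w : V, v ≠ 0 → w ≠ 0 → ∃ (h : 𝔾) (c : F), h • x = x ∧ c ≠ 0 ∧ w = c • h • v)
    {φ χ : Dual F V} (hφ : φ ≠ 0) (hχ : χ ≠ 0) : ∃ (h : 𝔾) (c : F), h • x = x ∧ c ≠ 0 ∧ χ = c • slDual h φ := by
  obtain ⟨O, hO⟩ : ∃ O : Dual F V → Prop, ∀ ψ, O ψ ↔ ∃ (h : 𝔾) (c : F), h • x = x ∧ c ≠ 0 ∧ ψ = c • slDual h φ :=
    ⟨_, fun _ => Iff.rfl⟩
  rw [← hO]
  by_contra hc
  have h1 : ∀ (h : 𝔾) (c : F) ψ, h • x = x → c ≠ 0 → O ψ → O (c • slDual h ψ) := fun h c ψ a1 a2 a3 => by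
    obtain ⟨k, d, b1, b2, rfl⟩ := (hO _).1 a3
    exact (hO _).2 ⟨h * k, c * d, by rw [mul_smul, b1, a1], mul_ne_zero a2 b2, by simp [smul_smul]⟩
  obtain ⟨v0, -, h0⟩ := exists_ne_mem (T := (⊤ : Submodule F V)) (by rw [finrank_top]; omega)
  have h2 : ∀ v : V, v ≠ 0 → #{ψ | O ψ ∧ ψ v = 0} = #{ψ | O ψ ∧ ψ v0 = 0} := fun v hv => by
    obtain ⟨h, c, a1, a2, rfl⟩ := hp v v0 hv h0
    refine card_bijective _ (dual_bij h) fun ψ => ?_
    simp only [mem_f, map_smul, dual_smul, smul_eq_zero, a2, false_or]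
    refine and_congr_left' ⟨fun e => by simpa using h1 h 1 ψ a1 one_ne_zero e, fun e => ?_⟩
    simpa [← Module.End.mul_apply, ← map_mul] using h1 h⁻¹ 1 _ (inv_smul_eq_iff.2 a1.symm) one_ne_zero e
  have h3 : ∀ η : Dual F V, η ≠ 0 → ∑ ψ with O ψ, q ^ finrank F ↥(LinearMap.ker η ⊓ LinearMap.ker ψ) =
      #{ψ | O ψ} + (q ^ (n - 1) - 1) * #{ψ | O ψ ∧ ψ v0 = 0} := fun η hη => by
    have a1 := sum_card_bipartiteAbove_eq_sum_card_bipartiteBelow (s := {ψ | O ψ}) (t := {v | η v = 0})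
      fun (ψ : Dual F V) (v : V) => ψ v = 0
    simp only [bipartiteAbove, bipartiteBelow, filter_filter] at a1
    have a2 : (0 : V) ∈ filter (fun v => η v = 0) univ := by simp
    rw [← add_sum_erase _ _ a2, sum_congr rfl fun v hv => h2 v (ne_of_mem_erase hv), sum_const, card_erase_of_mem a2,
      card_ker hη] at a1
    simpa [← card_sub] using a1
  have h4 := h3 χ hχ
  rw [← h3 φ hφ] at h4
  have h5 : ∀ ψ, O ψ → finrank F ↥(LinearMap.ker χ ⊓ LinearMap.ker ψ) + 2 ≤ n := fun ψ hψ => by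
    have a1 := finrank_ker_dual hχ
    have a2 := Submodule.finrank_lt_finrank_of_lt (lt_of_le_of_ne (inf_le_left (a := LinearMap.ker χ)
      (b := LinearMap.ker ψ)) fun e => by
        obtain ⟨c, a3⟩ := exists_smul_of_ker (f := ψ) (g := χ) fun w hw => (e.ge hw).2
        obtain ⟨k, d, b1, b2, b3⟩ := (hO _).1 hψ
        have a4 : c ≠ 0 := fun e' => dual_ne k hφ (smul_right_injective _ b2 (by ext w; simp [← b3, a3, e']))
        exact hc ((hO _).2 ⟨k, c⁻¹ * d, b1, by simp [a4, b2], by ext w; simp [mul_smul, ← b3, a3, a4]⟩))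
    omega
  have h6 := finrank_ker_dual hφ
  refine (sum_lt_sum (fun ψ hψ => Nat.pow_le_pow_right Fintype.card_pos ?_) ⟨φ, mem_f.2 ((hO _).2 ⟨1, 1, by simp⟩),
    Nat.pow_lt_pow_right two_le_q ?_⟩).ne h4
  · have := h5 ψ (mem_f.1 hψ)
    have := finrank_inf_ker (LinearMap.ker φ) ψ
    omega
  · have := h5 φ ((hO _).2 ⟨1, 1, by simp⟩)
    rw [inf_idem]
    omega

/-- transvections in the stabilizer -/
def In (x : X) (v : V) (φ : Dual F V) : Prop := φ v = 0 ∧ tv v φ • x = x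

theorem In.conj {v : V} {φ : Dual F V} (a : In x v φ) {h : 𝔾} (hh : h • x = x) : In x (h • v) (slDual h φ) :=
  ⟨(dual_smul _ _ _).trans a.1, by rw [← conj_tv h a.1, mul_smul, mul_smul, inv_smul_eq_iff.2 hh.symm, a.2, hh]⟩

theorem In_conj {v : V} {φ : Dual F V} {h : 𝔾} (hh : h • x = x) : In x (h • v) (slDual h φ) ↔ In x v φ :=
  ⟨fun a => by simpa [← Module.End.mul_apply, ← map_mul] using a.conj (inv_smul_eq_iff.2 hh.symm), fun a => a.conj hh⟩

theorem In_smul {v : V} {φ : Dual F V} {c : F} (hc : c ≠ 0) : In x (c • v) φ ↔ In x v (c • φ) := by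
  refine and_congr (by simp) ?_ |>.trans (and_congr_right (b := tv (c • v) φ • x = x) fun h => ?_)
  · rfl
  · rw [tv_smul (by simpa [hc] using h)]

theorem In.comm {v w : V} {φ ψ : Dual F V} (a : In x v φ) (b : In x w ψ) (h : φ w = 0) : In x w (ψ v • φ) := by
  refine ⟨by simp [h], smul_left_cancel (tv v φ * tv w ψ) ?_⟩
  rw [← mul_smul, ← tv_comm b.1 a.1 h, mul_smul, mul_smul, a.2, b.2, a.2]

/-- axes of transvections in the stabilizer -/
def Ax (x : X) (v : V) (φ : Dual F V) : Prop := φ ≠ 0 ∧ ∃ c : F, c ≠ 0 ∧ In x v (c • φ)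

variable (F) in
/-- the intersection of the axes -/
def KK (x : X) (v : V) : Submodule F V := ⨅ φ : {φ : Dual F V // In x v φ}, LinearMap.ker φ.1

theorem mem_KK {v w : V} : w ∈ KK F x v ↔ ∀ φ : Dual F V, In x v φ → φ w = 0 := by simp [KK]

theorem Ax.le {v w : V} {φ : Dual F V} (a : Ax x v φ) (h : w ∈ KK F x v) : φ w = 0 := by
  obtain ⟨-, c, h1, h2⟩ := a
  simpa [h1] using mem_KK.1 h _ h2

theorem self_KK (v : V) : v ∈ KK F x v := mem_KK.2 fun _ h => h.1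

theorem Ax.key {v w : V} {φ : Dual F V} (a : Ax x v φ) (h : φ w = 0) (h' : v ∉ KK F x w) : Ax x w φ := by
  obtain ⟨h0, c, h1, h2⟩ := a
  simp only [mem_KK, not_forall] at h'
  obtain ⟨ψ, h3, h4⟩ := h'
  exact ⟨h0, ψ v * c, mul_ne_zero h4 h1, by simpa [smul_smul] using h2.comm h3 (by simp [h])⟩

theorem Ax_move {v : V} {φ : Dual F V} {h : 𝔾} (hh : h • x = x) {c d : F} (hc : c ≠ 0) (hd : d ≠ 0) :
    Ax x (c • h • v) (d • slDual h φ) ↔ Ax x v φ := by
  refine and_congr (by simp [hd, (dual_bij h).1.ne_iff' (map_zero _)]) ?_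
  simp only [In_smul hc, smul_smul, ← map_smul, In_conj hh]
  exact ⟨fun ⟨e, h1, h2⟩ => ⟨_, by simp [*], h2⟩, fun ⟨e, h1, h2⟩ =>
    ⟨e / c / d, by simp [*], by rwa [div_mul_cancel₀ _ hd, mul_div_cancel₀ _ hc]⟩⟩

theorem KK_move {h : 𝔾} (hh : h • x = x) {c : F} (hc : c ≠ 0) (v : V) : KK F x (c • h • v) = h • KK F x v := by
  ext w
  rw [mem_smul_iff, mem_KK, mem_KK]
  refine ⟨fun a φ b => ?_, fun a φ b => ?_⟩
  · simpa [hc, dual_ap] using a (c⁻¹ • slDual h φ) (by simpa [In_smul hc, smul_smul, hc] using b.conj hh)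
  · obtain ⟨φ, rfl⟩ := (dual_bij h).2 φ
    rw [In_smul hc, ← map_smul, In_conj hh] at b
    simpa [hc, dual_ap] using a _ b

theorem Ax_span {v w : V} {φ : Dual F V} (a : Ax x v φ) (hw : w ≠ 0) (h : w ∈ F ∙ v) : Ax x w φ ∧ v ∈ KK F x w := by
  obtain ⟨c, rfl⟩ := Submodule.mem_span_singleton.1 h
  have h1 := left_ne_zero_of_smul hw
  exact ⟨by simpa using (Ax_move (one_smul 𝔾 x) h1 one_ne_zero).2 a, by
    simpa using (KK_move (one_smul 𝔾 x) h1 v).ge (by simpa using self_KK v)⟩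

theorem all_in (hn : 4 ≤ n) (h : ∀ (w : V) (φ : Dual F V), w ≠ 0 → φ ≠ 0 → φ w = 0 → Ax x w φ) (w : V) (χ : Dual F V)
    (h1 : χ w = 0) : tv w χ • x = x := by
  by_cases hw : w = 0
  · rw [hw, tv_zero_left, one_smul]
  by_cases hχ : χ = 0
  · rw [hχ, tv_zero_right, one_smul]
  have s1 : ∀ {φ ψ : Dual F V} {v : V} {c : F}, φ w = 0 → In x v (c • φ) → ∀ d, In x w (d • ψ) →
      In x w ((d * (ψ v * c)) • φ) := fun a1 a2 d a3 => by simpa [smul_smul, mul_assoc] using a2.comm a3 (by simp [a1])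
  have s2 : ∀ {φ ψ : Dual F V} {v : V} {c : F}, φ w = 0 → In x v (c • φ) → ψ v * c ≠ 0 →
      ((univ.filter fun d : F => In x w (d • ψ)).image (· * (ψ v * c))).card = #{d : F | In x w (d • ψ)} ∧
      (univ.filter fun d : F => In x w (d • ψ)).image (· * (ψ v * c)) ⊆ univ.filter fun d : F => In x w (d • φ) :=
    fun a1 a2 a3 => ⟨card_image_of_injective _ (mul_left_injective₀ a3),
      image_subset_iff.2 fun d hd => mem_filter.2 ⟨mem_univ _, s1 a1 a2 d (mem_filter.1 hd).2⟩⟩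
  have s3 : ∀ {φ ψ : Dual F V} {v b : V} {c : F}, φ w = 0 → ψ w = 0 → ψ b = 0 → φ b = 1 → In x v (c • φ) →
      ψ v * c ≠ 0 → ∀ d, In x w ((d * (ψ v * c)) • φ) → In x w (d • ψ) := fun {φ ψ v b c} a1 a2 a3 a4 a5 a6 d a7 => by
    obtain ⟨-, e, b1, b2⟩ := h b ψ (fun e => by simp [e] at a4) (fun e => by simp [e] at a6) a3
    obtain ⟨b3, b4⟩ := s2 a2 b2 (ψ := φ) (by simp [a4, b1])
    obtain ⟨b5, b6⟩ := s2 a1 a5 a6
    obtain ⟨d', b7, b8⟩ := mem_image.1 ((eq_of_subset_of_card_le b6 (b5 ▸ b3 ▸ card_le_card b4)).ge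
      (mem_filter.2 ⟨mem_univ _, a7⟩))
    exact mul_right_cancel₀ a6 b8 ▸ (mem_filter.1 b7).2
  obtain ⟨z, hz⟩ := exists_ne_zero hχ
  have h2 := finrank_ker_dual hχ
  obtain ⟨a, a1, a2⟩ := exists_mem_not (S := F ∙ w) (T := LinearMap.ker χ) (by rw [finrank_span_singleton hw]; omega)
  obtain ⟨b, b1, b2⟩ := exists_mem_not (S := Submodule.span F {w, a}) (T := LinearMap.ker χ) (by
    have := finrank_pair_le (F := F) w a; omega)
  rw [LinearMap.mem_ker] at a1 b1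
  obtain ⟨ψ, c1, c2, c3⟩ : ∃ ψ : Dual F V, ψ a = 1 ∧ ψ w = 0 ∧ ψ z = 0 := by
    obtain ⟨ψ, c1, c2⟩ := sep_vec _ a a2
    exact ⟨ψ - ψ z • χ, by simp [c1, a1], by simp [c2 w (Submodule.mem_span_singleton_self w), h1], by simp [hz]⟩
  obtain ⟨φ, d1, d2, d3, d4⟩ : ∃ φ : Dual F V, φ b = 1 ∧ φ w = 0 ∧ φ a = 0 ∧ φ z = 0 := by
    obtain ⟨φ, c1, c2⟩ := sep_vec _ b b2
    exact ⟨φ - φ z • χ, by simp [c1, b1], by simp [c2 w (mem_span2_left _ _), h1],
      by simp [c2 a (mem_span2_right _ _), a1], by simp [hz]⟩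
  obtain ⟨-, d, e1, e2⟩ := h w χ hw hχ h1
  have e3 : ∀ t : F, ∃ c : F, c ≠ 0 ∧ In x (a + t • z) (c • φ) := fun t =>
    (h _ φ (fun e => by simpa [c1, c3] using congrArg ψ e) (fun e => by simp [e] at d1) (by simp [d3, d4])).2
  obtain ⟨c, e4, e5⟩ := e3 1
  obtain ⟨c', e6, e7⟩ := e3 d
  have e8 := s3 (b := b - ψ b • a) d2 c2 (by simp [c1]) (by simp [d1, d3]) e5 (by simp [c1, c3, e4]) d
    (by simpa [c1, c3, a1, hz] using s1 d2 e5 d e2)
  simpa using (s3 d2 h1 b1 d1 e7 (by simp [a1, hz, e1, e6]) 1 (by simpa [c1, c3, a1, hz] using s1 d2 e7 d e8)).2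

theorem pieceC (hn : 5 ≤ n) (R : RK 𝔾 x)
    (hp : ∀ v w : V, v ≠ 0 → w ≠ 0 → ∃ (h : 𝔾) (c : F), h • x = x ∧ c ≠ 0 ∧ w = c • h • v)
    {v0 : V} {φ0 : Dual F V} (hv : v0 ≠ 0) (hφ : φ0 ≠ 0) (h0 : φ0 v0 = 0) : tv v0 φ0 • x ≠ x := fun h1 => by
  have hq := two_le_q (F := F)
  have a0 : Ax x v0 φ0 := ⟨hφ, 1, one_ne_zero, by simpa using ⟨h0, h1⟩⟩
  obtain ⟨j, hj⟩ : ∃ j, finrank F (KK F x v0) = j := ⟨_, rfl⟩
  have a1 : ∀ v : V, v ≠ 0 → finrank F (KK F x v) = j := fun v h => by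
    obtain ⟨k, c, b1, b2, rfl⟩ := hp v0 v hv h
    rw [KK_move b1 b2, finrank_smul, hj]
  have a2 : ∀ v : V, v ≠ 0 → #{φ : Dual F V | φ ≠ 0 ∧ Ax x v φ} = #{φ : Dual F V | φ ≠ 0 ∧ Ax x v0 φ} := fun v h => by
    obtain ⟨k, c, b1, b2, rfl⟩ := hp v v0 h hv
    refine card_bijective _ (dual_bij k) fun φ => ?_
    simp only [mem_f, ← Ax_move (v := v) (φ := φ) b1 b2 one_ne_zero, one_smul, (dual_bij k).1.ne_iff' (map_zero _)]
  have a3 : ∀ φ : Dual F V, φ ≠ 0 → #{v | v ≠ 0 ∧ Ax x v φ} = #{v | v ≠ 0 ∧ Ax x v φ0} := fun φ h => by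
    obtain ⟨k, c, b1, b2, rfl⟩ := hyp_trans (by omega) hp h hφ
    refine card_eq_of_smul k fun v => ?_
    simp only [mem_f, ← Ax_move (v := v) (φ := φ) b1 one_ne_zero b2, one_smul, smul_ne_zero_iff_ne]
  have a4 : ∀ v : V, v ≠ 0 → #{w | w ≠ 0 ∧ v ∈ KK F x w} = #{w | w ≠ 0 ∧ v0 ∈ KK F x w} := fun v h => by
    obtain ⟨k, c, b1, b2, rfl⟩ := hp v v0 h hv
    refine card_eq_of_smul k fun w => ?_
    have := KK_move b1 one_ne_zero w
    rw [one_smul] at this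
    simp only [mem_f, this, Submodule.smul_mem_iff _ b2, smul_mem, smul_ne_zero_iff_ne]
  have a5 : ∀ w : V, w ≠ 0 → #{v | v ≠ 0 ∧ v ∈ KK F x w} = q ^ j - 1 := fun w h => by
    have := card_diff (bot_le (a := KK F x w))
    rw [finrank_bot, pow_zero, a1 w h, fc (fun v => v ≠ 0 ∧ v ∈ KK F x w) fun v => by simp [and_comm]] at this
    omega
  have b1 := card_ne (F := F) (M := V)
  have b2 : #{φ : Dual F V | φ ≠ 0} + 1 = q ^ finrank F (Dual F V) := by convert card_ne (F := F) (M := Dual F V)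
  have b3 : 1 < q ^ n := Nat.one_lt_pow (by omega) hq
  rw [Subspace.dual_finrank_eq] at b2
  have a6 := dcount (· ≠ 0) (· ≠ 0) (fun (v : V) (φ : Dual F V) => Ax x v φ)
    (fun v h => by convert a2 v h) fun φ h => by convert a3 φ h
  rw [show #{v : V | v ≠ 0} = #{φ : Dual F V | φ ≠ 0} by omega, Nat.mul_right_inj (by omega)] at a6
  have a7 := Nat.eq_of_mul_eq_mul_left (by omega) (dcount (· ≠ 0) (· ≠ 0) (fun v w : V => v ∈ KK F x w)
    (fun v h => by convert a4 v h) fun w h => by convert a5 w h)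
  have a8 : #{φ : Dual F V | φ ≠ 0 ∧ Ax x v0 φ} + 1 ≤ q ^ (n - j) := by
    have c1 := card_diff (bot_le (a := (KK F x v0).dualAnnihilator))
    have c2 := Subspace.finrank_add_finrank_dualAnnihilator_eq (KK F x v0)
    rw [finrank_bot, pow_zero, show finrank F (KK F x v0).dualAnnihilator = n - j by omega] at c1
    exact c1 ▸ Nat.add_le_add_right (card_le_card fun φ h => mem_f.2 ⟨(Submodule.mem_dualAnnihilator _).2
      fun w => (mem_f.1 h).2.le, (mem_f.1 h).1⟩) 1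
  have a9 : #{w | w ≠ 0 ∧ w ∈ F ∙ v0} + 1 = q := by
    have := card_diff (bot_le (a := F ∙ v0))
    rwa [finrank_bot, pow_zero, finrank_span_singleton hv, pow_one, fc (fun v => v ≠ 0 ∧ v ∈ F ∙ v0) fun v => by
      simp [and_comm]] at this
  have c1 : q ^ (n - 1) + q ≤ q ^ (n - j) + q ^ j := by
    have d1 := card_union_add_card_inter (filter (fun w => w ≠ 0 ∧ Ax x w φ0) univ)
      (filter (fun w => w ≠ 0 ∧ v0 ∈ KK F x w) univ)
    have d2 := card_diff (bot_le (a := LinearMap.ker φ0))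
    have d3 : #{w | w ∈ LinearMap.ker φ0 ∧ w ∉ (⊥ : Submodule F V)} ≤ _ := card_le_card
      (t := filter (fun w => w ≠ 0 ∧ Ax x w φ0) univ ∪ filter (fun w => w ≠ 0 ∧ v0 ∈ KK F x w) univ) fun w h => by
        obtain ⟨e1, e2⟩ := mem_f.1 h
        rw [mem_union, mem_f, mem_f, ← and_or_left]
        exact ⟨e2, or_iff_not_imp_right.2 (a0.key e1)⟩
    have d4 : #{w | w ≠ 0 ∧ w ∈ F ∙ v0} ≤ _ := card_le_card
      (t := filter (fun w => w ≠ 0 ∧ Ax x w φ0) univ ∩ filter (fun w => w ≠ 0 ∧ v0 ∈ KK F x w) univ) fun w h => by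
        obtain ⟨e1, e2⟩ := mem_f.1 h
        rw [mem_inter, mem_f, mem_f, ← and_and_left]
        exact ⟨e1, Ax_span a0 e1 e2⟩
    have d5 : 0 < q ^ j := by positivity
    rw [finrank_bot, pow_zero, show finrank F (LinearMap.ker φ0) = n - 1 by have := finrank_ker_dual hφ; omega] at d2
    omega
  have c2 : 1 ≤ j := by
    rw [← hj, ← finrank_span_singleton (K := F) hv]
    exact Submodule.finrank_mono (span1_le (self_KK v0))
  have c3 : j + 1 ≤ n := by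
    rw [← hj, ← finrank_ker_dual hφ]
    exact Nat.add_le_add_right (Submodule.finrank_mono fun w => a0.le) 1
  have c4 : ∀ φ : Dual F V, φ ≠ 0 → ∃ v, v ≠ 0 ∧ Ax x v φ := fun φ h => by
    obtain ⟨v, e⟩ := card_pos.1 ((card_pos.2 ⟨v0, mem_filter.2 ⟨mem_univ _, hv, a0⟩⟩).trans_eq (a3 φ h).symm)
    exact ⟨v, (mem_filter.1 e).2⟩
  rcases c2.eq_or_lt with rfl | c2
  · refine R.ne_top fun g => ?_
    have := eq_top_of_tv (stabilizer 𝔾 x) (all_in (by omega) fun w φ d1 d2 d3 => ?_)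
    · exact (this.ge trivial : g ∈ stabilizer 𝔾 x)
    obtain ⟨v, d4, d5⟩ := c4 φ d2
    by_cases e : v ∈ KK F x w
    · rw [eq_span1 (a1 w d1) d1 (self_KK w)] at e
      exact (Ax_span d5 d1 (mem_of_mem_span d4 e (Submodule.mem_span_singleton_self v))).1
    · exact d5.key d3 e
  rcases c3.eq_or_lt with c3 | c3
  · refine no_polarity hn R (KK F x) (fun v h => by rw [a1 v h, c3]) (fun v _ => self_KK v) (fun v w d1 d2 d3 => ?_)
      fun h hh v => by simpa using KK_move hh one_ne_zero v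
    obtain ⟨k, c, d4, d5, rfl⟩ := hp v0 v hv d1
    obtain ⟨w, rfl⟩ := (MulAction.bijective k).2 w
    have := KK_move d4 one_ne_zero w
    rw [one_smul] at this
    rw [KK_move d4 d5, smul_mem] at d3
    rw [this, Submodule.smul_mem_iff _ d5, smul_mem]
    rw [smul_ne_zero_iff_ne] at d2
    by_contra e
    rw [show n - j = 1 by omega, pow_one] at a8
    exact e (Ax_span a0 d2 (mem_f.1 ((eq_of_subset_of_card_le (s := {w | w ≠ 0 ∧ w ∈ F ∙ v0})
      (t := {v | v ≠ 0 ∧ Ax x v φ0}) (fun u h => mem_f.2 ⟨(mem_f.1 h).1, (Ax_span a0 (mem_f.1 h).1 (mem_f.1 h).2).1⟩)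
      (by omega)).ge (mem_f.2 ⟨d2, a0.key (a0.le d3) e⟩))).2).2
  · have d1 := Nat.pow_le_pow_right («n» := q) (by omega) (show n - j ≤ n - 2 by omega)
    have d2 := Nat.pow_le_pow_right («n» := q) (by omega) (show j ≤ n - 2 by omega)
    have d3 := Nat.mul_le_mul_left (q ^ (n - 2)) hq
    rw [← pow_succ, show n - 2 + 1 = n - 1 by omega] at d3
    omega

end Cfsg.Agent.H2.PL
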