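import Cfsg.Agent.H2.ReeSL2

/-! The lower bound for degrees of complex representations of the small Ree groups. -/

set_option autoImplicit false
set_option linter.unusedSectionVars false
set_option linter.unusedSimpArgs false

namespace Cfsg.Agent.H2

open Matrix
open scoped Pointwise

theorem trace_idem_nat {V : Type*} [AddCommGroup V] [Module ℂ V] [Module.Finite ℂ V] {e : Module.End ℂ V}
    (he : IsIdempotentElem e) : ∃ n : ℕ, LinearMap.trace ℂ V e = n ∧ (n = 0 → e = 0) :=
  ⟨_, (LinearMap.IsIdempotentElem.isProj_range _ he).trace, fun h =>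
    LinearMap.IsIdempotentElem.eq_zero_of_trace_eq_zero he (by
      rw [(LinearMap.IsIdempotentElem.isProj_range _ he).trace, h, Nat.cast_zero])⟩

namespace Ree

variable {K : Type*} [Field K] {m : ℕ} [hK : ReeF K m]
include hK

theorem tw_ne_one : t K * w K ≠ 1 := fun e => psi_ne_t (wSL K) (by
  rw [psi_wSL, ← mul_one (w K), ← e, t_mul_w, ← mul_assoc, w_mul_w, one_mul])

theorem zt_conj (c : K) : u 0 0 c * (u 0 0 c * t K) * (u 0 0 c)⁻¹ = t K := by
  have h3 := three_eq_zero K
  rw [u0_inv, mul_assoc, mul_assoc, t_mul_u, ← mul_assoc, ← mul_assoc, neg_zero, u0_mul, u0_mul, neg_neg,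
    show c + c + c = 0 by linear_combination c * h3]
  simp

theorem degree_bound {V : Type*} [AddCommGroup V] [Module ℂ V] [Module.Finite ℂ V]
    (ρ : ReeG K m →* Module.End ℂ V) (hρ : ∃ g, ρ g ≠ 1) :
    Nat.card K ^ 2 - Nat.card K + 1 ≤ Module.finrank ℂ V := by
  classical
  have := finite K
  have := Fintype.ofFinite K
  have h3 := three_eq_zero K
  let ψ : AddChar K ℂ := AddChar.FiniteField.primitiveChar_to_Complex K
  have hψ : ψ.IsPrimitive := AddChar.FiniteField.primitiveChar_to_Complex_isPrimitive K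
  have ψsum : ∀ b : K, ∑ β, ψ (β * b) = if b = 0 then (Fintype.card K : ℂ) else 0 := fun b => by
    have := AddChar.sum_mulShift b hψ
    simpa using this
  have hq : (Fintype.card K : ℂ) ≠ 0 := by exact_mod_cast Fintype.card_ne_zero
  let e : K × K → Module.End ℂ V := fun β =>
    ((Fintype.card K : ℂ) ^ 2)⁻¹ • ∑ b : K × K, ψ (-(β.1 * b.1 + β.2 * b.2)) • ρ (u 0 b.1 b.2)
  have he1 : ∀ β c d, ρ (u 0 c d) * e β = ψ (β.1 * c + β.2 * d) • e β := by
    intro β c d
    simp only [e, mul_smul_comm, Finset.mul_sum, ← map_mul, u0_mul]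
    rw [smul_comm]
    congr 1
    rw [Finset.smul_sum, ← Equiv.sum_comp (Equiv.addLeft (c, d))
      (fun b => ψ (β.1 * c + β.2 * d) • ψ (-(β.1 * b.1 + β.2 * b.2)) • ρ (u 0 b.1 b.2))]
    refine Finset.sum_congr rfl fun b _ => ?_
    simp only [Equiv.coe_addLeft, smul_smul, Prod.fst_add, Prod.snd_add, ← AddChar.map_add_eq_mul]
    congr 2; ring
  have he2 : ∀ β, IsIdempotentElem (e β) := by
    intro β
    change (((Fintype.card K : ℂ) ^ 2)⁻¹ • ∑ b : K × K, ψ (-(β.1 * b.1 + β.2 * b.2)) • ρ (u 0 b.1 b.2)) * e β = e β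
    simp only [smul_mul_assoc, Finset.sum_mul, he1, smul_smul, ← AddChar.map_add_eq_mul, neg_add_cancel,
      AddChar.map_zero_eq_one, one_smul, Finset.sum_const, Finset.card_univ, Fintype.card_prod]
    rw [← Nat.cast_smul_eq_nsmul ℂ, smul_smul, Nat.cast_mul, ← sq, inv_mul_cancel₀ (pow_ne_zero 2 hq), one_smul]
  have he3 : ∑ β, e β = 1 := by
    simp only [e, ← Finset.smul_sum]
    rw [Finset.sum_comm]
    simp only [← Finset.sum_smul]
    have key : ∀ b : K × K, ∑ β : K × K, ψ (-(β.1 * b.1 + β.2 * b.2)) =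
        (if b.1 = 0 then (Fintype.card K : ℂ) else 0) * (if b.2 = 0 then (Fintype.card K : ℂ) else 0) := fun b => by
      rw [← neg_eq_zero (a := b.1), ← neg_eq_zero (a := b.2), ← ψsum, ← ψsum, Finset.sum_mul_sum, Fintype.sum_prod_type]
      refine Finset.sum_congr rfl fun x _ => Finset.sum_congr rfl fun y _ => ?_
      rw [← AddChar.map_add_eq_mul]; congr 1; ring
    rw [Finset.sum_eq_single 0 (fun b _ hb => by
      rw [key]
      by_cases h1 : b.1 = 0
      · rw [if_neg (show ¬ b.2 = 0 from fun h2 => hb (Prod.ext h1 h2)), mul_zero, zero_smul]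
      · rw [if_neg h1, zero_mul, zero_smul]) (by simp), key]
    simp [smul_smul, hq, ← sq]
  have he5 : ∀ β : K × K, β.2 ≠ 0 → ∃ g : ReeG K m, e β = ρ g * e (0, 1) * ρ g⁻¹ := by
    rintro ⟨β, γ⟩ hγ
    obtain ⟨k, hk⟩ := exists_unit_z (c := γ) hγ one_ne_zero
    have hk0 : (k : K) * sg (k : K) ≠ 0 := mul_ne_zero k.ne_zero (sg_ne_zero k.ne_zero)
    refine ⟨u (-β / γ) 0 0 * h k, ?_⟩
    have e1 : ∀ b c, u (-β / γ) 0 0 * h k * u 0 b c * (u (-β / γ) 0 0 * h k)⁻¹ =
        u 0 (k * sg (k : K) * b) ((k : K) ^ 2 * sg (k : K) * c + k * sg (k : K) * b * (-β / γ)) := fun b c => by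
      have : u (-β / γ) 0 0 * h k * u 0 b c * (u (-β / γ) 0 0 * h k)⁻¹ =
          u (-β / γ) 0 0 * (h k * u 0 b c * (h k)⁻¹) * (u (-β / γ) 0 0)⁻¹ := by group
      rw [this, h_conj_u, u_conj]; simp
    simp only [e, mul_smul_comm, smul_mul_assoc, Finset.mul_sum, Finset.sum_mul, ← map_mul, e1]
    congr 1
    symm
    refine Fintype.sum_bijective (fun b : K × K => ((k : K) * sg (k : K) * b.1,
      (k : K) ^ 2 * sg (k : K) * b.2 + k * sg (k : K) * b.1 * (-β / γ))) (Finite.injective_iff_bijective.1 ?_) _ _ ?_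
    · rintro ⟨b, c⟩ ⟨b', c'⟩ h1
      simp only [Prod.mk.injEq] at h1
      obtain rfl := mul_left_cancel₀ hk0 h1.1
      obtain rfl : c = c' := mul_left_cancel₀ (mul_ne_zero (pow_ne_zero 2 k.ne_zero) (sg_ne_zero k.ne_zero))
        (add_right_cancel h1.2)
      rfl
    · rintro ⟨b, c⟩
      congr 3
      simp only at hγ ⊢
      field_simp
      linear_combination (-c) * hk
  have htr : ∀ (g : ReeG K m) (f : Module.End ℂ V),
      LinearMap.trace ℂ V (ρ g * f * ρ g⁻¹) = LinearMap.trace ℂ V f := by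
    intro g f
    rw [LinearMap.trace_mul_comm, ← mul_assoc, ← map_mul, inv_mul_cancel, map_one, one_mul]
  choose n hn hn0 using fun β => trace_idem_nat (he2 β)
  have hn1 : ∀ β : K × K, β.2 ≠ 0 → n β = n (0, 1) := fun β hβ => by
    obtain ⟨g, hg⟩ := he5 β hβ
    have := hn β
    rw [hg, htr, hn] at this
    exact_mod_cast this.symm
  have hz : ∀ c, ρ (u 0 0 c) = ∑ β, ψ (β.2 * c) • e β := fun c => by
    rw [← mul_one (ρ _), ← he3, Finset.mul_sum]
    simp [he1]
  have hne : n (0, 1) ≠ 0 := by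
    intro h0
    have h4 : u 0 0 1 ∈ ρ.toHomUnits.ker := by
      apply Units.ext
      change ρ _ = 1
      rw [hz, ← he3]
      refine Finset.sum_congr rfl fun β _ => ?_
      by_cases hβ : β.2 = 0
      · simp [hβ]
      · rw [hn0 β (by rw [hn1 β hβ, h0]), smul_zero]
    obtain ⟨g, hg⟩ := hρ
    have h5 : g ∈ ρ.toHomUnits.ker := by
      rw [eq_top_of_normal (MonoidHom.normal_ker _) (fun h => by
        rw [h, Subgroup.mem_bot, u_eq_one] at h4; exact one_ne_zero h4.2.2)]
      trivial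
    exact hg (congrArg Units.val h5)
  have hsum : Module.finrank ℂ V = ∑ β, n (β, 0) + Fintype.card K * (Fintype.card K - 1) * n (0, 1) := by
    have e1 := congrArg (LinearMap.trace ℂ V) he3
    rw [map_sum, LinearMap.trace_one] at e1
    simp only [hn] at e1
    have e2 : Module.finrank ℂ V = ∑ β, n β := by exact_mod_cast e1.symm
    rw [e2, Fintype.sum_prod_type, mul_assoc, ← smul_eq_mul, ← Finset.card_univ, ← Finset.sum_const,
      ← Finset.sum_add_distrib]
    refine Finset.sum_congr rfl fun β _ => ?_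
    rw [← Finset.add_sum_erase _ _ (Finset.mem_univ 0), Finset.sum_congr rfl (g := fun _ => n (0, 1))
      (fun γ hγ => hn1 _ (Finset.ne_of_mem_erase hγ)), Finset.sum_const, Finset.card_erase_of_mem (Finset.mem_univ _),
      smul_eq_mul]
  have h27 := le_card K
  have h8 := card_mod_eight K
  rw [Nat.card_eq_fintype_card] at h27 h8 ⊢
  by_contra hlt
  obtain ⟨r, hr⟩ : ∃ r, Fintype.card K = r + 1 := ⟨Fintype.card K - 1, by omega⟩
  rw [hr, Nat.add_sub_cancel] at hsum
  rw [hr, show (r + 1) ^ 2 = (r + 1) * r + (r + 1) by ring, Nat.add_sub_cancel] at hlt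
  have hr0 : 0 < (r + 1) * r := Nat.mul_pos (by omega) (by omega)
  have h1 : n (0, 1) = 1 := by
    by_contra h1
    have : (r + 1) * r * 2 ≤ (r + 1) * r * n (0, 1) := Nat.mul_le_mul_left _ (by omega)
    omega
  rw [h1, mul_one] at hsum
  have h2 : ∀ β, e (β, 0) = 0 := fun β => hn0 _ (by
    have := Finset.single_le_sum (f := fun β => n (β, 0)) (fun _ _ => Nat.zero_le _) (Finset.mem_univ β)
    omega)
  have h4 : ∑ c, ρ (u 0 0 c) = 0 := by
    simp only [hz]
    rw [Finset.sum_comm]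
    refine Finset.sum_eq_zero fun β _ => ?_
    rw [← Finset.sum_smul]
    simp only [mul_comm β.2, ψsum]
    split_ifs with hβ
    · rw [show β = (β.1, 0) from Prod.ext rfl hβ, h2, smul_zero]
    · rw [zero_smul]
  have h5 : LinearMap.trace ℂ V (ρ (t K)) = 0 := by
    have e1 := congrArg (fun f => LinearMap.trace ℂ V (f * ρ (t K))) h4
    simp only [Finset.sum_mul, map_sum, zero_mul, map_zero, ← map_mul] at e1
    rw [Finset.sum_congr rfl (g := fun _ => LinearMap.trace ℂ V (ρ (t K))) (fun c _ => by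
      rw [← htr (u 0 0 c), ← map_mul, ← map_mul, zt_conj]), Finset.sum_const, Finset.card_univ, nsmul_eq_mul] at e1
    exact (mul_eq_zero.1 e1).resolve_left hq
  have h6 : ∀ s : ReeG K m, s * s = 1 → s ≠ 1 → LinearMap.trace ℂ V (ρ s) = 0 := fun s hs h1 => by
    obtain ⟨x, rfl⟩ := exists_conj_t (by rw [sq, hs]) h1
    rw [map_mul ρ, map_mul ρ, htr, h5]
  have htw : t K * w K * (t K * w K) = 1 := hw_sq (-1)
  obtain ⟨d, hd, -⟩ := trace_idem_nat (e := (4 : ℂ)⁻¹ • ((1 + ρ (t K)) * (1 + ρ (w K)))) (by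
    have e1 : (1 + ρ (t K)) * (1 + ρ (t K)) = (2 : ℂ) • (1 + ρ (t K)) := by
      rw [mul_add, add_mul, add_mul, ← map_mul, t_mul_t, map_one, two_smul]; simp only [mul_one, one_mul]; abel
    have e2 : (1 + ρ (w K)) * (1 + ρ (w K)) = (2 : ℂ) • (1 + ρ (w K)) := by
      rw [mul_add, add_mul, add_mul, ← map_mul, w_mul_w, map_one, two_smul]; simp only [mul_one, one_mul]; abel
    have e3 : (1 + ρ (w K)) * (1 + ρ (t K)) = (1 + ρ (t K)) * (1 + ρ (w K)) := by
      simp only [mul_add, add_mul, ← map_mul, t_mul_w, mul_one, one_mul]; abel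
    change _ * _ = _
    rw [smul_mul_assoc, mul_smul_comm, mul_assoc, ← mul_assoc (1 + ρ (w K)), e3, mul_assoc, e2, ← mul_assoc, e1]
    simp only [smul_mul_assoc, mul_smul_comm, smul_smul]
    norm_num)
  simp only [map_smul, mul_add, add_mul, mul_one, one_mul, map_add, ← map_mul, h5, h6 _ w_mul_w w_ne_one,
    h6 _ htw tw_ne_one, LinearMap.trace_one, add_zero, smul_eq_mul] at hd
  have h7 : Module.finrank ℂ V = 4 * d := by
    have : (Module.finrank ℂ V : ℂ) = 4 * d := by linear_combination 4 * hd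
    exact_mod_cast this
  obtain ⟨k, rfl⟩ : ∃ k, r = 8 * k + 2 := ⟨r / 8, by omega⟩
  have : (8 * k + 2 + 1) * (8 * k + 2) = 4 * (16 * k ^ 2 + 10 * k + 1) + 2 := by ring
  have h9 : ∑ β, n (β, 0) = 0 := by omega
  omega

end Ree

end Cfsg.Agent.H2
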