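import Cfsg.Prelude.Def_LieTwisted
import Cfsg.Agent.H7.ChainG2
import Cfsg.Agent.H8.NTabG2
import Cfsg.Agent.H7.Coll

/-! The seven-dimensional representation of `G₂` in characteristic three. -/

set_option autoImplicit false
set_option linter.unusedSectionVars false
set_option linter.unusedSimpArgs false

namespace Cfsg.Agent.H2

open Matrix Cfsg.Lie
open scoped MatrixGroups

namespace Ree

/-- coefficients of the entries of `x_r(t)` -/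
def cf (D : ChevalleyDatum) (r : Fin D.nroots) (row col : D.Idx) (k : ℕ) : ℤ :=
  match col with
    | Sum.inl i =>
      (match row with
       | Sum.inl i' => if i' = i ∧ k = 0 then 1 else 0
       | Sum.inr u => if u = r ∧ k = 1 then - ((D.cartanSR.getD i.val #[]).getD r.val 0 : ℤ) else 0)
    | Sum.inr s =>
      if s = r then (match row with | Sum.inr u => if u = r ∧ k = 0 then 1 else 0 | Sum.inl _ => 0)
      else if s.val = D.negIdx.getD r.val 0 then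
        (match row with
         | Sum.inl i => if k = 1 then ((D.coroot.getD r.val #[]).getD i.val 0 : ℤ) else 0
         | Sum.inr u => if u = s then (if k = 0 then 1 else 0) else if u = r ∧ k = 2 then -1 else 0)
      else
        (match row with
         | Sum.inl _ => 0
         | Sum.inr u => (if u = s ∧ k = 0 then 1 else 0) +
             (((D.chainCoeff r.val s.val u.val).filter fun km => km.1 = k).map fun km => km.2).sum)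

variable {K : Type*} [Field K]

theorem sum_cc (l : List (ℕ × ℤ)) (h : ∀ km ∈ l, km.1 < 4) (t : K) :
    (l.map fun km => ((km.2 : ℤ) : K) * t ^ km.1).sum =
      ∑ k ∈ Finset.range 4, (((l.filter fun km => km.1 = k).map fun km => km.2).sum : ℤ) * t ^ k := by
  induction l with
  | nil => simp
  | cons a l ih =>
    rw [List.map_cons, List.sum_cons, ih (fun km hk => h km (by simp [hk]))]
    have h1 := h a (by simp)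
    obtain ⟨k, c⟩ := a
    simp only at h1
    interval_cases k <;> simp [Finset.sum_range_succ] <;> ring

theorem xMat_eq (D : ChevalleyDatum) (hD : ∀ r s u : Fin D.nroots, ∀ km ∈ D.chainCoeff r.val s.val u.val, km.1 < 4)
    (r : Fin D.nroots) (t : K) (row col : D.Idx) :
    D.xMat K r t row col = ∑ k ∈ Finset.range 4, (cf D r row col k : K) * t ^ k := by
  rcases col with i | s <;> rcases row with i' | u
  · simp [ChevalleyDatum.xMat, cf, Finset.sum_range_succ]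
  · simp [ChevalleyDatum.xMat, cf, Finset.sum_range_succ]
  · simp only [ChevalleyDatum.xMat, cf, Finset.sum_range_succ, of_apply]
    split_ifs <;> simp_all
  · simp only [ChevalleyDatum.xMat, cf, of_apply]
    by_cases h1 : s = r
    · simp [h1, Finset.sum_range_succ]
    · by_cases h2 : s.val = D.negIdx.getD r.val 0
      · simp only [if_neg h1, if_pos h2]
        by_cases h3 : u = s
        · simp [h3, Finset.sum_range_succ]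
        · simp [h3, Finset.sum_range_succ]
      · simp only [if_neg h1, if_neg h2]
        rw [sum_cc _ (hD r s u)]
        simp [Finset.sum_range_succ]
        ring

theorem cc_le : ∀ r s u : Fin chevG2.nroots, ∀ km ∈ chevG2.chainCoeff r.val s.val u.val, km.1 < 4 := by
  decide +kernel

/-- the coordinates spanning the seven-dimensional submodule -/
def iot : Fin 7 → chevG2.Idx :=
  ![Sum.inr (9 : Fin 12), Sum.inr (8 : Fin 12), Sum.inr (7 : Fin 12), Sum.inl (0 : Fin 2), Sum.inr (4 : Fin 12),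
    Sum.inr (3 : Fin 12), Sum.inr (2 : Fin 12)]

theorem iot_inj : Function.Injective iot := by decide +kernel

theorem cf_out : ∀ (r : Fin chevG2.nroots) (row : chevG2.Idx) (j : Fin 7), (∀ i, row ≠ iot i) →
    ∀ k < 4, 3 ∣ cf chevG2 r row (iot j) k := by decide +kernel

/-- matrices that leave the submodule invariant -/
def Blk (M : Matrix chevG2.Idx chevG2.Idx K) : Prop := ∀ row j, (∀ i, row ≠ iot i) → M row (iot j) = 0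

theorem sum_iot {f : chevG2.Idx → K} (h : ∀ row, (∀ i, row ≠ iot i) → f row = 0) : ∑ a, f a = ∑ i, f (iot i) := by
  classical
  rw [← Finset.sum_image (s := Finset.univ) (g := iot) (f := f) (fun a _ b _ e => iot_inj e)]
  refine (Finset.sum_subset (Finset.subset_univ _) fun a _ ha => h a fun i e => ha ?_).symm
  exact Finset.mem_image.2 ⟨i, Finset.mem_univ _, e.symm⟩

theorem Blk.mul_apply {M N : Matrix chevG2.Idx chevG2.Idx K} (hN : Blk N) (row : chevG2.Idx) (j : Fin 7) :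
    (M * N) row (iot j) = ∑ i, M row (iot i) * N (iot i) (iot j) := by
  rw [Matrix.mul_apply]
  exact sum_iot fun a ha => by rw [hN a j ha, mul_zero]

theorem Blk.mul {M N : Matrix chevG2.Idx chevG2.Idx K} (hM : Blk M) (hN : Blk N) : Blk (M * N) := fun row j h => by
  rw [hN.mul_apply]
  exact Finset.sum_eq_zero fun i _ => by rw [hM row i h, zero_mul]

theorem blk_one : Blk (1 : Matrix chevG2.Idx chevG2.Idx K) := fun row j h => Matrix.one_apply_ne (h j)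

theorem blk_x (h3 : (3 : K) = 0) (r : ℕ) (t : K) : Blk (chevG2.x K r t) := by
  unfold ChevalleyDatum.x
  split_ifs with hr
  · intro row j h
    rw [xMat_eq _ cc_le]
    refine Finset.sum_eq_zero fun k hk => ?_
    obtain ⟨c, hc⟩ := cf_out ⟨r, hr⟩ row j h k (Finset.mem_range.1 hk)
    rw [hc]; push_cast; rw [h3]; simp
  · exact blk_one

theorem blk_of_mem (h3 : (3 : K) = 0) {g : GL chevG2.Idx K} (hg : g ∈ chevG2.group K) :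
    Blk (g : Matrix chevG2.Idx chevG2.Idx K) := by
  rw [H7.group_eq] at hg
  induction hg using Subgroup.closure_induction_left with
  | one => exact blk_one
  | mul_left x hx y _ ih =>
    obtain ⟨r, t, -, rfl⟩ := hx
    exact (blk_x h3 r t).mul ih
  | inv_mul_cancel x hx y _ ih =>
    obtain ⟨r, t, -, rfl⟩ := hx
    rw [H7.xu_inv]
    exact (blk_x h3 r _).mul ih

/-- The action on the seven-dimensional submodule. -/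
def rho7 (h3 : (3 : K) = 0) : chevG2.group K →* Matrix (Fin 7) (Fin 7) K where
  toFun g := ((g : GL chevG2.Idx K) : Matrix chevG2.Idx chevG2.Idx K).submatrix iot iot
  map_one' := by
    ext i j
    simp [Matrix.one_apply, iot_inj.eq_iff]
  map_mul' g g' := by
    ext i j
    exact (blk_of_mem h3 g'.2).mul_apply _ _

/-- the matrices of the root elements -/
def X7 (r : ℕ) (t : K) : Matrix (Fin 7) (Fin 7) K := (chevG2.x K r t).submatrix iot iot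

theorem rho7_x (h3 : (3 : K) = 0) (r : ℕ) (t : K) : rho7 h3 (H7.xg chevG2 K r t) = X7 r t := rfl

theorem X7_eq (h3 : (3 : K) = 0) (r : ℕ) (hr : r < chevG2.nroots) (T1 T2 : Matrix (Fin 7) (Fin 7) ℤ)
    (h : ∀ i j, 3 ∣ cf chevG2 ⟨r, hr⟩ (iot i) (iot j) 0 - (if i = j then 1 else 0) ∧
      3 ∣ cf chevG2 ⟨r, hr⟩ (iot i) (iot j) 1 - T1 i j ∧ 3 ∣ cf chevG2 ⟨r, hr⟩ (iot i) (iot j) 2 - T2 i j ∧
      3 ∣ cf chevG2 ⟨r, hr⟩ (iot i) (iot j) 3 - 0) (t : K) (i j : Fin 7) :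
    X7 r t i j = (if i = j then 1 else 0) + T1 i j * t + T2 i j * t ^ 2 := by
  have h1 : ∀ a b : ℤ, 3 ∣ a - b → (a : K) = b := fun a b ⟨c, hc⟩ => by
    rw [sub_eq_iff_eq_add.1 hc]; push_cast; rw [h3]; simp
  have h2 : X7 r t i j = chevG2.xMat K ⟨r, hr⟩ t (iot i) (iot j) := by
    unfold X7 ChevalleyDatum.x
    rw [dif_pos hr]; rfl
  obtain ⟨e0, e1, e2, e3⟩ := h i j
  rw [h2, xMat_eq _ cc_le]
  simp only [Finset.sum_range_succ, Finset.sum_range_zero, h1 _ _ e0, h1 _ _ e1, h1 _ _ e2, h1 _ _ e3]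
  simp

theorem X7_0 (h3 : (3 : K) = 0) (t : K) : X7 0 t =
  !![1, 0, 0, 0, 0, 0, 0;
   0, 1, 0, 0, 0, 0, 0;
   0, 0, 1, 0, 0, 0, 0;
   0, 0, 0, 1, 0, 0, 0;
   0, 0, 0, 0, 1, 0, 0;
   -t, 0, 0, 0, 0, 1, 0;
   0, t, 0, 0, 0, 0, 1] := by
  ext i j
  rw [X7_eq h3 0 (by decide) !![0, 0, 0, 0, 0, 0, 0; 0, 0, 0, 0, 0, 0, 0; 0, 0, 0, 0, 0, 0, 0; 0, 0, 0, 0, 0, 0, 0; 0, 0, 0, 0, 0, 0, 0; -1, 0, 0, 0, 0, 0, 0; 0, 1, 0, 0, 0, 0, 0]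
    0 (by decide +kernel) t i j]
  fin_cases i <;> fin_cases j <;> simp

theorem X7_1 (h3 : (3 : K) = 0) (t : K) : X7 1 t =
  !![1, 0, 0, 0, 0, 0, 0;
   0, 1, 0, 0, 0, 0, 0;
   0, 0, 1, 0, 0, 0, 0;
   0, 0, 0, 1, 0, 0, 0;
   -t, 0, 0, 0, 1, 0, 0;
   0, 0, 0, 0, 0, 1, 0;
   0, 0, t, 0, 0, 0, 1] := by
  ext i j
  rw [X7_eq h3 1 (by decide) !![0, 0, 0, 0, 0, 0, 0; 0, 0, 0, 0, 0, 0, 0; 0, 0, 0, 0, 0, 0, 0; 0, 0, 0, 0, 0, 0, 0; -1, 0, 0, 0, 0, 0, 0; 0, 0, 0, 0, 0, 0, 0; 0, 0, 1, 0, 0, 0, 0]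
    0 (by decide +kernel) t i j]
  fin_cases i <;> fin_cases j <;> simp

theorem X7_2 (h3 : (3 : K) = 0) (t : K) : X7 2 t =
  !![1, 0, 0, 0, 0, 0, 0;
   0, 1, 0, 0, 0, 0, 0;
   0, 0, 1, 0, 0, 0, 0;
   t, 0, 0, 1, 0, 0, 0;
   0, -t, 0, 0, 1, 0, 0;
   0, 0, t, 0, 0, 1, 0;
   -t ^ 2, 0, 0, t, 0, 0, 1] := by
  ext i j
  rw [X7_eq h3 2 (by decide) !![0, 0, 0, 0, 0, 0, 0; 0, 0, 0, 0, 0, 0, 0; 0, 0, 0, 0, 0, 0, 0; 1, 0, 0, 0, 0, 0, 0; 0, -1, 0, 0, 0, 0, 0; 0, 0, 1, 0, 0, 0, 0; 0, 0, 0, 1, 0, 0, 0]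
    !![0, 0, 0, 0, 0, 0, 0; 0, 0, 0, 0, 0, 0, 0; 0, 0, 0, 0, 0, 0, 0; 0, 0, 0, 0, 0, 0, 0; 0, 0, 0, 0, 0, 0, 0; 0, 0, 0, 0, 0, 0, 0; -1, 0, 0, 0, 0, 0, 0] (by decide +kernel) t i j]
  fin_cases i <;> fin_cases j <;> simp

theorem X7_3 (h3 : (3 : K) = 0) (t : K) : X7 3 t =
  !![1, 0, 0, 0, 0, 0, 0;
   0, 1, 0, 0, 0, 0, 0;
   -t, 0, 1, 0, 0, 0, 0;
   0, -t, 0, 1, 0, 0, 0;
   0, 0, 0, 0, 1, 0, 0;
   0, -t ^ 2, 0, -t, 0, 1, 0;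
   0, 0, 0, 0, t, 0, 1] := by
  ext i j
  rw [X7_eq h3 3 (by decide) !![0, 0, 0, 0, 0, 0, 0; 0, 0, 0, 0, 0, 0, 0; -1, 0, 0, 0, 0, 0, 0; 0, -1, 0, 0, 0, 0, 0; 0, 0, 0, 0, 0, 0, 0; 0, 0, 0, -1, 0, 0, 0; 0, 0, 0, 0, 1, 0, 0]
    !![0, 0, 0, 0, 0, 0, 0; 0, 0, 0, 0, 0, 0, 0; 0, 0, 0, 0, 0, 0, 0; 0, 0, 0, 0, 0, 0, 0; 0, 0, 0, 0, 0, 0, 0; 0, -1, 0, 0, 0, 0, 0; 0, 0, 0, 0, 0, 0, 0] (by decide +kernel) t i j]
  fin_cases i <;> fin_cases j <;> simp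

theorem X7_4 (h3 : (3 : K) = 0) (t : K) : X7 4 t =
  !![1, 0, 0, 0, 0, 0, 0;
   t, 1, 0, 0, 0, 0, 0;
   0, 0, 1, 0, 0, 0, 0;
   0, 0, -t, 1, 0, 0, 0;
   0, 0, -t ^ 2, -t, 1, 0, 0;
   0, 0, 0, 0, 0, 1, 0;
   0, 0, 0, 0, 0, -t, 1] := by
  ext i j
  rw [X7_eq h3 4 (by decide) !![0, 0, 0, 0, 0, 0, 0; 1, 0, 0, 0, 0, 0, 0; 0, 0, 0, 0, 0, 0, 0; 0, 0, -1, 0, 0, 0, 0; 0, 0, 0, -1, 0, 0, 0; 0, 0, 0, 0, 0, 0, 0; 0, 0, 0, 0, 0, -1, 0]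
    !![0, 0, 0, 0, 0, 0, 0; 0, 0, 0, 0, 0, 0, 0; 0, 0, 0, 0, 0, 0, 0; 0, 0, 0, 0, 0, 0, 0; 0, 0, -1, 0, 0, 0, 0; 0, 0, 0, 0, 0, 0, 0; 0, 0, 0, 0, 0, 0, 0] (by decide +kernel) t i j]
  fin_cases i <;> fin_cases j <;> simp

theorem X7_5 (h3 : (3 : K) = 0) (t : K) : X7 5 t =
  !![1, 0, 0, 0, 0, 0, 0;
   0, 1, 0, 0, 0, 0, 0;
   0, t, 1, 0, 0, 0, 0;
   0, 0, 0, 1, 0, 0, 0;
   0, 0, 0, 0, 1, 0, 0;
   0, 0, 0, 0, -t, 1, 0;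
   0, 0, 0, 0, 0, 0, 1] := by
  ext i j
  rw [X7_eq h3 5 (by decide) !![0, 0, 0, 0, 0, 0, 0; 0, 0, 0, 0, 0, 0, 0; 0, 1, 0, 0, 0, 0, 0; 0, 0, 0, 0, 0, 0, 0; 0, 0, 0, 0, 0, 0, 0; 0, 0, 0, 0, -1, 0, 0; 0, 0, 0, 0, 0, 0, 0]
    0 (by decide +kernel) t i j]
  fin_cases i <;> fin_cases j <;> simp

theorem X7_6 (h3 : (3 : K) = 0) (t : K) : X7 6 t =
  !![1, 0, 0, 0, 0, 0, 0;
   0, 1, t, 0, 0, 0, 0;
   0, 0, 1, 0, 0, 0, 0;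
   0, 0, 0, 1, 0, 0, 0;
   0, 0, 0, 0, 1, -t, 0;
   0, 0, 0, 0, 0, 1, 0;
   0, 0, 0, 0, 0, 0, 1] := by
  ext i j
  rw [X7_eq h3 6 (by decide) !![0, 0, 0, 0, 0, 0, 0; 0, 0, 1, 0, 0, 0, 0; 0, 0, 0, 0, 0, 0, 0; 0, 0, 0, 0, 0, 0, 0; 0, 0, 0, 0, 0, -1, 0; 0, 0, 0, 0, 0, 0, 0; 0, 0, 0, 0, 0, 0, 0]
    0 (by decide +kernel) t i j]
  fin_cases i <;> fin_cases j <;> simp

theorem X7_7 (h3 : (3 : K) = 0) (t : K) : X7 7 t =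
  !![1, t, 0, 0, 0, 0, 0;
   0, 1, 0, 0, 0, 0, 0;
   0, 0, 1, t, -t ^ 2, 0, 0;
   0, 0, 0, 1, t, 0, 0;
   0, 0, 0, 0, 1, 0, 0;
   0, 0, 0, 0, 0, 1, -t;
   0, 0, 0, 0, 0, 0, 1] := by
  ext i j
  rw [X7_eq h3 7 (by decide) !![0, 1, 0, 0, 0, 0, 0; 0, 0, 0, 0, 0, 0, 0; 0, 0, 0, 1, 0, 0, 0; 0, 0, 0, 0, 1, 0, 0; 0, 0, 0, 0, 0, 0, 0; 0, 0, 0, 0, 0, 0, -1; 0, 0, 0, 0, 0, 0, 0]
    !![0, 0, 0, 0, 0, 0, 0; 0, 0, 0, 0, 0, 0, 0; 0, 0, 0, 0, -1, 0, 0; 0, 0, 0, 0, 0, 0, 0; 0, 0, 0, 0, 0, 0, 0; 0, 0, 0, 0, 0, 0, 0; 0, 0, 0, 0, 0, 0, 0] (by decide +kernel) t i j]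
  fin_cases i <;> fin_cases j <;> simp

theorem X7_8 (h3 : (3 : K) = 0) (t : K) : X7 8 t =
  !![1, 0, -t, 0, 0, 0, 0;
   0, 1, 0, t, 0, -t ^ 2, 0;
   0, 0, 1, 0, 0, 0, 0;
   0, 0, 0, 1, 0, t, 0;
   0, 0, 0, 0, 1, 0, t;
   0, 0, 0, 0, 0, 1, 0;
   0, 0, 0, 0, 0, 0, 1] := by
  ext i j
  rw [X7_eq h3 8 (by decide) !![0, 0, -1, 0, 0, 0, 0; 0, 0, 0, 1, 0, 0, 0; 0, 0, 0, 0, 0, 0, 0; 0, 0, 0, 0, 0, 1, 0; 0, 0, 0, 0, 0, 0, 1; 0, 0, 0, 0, 0, 0, 0; 0, 0, 0, 0, 0, 0, 0]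
    !![0, 0, 0, 0, 0, 0, 0; 0, 0, 0, 0, 0, -1, 0; 0, 0, 0, 0, 0, 0, 0; 0, 0, 0, 0, 0, 0, 0; 0, 0, 0, 0, 0, 0, 0; 0, 0, 0, 0, 0, 0, 0; 0, 0, 0, 0, 0, 0, 0] (by decide +kernel) t i j]
  fin_cases i <;> fin_cases j <;> simp

theorem X7_9 (h3 : (3 : K) = 0) (t : K) : X7 9 t =
  !![1, 0, 0, -t, 0, 0, -t ^ 2;
   0, 1, 0, 0, -t, 0, 0;
   0, 0, 1, 0, 0, t, 0;
   0, 0, 0, 1, 0, 0, -t;
   0, 0, 0, 0, 1, 0, 0;
   0, 0, 0, 0, 0, 1, 0;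
   0, 0, 0, 0, 0, 0, 1] := by
  ext i j
  rw [X7_eq h3 9 (by decide) !![0, 0, 0, -1, 0, 0, 0; 0, 0, 0, 0, -1, 0, 0; 0, 0, 0, 0, 0, 1, 0; 0, 0, 0, 0, 0, 0, -1; 0, 0, 0, 0, 0, 0, 0; 0, 0, 0, 0, 0, 0, 0; 0, 0, 0, 0, 0, 0, 0]
    !![0, 0, 0, 0, 0, 0, -1; 0, 0, 0, 0, 0, 0, 0; 0, 0, 0, 0, 0, 0, 0; 0, 0, 0, 0, 0, 0, 0; 0, 0, 0, 0, 0, 0, 0; 0, 0, 0, 0, 0, 0, 0; 0, 0, 0, 0, 0, 0, 0] (by decide +kernel) t i j]
  fin_cases i <;> fin_cases j <;> simp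

theorem X7_10 (h3 : (3 : K) = 0) (t : K) : X7 10 t =
  !![1, 0, 0, 0, -t, 0, 0;
   0, 1, 0, 0, 0, 0, 0;
   0, 0, 1, 0, 0, 0, t;
   0, 0, 0, 1, 0, 0, 0;
   0, 0, 0, 0, 1, 0, 0;
   0, 0, 0, 0, 0, 1, 0;
   0, 0, 0, 0, 0, 0, 1] := by
  ext i j
  rw [X7_eq h3 10 (by decide) !![0, 0, 0, 0, -1, 0, 0; 0, 0, 0, 0, 0, 0, 0; 0, 0, 0, 0, 0, 0, 1; 0, 0, 0, 0, 0, 0, 0; 0, 0, 0, 0, 0, 0, 0; 0, 0, 0, 0, 0, 0, 0; 0, 0, 0, 0, 0, 0, 0]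
    0 (by decide +kernel) t i j]
  fin_cases i <;> fin_cases j <;> simp

theorem X7_11 (h3 : (3 : K) = 0) (t : K) : X7 11 t =
  !![1, 0, 0, 0, 0, -t, 0;
   0, 1, 0, 0, 0, 0, t;
   0, 0, 1, 0, 0, 0, 0;
   0, 0, 0, 1, 0, 0, 0;
   0, 0, 0, 0, 1, 0, 0;
   0, 0, 0, 0, 0, 1, 0;
   0, 0, 0, 0, 0, 0, 1] := by
  ext i j
  rw [X7_eq h3 11 (by decide) !![0, 0, 0, 0, 0, -1, 0; 0, 0, 0, 0, 0, 0, 1; 0, 0, 0, 0, 0, 0, 0; 0, 0, 0, 0, 0, 0, 0; 0, 0, 0, 0, 0, 0, 0; 0, 0, 0, 0, 0, 0, 0; 0, 0, 0, 0, 0, 0, 0]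
    0 (by decide +kernel) t i j]
  fin_cases i <;> fin_cases j <;> simp

end Ree

end Cfsg.Agent.H2
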