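import Cfsg.Agent.H2.ReeSyl
import Cfsg.Agent.H2.GenCount

/-! The tori of orders `q - 1` and `q + 1` of the small Ree groups. -/

set_option autoImplicit false
set_option linter.unusedSectionVars false
set_option linter.unusedSimpArgs false

namespace Cfsg.Agent.H2

open Matrix
open scoped Pointwise MatrixGroups

theorem cop_of_int {a b : ℕ} (x y : ℤ) (h : x * a + y * b = 1) : Nat.Coprime a b :=
  Nat.isCoprime_iff_coprime.1 ⟨x, y, h⟩

theorem eq_one_of_pow_cop {G : Type*} [Group G] {x : G} {a b : ℕ} (h : Nat.Coprime a b) (ha : x ^ a = 1)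
    (hb : x ^ b = 1) : x = 1 := by
  have := pow_gcd_eq_one.2 ⟨ha, hb⟩
  rwa [h, pow_one] at this

theorem conj_pow_eq_one_iff' {G : Type*} [Group G] {x g : G} {n : ℕ} : (g * x * g⁻¹) ^ n = 1 ↔ x ^ n = 1 := by
  rw [conj_pow, conj_eq_one_iff]

theorem exists_prime_pow {G : Type*} [Group G] [Finite G] {x : G} (h : x ≠ 1) :
    ∃ k l, l.Prime ∧ x ^ k ≠ 1 ∧ (x ^ k) ^ l = 1 ∧ l ∣ orderOf x := by
  obtain ⟨l, hl, hd⟩ := Nat.exists_prime_and_dvd (n := orderOf x) (by simpa using h)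
  obtain ⟨k, hk⟩ := exists_pow_orderOf_eq_prime hd
  exact ⟨k, l, hl, fun e => hl.one_lt.ne (by rw [← hk, e, orderOf_one]), by rw [← hk, pow_orderOf_eq_one], hd⟩

theorem mem_norm_of_conj {G : Type*} [Group G] {T : Subgroup G} {a x : G} (h1 : Cen a = T) (h2 : Cen (x * a * x⁻¹) = T) :
    x ∈ Subgroup.normalizer (T : Set G) := h1 ▸ mem_normalizer_Cen (h2.trans h1.symm)

namespace Ree

variable {K : Type*} [Field K] {m : ℕ} [hK : ReeF K m]
include hK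

variable (K) in
theorem exists_s : ∃ s, 1 ≤ s ∧ Nat.card K = 24 * s + 3 ∧ Nat.card K - 1 = 24 * s + 2 ∧
    (Nat.card K - 1) / 2 = 12 * s + 1 ∧ (Nat.card K + 1) / 4 = 6 * s + 1 ∧
    Nat.card K ^ 2 - Nat.card K + 1 = 576 * s ^ 2 + 120 * s + 7 := by
  have h1 := card_mod_eight K
  have h2 := three_dvd_card K
  have h3 := le_card K
  obtain ⟨s, hs⟩ : ∃ s, Nat.card K = 24 * s + 3 := ⟨Nat.card K / 24, by omega⟩
  refine ⟨s, by omega, hs, by omega, by omega, by omega, ?_⟩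
  rw [hs, show (24 * s + 3) ^ 2 = 576 * s ^ 2 + 120 * s + 6 + (24 * s + 3) by ring]; omega

variable (K) in
theorem cube_add_one : Nat.card K ^ 3 + 1 = (Nat.card K + 1) * (Nat.card K ^ 2 - Nat.card K + 1) := by
  obtain ⟨s, -, h1, -, -, -, h2⟩ := exists_s K
  rw [h2, h1]; ring

variable (K) in
theorem cop_N : Nat.Coprime (Nat.card K ^ 2 - Nat.card K + 1) (Nat.card K ^ 3 * (Nat.card K - 1) * (Nat.card K + 1)) := by
  obtain ⟨s, -, h1, h2, -, -, h3⟩ := exists_s K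
  rw [h3, h2, h1]
  refine Nat.Coprime.mul_right (Nat.Coprime.mul_right (Nat.Coprime.pow_right _ ?_) ?_) ?_
  · exact cop_of_int 1 (-(24 * s + 2)) (by push_cast; ring)
  · exact cop_of_int 1 (-(24 * s + 3)) (by push_cast; ring)
  · exact cop_of_int (-(8 * s + 1)) (1 + (8 * s + 1) * (24 * s + 1)) (by push_cast; ring)

variable (K) in
theorem cop_half : Nat.Coprime ((Nat.card K - 1) / 2) (Nat.card K ^ 3 * (Nat.card K ^ 3 + 1)) := by
  rw [cube_add_one]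
  have := (cop_N K).symm
  obtain ⟨s, -, h1, h2, h4, -, h3⟩ := exists_s K
  rw [h4]
  refine Nat.Coprime.mul_right (Nat.Coprime.pow_right _ ?_) (Nat.Coprime.mul_right ?_ ?_)
  · rw [h1]; exact cop_of_int (-2) 1 (by push_cast; ring)
  · rw [h1]; exact cop_of_int (1 + 12 * s) (-6 * s) (by push_cast; ring)
  · exact this.of_dvd_left (Dvd.dvd.mul_right (Dvd.dvd.mul_left ⟨2, by omega⟩ _) _)

variable (K) in
theorem cop_quart : Nat.Coprime ((Nat.card K + 1) / 4)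
    (Nat.card K ^ 3 * (Nat.card K - 1) * (Nat.card K ^ 2 - Nat.card K + 1)) := by
  have := (cop_N K).symm
  obtain ⟨s, -, h1, h2, -, h4, h3⟩ := exists_s K
  rw [h4]
  refine Nat.Coprime.mul_right (Nat.Coprime.mul_right (Nat.Coprime.pow_right _ ?_) ?_) ?_
  · rw [h1]; exact cop_of_int 4 (-1) (by push_cast; ring)
  · rw [h2]; exact cop_of_int (1 - 12 * s) (3 * s) (by push_cast; ring)
  · exact this.of_dvd_left (Dvd.dvd.mul_left ⟨4, by omega⟩ _)

theorem pow_eq_one_of_fix {g : ReeG K m} {p : Pt K} (hg : g • p = p) : g ^ (Nat.card K ^ 3 * (Nat.card K - 1)) = 1 := by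
  rw [← card_stabilizer p]
  exact pow_card_of_mem hg

theorem exists_fix_of_comm {g y : ReeG K m} (hy : 3 ∣ orderOf y) (hc : g * y = y * g) : ∃ p : Pt K, g • p = p := by
  have := finite_G K
  obtain ⟨k, hk⟩ := exists_pow_orderOf_eq_prime hy
  obtain ⟨p, hp⟩ := exists_mem_Qp_of_pow (g := y ^ k) (n := 1) (orderOf_dvd_iff_pow_eq_one.1 (by rw [hk]; rfl))
  exact ⟨p, fix_of_commute hp (fun e => by rw [e, orderOf_one] at hk; omega) (Commute.pow_right hc k)⟩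

/-! ### The split torus -/

variable (K) in
/-- the split torus -/
def Ho : Subgroup (ReeG K m) := (h : Kˣ →* ReeG K m).range

theorem h_mem_Ho (k : Kˣ) : h k ∈ Ho K := ⟨k, rfl⟩

variable (K) in
theorem card_Ho : Nat.card (Ho K) = Nat.card K - 1 := by
  have := finite K
  rw [← Nat.card_units]
  exact Nat.card_congr (MonoidHom.ofInjective h_inj).toEquiv.symm

variable (K) in
theorem isCyclic_Ho : IsCyclic (Ho K) := by
  have := finite K
  exact isCyclic_of_surjective _ (h : Kˣ →* ReeG K m).rangeRestrict_surjective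

theorem h_sq_ne {k : Kˣ} : (h k : ReeG K m) ^ 2 ≠ 1 ↔ k ≠ 1 ∧ k ≠ -1 := by
  rw [← map_pow, Ne, h_eq_one, Units.ext_iff, Units.val_pow_eq_pow_val, Units.val_one, sq_eq_one_iff, not_or, Ne, Ne,
    Units.ext_iff, Units.ext_iff]
  rfl

theorem cases_of_conj_h {g : ReeG K m} {k l : Kˣ} (hk : (h k : ReeG K m) ^ 2 ≠ 1) (he : g * h k * g⁻¹ = h l) :
    ∃ n, g = h n ∨ g = h n * w K := by
  have hl : (h l : ReeG K m) ^ 2 ≠ 1 := by rwa [← he, Ne, conj_pow_eq_one_iff']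
  obtain ⟨l1, l2⟩ := h_sq_ne.1 hl
  have e1 := h_fix_cases l1 l2 (p := g • inf K) (by rw [← he, mul_smul, inv_smul_smul, mul_smul, h_smul_inf])
  have e2 := h_fix_cases l1 l2 (p := g • pt (0 : K) 0 0) (by rw [← he, mul_smul, inv_smul_smul, mul_smul, h_smul_zero])
  have e3 : g • inf K ≠ g • pt (0 : K) 0 0 := fun e => pt_ne_inf _ _ _ (MulAction.injective g e).symm
  rcases e1 with e1 | e1 <;> rcases e2 with e2 | e2
  · exact absurd (e1.trans e2.symm) e3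
  · obtain ⟨n, hn⟩ := fix_two_iff.1 ⟨e1, e2⟩
    exact ⟨n, Or.inl hn⟩
  · obtain ⟨n, hn⟩ := swap_iff.1 ⟨e1, e2⟩
    exact ⟨n, Or.inr hn⟩
  · exact absurd (e1.trans e2.symm) e3

theorem hw_conj (n k : Kˣ) : h n * w K * h k * (h n * w K)⁻¹ = (h k)⁻¹ := by
  rw [_root_.mul_inv_rev, w_inv, mul_assoc (h n), mul_assoc, ← mul_assoc (w K * h k), w_h_w, ← mul_assoc, h_comm,
    mul_inv_cancel_right, map_inv]

theorem Cen_Ho {a : ReeG K m} (ha : a ∈ Ho K) (h2 : a ^ 2 ≠ 1) : Cen a = Ho K := by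
  obtain ⟨k, rfl⟩ := ha
  ext g
  constructor
  · intro hg
    have he := mul_inv_eq_iff_eq_mul.2 (mem_Cen.1 hg)
    obtain ⟨n, rfl | rfl⟩ := cases_of_conj_h h2 he
    · exact h_mem_Ho n
    · rw [hw_conj, inv_eq_iff_mul_eq_one, ← sq] at he
      exact absurd he h2
  · rintro ⟨l, rfl⟩
    exact mem_Cen.2 (h_comm l k)

theorem mem_norm_Ho {g : ReeG K m} : g ∈ Subgroup.normalizer (Ho K : Set (ReeG K m)) ↔ ∃ n, g = h n ∨ g = h n * w K := by
  have := finite_G K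
  constructor
  · intro hg
    obtain ⟨k, hk, hk'⟩ := exists_sq_ne_one K
    obtain ⟨l, hl⟩ := (Subgroup.mem_normalizer_iff.1 hg _).1 (h_mem_Ho k)
    exact cases_of_conj_h (h_sq_ne.2 ⟨fun e => hk (by rw [e]; rfl), fun e => hk' (by rw [e]; rfl)⟩) hl.symm
  · rintro ⟨n, rfl | rfl⟩
    · exact Subgroup.le_normalizer (h_mem_Ho n)
    · refine Subgroup.mem_normalizer_fintype ?_
      rintro _ ⟨k, rfl⟩
      rw [hw_conj]; exact inv_mem (h_mem_Ho k)

theorem h_ne_hw (k l : Kˣ) : (h k : ReeG K m) ≠ h l * w K := fun e =>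
  uh_ne_big 0 0 0 0 0 0 0 0 0 k l (by simpa using e)

variable (K) in
theorem card_norm_Ho : Nat.card (Subgroup.normalizer (Ho K : Set (ReeG K m))) = 2 * (Nat.card K - 1) := by
  have := finite K
  rw [← Nat.card_units, two_mul, ← Nat.card_sum]
  symm
  refine Nat.card_eq_of_bijective (fun s => match s with
    | Sum.inl k => ⟨h k, mem_norm_Ho.2 ⟨k, Or.inl rfl⟩⟩
    | Sum.inr k => ⟨h k * w K, mem_norm_Ho.2 ⟨k, Or.inr rfl⟩⟩) ⟨?_, ?_⟩
  · rintro (k | k) (l | l) e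
    · exact congrArg _ (h_inj (show h k = h l from congrArg Subtype.val e))
    · exact absurd (show h k = h l * w K from congrArg Subtype.val e) (h_ne_hw k l)
    · exact absurd (show h k * w K = h l from congrArg Subtype.val e).symm (h_ne_hw l k)
    · exact congrArg _ (h_inj (mul_right_cancel (show h k * w K = h l * w K from congrArg Subtype.val e)))
  · rintro ⟨g, hg⟩
    obtain ⟨n, rfl | rfl⟩ := mem_norm_Ho.1 hg
    · exact ⟨Sum.inl n, rfl⟩
    · exact ⟨Sum.inr n, rfl⟩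

theorem exists_conj_Ho {y : ReeG K m} (h1 : y ^ (Nat.card K - 1) = 1) (h2 : y ^ 2 ≠ 1) : ∃ x, x * y * x⁻¹ ∈ Ho K := by
  have := finite_G K
  obtain ⟨k, l, hl, e1, e2, e3⟩ := exists_prime_pow h2
  have e4 : orderOf (y ^ 2) ∣ (Nat.card K - 1) / 2 := by
    obtain ⟨s, -, -, h3, h4, -⟩ := exists_s K
    rw [orderOf_dvd_iff_pow_eq_one, ← pow_mul, h4, ← h1, h3]; congr 1; ring
  have e5 := (cop_half K).of_dvd_left (e3.trans e4)
  obtain ⟨x, -, hx⟩ := exists_conj_mem_of_not_dvd (C := ⊤) (T := Ho K) le_top (Subgroup.mem_top _) hl e2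
    (n := Nat.card K ^ 3 * (Nat.card K ^ 3 + 1)) (by rw [Subgroup.card_top, card_G, card_Ho]; ring)
    ((Nat.Prime.coprime_iff_not_dvd hl).1 e5)
  refine ⟨x, ?_⟩
  rw [← Cen_Ho hx (by
    rw [Ne, conj_pow_eq_one_iff']
    refine fun e => e1 (eq_one_of_pow_cop (a := l) (b := 2) (e5.of_dvd_right ?_) e2 e)
    obtain ⟨s, -, h3, -⟩ := exists_s K
    rw [cube_add_one, h3]
    exact Dvd.dvd.mul_left (Dvd.dvd.mul_right ⟨12 * s + 2, by ring⟩ _) _), ← pow_mul, ← conj_pow]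
  exact Cen_le_Cen_pow _ _ (self_mem_Cen _)

/-! ### The centraliser of an involution -/

/-- the subgroup `⟨t⟩ × ψ(L)` -/
def tP (L : Subgroup SL(2, K)) : Subgroup (ReeG K m) where
  carrier := {g | ∃ M ∈ L, g = psi M ∨ g = t K * psi M}
  one_mem' := ⟨1, one_mem _, Or.inl (map_one _).symm⟩
  mul_mem' := by
    rintro _ _ ⟨M, hM, rfl | rfl⟩ ⟨N, hN, rfl | rfl⟩ <;> refine ⟨M * N, mul_mem hM hN, ?_⟩
    · exact Or.inl (map_mul _ _ _).symm
    · exact Or.inr (by rw [map_mul, ← mul_assoc, ← t_mul_psi, mul_assoc])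
    · exact Or.inr (by rw [map_mul, mul_assoc])
    · exact Or.inl (by rw [map_mul, t_mul_psi, mul_assoc, ← mul_assoc (t K), t_mul_t, one_mul])
  inv_mem' := by
    rintro _ ⟨M, hM, rfl | rfl⟩ <;> refine ⟨M⁻¹, inv_mem hM, ?_⟩
    · exact Or.inl (map_inv _ _).symm
    · exact Or.inr (by rw [_root_.mul_inv_rev, t_inv, t_mul_psi, map_inv])

theorem t_mem_tP (L : Subgroup SL(2, K)) : t K ∈ tP L := ⟨1, one_mem _, Or.inr (by simp)⟩

theorem psi_mem_tP {L : Subgroup SL(2, K)} {M : SL(2, K)} (hM : M ∈ L) : psi M ∈ tP L := ⟨M, hM, Or.inl rfl⟩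

theorem Cen_t : Cen (t K) = tP ⊤ := by
  ext g; rw [mem_Cen_t]; exact ⟨fun ⟨M, h⟩ => ⟨M, trivial, h⟩, fun ⟨M, _, h⟩ => ⟨M, h⟩⟩

theorem tP_mono {L L' : Subgroup SL(2, K)} (h : L ≤ L') : tP L ≤ tP L' := fun _ ⟨M, hM, e⟩ => ⟨M, h hM, e⟩

theorem tP_le (L : Subgroup SL(2, K)) : tP L ≤ Cen (t K) := Cen_t (K := K) ▸ tP_mono le_top

theorem card_map_psi {L : Subgroup SL(2, K)} (hL : -1 ∈ L) : Nat.card (L.map psi) * 2 = Nat.card L := by
  have := finite K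
  let f := psi.subgroupMap L
  have h1 := f.ker.index_mul_card
  rw [Subgroup.index_ker, MonoidHom.range_eq_top_of_surjective _ (psi.subgroupMap_surjective L), Subgroup.card_top] at h1
  rw [← h1]
  congr 1
  symm
  change (f.ker : Set L).ncard = 2
  rw [Set.ncard_eq_two]
  refine ⟨1, ⟨-1, hL⟩, fun h => neg_one_ne_one_SL (two_ne K) (congrArg Subtype.val h).symm, ?_⟩
  ext x
  have e : x ∈ (f.ker : Set L) ↔ psi x.1 = 1 := ⟨fun h => congrArg Subtype.val h, fun h => Subtype.ext h⟩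
  rw [e, psi_eq_one, Sc, isScal_SL_iff]
  exact or_congr (Subtype.ext_iff (a2 := (1 : L))).symm (Subtype.ext_iff (a2 := (⟨-1, hL⟩ : L))).symm

theorem card_tP {L : Subgroup SL(2, K)} (hL : -1 ∈ L) : Nat.card (tP L) = Nat.card L := by
  have := finite_G K
  have h1 : L.map psi ≤ tP L := by rintro _ ⟨M, hM, rfl⟩; exact psi_mem_tP hM
  have h2 := ((L.map psi).subgroupOf (tP L)).index_mul_card
  have h3 : ((L.map psi).subgroupOf (tP L)).index = 2 := by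
    refine Subgroup.index_eq_two_iff_exists_notMem_and.2 ⟨⟨t K, t_mem_tP L⟩, ?_, ?_⟩
    · rintro ⟨M, -, e⟩
      exact psi_ne_t M e
    · rintro ⟨_, M, hM, rfl | rfl⟩
      · exact Or.inr ⟨M, hM, rfl⟩
      · exact Or.inl ⟨M, hM, show psi M = t K * psi M * t K by rw [t_mul_psi, mul_assoc, t_mul_t, mul_one]⟩
  rw [Nat.card_congr (Subgroup.subgroupOfEquivOfLe h1).toEquiv, h3, mul_comm, card_map_psi hL] at h2
  exact h2.symm

variable (K) in
theorem card_Cen_t : Nat.card (Cen (t K)) = Nat.card K * (Nat.card K - 1) * (Nat.card K + 1) := by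
  have := finite K
  rw [Cen_t, card_tP (Subgroup.mem_top _), Subgroup.card_top, card_SL2']

theorem tpsi_sq (M : SL(2, K)) : (t K * psi M) ^ 2 = psi M ^ 2 := by
  rw [Commute.mul_pow (t_mul_psi M), sq (t K), t_mul_t, one_mul]

theorem sq_eq_one_of_pow_four {y : ReeG K m} (hy : y ^ 4 = 1) : y ^ 2 = 1 := by
  by_contra h1
  obtain ⟨x, hx⟩ := exists_conj_t (s := y ^ 2) (by rw [← pow_mul]; exact hy) h1
  have h2 : (x⁻¹ * y * x⁻¹⁻¹) ^ 2 = t K := by rw [conj_pow, hx]; group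
  obtain ⟨M, e | e⟩ := mem_Cen_t.1 (h2 ▸ Cen_le_Cen_pow _ 2 (self_mem_Cen _))
  · exact psi_ne_t (M ^ 2) (by rw [map_pow, ← e, h2])
  · exact psi_ne_t (M ^ 2) (by rw [map_pow, ← tpsi_sq, ← e, h2])

theorem psi_sq_eq_one {M : SL(2, K)} : psi M ^ 2 = 1 ↔ Sc M ∨ tr M = 0 := by
  rw [← map_pow, psi_eq_one]
  constructor
  · exact fun h => or_iff_not_imp_left.2 fun h1 => tr_eq_zero_of_Sc_sq h1 h
  · rintro (h | h)
    · rw [h.sq]; exact isScal_SL_iff.2 (Or.inl rfl)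
    · rw [sq_eq_neg_one_of_tr h]; exact isScal_SL_iff.2 (Or.inr rfl)

theorem comm_psi_iff {M N : SL(2, K)} (hM : tr M ≠ 0) : psi N * psi M = psi M * psi N ↔ N ∈ Cen M := by
  rw [← map_mul, ← map_mul, psi_eq_iff, mem_Cen]
  refine ⟨fun h => h.resolve_right fun h => hM ?_, Or.inl⟩
  have := tr_conj N M
  rw [h, neg_mul, mul_inv_cancel_right, tr_neg] at this
  exact eq_zero_of_eq_neg this.symm

theorem comm_tP {a b : ReeG K m} {M N : SL(2, K)} (ha : a = psi M ∨ a = t K * psi M) (hb : b = psi N ∨ b = t K * psi N) :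
    b * a = a * b ↔ psi N * psi M = psi M * psi N := by
  have c1 : Commute (t K) (psi M) := t_mul_psi M
  have c2 : Commute (t K) (psi N) := t_mul_psi N
  change Commute b a ↔ Commute (psi N) (psi M)
  have k : ∀ x y : ReeG K m, Commute (t K) y → (Commute (t K * x) y ↔ Commute x y) := fun x y h =>
    ⟨fun h' => by simpa using h.inv_left.mul_left h', fun h' => h.mul_left h'⟩
  rcases ha with rfl | rfl <;> rcases hb with rfl | rfl
  · rfl
  · exact k _ _ c1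
  · rw [Commute.symm_iff, k _ _ c2, Commute.symm_iff]
  · rw [k _ _ ((Commute.refl _).mul_right c1), Commute.symm_iff, k _ _ c2, Commute.symm_iff]

theorem sq_of_cases {a : ReeG K m} {M : SL(2, K)} (ha : a = psi M ∨ a = t K * psi M) : a ^ 2 = psi M ^ 2 := by
  rcases ha with rfl | rfl
  · rfl
  · exact tpsi_sq M

theorem mem_tP_Cen {a b : ReeG K m} {M : SL(2, K)} (ha : a = psi M ∨ a = t K * psi M) (h2 : a ^ 2 ≠ 1) :
    b ∈ tP (Cen M) ↔ b ∈ Cen a ∧ b ∈ Cen (t K) := by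
  rw [sq_of_cases ha, Ne, psi_sq_eq_one, not_or] at h2
  constructor
  · rintro ⟨N, hN, hb⟩
    exact ⟨mem_Cen.2 ((comm_tP ha hb).2 ((comm_psi_iff h2.2).2 hN)), mem_Cen_t.2 ⟨N, hb⟩⟩
  · rintro ⟨h3, h4⟩
    obtain ⟨N, hb⟩ := mem_Cen_t.1 h4
    exact ⟨N, (comm_psi_iff h2.2).1 ((comm_tP ha hb).1 (mem_Cen.1 h3)), hb⟩

theorem comm_tP_Cen {M : SL(2, K)} (hM : ¬ Sc M) {a b : ReeG K m} (ha : a ∈ tP (Cen M)) (hb : b ∈ tP (Cen M)) :
    a * b = b * a := by
  obtain ⟨A, hA, ha⟩ := ha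
  obtain ⟨B, hB, hb⟩ := hb
  rw [comm_tP hb ha, ← map_mul, ← map_mul, Cen_comm hM hA hB]

theorem comm_of_invol {z e a b : ReeG K m} (hz : z ^ 2 ≠ 1) (he : e * e = 1) (he1 : e ≠ 1) (h1 : e ∈ Cen z)
    (ha : a ∈ Cen z) (hb : b ∈ Cen z) (ha' : a * e = e * a) (hb' : b * e = e * b) : a * b = b * a := by
  obtain ⟨x, rfl⟩ := exists_conj_t (by rw [sq, he]) he1
  obtain ⟨M, hM⟩ := mem_Cen_t.1 (mem_centralizer_conj_iff.1 (mem_Cen.2 (mem_Cen.1 h1).symm))
  have h2 : (x⁻¹ * z * x) ^ 2 ≠ 1 := by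
    have := conj_pow_eq_one_iff' (x := z) (g := x⁻¹) (n := 2)
    rw [inv_inv] at this
    rwa [Ne, this]
  have k : ∀ a ∈ Cen z, a * (x * t K * x⁻¹) = x * t K * x⁻¹ * a → x⁻¹ * a * x ∈ tP (Cen M) := fun a ha ha' =>
    (mem_tP_Cen hM h2).2 ⟨mem_centralizer_conj_iff.1 (by simpa [mul_assoc] using ha),
      mem_centralizer_conj_iff.1 (mem_Cen.2 ha')⟩
  have h3 := comm_tP_Cen (M := M) (fun h => h2 (by rw [sq_of_cases hM, psi_sq_eq_one]; exact Or.inl h)) (k a ha ha')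
    (k b hb hb')
  simp only [← mul_assoc, mul_inv_cancel_right, mul_left_inj] at h3
  simpa [mul_assoc] using h3

/-! ### The torus of order `q + 1` -/

variable (K) in
theorem exists_iN : ∃ i : SL(2, K), tr i = 0 ∧ Nat.card (Cen i) = Nat.card K + 1 := by
  have := finite K
  refine ⟨wSL K, tr_wSL, card_Cen_of_no_root fun x hx => ?_⟩
  rw [tr_wSL] at hx
  exact one_ne_zero (sq_add_sq_eq_zero (x := x) (y := 1) (by linear_combination hx)).2

variable (K) in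
theorem card_Cen_w : Nat.card (Cen (wSL K)) = Nat.card K + 1 := by
  have := finite K
  refine card_Cen_of_no_root fun x hx => ?_
  rw [tr_wSL] at hx
  exact one_ne_zero (sq_add_sq_eq_zero (x := x) (y := 1) (by linear_combination hx)).2

theorem SS_w : SS (wSL K) := SS_of_tr tr_wSL

theorem neg_one_mem_Cen (M : SL(2, K)) : -1 ∈ Cen M := mem_Cen.2 (by simp)

variable (K) in
/-- the torus of order `q + 1` -/
def Ao : Subgroup (ReeG K m) := tP (Cen (wSL K))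

variable (K) in
/-- the cyclic subgroup of order `(q + 1) / 2` -/
noncomputable def Do : Subgroup (ReeG K m) := (Cen (wSL K)).map psi

variable (K) in
theorem card_Ao : Nat.card (Ao K) = Nat.card K + 1 := by rw [Ao, card_tP (neg_one_mem_Cen _), card_Cen_w]

variable (K) in
theorem card_Do : Nat.card (Do K) = 2 * ((Nat.card K + 1) / 4) := by
  have := card_map_psi (neg_one_mem_Cen (wSL K))
  rw [card_Cen_w, ← Do] at this
  have := card_mod_eight K
  omega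

variable (K) in
theorem isCyclic_Do : IsCyclic (Do K) := by
  have := finite K
  have := (SS_w (K := K)).isCyclic_Cen
  exact isCyclic_of_surjective _ (psi.subgroupMap_surjective _)

theorem Do_le_Ao : Do K ≤ Ao K := by rintro _ ⟨M, hM, rfl⟩; exact psi_mem_tP hM

theorem comm_Ao {a b : ReeG K m} (ha : a ∈ Ao K) (hb : b ∈ Ao K) : a * b = b * a := comm_tP_Cen SS_w.not_sc ha hb

theorem t_mem_Ao : t K ∈ Ao K := t_mem_tP _

theorem w_mem_Ao : w K ∈ Ao K := psi_wSL (K := K) ▸ psi_mem_tP (self_mem_Cen _)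

theorem sq_mem_Do {a : ReeG K m} (ha : a ∈ Ao K) : a ^ 2 ∈ Do K := by
  obtain ⟨M, hM, e⟩ := ha
  rw [sq_of_cases e]
  exact pow_mem (show psi M ∈ Do K from ⟨M, hM, rfl⟩) 2

theorem mem_Do_of_odd {a : ReeG K m} (ha : a ∈ Ao K) (h : Odd (orderOf a)) : a ∈ Do K := by
  have := finite_G K
  exact mem_of_pow_mem_of_coprime (sq_mem_Do ha) (Nat.coprime_two_left.2 h)

theorem pow_half_Ao {a : ReeG K m} (ha : a ∈ Ao K) : a ^ (2 * ((Nat.card K + 1) / 4)) = 1 := by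
  obtain ⟨M, hM, rfl | rfl⟩ := ha
  · rw [← card_Do]; exact pow_card_of_mem ⟨M, hM, rfl⟩
  · rw [pow_mul, tpsi_sq, ← pow_mul, ← card_Do]; exact pow_card_of_mem ⟨M, hM, rfl⟩

theorem invol_Ao {e : ReeG K m} (he : e ∈ Ao K) (h2 : e * e = 1) (h1 : e ≠ 1) : e = t K ∨ e = w K ∨ e = t K * w K := by
  obtain ⟨M, hM, hc⟩ := he
  have h3 := sq_of_cases hc
  rw [sq, h2, eq_comm, psi_sq_eq_one] at h3
  rcases h3 with h3 | h3
  · rw [psi_eq_one.2 h3, mul_one] at hc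
    exact Or.inl (hc.resolve_left h1)
  · have h4 : psi M = w K := by
      rcases SS_w.eq_or_eq_inv hM (h3.trans tr_wSL.symm) with rfl | rfl
      · exact psi_wSL
      · rw [map_inv, psi_wSL, w_inv]
    rw [h4] at hc
    exact Or.inr hc

theorem t_ne_w : t K ≠ w K := fun e => psi_ne_t (wSL K) (psi_wSL.trans e.symm)

theorem Cen_Ao {a : ReeG K m} (ha : a ∈ Ao K) (h2 : a ^ 2 ≠ 1) : Cen a = Ao K := by
  have := finite_G K
  have h4 : (a ^ 2) ^ 2 ≠ 1 := fun h => h2 (sq_eq_one_of_pow_four (by rw [← h, ← pow_mul]))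
  have hle : Ao K ≤ Cen (a ^ 2) := fun b hb => mem_Cen.2 (comm_Ao hb (pow_mem ha 2))
  have key : ∀ b, b ∈ Ao K ↔ b ∈ Cen (a ^ 2) ∧ b ∈ Cen (t K) := fun b => by
    obtain ⟨M, hM, e⟩ := pow_mem ha 2
    rw [← mem_tP_Cen e h4, Ao, Cen_eq_of_mem SS_w.not_sc hM
      (fun h => h4 (by rw [sq_of_cases e, psi_sq_eq_one]; exact Or.inl h))]
  have h5 : Cen (a ^ 2) ≤ Cen (t K) := le_Cen_of_four (fun g hg h3 => by
      obtain ⟨p, hp⟩ := exists_fix_of_comm h3 (mem_Cen.1 hg).symm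
      refine h2 (eq_one_of_pow_cop ((cop_quart K).of_dvd_right (Dvd.intro _ rfl)) ?_ (pow_eq_one_of_fix hp))
      rw [← pow_mul, pow_half_Ao ha])
    (hle t_mem_Ao) (hle w_mem_Ao) t_mul_t w_mul_w t_ne_one w_ne_one t_ne_w t_mul_w.symm
    (fun e he e2 e1 x hx y hy => comm_of_invol h4 e2 e1 he hx hy)
    (fun e he e2 e1 e3 => invol_Ao ((key e).2 ⟨he, mem_Cen.2 e3⟩) e2 e1)
  refine le_antisymm (fun b hb => ?_) fun b hb => mem_Cen.2 (comm_Ao hb ha)
  have := Cen_le_Cen_pow a 2 hb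
  exact (key b).2 ⟨this, h5 this⟩

theorem exists_conj_Ao_aux {C : Subgroup (ReeG K m)} (hC : Ao K ≤ C) {n : ℕ} (hn : Nat.card C = n * Nat.card (Ao K))
    (hc : Nat.Coprime ((Nat.card K + 1) / 4) n) {y : ReeG K m} (hy : y ∈ C) (h1 : y ^ (Nat.card K + 1) = 1)
    (h2 : y ^ 2 ≠ 1) : ∃ x ∈ C, x * y * x⁻¹ ∈ Ao K := by
  have := finite_G K
  obtain ⟨k, l, hl, e1, e2, e3⟩ := exists_prime_pow (x := y ^ 4) fun h => h2 (sq_eq_one_of_pow_four h)
  obtain ⟨s, -, h3, -, -, h4, -⟩ := exists_s K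
  have e4 : orderOf (y ^ 4) ∣ (Nat.card K + 1) / 4 := by
    rw [orderOf_dvd_iff_pow_eq_one, ← pow_mul, h4, ← h1, h3]; congr 1; ring
  obtain ⟨x, hx1, hx⟩ := exists_conj_mem_of_not_dvd hC (pow_mem (pow_mem hy 4) k) hl e2 hn
    ((Nat.Prime.coprime_iff_not_dvd hl).1 (hc.of_dvd_left (e3.trans e4)))
  refine ⟨x, hx1, ?_⟩
  rw [← Cen_Ao hx (by
    rw [Ne, conj_pow_eq_one_iff']
    refine fun e => e1 (eq_one_of_pow_cop (a := l) (b := 2) (Nat.Coprime.of_dvd_left (e3.trans e4) ?_) e2 e)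
    rw [h4]; exact cop_of_int 1 (-3 * s) (by push_cast; ring)), ← pow_mul, ← conj_pow]
  exact Cen_le_Cen_pow _ _ (self_mem_Cen _)

theorem exists_conj_Ao {y : ReeG K m} (h1 : y ^ (Nat.card K + 1) = 1) (h2 : y ^ 2 ≠ 1) : ∃ x, x * y * x⁻¹ ∈ Ao K := by
  obtain ⟨x, -, hx⟩ := exists_conj_Ao_aux (C := ⊤) le_top (by rw [Subgroup.card_top, card_G, card_Ao, cube_add_one]; ring)
    (cop_quart K) (Subgroup.mem_top y) h1 h2
  exact ⟨x, hx⟩

variable (K) in
theorem exists_gen_quart : ∃ z ∈ Do K, orderOf z = (Nat.card K + 1) / 4 ∧ z ^ 2 ≠ 1 := by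
  have := finite_G K
  obtain ⟨z, hz, ho⟩ := exists_orderOf_eq_of_cyclic (isCyclic_Do K) (n := (Nat.card K + 1) / 4) (by
    rw [card_Do]; exact Dvd.intro_left _ rfl)
  obtain ⟨s, h1, -, -, -, h4, -⟩ := exists_s K
  exact ⟨z, hz, ho, pow_ne_one_of_lt_orderOf two_ne_zero (by omega)⟩

theorem exists_norm_conj {e : ReeG K m} (he : e ∈ Ao K) (h2 : e * e = 1) (h1 : e ≠ 1) :
    ∃ g ∈ Subgroup.normalizer (Ao K : Set (ReeG K m)), g * t K * g⁻¹ = e := by
  obtain ⟨x, rfl⟩ := exists_conj_t (by rw [sq, h2]) h1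
  obtain ⟨z, hz, -, hz2⟩ := exists_gen_quart K
  have hz' := Do_le_Ao hz
  have e0 : ∀ n, (x⁻¹ * z * x) ^ n = 1 ↔ z ^ n = 1 := fun n => by
    have := conj_pow_eq_one_iff' (x := z) (g := x⁻¹) (n := n)
    rwa [inv_inv] at this
  obtain ⟨y, hy, hy'⟩ := exists_conj_Ao_aux (C := Cen (t K)) (tP_le _) (n := Nat.card K * (Nat.card K - 1))
    (by rw [card_Cen_t, card_Ao]) ((cop_quart K).of_dvd_right (Dvd.dvd.mul_right (Nat.mul_dvd_mul_right
      (dvd_pow_self _ three_ne_zero) _) _)) (y := x⁻¹ * z * x) (mem_centralizer_conj_iff.1 (mem_Cen.2 (comm_Ao hz' he)))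
    (by rw [e0, ← card_Ao]; exact pow_card_of_mem hz') (by rwa [Ne, e0])
  have h3 : y * (x⁻¹ * z * x) * y⁻¹ = (y * x⁻¹) * z * (y * x⁻¹)⁻¹ := by group
  rw [h3] at hy'
  refine ⟨(y * x⁻¹)⁻¹, inv_mem (mem_norm_of_conj (Cen_Ao hz' hz2) (Cen_Ao hy' (by rwa [Ne, conj_pow_eq_one_iff']))), ?_⟩
  have := mem_Cen.1 (inv_mem hy)
  calc (y * x⁻¹)⁻¹ * t K * (y * x⁻¹)⁻¹⁻¹ = x * (y⁻¹ * t K) * y * x⁻¹ := by group
    _ = _ := by rw [this]; group

theorem norm_inf_Cen : Subgroup.normalizer (Ao K : Set (ReeG K m)) ⊓ Cen (t K) = tP (NC (wSL K)) := by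
  have := finite_G K
  have key : ∀ (a : ReeG K m) (M : SL(2, K)), (a = psi M ∨ a = t K * psi M) → ∀ N, a * psi N * a⁻¹ = psi (M * N * M⁻¹) := by
    rintro a M (rfl | rfl) N
    · simp only [map_mul, map_inv]
    · rw [← mul_inv_cancel_right (psi (M * N * M⁻¹)) (t K), ← t_mul_psi]
      simp only [map_mul, map_inv]; group
  ext g
  constructor
  · rintro ⟨h1, h2⟩
    obtain ⟨M, hM⟩ := mem_Cen_t.1 h2
    refine ⟨M, ?_, hM⟩
    obtain ⟨N, hN, e | e⟩ := (Subgroup.mem_normalizer_iff.1 h1 _).1 (psi_mem_tP (self_mem_Cen (wSL K)))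
    · rw [key g M hM, psi_eq_iff] at e
      refine mem_normalizer_Cen (Cen_eq_of_mem (SS_w (K := K)).not_sc ?_ (by rw [Sc_conj]; exact (SS_w (K := K)).not_sc))
      rcases e with e | e <;> rw [e]
      · exact hN
      · rw [← neg_one_mul]; exact mul_mem (neg_one_mem_Cen _) hN
    · rw [key g M hM] at e
      exact absurd e (psi_ne_t_mul _ _)
  · rintro ⟨M, hM, e⟩
    have h2 := mem_Cen_t.2 ⟨M, e⟩
    refine ⟨Subgroup.mem_normalizer_fintype ?_, h2⟩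
    rintro _ ⟨N, hN, rfl | rfl⟩
    · rw [key g M e]; exact psi_mem_tP (conj_mem_Cen hM hN)
    · rw [← conj_mul, key g M e, mem_Cen.1 h2, mul_inv_cancel_right]
      exact mul_mem t_mem_Ao (psi_mem_tP (conj_mem_Cen hM hN))

theorem ncard_three : ({t K, w K, t K * w K} : Set (ReeG K m)).ncard = 3 :=
  Set.ncard_eq_three.2 ⟨_, _, _, t_ne_w, by simpa using w_ne_one, by simpa using t_ne_one, rfl⟩

theorem tw_sq : t K * w K * (t K * w K) = 1 := hw_sq (-1)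

theorem tw_ne : t K * w K ≠ 1 := fun e => t_ne_w (K := K) (by rw [← t_inv, inv_eq_of_mul_eq_one_right e])

theorem invol_Ao_iff {e : ReeG K m} : (e ∈ Ao K ∧ e * e = 1 ∧ e ≠ 1) ↔ e ∈ ({t K, w K, t K * w K} : Set (ReeG K m)) := by
  refine ⟨fun h => invol_Ao h.1 h.2.1 h.2.2, ?_⟩
  rintro (rfl | rfl | rfl)
  · exact ⟨t_mem_Ao, t_mul_t, t_ne_one⟩
  · exact ⟨w_mem_Ao, w_mul_w, w_ne_one⟩
  · exact ⟨mul_mem t_mem_Ao w_mem_Ao, tw_sq, tw_ne⟩

variable (K) in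
theorem card_norm_Ao : Nat.card (Subgroup.normalizer (Ao K : Set (ReeG K m))) = 6 * (Nat.card K + 1) := by
  have := finite_G K
  have := finite K
  rw [card_eq_conj_mul _ (t K), norm_inf_Cen, card_tP (Cen_le_NC _ (neg_one_mem_Cen _)), SS_w.card_NC, card_Cen_w,
    ← mul_assoc, show 6 = 3 * 2 from rfl]
  congr 2
  refine Eq.trans ?_ (ncard_three (K := K))
  congr 1
  ext e
  rw [← invol_Ao_iff]
  constructor
  · rintro ⟨g, hg, rfl⟩
    exact ⟨(Subgroup.mem_normalizer_iff.1 hg _).1 t_mem_Ao, by rw [conj_mul, t_mul_t]; group, by simpa using t_ne_one⟩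
  · exact fun h => exists_norm_conj h.1 h.2.1 h.2.2

theorem exists_inv_Ao : ∃ s : ReeG K m, ∀ a ∈ Ao K, s * a * s⁻¹ = a⁻¹ := by
  have := finite K
  obtain ⟨n, hn⟩ := (SS_w (K := K)).exists_inv
  refine ⟨psi n, ?_⟩
  rintro _ ⟨M, hM, rfl | rfl⟩
  · rw [← map_inv, ← map_mul, ← map_mul, inv_of_inv SS_w.not_sc hn hM, map_inv]
  · rw [← conj_mul, ← t_mul_psi, mul_inv_cancel_right, ← map_inv, ← map_mul, ← map_mul, inv_of_inv SS_w.not_sc hn hM,
      _root_.mul_inv_rev, t_inv, t_mul_psi, map_inv]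

end Ree

end Cfsg.Agent.H2
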