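import Cfsg.Agent.H2.ReeTor1

/-! The Coxeter tori of the small Ree groups and counting elements. -/

set_option autoImplicit false
set_option linter.unusedSectionVars false
set_option linter.unusedSimpArgs false

namespace Cfsg.Agent.H2

open Matrix
open scoped Pointwise MatrixGroups

theorem orderOf_conj' {G : Type*} [Group G] (g x : G) : orderOf (g * x * g⁻¹) = orderOf x :=
  (orderOf_eq_of_isConj (isConj_iff.2 ⟨g, rfl⟩)).symm

theorem ncard_of_torus {G : Type*} [Group G] [Finite G] (T : Subgroup G) (Q : ℕ → Prop)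
    (h1 : ∀ a ∈ T, Q (orderOf a) → Cen a = T) (h2 : ∀ y : G, Q (orderOf y) → ∃ x, x * y * x⁻¹ ∈ T) :
    {y : G | Q (orderOf y)}.ncard * Nat.card (Subgroup.normalizer (T : Set G)) =
      Nat.card G * {a | a ∈ T ∧ Q (orderOf a)}.ncard := by
  rw [← ncard_cjSet (Subgroup.normalizer (T : Set G)) {a | a ∈ T ∧ Q (orderOf a)} (fun x a ha hx => mem_norm_of_conj (h1 a ha.1 ha.2) (h1 _ hx.1 hx.2))
    (fun x hx a ha => ⟨(Subgroup.mem_normalizer_iff.1 hx a).1 ha.1, by rw [orderOf_conj']; exact ha.2⟩)]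
  congr 2
  ext y
  exact ⟨fun h => (h2 y h).imp fun x hx => ⟨hx, by rwa [orderOf_conj']⟩, fun ⟨x, hx⟩ => by
    have := hx.2; rwa [orderOf_conj'] at this⟩

theorem ncard_or {G : Type*} [Finite G] {P Q : G → Prop} (h : ∀ g, P g → ¬ Q g) :
    {g | P g ∨ Q g}.ncard = {g | P g}.ncard + {g | Q g}.ncard := by
  rw [← Set.ncard_union_eq (s := {g | P g}) (t := {g | Q g}) (Set.disjoint_left.2 h)]; rfl

theorem conjS_facts {G : Type*} [Group G] {T : Subgroup G} {g x : G} (hx : g * x * g⁻¹ ∈ T) (P : ℕ → Prop)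
    (h : ∀ a ∈ T, P (orderOf a) → Cen a = T) :
    x ∈ conjS g⁻¹ T ∧ ∀ a ∈ conjS g⁻¹ T, P (orderOf a) → Cen a = conjS g⁻¹ T := by
  refine ⟨mem_conjS.2 (by rwa [inv_inv]), fun a ha h1 => ?_⟩
  rw [mem_conjS, inv_inv] at ha
  rw [← h _ ha (by rwa [orderOf_conj']), ← Cen_conj]
  congr 1; group

theorem isCyclic_conjS {G : Type*} [Group G] (g : G) {T : Subgroup G} (h : IsCyclic T) : IsCyclic (conjS g T) :=
  isCyclic_of_surjective _ ((MulAut.conj g).toMonoidHom.subgroupMap_surjective T)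

namespace Ree

variable {K : Type*} [Field K] {m : ℕ} [hK : ReeF K m]
include hK

theorem card_Cen_invol {e : ReeG K m} (h2 : e ^ 2 = 1) (h1 : e ≠ 1) :
    Nat.card (Cen e) = Nat.card K * (Nat.card K - 1) * (Nat.card K + 1) := by
  obtain ⟨x, rfl⟩ := exists_conj_t h2 h1
  rw [Cen_conj, card_conjS, card_Cen_t]

theorem card_Cen_H {y : ReeG K m} (h1 : y ^ (Nat.card K - 1) = 1) (h2 : y ^ 2 ≠ 1) :
    Nat.card (Cen y) = Nat.card K - 1 := by
  obtain ⟨x, hx⟩ := exists_conj_Ho h1 h2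
  rw [← card_conjS x, ← Cen_conj, Cen_Ho hx (by rwa [Ne, conj_pow_eq_one_iff']), card_Ho]

theorem card_Cen_A {y : ReeG K m} (h1 : y ^ (Nat.card K + 1) = 1) (h2 : y ^ 2 ≠ 1) :
    Nat.card (Cen y) = Nat.card K + 1 := by
  obtain ⟨x, hx⟩ := exists_conj_Ao h1 h2
  rw [← card_conjS x, ← Cen_conj, Cen_Ao hx (by rwa [Ne, conj_pow_eq_one_iff']), card_Ao]

theorem eq_three_of_dvd {l : ℕ} (hl : l.Prime) (h : l ∣ Nat.card K ^ 3) : l = 3 := by
  have := hl.dvd_of_dvd_pow h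
  rw [hK.card] at this
  exact (Nat.prime_dvd_prime_iff_eq hl Nat.prime_three).1 (hl.dvd_of_dvd_pow this)

theorem pow_eq_one_of_comm {x y : ReeG K m} {l : ℕ} (hl : l.Prime) (hy : orderOf y = l)
    (hd : l ∣ Nat.card K ^ 3 * (Nat.card K - 1) * (Nat.card K + 1)) (hx : x ∈ Cen y) :
    x ^ (Nat.card K ^ 3 * (Nat.card K - 1) * (Nat.card K + 1)) = 1 := by
  have h0 := orderOf_dvd_iff_pow_eq_one.2 (pow_card_of_mem hx)
  have h1 : y ≠ 1 := fun e => hl.one_lt.ne (by rw [← hy, e, orderOf_one])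
  by_cases h2 : y ^ 2 = 1
  · rw [card_Cen_invol h2 h1] at h0
    exact orderOf_dvd_iff_pow_eq_one.1 (h0.trans (Nat.mul_dvd_mul_right (Nat.mul_dvd_mul_right
      (dvd_pow_self _ three_ne_zero) _) _))
  rcases (Nat.Prime.dvd_mul hl).1 hd with hd | hd
  · rcases (Nat.Prime.dvd_mul hl).1 hd with hd | hd
    · obtain ⟨p, hp⟩ := exists_fix_of_comm (by rw [hy, eq_three_of_dvd hl hd]) (mem_Cen.1 hx)
      rw [pow_mul, pow_eq_one_of_fix hp, one_pow]
    · rw [card_Cen_H (orderOf_dvd_iff_pow_eq_one.1 (hy ▸ hd)) h2] at h0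
      exact orderOf_dvd_iff_pow_eq_one.1 (h0.trans (Dvd.dvd.mul_right (Dvd.intro_left _ rfl) _))
  · rw [card_Cen_A (orderOf_dvd_iff_pow_eq_one.1 (hy ▸ hd)) h2] at h0
    exact orderOf_dvd_iff_pow_eq_one.1 (h0.trans (Dvd.intro_left _ rfl))

variable (K) in
theorem card_G' : Nat.card (ReeG K m) =
    Nat.card K ^ 3 * (Nat.card K - 1) * (Nat.card K + 1) * (Nat.card K ^ 2 - Nat.card K + 1) := by
  rw [card_G, cube_add_one, ← mul_assoc]

/-- the elements of the Coxeter tori -/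
def Cox (x : ReeG K m) : Prop := x ≠ 1 ∧ x ^ (Nat.card K ^ 2 - Nat.card K + 1) = 1

theorem Cox.card_Cen_dvd {x : ReeG K m} (hx : Cox x) : Nat.card (Cen x) ∣ Nat.card K ^ 2 - Nat.card K + 1 := by
  have := finite_G K
  refine Nat.Coprime.dvd_of_dvd_mul_left ?_ (card_G' K ▸ Subgroup.card_subgroup_dvd_card (Cen x))
  by_contra hc
  obtain ⟨l, hl, h1, h2⟩ := Nat.Prime.not_coprime_iff_dvd.1 hc
  have := Fact.mk hl
  obtain ⟨y, hy⟩ := exists_prime_orderOf_dvd_card' l h1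
  exact hx.1 (eq_one_of_pow_cop (cop_N K) hx.2 (pow_eq_one_of_comm hl ((Subgroup.orderOf_coe y).trans hy) h2
    (mem_Cen.2 (mem_Cen.1 y.2).symm)))

theorem Cox.of_mem_Cen {x y : ReeG K m} (hx : Cox x) (hy : y ∈ Cen x) (h1 : y ≠ 1) : Cox y :=
  ⟨h1, orderOf_dvd_iff_pow_eq_one.1 (((Cen x).orderOf_dvd_natCard hy).trans hx.card_Cen_dvd)⟩

theorem Cox.conj {x : ReeG K m} (hx : Cox x) (g : ReeG K m) : Cox (g * x * g⁻¹) :=
  ⟨by simpa using hx.1, conj_pow_eq_one_iff'.2 hx.2⟩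

theorem Cox.of_conj {x : ReeG K m} (g : ReeG K m) (hx : Cox (g * x * g⁻¹)) : Cox x :=
  ⟨by simpa using hx.1, conj_pow_eq_one_iff'.1 hx.2⟩

variable (K) in
theorem cop_N_six : Nat.Coprime (Nat.card K ^ 2 - Nat.card K + 1) 6 := by
  obtain ⟨s, -, -, -, -, -, h⟩ := exists_s K
  rw [h]; exact cop_of_int 1 (-(96 * s ^ 2 + 20 * s + 1)) (by push_cast; ring)

theorem prime_facts {x : ReeG K m} {l : ℕ} (hl : l.Prime) (hx : orderOf x = l)
    (hd : l ∣ Nat.card K ^ 2 - Nat.card K + 1) :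
    IsCyclic (Cen x) ∧ Nat.card {y : Cen x // IsConj x (y : ReeG K m)} ≤ 6 := by
  have := finite K
  have := finite_G K
  have := charP K
  have hx1 : x ≠ 1 := fun h => hl.one_lt.ne (by rw [← hx, h, orderOf_one])
  have hcox : Cox x := ⟨hx1, orderOf_dvd_iff_pow_eq_one.1 (hx ▸ hd)⟩
  have hl6 : ¬ l ∣ 6 := (Nat.Prime.coprime_iff_not_dvd hl).1 ((cop_N_six K).of_dvd_left hd)
  have hlF : (l : K) ≠ 0 := fun h => hl6 (by
    have := (Nat.prime_dvd_prime_iff_eq Nat.prime_three hl).1 ((CharP.cast_eq_zero_iff K 3 l).1 h)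
    rw [← this]; norm_num)
  have hX : rho x ^ l = 1 := by rw [← map_pow, ← hx, pow_orderOf_eq_one, map_one]
  have hX1 : rho x ≠ 1 := fun h => hx1 (rho_inj (h.trans (map_one _).symm))
  have hK1 : ∀ (c : K) (n : ℕ), n ∣ Nat.card K ^ 2 - Nat.card K + 1 → c ^ n = 1 → c = 1 := fun c n hn hc => by
    have h0 : c ≠ 0 := by
      rintro rfl
      rw [zero_pow (by rintro rfl; simp at hn)] at hc
      exact zero_ne_one hc
    have := eq_one_of_pow_cop (x := Units.mk0 c h0) (a := n) (b := Nat.card K - 1)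
      (((cop_N K).of_dvd_left hn).of_dvd_right (Dvd.dvd.mul_right (Dvd.intro_left _ rfl) _)) (Units.ext (by simpa using hc))
      (Units.ext (by simpa using pow_card_sub_one h0))
    exact congrArg Units.val this
  obtain ⟨g, hg, hg1, hg2⟩ := exists_irred_factor hl hlF hX hX1
  obtain ⟨r, hr⟩ := hg1.trans (Matrix.minpoly_dvd_charpoly (rho x))
  have hc0 := (rho x).charpoly_monic.ne_zero
  have hr0 : r ≠ 0 := by rintro rfl; exact hc0 (by simpa using hr)
  have hdeg := (rho x).charpoly_natDegree_eq_dim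
  rw [hr, Polynomial.natDegree_mul hg.ne_zero hr0, Fintype.card_fin] at hdeg
  have hpos := hg.natDegree_pos
  have h6 : g.natDegree = 6 := by
    have := Fact.mk hl
    have hq : 1 ≤ Nat.card K := Nat.card_pos
    have e1 : ((Nat.card K : ZMod l)) ^ 2 - Nat.card K + 1 = 0 := by
      have := (ZMod.natCast_eq_zero_iff _ _).2 hd
      rw [Nat.cast_add, Nat.cast_sub (Nat.le_self_pow two_ne_zero _)] at this
      exact_mod_cast this
    have e2 : ((Nat.card K : ZMod l)) ^ g.natDegree = 1 := by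
      have := (ZMod.natCast_eq_zero_iff _ _).2 hg2
      rw [Nat.cast_sub (Nat.one_le_pow _ _ hq), sub_eq_zero] at this
      exact_mod_cast this
    have e3 : (6 : ZMod l) ≠ 0 := fun h => hl6 ((ZMod.natCast_eq_zero_iff _ _).1 (by exact_mod_cast h))
    generalize (Nat.card K : ZMod l) = r at e1 e2
    by_contra hne
    have : g.natDegree = 1 ∨ g.natDegree = 2 ∨ g.natDegree = 3 ∨ g.natDegree = 4 ∨ g.natDegree = 5 ∨
      g.natDegree = 7 := by omega
    apply e3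
    rcases this with h | h | h | h | h | h <;> rw [h] at e2 <;> grind
  have hr1 : r.degree = 1 := by rw [Polynomial.degree_eq_natDegree hr0, show r.natDegree = 1 by omega]; rfl
  obtain ⟨c, hc⟩ := Polynomial.exists_root_of_degree_eq_one hr1
  obtain ⟨v, hv0, hv⟩ := Matrix.exists_mulVec_eq_zero_iff.2 (show (Matrix.scalar (Fin 7) c - rho x).det = 0 by
    rw [← Matrix.eval_charpoly, hr, Polynomial.eval_mul, hc.eq_zero, mul_zero])
  have hv' : rho x *ᵥ v = c • v := by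
    rw [sub_mulVec, sub_eq_zero] at hv
    rw [← hv]; ext i; simp [mulVec_diagonal]
  have hc1 : c = 1 := by
    refine hK1 c l hd ?_
    have h1 : ∀ k : ℕ, rho x ^ k *ᵥ v = c ^ k • v := fun k => by
      induction k with
      | zero => simp
      | succ k ih => rw [pow_succ, ← mulVec_mulVec, hv', mulVec_smul, ih, smul_smul, pow_succ']
    have h2 := h1 l
    rw [hX, one_mulVec] at h2
    have : (c ^ l - 1) • v = 0 := by rw [sub_smul, ← h2, one_smul, sub_self]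
    exact sub_eq_zero.1 ((smul_eq_zero.1 this).resolve_right hv0)
  subst hc1
  rw [one_smul] at hv'
  have hg1' : g.eval 1 ≠ 0 := fun h => by
    have := Polynomial.degree_eq_one_of_irreducible_of_root hg h
    rw [Polynomial.degree_eq_natDegree hg.ne_zero, h6] at this
    exact absurd this (by decide)
  have hz : Polynomial.aeval (rho x) (g * (Polynomial.X - 1)) = 0 := by
    obtain ⟨r', rfl⟩ := Polynomial.dvd_iff_isRoot.2 hc
    have h1 : r' ≠ 0 := by rintro rfl; simp at hr0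
    have h2 : r'.natDegree = 0 := by
      rw [Polynomial.natDegree_mul (Polynomial.X_sub_C_ne_zero 1) h1, Polynomial.natDegree_X_sub_C] at hdeg; omega
    have h3 := Matrix.aeval_self_charpoly (rho x)
    rw [Polynomial.eq_C_of_natDegree_eq_zero h2] at hr h1
    rw [hr, ← mul_assoc, map_mul, Polynomial.aeval_C, Algebra.algebraMap_eq_smul_one, mul_smul_comm, mul_one,
      smul_eq_zero] at h3
    exact h3.resolve_left fun h => h1 (by rw [h, map_zero])
  obtain ⟨h1, h2⟩ := commutant_facts' hg h6 hg1' hz hX1 hv0 hv' (rho.comp (Cen x).subtype)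
    (rho_inj.comp Subtype.val_injective) (fun g => by
      change rho _ * rho x = rho x * rho _
      rw [← map_mul, ← map_mul]; exact congrArg rho (mem_Cen.1 g.2)) (fun c => hK1 c _ hcox.card_Cen_dvd)
  refine ⟨h1, le_trans (Nat.card_le_card_of_injective (fun y => (⟨y.1, ?_, ?_⟩ : {y : Cen x // y ≠ 1 ∧
    Polynomial.aeval (rho.comp (Cen x).subtype y) (g * (Polynomial.X - 1)) = 0})) (fun a b h => ?_)) h2⟩
  · rintro h
    have := y.2
    rw [h] at this
    exact hx1 (isConj_one_left.1 this)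
  · obtain ⟨c, hc⟩ := isConj_iff.1 y.2
    change Polynomial.aeval (rho (y.1 : ReeG K m)) _ = 0
    have e : rho (y.1 : ReeG K m) * rho c = rho c * rho x := by
      rw [← map_mul, ← map_mul, ← hc, inv_mul_cancel_right]
    have e2 := aeval_semiconj e (g * (Polynomial.X - 1))
    rw [hz, mul_zero] at e2
    have e3 := congrArg (· * rho c⁻¹) e2
    simp only [mul_assoc, ← map_mul rho, mul_inv_cancel, map_one, mul_one, zero_mul] at e3
    exact e3
  · have := congrArg Subtype.val h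
    exact Subtype.ext this

theorem Cox.exists_prime {x : ReeG K m} (hx : Cox x) :
    ∃ k l, l.Prime ∧ orderOf (x ^ k) = l ∧ l ∣ Nat.card K ^ 2 - Nat.card K + 1 := by
  have := finite_G K
  obtain ⟨l, hl, hd⟩ := Nat.exists_prime_and_dvd (n := orderOf x) (by simpa using hx.1)
  obtain ⟨k, hk⟩ := exists_pow_orderOf_eq_prime hd
  exact ⟨k, l, hl, hk, hd.trans (orderOf_dvd_of_pow_eq_one hx.2)⟩

theorem Cox.isCyclic_Cen {x : ReeG K m} (hx : Cox x) : IsCyclic (Cen x) := by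
  obtain ⟨k, l, hl, hk, hd⟩ := hx.exists_prime
  have := (prime_facts hl hk hd).1
  exact Subgroup.isCyclic_of_le (Cen_le_Cen_pow x k)

theorem Cox.comm {x y z : ReeG K m} (hx : Cox x) (hy : y ∈ Cen x) (hz : z ∈ Cen x) : y * z = z * y := by
  have := hx.isCyclic_Cen
  exact congrArg Subtype.val (IsCyclic.commGroup.mul_comm (⟨y, hy⟩ : Cen x) ⟨z, hz⟩)

theorem Cox.Cen_eq {x y : ReeG K m} (hx : Cox x) (hy : y ∈ Cen x) (h1 : y ≠ 1) : Cen y = Cen x := by
  apply le_antisymm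
  · intro z hz
    exact mem_Cen.2 ((hx.of_mem_Cen hy h1).comm hz (mem_Cen.2 (mem_Cen.1 hy).symm))
  · intro z hz
    exact mem_Cen.2 (hx.comm hz hy)

theorem Cox.ti {x : ReeG K m} (hx : Cox x) (t : ReeG K m) (a : ReeG K m) (ha : a ∈ Cen x) (h1 : a ≠ 1)
    (ht : t * a * t⁻¹ ∈ Cen x) : t ∈ Subgroup.normalizer (Cen x : Set (ReeG K m)) :=
  mem_norm_of_conj (hx.Cen_eq ha h1) (hx.Cen_eq ht (by simpa using h1))

theorem Cox.card_normalizer_le {x : ReeG K m} (hx : Cox x) :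
    Nat.card (Subgroup.normalizer (Cen x : Set (ReeG K m))) ≤ 6 * Nat.card (Cen x) := by
  have := finite_G K
  obtain ⟨k, l, hl, hk, hd⟩ := hx.exists_prime
  have h1 : x ^ k ≠ 1 := by intro h; rw [h, orderOf_one] at hk; exact hl.one_lt.ne hk
  rw [← hx.Cen_eq (Subgroup.pow_mem _ (self_mem_Cen x) k) h1]
  have h2 := (prime_facts hl hk hd).2
  set y := x ^ k
  rw [card_eq_conj_mul _ y, inf_eq_right.2 Subgroup.le_normalizer]
  have k1 : ∀ z : {e | ∃ g ∈ Subgroup.normalizer (Cen y : Set (ReeG K m)), g * y * g⁻¹ = e},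
      z.1 ∈ Cen y ∧ IsConj y z.1 := fun z => by
    obtain ⟨g, hg, e⟩ := z.2
    exact ⟨e ▸ (Subgroup.mem_normalizer_iff.1 hg y).1 (self_mem_Cen y), isConj_iff.2 ⟨g, e⟩⟩
  exact Nat.mul_le_mul_right _ (le_trans (Nat.card_le_card_of_injective
    (fun z => (⟨⟨z.1, (k1 z).1⟩, (k1 z).2⟩ : {z : Cen y // IsConj y (z : ReeG K m)}))
    fun a b h => Subtype.ext (congrArg (fun z => z.1.1) h)) h2)

/-! ### Counting elements -/

theorem order_cases (g : ReeG K m) : orderOf g ∣ 9 ∨ orderOf g ∣ 6 ∨ orderOf g ∣ Nat.card K - 1 ∨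
    orderOf g ∣ Nat.card K + 1 ∨ orderOf g ∣ Nat.card K ^ 2 - Nat.card K + 1 := by
  have := finite_G K
  simp only [orderOf_dvd_iff_pow_eq_one]
  by_cases h2 : g ^ 2 = 1
  · exact Or.inr (Or.inl (by rw [show 6 = 2 * 3 from rfl, pow_mul, h2, one_pow]))
  obtain ⟨k, l, hl, e1, e2, e3⟩ := exists_prime_pow h2
  have e4 : ((g ^ 2) ^ k) ^ 2 ≠ 1 := fun e => e1 (by
    rw [← pow_mul, mul_comm, pow_mul]
    exact sq_eq_one_of_pow_four (by rw [← e, ← pow_mul, ← pow_mul, ← pow_mul]; congr 1; ring))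
  have e5 : g ∈ Cen ((g ^ 2) ^ k) := Cen_le_Cen_pow _ _ (Cen_le_Cen_pow _ _ (self_mem_Cen g))
  have e6 := pow_card_of_mem e5
  have e7 := e3.trans (orderOf_dvd_natCard _)
  have e8 : ∀ n, l ∣ n → ((g ^ 2) ^ k) ^ n = 1 := by rintro _ ⟨n, rfl⟩; rw [pow_mul, e2, one_pow]
  rw [card_G'] at e7
  simp only [Nat.Prime.dvd_mul hl] at e7
  rcases e7 with ((e7 | e7) | e7) | e7
  · obtain ⟨p, hp⟩ := exists_fix_of_comm (y := g ^ 2) (g := g) (eq_three_of_dvd hl e7 ▸ e3) (Commute.self_pow g 2)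
    obtain ⟨x, -, ⟨a, b, c, rfl⟩ | ⟨b, rfl⟩ | ⟨k, -, -, rfl⟩⟩ := fix_cases hp
    · exact Or.inl (by rw [conj_pow_eq_one_iff', u_pow_nine])
    · refine Or.inr (Or.inl ?_)
      have c : Commute (u 0 b 0) (t K) := by have := t_mul_u 0 b 0; rw [neg_zero] at this; exact this.symm
      rw [conj_pow_eq_one_iff', c.mul_pow, show 6 = 3 * 2 from rfl, pow_mul, u_cube_eq_one.2 rfl, one_pow, one_mul,
        mul_comm, pow_mul, sq, t_mul_t, one_pow]
    · refine Or.inr (Or.inr (Or.inl ?_))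
      rw [conj_pow_eq_one_iff', ← card_Ho]; exact pow_card_of_mem (h_mem_Ho k)
  · exact Or.inr (Or.inr (Or.inl (by rwa [card_Cen_H (e8 _ e7) e4] at e6)))
  · exact Or.inr (Or.inr (Or.inr (Or.inl (by rwa [card_Cen_A (e8 _ e7) e4] at e6))))
  · exact Or.inr (Or.inr (Or.inr (Or.inr (orderOf_dvd_iff_pow_eq_one.1 (((Cen _).orderOf_dvd_natCard e5).trans
      (Cox.card_Cen_dvd ⟨e1, e8 _ e7⟩))))))

theorem ncard_of_fix (n : ℕ) (hn : 3 ∣ n) :
    {y : ReeG K m | orderOf y = n}.ncard = {a | a ∈ Bo K ∧ orderOf a = n}.ncard * (Nat.card K ^ 3 + 1) := by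
  have := finite_G K
  have h1 := ncard_cjSet (Bo K) {a | a ∈ Bo K ∧ orderOf a = n} (fun x a ha hx => ?_)
    (fun x hx a ha => ⟨mul_mem (mul_mem hx ha.1) (inv_mem hx), by rw [orderOf_conj']; exact ha.2⟩)
  · rw [← (Bo K).card_mul_index, index_Bo, mul_comm, mul_assoc] at h1
    rw [mul_comm, ← Nat.eq_of_mul_eq_mul_left Nat.card_pos h1]
    congr 1
    ext y
    constructor
    · intro h
      obtain ⟨p, hp⟩ := exists_fix_of_comm (g := y) (y := y) (by rw [h]; exact hn) rfl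
      obtain ⟨x, rfl⟩ := exists_smul_inf p
      exact ⟨x⁻¹, fix_inf_iff.1 (by rw [inv_inv, mul_smul, mul_smul, hp, inv_smul_smul]), by rw [orderOf_conj']; exact h⟩
    · rintro ⟨x, -, hx⟩
      rwa [orderOf_conj'] at hx
  · obtain ⟨k, hk⟩ := exists_pow_orderOf_eq_prime (x := a) (l := 3) (by rw [ha.2]; exact hn)
    have h2 : a ^ k ∈ Qp (inf K) := mem_Qp_of_pow (n := 1) (fix_inf_iff.2 (pow_mem ha.1 k))
      (orderOf_dvd_iff_pow_eq_one.1 (by rw [hk]; rfl))
    have h3 := fix_inf_iff.2 (pow_mem hx.1 k)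
    rw [conj_pow, mul_smul, mul_smul, ← eq_inv_smul_iff] at h3
    have h4 := eq_of_mem_Qp_fix h2 (fun e => by rw [e, orderOf_one] at hk; omega) h3
    exact fix_inf_iff.1 (inv_smul_eq_iff.1 h4).symm

variable (K) in
theorem ncard_two : {y : ReeG K m | orderOf y = 2}.ncard = Nat.card K ^ 2 * (Nat.card K ^ 2 - Nat.card K + 1) := by
  have := finite_G K
  have h1 := ncard_cjSet (Cen (t K)) {t K} (fun x a ha hx => by
    rw [Set.mem_singleton_iff] at ha hx
    subst ha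
    exact mem_Cen.2 (mul_inv_eq_iff_eq_mul.1 hx)) (fun x hx a ha => by
      rw [Set.mem_singleton_iff] at ha ⊢
      rw [ha, mem_Cen.1 hx, mul_inv_cancel_right])
  have h2 : cjSet {t K} = {y : ReeG K m | orderOf y = 2} := by
    ext y
    constructor
    · rintro ⟨x, hx⟩
      rw [Set.mem_ofPred_eq, ← orderOf_conj' x, Set.mem_singleton_iff.1 hx, orderOf_t]
    · intro h
      obtain ⟨x, rfl⟩ := exists_conj_t (s := y) (orderOf_dvd_iff_pow_eq_one.1 (by rw [h])) (fun e => by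
        rw [e, Set.mem_ofPred_eq, orderOf_one] at h; omega)
      exact ⟨x⁻¹, by simp [mul_assoc]⟩
  rw [h2, card_Cen_t, Set.ncard_singleton, card_G'] at h1
  have := le_card K
  refine Nat.eq_of_mul_eq_mul_right (Nat.mul_pos (Nat.mul_pos (by omega) (show 0 < Nat.card K - 1 by omega))
    (Nat.add_one_pos _)) (h1.trans ?_)
  ring

theorem ncard_image_u {S : Set (K × K × K)} {f : ReeG K m} :
    ((fun s : K × K × K => u s.1 s.2.1 s.2.2 * f) '' S).ncard = S.ncard :=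
  Set.ncard_image_of_injective _ fun x y h => by
    have h' : u x.1 x.2.1 x.2.2 * f = u y.1 y.2.1 y.2.2 * f := h
    obtain ⟨h1, h2, h3⟩ := u_inj (mul_right_cancel h')
    exact Prod.ext h1 (Prod.ext h2 h3)

theorem ncard_graph (φ : K → K) : {s : K × K × K | s.2.1 = φ s.1}.ncard = Nat.card K ^ 2 := by
  rw [sq, ← Nat.card_prod, ← Set.ncard_univ, ← Set.ncard_image_of_injective Set.univ
    (f := fun s : K × K => (s.1, φ s.1, s.2)) fun ⟨a, b⟩ ⟨c, d⟩ h => by simp_all]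
  congr 1
  ext ⟨a, b, c⟩
  simp [eq_comm]

theorem ncard_zero : {s : K × K × K | s.1 = 0}.ncard = Nat.card K ^ 2 := by
  rw [sq, ← Nat.card_prod, ← Set.ncard_univ, ← Set.ncard_image_of_injective Set.univ
    (f := fun s : K × K => ((0 : K), s)) fun a b h => by simp_all]
  congr 1
  ext ⟨a, b, c⟩
  simp [eq_comm]

theorem ncard_compl3 {S : Set (K × K × K)} (h : S.ncard = Nat.card K ^ 2) :
    Sᶜ.ncard = Nat.card K ^ 2 * (Nat.card K - 1) := by
  have := finite K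
  have h1 := Set.ncard_add_ncard_compl S
  rw [h, Nat.card_prod, Nat.card_prod] at h1
  rw [Nat.mul_sub, mul_one, sq, mul_assoc, ← h1, sq]; omega

theorem orderOf_u_three {a b c : K} : orderOf (u a b c) = 3 ↔ a = 0 ∧ ¬ (b = 0 ∧ c = 0) := by
  have : Fact (Nat.Prime 3) := ⟨Nat.prime_three⟩
  rw [orderOf_eq_prime_iff, u_cube_eq_one, Ne, u_eq_one]; tauto

theorem orderOf_u_nine {a b c : K} : orderOf (u a b c) = 9 ↔ a ≠ 0 := by
  have : Fact (Nat.Prime 3) := ⟨Nat.prime_three⟩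
  refine ⟨fun h e => ?_, fun h => orderOf_eq_prime_pow (p := 3) (n := 1) (fun e => h (u_cube_eq_one.1 e)) (u_pow_nine a b c)⟩
  have := orderOf_dvd_of_pow_eq_one (u_cube_eq_one (b := b) (c := c) |>.2 e)
  rw [h] at this; omega

theorem ut_sq (a b c : K) : (u a b c * t K) ^ 2 = u 0 (a * sg a - b) (a * b - a ^ 2 * sg a) := by
  have h3 := three_eq_zero K
  rw [sq, mul_assoc, ← mul_assoc (t K), t_u_t, u_mul, map_neg]
  apply u_congr <;> grind

theorem ut_sq_eq_one {a b c : K} : (u a b c * t K) ^ 2 = 1 ↔ b = a * sg a := by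
  rw [ut_sq, u_eq_one]
  exact ⟨fun h => by linear_combination -h.2.1, by rintro rfl; exact ⟨rfl, by ring, by ring⟩⟩

theorem orderOf_ut_six {a b c : K} : orderOf (u a b c * t K) = 6 ↔ b ≠ a * sg a := by
  rw [Ne, ← ut_sq_eq_one (c := c)]
  refine ⟨fun h e => ?_, fun h => ?_⟩
  · have := orderOf_dvd_of_pow_eq_one e
    rw [h] at this; omega
  · have h6 : orderOf (u a b c * t K) ∣ 6 := by
      rw [orderOf_dvd_iff_pow_eq_one, show 6 = 2 * 3 from rfl, pow_mul, ut_sq, u_cube_eq_one]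
    have h3 : ¬ orderOf (u a b c * t K) ∣ 3 := fun e => by
      have := pow_eq_one_of_uh (orderOf_dvd_iff_pow_eq_one.1 e)
      exact units_neg_one_ne (K := K) (by rwa [Odd.neg_one_pow (by decide)] at this)
    rw [← orderOf_dvd_iff_pow_eq_one] at h
    have := Nat.le_of_dvd (by norm_num) h6
    generalize orderOf (u a b c * t K) = n at *
    interval_cases n <;> simp_all

variable (K) in
theorem ncard_three' : {y : ReeG K m | orderOf y = 3}.ncard = (Nat.card K ^ 2 - 1) * (Nat.card K ^ 3 + 1) := by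
  have := finite K
  rw [ncard_of_fix 3 dvd_rfl, ← ncard_zero, 
    ← Set.ncard_sdiff_singleton_of_mem (s := {s : K × K × K | s.1 = 0}) (a := (0, 0, 0)) rfl,
    ← ncard_image_u (f := 1)]
  congr 2
  ext y
  constructor
  · rintro ⟨h1, h2⟩
    obtain ⟨a, b, c, rfl⟩ := eq_u_of_fix_inf (n := 1) (fix_inf_iff.2 h1) (orderOf_dvd_iff_pow_eq_one.1 (by rw [h2]; rfl))
    exact ⟨(a, b, c), by simpa [orderOf_u_three.1 h2] using orderOf_u_three.1 h2, mul_one _⟩
  · rintro ⟨⟨a, b, c⟩, h, rfl⟩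
    simp only [mul_one]
    refine ⟨u_mem_Bo _ _ _, orderOf_u_three.2 ⟨h.1, fun e => h.2 ?_⟩⟩
    rw [show a = 0 from h.1, show b = 0 from e.1, show c = 0 from e.2]; rfl

variable (K) in
theorem ncard_nine : {y : ReeG K m | orderOf y = 9}.ncard = Nat.card K ^ 2 * (Nat.card K - 1) * (Nat.card K ^ 3 + 1) := by
  rw [ncard_of_fix 9 (by norm_num), ← ncard_compl3 ncard_zero, ← ncard_image_u (f := 1)]
  congr 2
  ext y
  constructor
  · rintro ⟨h1, h2⟩
    obtain ⟨a, b, c, rfl⟩ := eq_u_of_fix_inf (n := 2) (fix_inf_iff.2 h1) (orderOf_dvd_iff_pow_eq_one.1 (by rw [h2]; rfl))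
    exact ⟨(a, b, c), orderOf_u_nine.1 h2, mul_one _⟩
  · rintro ⟨⟨a, b, c⟩, h, rfl⟩
    simp only [mul_one]
    exact ⟨u_mem_Bo _ _ _, orderOf_u_nine.2 h⟩

theorem eq_ut_of_six {y : ReeG K m} (h1 : y ∈ Bo K) (h2 : orderOf y = 6) : ∃ a b c, y = u a b c * t K := by
  obtain ⟨a, b, c, k, rfl⟩ := h1
  have h3 := pow_eq_one_of_uh (h2 ▸ pow_orderOf_eq_one _ : (u a b c * h k) ^ 6 = 1)
  have h4 : k ^ 2 = 1 := units_eq_one_of_pow_three_pow (n := 1) (by rw [← pow_mul]; exact h3)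
  have h5 : ¬ (h k : ReeG K m) ^ 2 ≠ 1 := by rw [← map_pow, h4, map_one]; simp
  rw [h_sq_ne, not_and_or, not_not, not_not] at h5
  rcases h5 with rfl | rfl
  · have := orderOf_dvd_of_pow_eq_one (u_pow_nine a b c)
    rw [map_one, mul_one] at h2
    rw [h2] at this; omega
  · exact ⟨a, b, c, rfl⟩

variable (K) in
theorem ncard_six : {y : ReeG K m | orderOf y = 6}.ncard = Nat.card K ^ 2 * (Nat.card K - 1) * (Nat.card K ^ 3 + 1) := by
  rw [ncard_of_fix 6 (by norm_num), ← ncard_compl3 (ncard_graph fun a => a * sg a), ← ncard_image_u (f := t K)]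
  congr 2
  ext y
  constructor
  · rintro ⟨h1, h2⟩
    obtain ⟨a, b, c, rfl⟩ := eq_ut_of_six h1 h2
    exact ⟨(a, b, c), orderOf_ut_six.1 h2, rfl⟩
  · rintro ⟨⟨a, b, c⟩, h, rfl⟩
    exact ⟨⟨a, b, c, -1, rfl⟩, orderOf_ut_six.2 h⟩

theorem ncard_H (Q : ℕ → Prop) (hQ : ∀ n, Q n → n ∣ Nat.card K - 1 ∧ ¬ n ∣ 2) :
    2 * {y : ReeG K m | Q (orderOf y)}.ncard =
      {a | a ∈ Ho K ∧ Q (orderOf a)}.ncard * Nat.card K ^ 3 * (Nat.card K ^ 3 + 1) := by
  have := finite_G K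
  have h1 := ncard_of_torus (Ho K) Q (fun a ha h => Cen_Ho ha (mt orderOf_dvd_of_pow_eq_one (hQ _ h).2))
    (fun y h => exists_conj_Ho (orderOf_dvd_iff_pow_eq_one.1 (hQ _ h).1) (mt orderOf_dvd_of_pow_eq_one (hQ _ h).2))
  rw [card_norm_Ho, card_G] at h1
  have := le_card K
  refine Nat.eq_of_mul_eq_mul_right (show 0 < Nat.card K - 1 by omega) ?_
  linear_combination h1

theorem ncard_A (Q : ℕ → Prop) (hQ : ∀ n, Q n → n ∣ Nat.card K + 1 ∧ ¬ n ∣ 2) :
    6 * {y : ReeG K m | Q (orderOf y)}.ncard = {a | a ∈ Ao K ∧ Q (orderOf a)}.ncard * Nat.card K ^ 3 *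
      (Nat.card K - 1) * (Nat.card K ^ 2 - Nat.card K + 1) := by
  have := finite_G K
  have h1 := ncard_of_torus (Ao K) Q (fun a ha h => Cen_Ao ha (mt orderOf_dvd_of_pow_eq_one (hQ _ h).2))
    (fun y h => exists_conj_Ao (orderOf_dvd_iff_pow_eq_one.1 (hQ _ h).1) (mt orderOf_dvd_of_pow_eq_one (hQ _ h).2))
  rw [card_norm_Ao, card_G'] at h1
  refine Nat.eq_of_mul_eq_mul_right (Nat.add_one_pos (Nat.card K)) ?_
  linear_combination h1

omit hK in
theorem ncard_not_sq {G : Type*} [Group G] [Finite G] (T : Subgroup G) {S : Set G}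
    (h : ∀ e, (e ∈ T ∧ e * e = 1 ∧ e ≠ 1) ↔ e ∈ S) :
    {a | a ∈ T ∧ orderOf a ∣ Nat.card T ∧ ¬ orderOf a ∣ 2}.ncard + (S.ncard + 1) = Nat.card T := by
  have h1 : (1 : G) ∉ S := fun e => ((h 1).2 e).2.2 rfl
  rw [← Set.ncard_insert_of_notMem h1, ← Set.ncard_union_eq]
  · change _ = (T : Set G).ncard
    congr 1
    ext a
    simp only [Set.mem_union, Set.mem_ofPred_eq, Set.mem_insert_iff, ← h, SetLike.mem_coe, orderOf_dvd_iff_pow_eq_one, sq]
    constructor
    · rintro (h | rfl | h)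
      exacts [h.1, one_mem _, h.1]
    · intro ha
      have := pow_card_of_mem ha
      tauto
  · rw [Set.disjoint_left]
    rintro a ⟨-, -, h2⟩ (rfl | h3)
    · simp at h2
    · exact h2 (orderOf_dvd_of_pow_eq_one (by rw [sq, ((h a).2 h3).2.1]))

theorem invol_Ho_iff {e : ReeG K m} : (e ∈ Ho K ∧ e * e = 1 ∧ e ≠ 1) ↔ e ∈ ({t K} : Set (ReeG K m)) := by
  constructor
  · rintro ⟨⟨k, rfl⟩, h2, h1⟩
    have h5 : ¬ (h k : ReeG K m) ^ 2 ≠ 1 := by rw [sq, h2]; simp
    rw [h_sq_ne, not_and_or, not_not, not_not] at h5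
    rcases h5 with rfl | rfl
    · exact absurd (map_one _) h1
    · rfl
  · rintro rfl
    exact ⟨h_mem_Ho _, t_mul_t, t_ne_one⟩

variable (K) in
theorem ncard_Cox : 3 * {x : ReeG K m | Cox x}.ncard =
    Nat.card K ^ 4 * (Nat.card K - 1) * (Nat.card K + 1) * (Nat.card K - 2) := by
  have := finite_G K
  have h4 := ncard_H (K := K) (fun n => n ∣ Nat.card K - 1 ∧ ¬ n ∣ 2) fun _ h => h
  have h5 := ncard_A (K := K) (fun n => n ∣ Nat.card K + 1 ∧ ¬ n ∣ 2) fun _ h => h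
  have e4 := ncard_not_sq (Ho K) fun e => invol_Ho_iff
  have e5 := ncard_not_sq (Ao K) fun e => invol_Ao_iff
  rw [card_Ho, Set.ncard_singleton] at e4
  rw [card_Ao, ncard_three] at e5
  have hc := cop_N K
  have hc6 := cop_N_six K
  have h1 : (Set.univ : Set (ReeG K m)) = {g | orderOf g = 1 ∨ orderOf g = 2 ∨ orderOf g = 3 ∨ orderOf g = 6 ∨
      orderOf g = 9 ∨ (orderOf g ∣ Nat.card K - 1 ∧ ¬ orderOf g ∣ 2) ∨ (orderOf g ∣ Nat.card K + 1 ∧ ¬ orderOf g ∣ 2) ∨
      Cox g} := by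
    refine (Set.eq_univ_of_forall fun g => ?_).symm
    have h0 := order_cases g
    rw [Set.mem_ofPred_eq, Cox, ← orderOf_dvd_iff_pow_eq_one, Ne, ← orderOf_eq_one_iff (x := g)]
    generalize orderOf g = n at *
    by_cases h2 : n ∣ 2
    · have := (Nat.dvd_prime Nat.prime_two).1 h2; tauto
    rcases h0 with h | h | h | h | h
    · have := Nat.le_of_dvd (by norm_num) h
      interval_cases n <;> simp_all
    · have := Nat.le_of_dvd (by norm_num) h
      interval_cases n <;> simp_all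
    all_goals tauto
  obtain ⟨s, -, q1, q2, -, -, q3⟩ := exists_s K
  have k1 : ∀ g : ReeG K m, Cox g → ∀ n, n ∣ 6 ∨ n ∣ Nat.card K - 1 ∨ n ∣ Nat.card K + 1 → n ∣ orderOf g → n = 1 := by
    intro g hg n hn h
    have h' := h.trans (orderOf_dvd_of_pow_eq_one hg.2)
    rcases hn with hn | hn | hn
    · exact Nat.eq_one_of_dvd_coprimes hc6 h' hn
    · exact Nat.eq_one_of_dvd_coprimes hc h' (hn.trans (Dvd.dvd.mul_right (Dvd.intro_left _ rfl) _))
    · exact Nat.eq_one_of_dvd_coprimes hc h' (hn.trans (Dvd.intro_left _ rfl))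
  have h2 := congrArg Set.ncard h1
  rw [Set.ncard_univ, ncard_or, ncard_or, ncard_or, ncard_or, ncard_or, ncard_or, ncard_or, ncard_two, ncard_three',
    ncard_six, ncard_nine, card_G] at h2
  · simp only [orderOf_eq_one_iff, Set.ofPred_eq_eq_singleton, Set.ncard_singleton] at h2
    generalize {a | a ∈ Ho K ∧ orderOf a ∣ Nat.card K - 1 ∧ ¬ orderOf a ∣ 2}.ncard = c1 at *
    generalize {a | a ∈ Ao K ∧ orderOf a ∣ Nat.card K + 1 ∧ ¬ orderOf a ∣ 2}.ncard = c2 at *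
    generalize {g : ReeG K m | orderOf g ∣ Nat.card K - 1 ∧ ¬ orderOf g ∣ 2}.ncard = c3 at *
    generalize {g : ReeG K m | orderOf g ∣ Nat.card K + 1 ∧ ¬ orderOf g ∣ 2}.ncard = c4 at *
    generalize {g : ReeG K m | Cox g}.ncard = c5 at *
    obtain rfl : c1 = 24 * s := by omega
    obtain rfl : c2 = 24 * s := by omega
    simp only [q3, q2] at h2 h4 h5 ⊢
    simp only [q1] at h2 h4 h5 ⊢
    rw [show (24 * s + 3) ^ 2 - 1 = 576 * s ^ 2 + 144 * s + 8 by
      rw [show (24 * s + 3) ^ 2 = 576 * s ^ 2 + 144 * s + 8 + 1 by ring]; rfl] at h2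
    rw [show 24 * s + 3 - 2 = 24 * s + 1 from rfl]
    apply Nat.eq_of_mul_eq_mul_left two_pos
    zify at h2 h4 h5 ⊢
    linear_combination -6 * h2 - 3 * h4 - h5
  · rintro g ⟨h1, h2⟩ hg
    exact h2 (k1 g hg _ (Or.inr (Or.inr h1)) dvd_rfl ▸ one_dvd _)
  · rintro g ⟨h1, h2⟩ (⟨h3, -⟩ | hg)
    · have := Nat.dvd_sub h3 h1
      rw [show Nat.card K + 1 - (Nat.card K - 1) = 2 by omega] at this
      exact h2 this
    · exact h2 (k1 g hg _ (Or.inr (Or.inl h1)) dvd_rfl ▸ one_dvd _)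
  all_goals
    intro g h1 h2
    have k2 : ¬ Cox g := fun hg => by
      have a1 := k1 g hg 2 (Or.inl (by norm_num))
      have a2 := k1 g hg 3 (Or.inl (by norm_num))
      have a3 := mt orderOf_eq_one_iff.1 hg.1
      omega
    simp only [k2, or_false, q2, h1] at h2
    rw [q1] at h2
    omega

end Ree

end Cfsg.Agent.H2
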