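import Cfsg.Agent.H2.ReeTor2

/-! The cyclic subgroups of orders `q ± r + 1` of the small Ree groups (counting argument). -/

set_option autoImplicit false
set_option linter.unusedSectionVars false
set_option linter.unusedSimpArgs false

namespace Cfsg.Agent.H2

open Matrix
open scoped MatrixGroups Pointwise

namespace Ree

variable {K : Type*} [Field K] {m : ℕ} [hK : ReeF K m]
include hK

variable (K) in
theorem not_five_dvd_card : ¬ 5 ∣ Nat.card (ReeG K m) := by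
  have h1 : Nat.card K % 5 = 2 ∨ Nat.card K % 5 = 3 := by
    rw [hK.card, pow_succ, pow_mul]
    have : ∀ n : ℕ, (3 ^ 2) ^ n % 5 = 1 ∨ (3 ^ 2) ^ n % 5 = 4 := fun n => by
      induction n with
      | zero => simp
      | succ n ih => rw [pow_succ]; omega
    have := this m
    omega
  rw [card_G]
  simp only [Nat.Prime.dvd_mul Nat.prime_five, not_or]
  refine ⟨⟨fun h => ?_, by omega⟩, ?_⟩
  · have := Nat.Prime.dvd_of_dvd_pow Nat.prime_five h; omega
  · have := Nat.pow_mod (Nat.card K) 3 5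
    rcases h1 with h | h <;> rw [h] at this <;> omega

/-- nonidentity elements conjugate into the centraliser of `x` -/
def Uset (x : ReeG K m) : Set (ReeG K m) := {y | y ≠ 1 ∧ ∃ g : ReeG K m, g * y * g⁻¹ ∈ Cen x}

theorem Cox.of_mem_Uset {x y : ReeG K m} (hx : Cox x) (hy : y ∈ Uset x) : Cox y := by
  obtain ⟨h1, g, hg⟩ := hy
  exact (hx.of_mem_Cen hg (by simpa using h1)).of_conj g

theorem Cox.self_mem_Uset {x : ReeG K m} (hx : Cox x) : x ∈ Uset x := ⟨hx.1, 1, by simpa using self_mem_Cen x⟩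

theorem Cox.exists_Cen_eq {x y : ReeG K m} (hx : Cox x) (hy : y ∈ Uset x) :
    ∃ g : ReeG K m, Cen x = (Cen y).map (MulAut.conj g).toMonoidHom := by
  obtain ⟨h1, g, hg⟩ := hy
  exact ⟨g, by rw [← centralizer_conj_eq_map, ← hx.Cen_eq hg (by simpa using h1)]⟩

theorem Cox.Uset_eq {x y : ReeG K m} (hx : Cox x) (hy : y ∈ Uset x) : Uset y = Uset x := by
  obtain ⟨g, hg⟩ := hx.exists_Cen_eq hy
  ext z
  simp only [Uset, Set.mem_ofPred_eq, hg, Subgroup.mem_map_equiv]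
  refine and_congr Iff.rfl ⟨fun ⟨t, ht⟩ => ⟨g * t, ?_⟩, fun ⟨t, ht⟩ => ⟨g⁻¹ * t, ?_⟩⟩
  · convert ht using 1; simp [mul_assoc]
  · convert ht using 1; simp [mul_assoc]

theorem Cox.card_Cen_eq {x y : ReeG K m} (hx : Cox x) (hy : y ∈ Uset x) : Nat.card (Cen y) = Nat.card (Cen x) := by
  obtain ⟨g, hg⟩ := hx.exists_Cen_eq hy
  rw [hg, card_map_conj]

theorem Cox.card_norm_eq {x y : ReeG K m} (hx : Cox x) (hy : y ∈ Uset x) :
    Nat.card (Subgroup.normalizer (Cen y : Set (ReeG K m))) = Nat.card (Subgroup.normalizer (Cen x : Set (ReeG K m))) := by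
  obtain ⟨g, hg⟩ := hx.exists_Cen_eq hy
  rw [hg, normalizer_map_conj, card_map_conj]

theorem Cox.card_Uset {x : ReeG K m} (hx : Cox x) : ∃ n, (1 ≤ n ∧ n ≤ 4 ∨ n = 6) ∧
    Nat.card (Subgroup.normalizer (Cen x : Set (ReeG K m))) = n * Nat.card (Cen x) ∧
    (Uset x).ncard * (n * Nat.card (Cen x)) = Nat.card (ReeG K m) * (Nat.card (Cen x) - 1) := by
  have := finite_G K
  obtain ⟨n, hn⟩ := Subgroup.card_dvd_of_le (Subgroup.le_normalizer (H := Cen x))
  rw [mul_comm] at hn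
  refine ⟨n, ?_, hn, ?_⟩
  · have h1 := hx.card_normalizer_le
    rw [hn] at h1
    have h2 : n ≤ 6 := Nat.le_of_mul_le_mul_right h1 Nat.card_pos
    have h3 : n ≠ 0 := by
      rintro rfl
      exact absurd hn (by rw [zero_mul]; exact Nat.card_pos.ne')
    have h4 : n ≠ 5 := by
      rintro rfl
      apply not_five_dvd_card K
      exact (Dvd.intro _ hn.symm).trans (Subgroup.card_subgroup_dvd_card _)
    omega
  · rw [← hn, ← card_conj_TI (Cen x) hx.ti]
    rfl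

theorem Cox.seven_le {x : ReeG K m} (hx : Cox x) : 7 ≤ Nat.card (Cen x) := by
  have := finite_G K
  have h1 := (cop_N_six K).of_dvd_left hx.card_Cen_dvd
  have h2 : Nat.card (Cen x) ≠ 1 := by
    intro h
    have := (Subgroup.card_eq_one.1 h) ▸ self_mem_Cen x
    exact hx.1 this
  have h3 : Nat.card (Cen x) ≠ 5 := fun h =>
    not_five_dvd_card K (h ▸ Subgroup.card_subgroup_dvd_card (Cen x))
  by_contra h
  push Not at h
  generalize Nat.card (Cen x) = n at *
  interval_cases n <;> simp_all (config := {decide := true})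

theorem cox_of_orderOf_dvd {x : ReeG K m} (h1 : x ≠ 1) (hd : orderOf x ∣ Nat.card K ^ 2 - Nat.card K + 1) : Cox x :=
  ⟨h1, orderOf_dvd_iff_pow_eq_one.1 hd⟩

theorem exists_cox_pow_dvd {l k : ℕ} (hl : l.Prime) (hk : k ≠ 0) (hd : l ^ k ∣ Nat.card K ^ 2 - Nat.card K + 1) :
    ∃ z : ReeG K m, Cox z ∧ l ^ k ∣ Nat.card (Cen z) := by
  have := finite_G K
  have := Fact.mk hl
  obtain ⟨P, hP⟩ := Sylow.exists_subgroup_card_pow_prime (G := ReeG K m) l (n := k) (by
    rw [card_G']; exact hd.mul_left _)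
  obtain ⟨z, -, hz, hle⟩ := exists_center_of_isPGroup (IsPGroup.of_card hP) (by
    rintro rfl
    rw [Subgroup.card_bot] at hP
    exact (Nat.one_lt_pow hk hl.one_lt).ne hP)
  refine ⟨z, cox_of_orderOf_dvd (by rintro rfl; rw [orderOf_one] at hz; exact hl.one_lt.ne hz) ?_, ?_⟩
  · rw [hz]; exact (dvd_pow_self l hk).trans hd
  · rw [← hP]; exact Subgroup.card_dvd_of_le hle

theorem Cox.mem_Uset_of_not_coprime {x y : ReeG K m} (hx : Cox x) (hy : Cox y)
    (h : ¬ Nat.Coprime (Nat.card (Cen x)) (Nat.card (Cen y))) : y ∈ Uset x := by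
  have := finite_G K
  obtain ⟨l, hl, h1, h2⟩ := Nat.Prime.not_coprime_iff_dvd.1 h
  have := Fact.mk hl
  have key : ∀ x : ReeG K m, Cox x → l ∣ Nat.card (Cen x) → ∃ P : Sylow l (ReeG K m), (P : Subgroup (ReeG K m)) ≠ ⊥ ∧
      (P : Subgroup (ReeG K m)) ≤ Cen x := by
    intro x hx h1
    obtain ⟨a, ha⟩ := exists_prime_orderOf_dvd_card' l h1
    have ha1 : (a : ReeG K m) ≠ 1 := by
      intro h
      rw [← Subgroup.orderOf_coe, h, orderOf_one] at ha
      exact hl.one_lt.ne ha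
    obtain ⟨P, hP⟩ := (IsPGroup.of_card (p := l) (G := Subgroup.zpowers (a : ReeG K m)) (n := 1) (by
      rw [Nat.card_zpowers, Subgroup.orderOf_coe, ha, pow_one])).exists_le_sylow
    have haP := hP (Subgroup.mem_zpowers _)
    have hne : (P : Subgroup (ReeG K m)) ≠ ⊥ := fun h => ha1 (by rwa [h] at haP)
    obtain ⟨z, hzP, hz, hle⟩ := exists_center_of_isPGroup P.isPGroup' hne
    refine ⟨P, hne, ?_⟩
    have hz1 : z ≠ 1 := by rintro rfl; rw [orderOf_one] at hz; exact hl.one_lt.ne hz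
    have e1 := hx.Cen_eq a.2 ha1
    have e2 : z ∈ Cen x := by rw [← e1]; exact mem_Cen.2 (mem_Cen.1 (hle haP)).symm
    rw [← hx.Cen_eq e2 hz1]; exact hle
  obtain ⟨P, hP, hPx⟩ := key x hx h1
  obtain ⟨P', -, hPy⟩ := key y hy h2
  obtain ⟨g, rfl⟩ := MulAction.exists_smul_eq (ReeG K m) P P'
  obtain ⟨z, hz, hz1⟩ := (Subgroup.bot_or_exists_ne_one _).resolve_left hP
  have e1 : z ∈ Uset x := ⟨hz1, 1, by simpa using hPx hz⟩
  have e2 : z ∈ Uset y := ⟨hz1, g, hPy (by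
    rw [Sylow.coe_subgroup_smul]
    exact Subgroup.smul_mem_pointwise_smul z (MulAut.conj g) _ hz)⟩
  rw [← hx.Uset_eq e1, hy.Uset_eq e2]
  exact hy.self_mem_Uset

variable (K) in
theorem exists_two_tori : ∃ x₁ x₂ : ReeG K m, Cox x₁ ∧ Cox x₂ ∧
    Nat.card (Cen x₁) = 3 ^ (2 * m + 1) + 3 ^ (m + 1) + 1 ∧ Nat.card (Cen x₂) = 3 ^ (2 * m + 1) - 3 ^ (m + 1) + 1 ∧
    Nat.card (Subgroup.normalizer (Cen x₁ : Set (ReeG K m))) = 6 * Nat.card (Cen x₁) ∧
    Nat.card (Subgroup.normalizer (Cen x₂ : Set (ReeG K m))) = 6 * Nat.card (Cen x₂) ∧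
    ∀ y, Cox y → y ∈ Uset x₁ ∨ y ∈ Uset x₂ := by
  have := finite_G K
  have hS := ncard_Cox K
  have hG := card_G' K
  obtain ⟨s, hs, q1, q2, -, -, q3⟩ := exists_s K
  have hG0 : 0 < Nat.card (ReeG K m) := Nat.card_pos
  simp only [q3, q2] at hS hG
  rw [q1] at hS hG
  rw [show 24 * s + 3 - 2 = 24 * s + 1 from rfl] at hS
  have hlt : 3 * {x : ReeG K m | Cox x}.ncard < Nat.card (ReeG K m) := by
    rw [hS, hG]
    have e : (24 * s + 3) ^ 3 * (24 * s + 2) * (24 * s + 3 + 1) * (576 * s ^ 2 + 120 * s + 7) =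
      (24 * s + 3) ^ 4 * (24 * s + 2) * (24 * s + 3 + 1) * (24 * s + 1) +
        (24 * s + 3) ^ 3 * (24 * s + 2) * (24 * s + 3 + 1) * (24 * s + 4) := by ring
    have : 0 < (24 * s + 3) ^ 3 * (24 * s + 2) * (24 * s + 3 + 1) * (24 * s + 4) := by positivity
    omega
  have hlow : ∀ x : ReeG K m, Cox x → Nat.card (ReeG K m) ≤ 7 * (Uset x).ncard := by
    intro x hx
    obtain ⟨n, hn, -, h⟩ := hx.card_Uset
    have h5 := hx.seven_le
    generalize Nat.card (Cen x) = a at h h5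
    obtain ⟨b, rfl⟩ : ∃ b, a = b + 1 := ⟨a - 1, by omega⟩
    rw [Nat.add_sub_cancel] at h
    have : n ≤ 6 := by omega
    by_contra hc
    push Not at hc
    have h1 : (Uset x).ncard * (n * (b + 1)) ≤ (Uset x).ncard * (7 * b) :=
      Nat.mul_le_mul_left _ (by nlinarith)
    have : 0 < b := by omega
    nlinarith
  have hlow2 : ∀ x : ReeG K m, Cox x → Nat.card (Subgroup.normalizer (Cen x : Set (ReeG K m))) ≠ 6 * Nat.card (Cen x) →
      3 * Nat.card (ReeG K m) ≤ 14 * (Uset x).ncard := by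
    intro x hx hne
    obtain ⟨n, hn, h', h⟩ := hx.card_Uset
    have h5 := hx.seven_le
    rw [h'] at hne
    have : n ≤ 4 := by
      rcases hn with hn | rfl
      · exact hn.2
      · simp at hne
    generalize Nat.card (Cen x) = a at h h5
    obtain ⟨b, rfl⟩ : ∃ b, a = b + 1 := ⟨a - 1, by omega⟩
    rw [Nat.add_sub_cancel] at h
    by_contra hc
    push Not at hc
    have h1 : (Uset x).ncard * (3 * (n * (b + 1))) ≤ (Uset x).ncard * (14 * b) :=
      Nat.mul_le_mul_left _ (by nlinarith)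
    have : 0 < b := by omega
    nlinarith
  have hsub : ∀ x : ReeG K m, Cox x → Uset x ⊆ {x : ReeG K m | Cox x} := fun x hx y hy => hx.of_mem_Uset hy
  have hdisj : ∀ x y : ReeG K m, Cox x → Cox y → y ∉ Uset x → Disjoint (Uset x) (Uset y) := by
    intro x y hx hy h
    rw [Set.disjoint_left]
    intro z h1 h2
    apply h
    rw [← hx.Uset_eq h1, hy.Uset_eq h2]
    exact hy.self_mem_Uset
  obtain ⟨l, hl, hld⟩ := Nat.exists_prime_and_dvd (n := Nat.card K ^ 2 - Nat.card K + 1) (by omega)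
  obtain ⟨x₁, hx₁, -⟩ := exists_cox_pow_dvd hl one_ne_zero (by simpa using hld)
  have hex : ∃ x₂, Cox x₂ ∧ x₂ ∉ Uset x₁ := by
    by_contra hc
    push Not at hc
    have e1 : Uset x₁ = {x : ReeG K m | Cox x} := Set.Subset.antisymm (hsub _ hx₁) hc
    have e2 : Nat.card (Cen x₁) = Nat.card K ^ 2 - Nat.card K + 1 := by
      apply Nat.dvd_antisymm hx₁.card_Cen_dvd
      rw [Nat.dvd_iff_prime_pow_dvd_dvd]
      intro p k hp hd
      rcases eq_or_ne k 0 with rfl | hk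
      · simp
      obtain ⟨z, hz, hz'⟩ := exists_cox_pow_dvd hp hk hd
      rwa [hx₁.card_Cen_eq (hc z hz)] at hz'
    obtain ⟨n, hn, -, h⟩ := hx₁.card_Uset
    rw [e1, e2, hG, q3, show 576 * s ^ 2 + 120 * s + 7 - 1 = 576 * s ^ 2 + 120 * s + 6 from rfl] at h
    have h1 : ((24 * s + 3) ^ 4 * (24 * s + 2) * (24 * s + 4) * (576 * s ^ 2 + 120 * s + 7)) * ((24 * s + 1) * n) =
        ((24 * s + 3) ^ 4 * (24 * s + 2) * (24 * s + 4) * (576 * s ^ 2 + 120 * s + 7)) * (3 * (24 * s + 2)) := by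
      zify at h hS ⊢
      linear_combination 3 * h - (n * (576 * s ^ 2 + 120 * s + 7)) * hS
    have h2 := Nat.eq_of_mul_eq_mul_left (by positivity) h1
    have h3 : n ≤ 6 := by omega
    interval_cases n <;> omega
  obtain ⟨x₂, hx₂, h12⟩ := hex
  have hd12 := hdisj _ _ hx₁ hx₂ h12
  have hcov : ∀ y, Cox y → y ∈ Uset x₁ ∨ y ∈ Uset x₂ := by
    intro y hy
    by_contra hc
    push Not at hc
    have h1 : (Uset x₁ ∪ Uset x₂ ∪ Uset y).ncard ≤ {x : ReeG K m | Cox x}.ncard :=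
      Set.ncard_le_ncard (Set.union_subset (Set.union_subset (hsub _ hx₁) (hsub _ hx₂)) (hsub _ hy))
    rw [Set.ncard_union_eq (Set.disjoint_union_left.2 ⟨hdisj _ _ hx₁ hy hc.1, hdisj _ _ hx₂ hy hc.2⟩),
      Set.ncard_union_eq hd12] at h1
    have := hlow _ hx₁
    have := hlow _ hx₂
    have := hlow _ hy
    omega
  have hsum : (Uset x₁).ncard + (Uset x₂).ncard = {x : ReeG K m | Cox x}.ncard := by
    rw [← Set.ncard_union_eq hd12]
    congr 1
    exact Set.Subset.antisymm (Set.union_subset (hsub _ hx₁) (hsub _ hx₂)) hcov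
  have hn1 : Nat.card (Subgroup.normalizer (Cen x₁ : Set (ReeG K m))) = 6 * Nat.card (Cen x₁) := by
    by_contra hc
    have := hlow2 _ hx₁ hc
    have := hlow _ hx₂
    omega
  have hn2 : Nat.card (Subgroup.normalizer (Cen x₂ : Set (ReeG K m))) = 6 * Nat.card (Cen x₂) := by
    by_contra hc
    have := hlow2 _ hx₂ hc
    have := hlow _ hx₁
    omega
  have hcop : Nat.Coprime (Nat.card (Cen x₁)) (Nat.card (Cen x₂)) := by
    by_contra hc
    exact h12 (hx₁.mem_Uset_of_not_coprime hx₂ hc)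
  have hprod : Nat.card (Cen x₁) * Nat.card (Cen x₂) = Nat.card K ^ 2 - Nat.card K + 1 := by
    apply Nat.dvd_antisymm (hcop.mul_dvd_of_dvd_of_dvd hx₁.card_Cen_dvd hx₂.card_Cen_dvd)
    rw [Nat.dvd_iff_prime_pow_dvd_dvd]
    intro p k hp hd
    rcases eq_or_ne k 0 with rfl | hk
    · simp
    obtain ⟨z, hz, hz'⟩ := exists_cox_pow_dvd hp hk hd
    rcases hcov z hz with h | h
    · rw [hx₁.card_Cen_eq h] at hz'; exact hz'.mul_right _
    · rw [hx₂.card_Cen_eq h] at hz'; exact hz'.mul_left _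
  obtain ⟨n₁, -, e1, f1⟩ := hx₁.card_Uset
  obtain ⟨n₂, -, e2, f2⟩ := hx₂.card_Uset
  rw [← e1, hn1] at f1
  rw [← e2, hn2] at f2
  have g1 := hx₁.seven_le
  have g2 := hx₂.seven_le
  have hadd : Nat.card (Cen x₁) + Nat.card (Cen x₂) = 2 * Nat.card K + 2 := by
    generalize Nat.card (Cen x₁) = a at *
    generalize Nat.card (Cen x₂) = b at *
    rw [hG] at f1 f2
    rw [q3] at hprod
    rw [q1]
    have h1 : ((24 * s + 3) ^ 3 * (24 * s + 2) * (24 * s + 4) * (576 * s ^ 2 + 120 * s + 7)) * (a + b) =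
        ((24 * s + 3) ^ 3 * (24 * s + 2) * (24 * s + 4) * (576 * s ^ 2 + 120 * s + 7)) * (2 * (24 * s + 3) + 2) := by
      zify [show 1 ≤ a by omega, show 1 ≤ b by omega] at f1 f2 hS hprod hsum ⊢
      linear_combination b * f1 + a * f2 - (6 * a * b) * hsum - (2 * a * b) * hS
        + (2 * (24 * s + 3) ^ 3 * (24 * s + 2) * (24 * s + 4) * (576 * s ^ 2 + 120 * s + 7) -
          2 * (24 * s + 3) ^ 4 * (24 * s + 2) * (24 * s + 4) * (24 * s + 1)) * hprod
    exact Nat.eq_of_mul_eq_mul_left (by positivity) h1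
  have hq := hK.card
  have hr : (3 ^ (m + 1)) ^ 2 = 3 * 3 ^ (2 * m + 1) := by ring
  have hle : 3 ^ (m + 1) ≤ 3 ^ (2 * m + 1) := Nat.pow_le_pow_right (by norm_num) (by omega)
  rw [hq] at hadd hprod
  have hcase : Nat.card (Cen x₁) = 3 ^ (2 * m + 1) + 3 ^ (m + 1) + 1 ∨
      Nat.card (Cen x₂) = 3 ^ (2 * m + 1) + 3 ^ (m + 1) + 1 := by
    generalize Nat.card (Cen x₁) = a at *
    generalize Nat.card (Cen x₂) = b at *
    have hq2 : 3 ^ (2 * m + 1) ≤ (3 ^ (2 * m + 1)) ^ 2 := Nat.le_self_pow two_ne_zero _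
    clear * - hadd hprod hr hq2
    generalize 3 ^ (2 * m + 1) = q at *
    generalize 3 ^ (m + 1) = r at *
    zify [hq2] at hadd hprod hr ⊢
    have : ((a : ℤ) - (q + r + 1)) * (b - (q + r + 1)) = 0 := by
      linear_combination hprod - (q + r + 1) * hadd + hr
    rcases mul_eq_zero.1 this with h | h
    · left; linear_combination h
    · right; linear_combination h
  rcases hcase with h | h
  · exact ⟨x₁, x₂, hx₁, hx₂, h, by omega, hn1, hn2, hcov⟩
  · exact ⟨x₂, x₁, hx₂, hx₁, h, by omega, hn2, hn1, fun y hy => (hcov y hy).symm⟩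

theorem Cox.card_Cen {x : ReeG K m} (hx : Cox x) : Nat.card (Cen x) = 3 ^ (2 * m + 1) + 3 ^ (m + 1) + 1 ∨
    Nat.card (Cen x) = 3 ^ (2 * m + 1) - 3 ^ (m + 1) + 1 := by
  obtain ⟨x₁, x₂, h1, h2, c1, c2, -, -, hcov⟩ := exists_two_tori K
  rcases hcov x hx with h | h
  · left; rw [h1.card_Cen_eq h, c1]
  · right; rw [h2.card_Cen_eq h, c2]

theorem Cox.card_normalizer {x : ReeG K m} (hx : Cox x) :
    Nat.card (Subgroup.normalizer (Cen x : Set (ReeG K m))) = 6 * Nat.card (Cen x) := by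
  obtain ⟨x₁, x₂, h1, h2, -, -, n1, n2, hcov⟩ := exists_two_tori K
  rcases hcov x hx with h | h
  · rw [h1.card_Cen_eq h, h1.card_norm_eq h, n1]
  · rw [h2.card_Cen_eq h, h2.card_norm_eq h, n2]

end Ree

end Cfsg.Agent.H2
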