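import Cfsg.Agent.H2.ReeTor3

/-! Numbers of elements of given order and conjugacy of cyclic subgroups in the small Ree groups. -/

set_option autoImplicit false
set_option linter.unusedSectionVars false
set_option linter.unusedSimpArgs false

namespace Cfsg.Agent.H2

open Matrix
open scoped MatrixGroups Pointwise

theorem exists_gen_of_cyclic {G : Type*} [Group G] {A : Subgroup G} (hA : IsCyclic A) :
    ∃ x, A = Subgroup.zpowers x ∧ orderOf x = Nat.card A := by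
  obtain ⟨x, hx⟩ := (Subgroup.isCyclic_iff_exists_zpowers_eq_top A).1 hA
  exact ⟨x, hx.symm, by rw [← hx, Nat.card_zpowers]⟩

theorem conj_of_cyclic {G : Type*} [Group G] [Finite G] {T A B : Subgroup G} (hT : IsCyclic T) (hA : IsCyclic A)
    (hB : IsCyclic B) (h : Nat.card A = Nat.card B) (h1 : ∀ y : G, orderOf y = Nat.card A → ∃ x, x * y * x⁻¹ ∈ T) :
    ∃ g : G, B = A.map (MulAut.conj g).toMonoidHom := by
  obtain ⟨a, rfl, ha⟩ := exists_gen_of_cyclic hA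
  obtain ⟨b, rfl, hb⟩ := exists_gen_of_cyclic hB
  obtain ⟨x, hx⟩ := h1 a ha
  obtain ⟨y, hy⟩ := h1 b (hb.trans h.symm)
  have k : ∀ x a : G, x * a * x⁻¹ ∈ T → conjS x (Subgroup.zpowers a) ≤ T := fun x a h => by
    rw [conjS, MonoidHom.map_zpowers, Subgroup.zpowers_le]; exact h
  have := eq_of_card_of_cyclic hT (k _ _ hx) (k _ _ hy) (by rw [card_conjS, card_conjS, h])
  refine ⟨y⁻¹ * x, ?_⟩
  change _ = conjS _ _
  rw [← conjS_conjS, this, conjS_conjS, inv_mul_cancel, conjS_one]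

theorem centralizer_eq_of {G : Type*} [Group G] {T A : Subgroup G} (hT : ∀ a ∈ T, ∀ b ∈ T, a * b = b * a) (hA : A ≤ T)
    {a : G} (ha : a ∈ A) (h : Cen a = T) : Subgroup.centralizer (A : Set G) = T :=
  le_antisymm (h ▸ Subgroup.centralizer_le (by simpa using ha)) fun b hb c hc => hT c (hA hc) b hb

theorem comm_of_isCyclic {G : Type*} [Group G] {T : Subgroup G} (hT : IsCyclic T) :
    ∀ a ∈ T, ∀ b ∈ T, a * b = b * a := fun a ha b hb =>
  congrArg Subtype.val (IsCyclic.commGroup.mul_comm (⟨a, ha⟩ : T) ⟨b, hb⟩)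

theorem comm_conjS {G : Type*} [Group G] {T : Subgroup G} (g : G) (hT : ∀ a ∈ T, ∀ b ∈ T, a * b = b * a) :
    ∀ a ∈ conjS g T, ∀ b ∈ conjS g T, a * b = b * a := by
  rintro _ ⟨a, ha, rfl⟩ _ ⟨b, hb, rfl⟩
  rw [← map_mul, ← map_mul, hT a ha b hb]

theorem centralizer_of_odd {G : Type*} [Group G] [Finite G] {T H : Subgroup G} (hT : ∀ a ∈ T, ∀ b ∈ T, a * b = b * a)
    (h1 : ∀ a ∈ T, a ^ 2 ≠ 1 → Cen a = T) (hH : IsCyclic H) (ho : Odd (Nat.card H)) (h2 : 1 < Nat.card H)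
    (h3 : ∀ y : G, orderOf y = Nat.card H → ∃ x, x * y * x⁻¹ ∈ T) :
    ∃ g : G, Subgroup.centralizer (H : Set G) = conjS g T ∧
      ∀ A : Subgroup G, A ≤ H → A ≠ ⊥ → Subgroup.centralizer (A : Set G) = Subgroup.centralizer (H : Set G) := by
  obtain ⟨a, rfl, ha⟩ := exists_gen_of_cyclic hH
  obtain ⟨x, hx⟩ := h3 a ha
  obtain ⟨e1, e2⟩ := conjS_facts hx (fun n => ¬ n ∣ 2) fun a ha h => h1 a ha (mt orderOf_dvd_of_pow_eq_one h)
  have key : ∀ A : Subgroup G, A ≤ Subgroup.zpowers a → A ≠ ⊥ → Subgroup.centralizer (A : Set G) = conjS x⁻¹ T := by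
    intro A hA h0
    obtain ⟨b, hb, hb1⟩ := (Subgroup.bot_or_exists_ne_one _).resolve_left h0
    have hle := hA.trans (Subgroup.zpowers_le.2 e1)
    refine centralizer_eq_of (comm_conjS _ hT) hle hb (e2 b (hle hb) fun h => hb1 (orderOf_eq_one_iff.1 ?_))
    exact Nat.eq_one_of_dvd_coprimes (Nat.coprime_two_left.2 ho) h (Subgroup.orderOf_dvd_natCard _ (hA hb))
  have h4 := key _ le_rfl fun h => by rw [h, Subgroup.card_bot] at h2; omega
  exact ⟨x⁻¹, h4, fun A hA h0 => (key A hA h0).trans h4.symm⟩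

namespace Ree

variable {K : Type*} [Field K] {m : ℕ} [hK : ReeF K m]
include hK

theorem not_dvd_two_of {n : ℕ} (h : 2 < n) : ¬ n ∣ 2 := fun e => absurd (Nat.le_of_dvd two_pos e) (by omega)

variable (K) in
theorem odd_quart : Odd ((Nat.card K + 1) / 4) := by
  obtain ⟨s, -, -, -, -, h, -⟩ := exists_s K
  exact ⟨3 * s, by omega⟩

variable (K) in
theorem odd_half : Odd ((Nat.card K - 1) / 2) := by
  obtain ⟨s, -, -, -, h, -⟩ := exists_s K
  exact ⟨6 * s, by omega⟩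

variable (K) in
theorem quart_dvd : (Nat.card K + 1) / 4 ∣ Nat.card K + 1 := by
  obtain ⟨s, -, h1, -, -, h, -⟩ := exists_s K
  exact ⟨4, by omega⟩

variable (K) in
theorem half_dvd : (Nat.card K - 1) / 2 ∣ Nat.card K - 1 := by
  obtain ⟨s, -, -, h1, h, -⟩ := exists_s K
  exact ⟨2, by omega⟩

theorem two_lt_of_odd {i n : ℕ} (hn : Odd n) (h : i ∣ n) (h1 : 1 < i) : 2 < i := by
  have := Nat.odd_iff.1 (hn.of_dvd_nat h); omega

theorem count_H {i : ℕ} (h2 : 2 < i) (hi : i ∣ Nat.card K - 1) :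
    2 * {y : ReeG K m | orderOf y = i}.ncard = Nat.totient i * Nat.card K ^ 3 * (Nat.card K ^ 3 + 1) := by
  have := finite_G K
  rw [ncard_H (· = i) (by rintro _ rfl; exact ⟨hi, not_dvd_two_of (K := K) h2⟩),
    ncard_orderOf_cyclic (isCyclic_Ho K) (by rwa [card_Ho])]

theorem count_A {i : ℕ} (h1 : 1 < i) (hi : i ∣ (Nat.card K + 1) / 4) :
    6 * {y : ReeG K m | orderOf y = i}.ncard =
      Nat.totient i * Nat.card K ^ 3 * (Nat.card K - 1) * (Nat.card K ^ 2 - Nat.card K + 1) := by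
  have := finite_G K
  rw [ncard_A (· = i) (by
    rintro _ rfl; exact ⟨hi.trans (quart_dvd K), not_dvd_two_of (K := K) (two_lt_of_odd (K := K) (odd_quart K) hi h1)⟩),
    ← ncard_orderOf_cyclic (isCyclic_Do K) (by rw [card_Do]; exact hi.mul_left _)]
  congr 4
  ext a
  exact and_congr_left fun h => ⟨fun ha => mem_Do_of_odd ha (h ▸ (odd_quart K).of_dvd_nat hi), fun ha => Do_le_Ao ha⟩

theorem count_A2 {i : ℕ} (h1 : 1 < i) (hi : i ∣ (Nat.card K + 1) / 4) :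
    2 * {y : ReeG K m | orderOf y = 2 * i}.ncard =
      Nat.totient i * Nat.card K ^ 3 * (Nat.card K - 1) * (Nat.card K ^ 2 - Nat.card K + 1) := by
  have := finite_G K
  rw [ncard_order_two_mul (k := 3) ((odd_quart K).of_dvd_nat hi), ← count_A h1 hi]
  · ring
  intro z hz
  have h2 : z ^ 2 ≠ 1 := pow_ne_one_of_lt_orderOf two_ne_zero (hz ▸ two_lt_of_odd (K := K) (odd_quart K) hi h1)
  obtain ⟨x, hx⟩ := exists_conj_Ao (orderOf_dvd_iff_pow_eq_one.1 (hz ▸ hi.trans (quart_dvd K))) h2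
  have h3 := Cen_Ao hx (by rwa [Ne, conj_pow_eq_one_iff'])
  refine Eq.trans ?_ (ncard_three (K := K))
  rw [← Set.ncard_image_of_injective _ (MulAut.conj x).injective]
  congr 1
  ext e
  have : Fact (Nat.Prime 2) := ⟨Nat.prime_two⟩
  rw [← invol_Ao_iff, ← h3, ← sq, ← orderOf_eq_prime_iff, Cen_conj]
  constructor
  · rintro ⟨e, he, rfl⟩
    exact ⟨conj_mem_conjS x he.2, (orderOf_conj' x e).trans he.1⟩
  · rintro ⟨⟨e, he, rfl⟩, h⟩
    exact ⟨e, ⟨(orderOf_conj' x e).symm.trans h, he⟩, rfl⟩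

theorem Cox.exists_conj {x y : ReeG K m} (hx : Cox x) (h1 : y ≠ 1) (hy : orderOf y ∣ Nat.card (Cen x)) :
    ∃ g, g * y * g⁻¹ ∈ Cen x :=
  (hx.mem_Uset_of_not_coprime (cox_of_orderOf_dvd h1 (hy.trans hx.card_Cen_dvd)) fun h =>
    h1 (orderOf_eq_one_iff.1 (Nat.eq_one_of_dvd_coprimes h hy ((Cen y).orderOf_dvd_natCard (self_mem_Cen y))))).2

theorem Cox.count {x : ReeG K m} (hx : Cox x) {i : ℕ} (h1 : 1 < i) (hi : i ∣ Nat.card (Cen x)) :
    {y : ReeG K m | orderOf y = i}.ncard * (6 * Nat.card (Cen x)) = Nat.card (ReeG K m) * Nat.totient i := by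
  have := finite_G K
  have k : ∀ y : ReeG K m, orderOf y = i → y ≠ 1 := fun y h e => by rw [e, orderOf_one] at h; omega
  rw [← hx.card_normalizer, ncard_of_torus (Cen x) (· = i) (fun a ha h => hx.Cen_eq ha (k a h))
    (fun y h => hx.exists_conj (k y h) (h ▸ hi)), ncard_orderOf_cyclic hx.isCyclic_Cen hi]

variable (K) in
theorem card_G'' : Nat.card (ReeG K m) = (3 ^ (2 * m + 1)) ^ 3 * ((3 ^ (2 * m + 1)) ^ 2 - 1) *
    (3 ^ (2 * m + 1) + 3 ^ (m + 1) + 1) * (3 ^ (2 * m + 1) - 3 ^ (m + 1) + 1) := by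
  have hr : (3 ^ (m + 1)) ^ 2 = 3 * 3 ^ (2 * m + 1) := by ring
  have hle : 3 ^ (m + 1) ≤ 3 ^ (2 * m + 1) := Nat.pow_le_pow_right (by norm_num) (by omega)
  have h1 : 1 ≤ 3 ^ (2 * m + 1) := Nat.one_le_pow _ _ (by norm_num)
  rw [card_G, hK.card]
  generalize 3 ^ (2 * m + 1) = q at *
  generalize 3 ^ (m + 1) = r at *
  zify [hle, h1, Nat.one_le_pow 2 q h1] at hr ⊢
  linear_combination (q ^ 3 * (q ^ 2 - 1)) * hr

theorem count_minus {i : ℕ} (h1 : 1 < i) (hi : i ∣ 3 ^ (2 * m + 1) - 3 ^ (m + 1) + 1) :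
    6 * {y : ReeG K m | orderOf y = i}.ncard = Nat.totient i * (3 ^ (2 * m + 1)) ^ 3 * ((3 ^ (2 * m + 1)) ^ 2 - 1) *
      (3 ^ (2 * m + 1) + 3 ^ (m + 1) + 1) := by
  obtain ⟨-, x, -, hx, -, h, -⟩ := exists_two_tori K
  have := hx.count h1 (h ▸ hi)
  rw [h, card_G''] at this
  refine Nat.eq_of_mul_eq_mul_right (Nat.add_one_pos (3 ^ (2 * m + 1) - 3 ^ (m + 1))) ?_
  linear_combination this

theorem count_plus {i : ℕ} (h1 : 1 < i) (hi : i ∣ 3 ^ (2 * m + 1) + 3 ^ (m + 1) + 1) :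
    6 * {y : ReeG K m | orderOf y = i}.ncard = Nat.totient i * (3 ^ (2 * m + 1)) ^ 3 * ((3 ^ (2 * m + 1)) ^ 2 - 1) *
      (3 ^ (2 * m + 1) - 3 ^ (m + 1) + 1) := by
  obtain ⟨x, -, hx, -, h, -⟩ := exists_two_tori K
  have := hx.count h1 (h ▸ hi)
  rw [h, card_G''] at this
  refine Nat.eq_of_mul_eq_mul_right (Nat.add_one_pos (3 ^ (2 * m + 1) + 3 ^ (m + 1))) ?_
  linear_combination this

theorem exists_conj_Do {y : ReeG K m} (hy : orderOf y ∣ (Nat.card K + 1) / 4) : ∃ x, x * y * x⁻¹ ∈ Do K := by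
  by_cases h1 : y = 1
  · exact ⟨1, by simp [h1]⟩
  have ho := (odd_quart K).of_dvd_nat hy
  obtain ⟨x, hx⟩ := exists_conj_Ao (orderOf_dvd_iff_pow_eq_one.1 (hy.trans (quart_dvd K))) fun e =>
    h1 (eq_one_of_pow_cop (Nat.coprime_two_left.2 ho) e (pow_orderOf_eq_one y))
  exact ⟨x, mem_Do_of_odd hx (by rwa [orderOf_conj'])⟩

theorem exists_conj_Ho' {y : ReeG K m} (hy : orderOf y ∣ (Nat.card K - 1) / 2) : ∃ x, x * y * x⁻¹ ∈ Ho K := by
  by_cases h1 : y = 1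
  · exact ⟨1, by simp [h1]⟩
  exact exists_conj_Ho (orderOf_dvd_iff_pow_eq_one.1 (hy.trans (half_dvd K))) fun e =>
    h1 (eq_one_of_pow_cop (Nat.coprime_two_left.2 ((odd_half K).of_dvd_nat hy)) e (pow_orderOf_eq_one y))

theorem Cox.exists_conj' {x y : ReeG K m} (hx : Cox x) (hy : orderOf y ∣ Nat.card (Cen x)) :
    ∃ g, g * y * g⁻¹ ∈ Cen x := by
  by_cases h1 : y = 1
  · exact ⟨1, by simp [h1]⟩
  · exact hx.exists_conj h1 hy

theorem conj_cyclic {d : ℕ} (hd : d ∣ (3 ^ (2 * m + 1) - 1) / 2 ∨ d ∣ (3 ^ (2 * m + 1) + 1) / 4 ∨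
    d ∣ 3 ^ (2 * m + 1) - 3 ^ (m + 1) + 1 ∨ d ∣ 3 ^ (2 * m + 1) + 3 ^ (m + 1) + 1) {A B : Subgroup (ReeG K m)}
    (hA : IsCyclic A) (hB : IsCyclic B) (hAd : Nat.card A = d) (hBd : Nat.card B = d) :
    ∃ g : ReeG K m, B = A.map (MulAut.conj g).toMonoidHom := by
  have := finite_G K
  obtain ⟨x₁, x₂, h1, h2, c1, c2, -⟩ := exists_two_tori K
  have e := hAd.trans hBd.symm
  subst hAd
  rcases hd with hd | hd | hd | hd
  · exact conj_of_cyclic (isCyclic_Ho K) hA hB e fun y hy => exists_conj_Ho' (by rwa [hy, hK.card])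
  · exact conj_of_cyclic (isCyclic_Do K) hA hB e fun y hy => exists_conj_Do (by rwa [hy, hK.card])
  · exact conj_of_cyclic h2.isCyclic_Cen hA hB e fun y hy => h2.exists_conj' (by rwa [hy, c2])
  · exact conj_of_cyclic h1.isCyclic_Cen hA hB e fun y hy => h1.exists_conj' (by rwa [hy, c1])

theorem cent_half {H : Subgroup (ReeG K m)} (hH : IsCyclic H) (h : Nat.card H = (Nat.card K - 1) / 2) :
    IsCyclic (Subgroup.centralizer (H : Set (ReeG K m))) ∧
      Nat.card (Subgroup.centralizer (H : Set (ReeG K m))) = Nat.card K - 1 ∧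
      ∀ A : Subgroup (ReeG K m), A ≤ H → A ≠ ⊥ →
        Subgroup.centralizer (A : Set (ReeG K m)) = Subgroup.centralizer (H : Set (ReeG K m)) := by
  have := finite_G K
  have := le_card K
  obtain ⟨g, h1, h2⟩ := centralizer_of_odd (comm_of_isCyclic (isCyclic_Ho K)) (fun a => Cen_Ho) hH (h ▸ odd_half K)
    (by omega) fun y hy => exists_conj_Ho' (by rw [hy, h])
  exact ⟨h1 ▸ isCyclic_conjS g (isCyclic_Ho K), by rw [h1, card_conjS, card_Ho], h2⟩

theorem orderOf_ne_four (x : ReeG K m) : orderOf x ≠ 4 := fun h => by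
  have := orderOf_dvd_of_pow_eq_one (sq_eq_one_of_pow_four (y := x) (orderOf_dvd_iff_pow_eq_one.1 (by rw [h])))
  rw [h] at this; omega

theorem cent_quart {H : Subgroup (ReeG K m)} (hH : IsCyclic H) (h : Nat.card H = (Nat.card K + 1) / 4) :
    IsMulCommutative (Subgroup.centralizer (H : Set (ReeG K m))) ∧
      Nat.card (Subgroup.centralizer (H : Set (ReeG K m))) = Nat.card K + 1 ∧
      (∀ x ∈ Subgroup.centralizer (H : Set (ReeG K m)), orderOf x ≠ 4) ∧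
      ∀ A : Subgroup (ReeG K m), A ≤ H → A ≠ ⊥ →
        Subgroup.centralizer (A : Set (ReeG K m)) = Subgroup.centralizer (H : Set (ReeG K m)) := by
  have := finite_G K
  have := le_card K
  obtain ⟨g, h1, h2⟩ := centralizer_of_odd (T := Ao K) (fun a ha b hb => comm_Ao ha hb) (fun a => Cen_Ao) hH
    (h ▸ odd_quart K) (by omega) fun y hy => (exists_conj_Do (by rw [hy, h])).imp fun _ hx => Do_le_Ao hx
  refine ⟨⟨⟨fun a b => Subtype.ext ?_⟩⟩, by rw [h1, card_conjS, card_Ao], fun x _ => orderOf_ne_four x, h2⟩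
  exact comm_conjS g (fun a ha b hb => comm_Ao ha hb) _ (h1 ▸ a.2) _ (h1 ▸ b.2)

end Ree

end Cfsg.Agent.H2
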